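import Mathlib

/-!
# Pairs of involutions

Elementary facts about two involutions `x`, `y` and the dihedral group they generate.
-/

set_option autoImplicit false

namespace CfsgLib.Involutions

variable {G : Type*} [Group G]

theorem invol_iff {x : G} : orderOf x = 2 ↔ x * x = 1 ∧ x ≠ 1 := by
  constructor
  · intro h
    refine ⟨?_, ?_⟩
    · rw [← sq, ← h]; exact pow_orderOf_eq_one x
    · rintro rfl; simp at h
  · rintro ⟨h1, h2⟩
    exact orderOf_eq_prime (by rw [sq, h1]) h2

theorem invol_mul_self {x : G} (h : orderOf x = 2) : x * x = 1 := (invol_iff.1 h).1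

theorem invol_ne_one {x : G} (h : orderOf x = 2) : x ≠ 1 := (invol_iff.1 h).2

theorem invol_inv {x : G} (h : orderOf x = 2) : x⁻¹ = x :=
  inv_eq_of_mul_eq_one_right (invol_mul_self h)

theorem orderOf_conj_eq (g x : G) : orderOf (g * x * g⁻¹) = orderOf x :=
  MulEquiv.orderOf_eq (MulAut.conj g) x

theorem isConj_invol {x y : G} (h : IsConj x y) (hx : orderOf x = 2) : orderOf y = 2 := by
  obtain ⟨g, rfl⟩ := isConj_iff.1 h
  rw [orderOf_conj_eq, hx]

theorem conj_invol {x : G} (g : G) (hx : orderOf x = 2) : orderOf (g * x * g⁻¹) = 2 := by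
  rw [orderOf_conj_eq, hx]

variable {x y : G}

theorem invol_conj_prod_left (hx : orderOf x = 2) (hy : orderOf y = 2) :
    x * (x * y) * x⁻¹ = (x * y)⁻¹ := by
  rw [invol_inv hx, mul_inv_rev, invol_inv hx, invol_inv hy, ← mul_assoc, invol_mul_self hx,
    one_mul]

theorem invol_conj_prod_right (hx : orderOf x = 2) (hy : orderOf y = 2) :
    y * (x * y) * y⁻¹ = (x * y)⁻¹ := by
  rw [invol_inv hy, mul_inv_rev, invol_inv hx, invol_inv hy, mul_assoc, mul_assoc,
    invol_mul_self hy, mul_one]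

/-- An element inverted by `x` has all its powers inverted by `x`. -/
theorem conj_zpow_of_inverted {a : G} (h : x * a * x⁻¹ = a⁻¹) (k : ℤ) :
    x * a ^ k * x⁻¹ = a ^ (-k) := by
  rw [← conj_zpow, h, inv_zpow, zpow_neg]

theorem invol_mul_zpow (hx : orderOf x = 2) (hy : orderOf y = 2) (k : ℤ) :
    x * (x * y) ^ k = (x * y) ^ (-k) * x := by
  have h := conj_zpow_of_inverted (invol_conj_prod_left hx hy) k
  rw [← h, inv_mul_cancel_right]

theorem zpow_mul_invol (hx : orderOf x = 2) (hy : orderOf y = 2) (k : ℤ) :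
    (x * y) ^ k * x = x * (x * y) ^ (-k) := by
  rw [invol_mul_zpow hx hy, neg_neg]

theorem eq_invol_mul_prod (hx : orderOf x = 2) : y = x * (x * y) := by
  rw [← mul_assoc, invol_mul_self hx, one_mul]

theorem rot_conj_refl (hx : orderOf x = 2) (hy : orderOf y = 2) (k j : ℤ) :
    (x * y) ^ k * (x * (x * y) ^ j) * ((x * y) ^ k)⁻¹ = x * (x * y) ^ (j - 2 * k) := by
  rw [← mul_assoc, zpow_mul_invol hx hy, ← zpow_neg, mul_assoc, mul_assoc, ← zpow_add,
    ← zpow_add]
  congr 2
  ring

theorem rot_conj_self (hx : orderOf x = 2) (hy : orderOf y = 2) (k : ℤ) :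
    (x * y) ^ k * x * ((x * y) ^ k)⁻¹ = x * (x * y) ^ (-2 * k) := by
  have h := rot_conj_refl hx hy k 0
  simpa using h

theorem refl_conj_self (hx : orderOf x = 2) (hy : orderOf y = 2) (k : ℤ) :
    (x * (x * y) ^ k) * x * (x * (x * y) ^ k)⁻¹ = x * (x * y) ^ (2 * k) := by
  rw [mul_inv_rev]
  have h1 : x * (x * y) ^ k * x * (((x * y) ^ k)⁻¹ * x⁻¹)
      = x * ((x * y) ^ k * x * ((x * y) ^ k)⁻¹) * x⁻¹ := by group
  rw [h1, rot_conj_self hx hy, ← mul_assoc, invol_mul_self hx, one_mul, invol_inv hx,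
    zpow_mul_invol hx hy]
  congr 2
  ring

theorem orderOf_refl (hx : orderOf x = 2) (hy : orderOf y = 2) (hn : x * y ≠ 1) (k : ℤ) :
    orderOf (x * (x * y) ^ k) = 2 := by
  rw [invol_iff]
  refine ⟨?_, fun h => ?_⟩
  · rw [show x * (x * y) ^ k * (x * (x * y) ^ k) = x * ((x * y) ^ k * x) * (x * y) ^ k by group,
      zpow_mul_invol hx hy, ← mul_assoc, invol_mul_self hx, one_mul, ← zpow_add,
      neg_add_cancel, zpow_zero]
  · -- `x` would be a power of `x * y`, hence inverted and centralised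
    have hx' : x = (x * y) ^ (-k) := by
      rw [zpow_neg]; exact eq_inv_of_mul_eq_one_left h
    have hc : Commute ((x * y) ^ (-k)) (x * y) := Commute.zpow_left (Commute.refl (x * y)) _
    rw [← hx'] at hc
    have h2 : x * y = (x * y)⁻¹ :=
      (by rw [hc.eq, mul_inv_cancel_right] : x * (x * y) * x⁻¹ = x * y).symm.trans
        (invol_conj_prod_left hx hy)
    have hsq : (x * y) * (x * y) = 1 := mul_eq_one_iff_eq_inv.2 h2
    have h3 : orderOf (x * y) = 2 := invol_iff.2 ⟨hsq, hn⟩
    rcases Int.even_or_odd (-k) with ⟨m, hm⟩ | ⟨m, hm⟩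
    · rw [hm, ← two_mul, zpow_mul, zpow_ofNat, sq, hsq, one_zpow] at hx'
      exact invol_ne_one hx hx'
    · rw [hm, zpow_add, zpow_mul, zpow_ofNat, sq, hsq, one_zpow, one_mul, zpow_one] at hx'
      exact invol_ne_one hy (by
        calc y = x⁻¹ * (x * y) := by group
          _ = 1 := by rw [← hx', inv_mul_cancel])

/-- Membership in the group generated by two involutions. -/
theorem mem_closure_pair_iff (hx : orderOf x = 2) (hy : orderOf y = 2) {d : G} :
    d ∈ Subgroup.closure ({x, y} : Set G) ↔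
      ∃ k : ℤ, d = (x * y) ^ k ∨ d = x * (x * y) ^ k := by
  constructor
  · intro hd
    induction hd using Subgroup.closure_induction with
    | mem z hz =>
      rcases hz with rfl | rfl
      · exact ⟨0, Or.inr (by simp)⟩
      · exact ⟨1, Or.inr (by rw [zpow_one]; exact eq_invol_mul_prod hx)⟩
    | one => exact ⟨0, Or.inl (zpow_zero _).symm⟩
    | mul a b _ _ ha hb =>
      obtain ⟨i, rfl | rfl⟩ := ha <;> obtain ⟨j, rfl | rfl⟩ := hb
      · exact ⟨i + j, Or.inl (zpow_add _ _ _).symm⟩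
      · exact ⟨-i + j, Or.inr (by rw [← mul_assoc, zpow_mul_invol hx hy, mul_assoc, ← zpow_add])⟩
      · exact ⟨i + j, Or.inr (by rw [mul_assoc, ← zpow_add])⟩
      · refine ⟨-i + j, Or.inl ?_⟩
        rw [mul_assoc, ← mul_assoc (a := (x * y) ^ i), zpow_mul_invol hx hy, ← mul_assoc,
          ← mul_assoc, invol_mul_self hx, one_mul, ← zpow_add]
    | inv a _ ha =>
      obtain ⟨i, rfl | rfl⟩ := ha
      · exact ⟨-i, Or.inl (zpow_neg _ _).symm⟩
      · refine ⟨i, Or.inr ?_⟩
        rw [mul_inv_rev, invol_inv hx, ← zpow_neg, zpow_mul_invol hx hy, neg_neg]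
  · have hxy : x * y ∈ Subgroup.closure ({x, y} : Set G) :=
      mul_mem (Subgroup.subset_closure (by simp)) (Subgroup.subset_closure (by simp))
    rintro ⟨k, rfl | rfl⟩
    · exact zpow_mem hxy k
    · exact mul_mem (Subgroup.subset_closure (by simp)) (zpow_mem hxy k)

theorem zpow_prod_mem_closure (k : ℤ) : (x * y) ^ k ∈ Subgroup.closure ({x, y} : Set G) :=
  zpow_mem (mul_mem (Subgroup.subset_closure (by simp)) (Subgroup.subset_closure (by simp))) k

/-- Two involutions with product of odd order are conjugate, by a power of the product. -/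
theorem exists_zpow_conj_of_odd (hx : orderOf x = 2) (hy : orderOf y = 2)
    (hodd : Odd (orderOf (x * y))) :
    ∃ k : ℤ, (x * y) ^ k * x * ((x * y) ^ k)⁻¹ = y := by
  obtain ⟨m, hm⟩ := hodd
  refine ⟨(m : ℤ), ?_⟩
  rw [rot_conj_self hx hy]
  have h1 : ((orderOf (x * y) : ℕ) : ℤ) = 2 * m + 1 := by rw [hm]; push_cast; ring
  have h2 : (x * y) ^ (-2 * (m : ℤ)) = x * y := by
    rw [show -2 * (m : ℤ) = 1 - (2 * m + 1) by ring, ← h1, zpow_sub, zpow_one, zpow_natCast,
      pow_orderOf_eq_one, inv_one, mul_one]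
  rw [h2]
  exact (eq_invol_mul_prod hx).symm

theorem isConj_of_odd_prod (hx : orderOf x = 2) (hy : orderOf y = 2)
    (hodd : Odd (orderOf (x * y))) : IsConj x y := by
  obtain ⟨k, hk⟩ := exists_zpow_conj_of_odd hx hy hodd
  exact isConj_iff.2 ⟨_, hk⟩

/-- Conjugates of `x` inside the dihedral group: `x * (x*y)^k` with `k` even. -/
theorem conj_self_eq_refl_even (hx : orderOf x = 2) (hy : orderOf y = 2) {d : G}
    (hd : d ∈ Subgroup.closure ({x, y} : Set G)) :
    ∃ k : ℤ, d * x * d⁻¹ = x * (x * y) ^ (2 * k) := by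
  obtain ⟨k, rfl | rfl⟩ := (mem_closure_pair_iff hx hy).1 hd
  · exact ⟨-k, by rw [rot_conj_self hx hy]; congr 2; ring⟩
  · exact ⟨k, refl_conj_self hx hy k⟩

theorem half_zpow (heven : Even (orderOf (x * y))) :
    (x * y) ^ (-((orderOf (x * y) / 2 : ℕ) : ℤ)) = (x * y) ^ (orderOf (x * y) / 2) := by
  obtain ⟨m, hm⟩ := heven
  have : orderOf (x * y) / 2 = m := by omega
  rw [this, zpow_neg, zpow_natCast, inv_eq_iff_mul_eq_one, ← pow_add, ← hm, pow_orderOf_eq_one]

theorem half_comm_left (hx : orderOf x = 2) (hy : orderOf y = 2)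
    (heven : Even (orderOf (x * y))) : Commute ((x * y) ^ (orderOf (x * y) / 2)) x := by
  show (x * y) ^ (orderOf (x * y) / 2) * x = x * (x * y) ^ (orderOf (x * y) / 2)
  conv_lhs => rw [← zpow_natCast]
  rw [zpow_mul_invol hx hy, half_zpow heven]

theorem half_comm_right (hx : orderOf x = 2) (hy : orderOf y = 2)
    (heven : Even (orderOf (x * y))) : Commute ((x * y) ^ (orderOf (x * y) / 2)) y := by
  have h := half_comm_left hx hy heven
  have h1 : Commute ((x * y) ^ (orderOf (x * y) / 2)) (x * y) := (Commute.refl _).pow_left _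
  have h2 := h.inv_right.mul_right h1
  rwa [inv_mul_cancel_left] at h2

theorem half_invol [Finite G] (heven : Even (orderOf (x * y))) :
    orderOf ((x * y) ^ (orderOf (x * y) / 2)) = 2 := by
  obtain ⟨m, hm⟩ := heven
  have hpos := orderOf_pos (x * y)
  have h : orderOf (x * y) / 2 = m := by omega
  rw [h, orderOf_pow' _ (by omega : m ≠ 0), hm]
  have : Nat.gcd (m + m) m = m := by simp
  rw [this]
  rw [show m + m = 2 * m by ring, Nat.mul_div_cancel _ (by omega : 0 < m)]

theorem half_mem_closure :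
    (x * y) ^ (orderOf (x * y) / 2) ∈ Subgroup.closure ({x, y} : Set G) :=
  pow_mem (mul_mem (Subgroup.subset_closure (by simp)) (Subgroup.subset_closure (by simp))) _

/-- With `z` the central involution: `x * z` is conjugate in `⟨x, y⟩` to `x` or to `y`. -/
theorem mul_half_conj_self_or [Finite G] (hx : orderOf x = 2) (hy : orderOf y = 2)
    (heven : Even (orderOf (x * y))) :
    ∃ d ∈ Subgroup.closure ({x, y} : Set G),
      (4 ∣ orderOf (x * y) ∧ d * x * d⁻¹ = x * (x * y) ^ (orderOf (x * y) / 2)) ∨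
        (¬ 4 ∣ orderOf (x * y) ∧ d * y * d⁻¹ = x * (x * y) ^ (orderOf (x * y) / 2)) := by
  obtain ⟨m, hm⟩ := heven
  have h : orderOf (x * y) / 2 = m := by omega
  rw [h]
  rcases Nat.even_or_odd m with ⟨j, hj⟩ | ⟨j, hj⟩
  · refine ⟨(x * y) ^ (-(j : ℤ)), zpow_prod_mem_closure _, Or.inl ⟨⟨j, by omega⟩, ?_⟩⟩
    rw [rot_conj_self hx hy, ← zpow_natCast, hj]
    congr 2
    push_cast; ring
  · refine ⟨(x * y) ^ (-(j : ℤ)), zpow_prod_mem_closure _, Or.inr ⟨by omega, ?_⟩⟩
    have := rot_conj_refl hx hy (-(j : ℤ)) 1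
    rw [zpow_one, ← eq_invol_mul_prod hx] at this
    rw [this, ← zpow_natCast, hj]
    congr 2
    push_cast; ring

/-- The dihedral group maps onto the group generated by two distinct involutions. -/
noncomputable def dihedralHom (hx : orderOf x = 2) (hy : orderOf y = 2) :
    DihedralGroup (orderOf (x * y)) →* G where
  toFun d := match d with
    | DihedralGroup.r i => (x * y) ^ (i.cast : ℤ)
    | DihedralGroup.sr i => x * (x * y) ^ (i.cast : ℤ)
  map_one' := by
    show (x * y) ^ ((0 : ZMod (orderOf (x * y))).cast : ℤ) = 1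
    simp
  map_mul' := by
    have key : ∀ a b : ℤ, (a : ZMod (orderOf (x * y))) = b → (x * y) ^ a = (x * y) ^ b := by
      intro a b hab
      rw [← orderOf_dvd_sub_iff_zpow_eq_zpow]
      exact (ZMod.intCast_eq_intCast_iff_dvd_sub _ _ _).1 hab.symm
    rintro (i | i) (j | j) <;> simp only [DihedralGroup.r_mul_r, DihedralGroup.r_mul_sr,
      DihedralGroup.sr_mul_r, DihedralGroup.sr_mul_sr]
    · rw [← zpow_add]; exact key _ _ (by simp)
    · rw [← mul_assoc, zpow_mul_invol hx hy, mul_assoc, ← zpow_add]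
      exact congrArg (x * ·) (key _ _ (by simp; ring))
    · rw [mul_assoc, ← zpow_add]; exact congrArg (x * ·) (key _ _ (by simp))
    · rw [mul_assoc, ← mul_assoc ((x * y) ^ (i.cast : ℤ)), zpow_mul_invol hx hy, ← mul_assoc,
        ← mul_assoc, invol_mul_self hx, one_mul, ← zpow_add]
      exact key _ _ (by simp; ring)

end CfsgLib.Involutions
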