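import Mathlib
import Cfsg.Agent.Lib.Involutions.Dihedral

/-!
# Centralizers, conjugates and counting of involutions
-/

set_option autoImplicit false

namespace CfsgLib.Involutions

variable {G : Type*} [Group G]

theorem mem_centralizer_singleton {g x : G} :
    g ∈ Subgroup.centralizer ({x} : Set G) ↔ Commute x g := by
  simp [Subgroup.mem_centralizer_iff, Commute, SemiconjBy]

theorem conj_eq_iff_inv_mul_mem {g₀ g x : G} :
    g * x * g⁻¹ = g₀ * x * g₀⁻¹ ↔ g₀⁻¹ * g ∈ Subgroup.centralizer ({x} : Set G) := by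
  rw [mem_centralizer_singleton, Commute, SemiconjBy]
  constructor <;> intro h
  · calc x * (g₀⁻¹ * g) = g₀⁻¹ * (g₀ * x * g₀⁻¹) * g := by group
      _ = g₀⁻¹ * (g * x * g⁻¹) * g := by rw [h]
      _ = g₀⁻¹ * g * x := by group
  · calc g * x * g⁻¹ = g₀ * ((g₀⁻¹ * g) * x) * g⁻¹ := by group
      _ = g₀ * (x * (g₀⁻¹ * g)) * g⁻¹ := by rw [h]
      _ = g₀ * x * g₀⁻¹ := by group

/-- The elements carrying `x` to a fixed conjugate form a coset of the centralizer. -/
theorem card_conjugators (x g₀ : G) :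
    Nat.card {g : G // g * x * g⁻¹ = g₀ * x * g₀⁻¹}
      = Nat.card (Subgroup.centralizer ({x} : Set G)) :=
  Nat.card_congr
    { toFun := fun g => ⟨g₀⁻¹ * g.1, conj_eq_iff_inv_mul_mem.1 g.2⟩
      invFun := fun c => ⟨g₀ * c.1, conj_eq_iff_inv_mul_mem.2 (by rw [inv_mul_cancel_left]; exact c.2)⟩
      left_inv := fun g => Subtype.ext (mul_inv_cancel_left _ _)
      right_inv := fun c => Subtype.ext (inv_mul_cancel_left _ _) }

theorem card_conjugates_eq_index (x : G) :
    Nat.card {y : G // IsConj x y} = (Subgroup.centralizer ({x} : Set G)).index := by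
  refine (Nat.card_congr (Equiv.ofBijective
    (Quotient.lift
      (fun g : G => (⟨g * x * g⁻¹, isConj_iff.2 ⟨g, rfl⟩⟩ : {y : G // IsConj x y}))
      (fun a b h => Subtype.ext
        (conj_eq_iff_inv_mul_mem.2 (QuotientGroup.leftRel_apply.1 h)).symm))
    ⟨?_, ?_⟩)).symm
  · rintro ⟨a⟩ ⟨b⟩ h
    have h' : a * x * a⁻¹ = b * x * b⁻¹ := Subtype.ext_iff.1 h
    exact (QuotientGroup.eq).2 (conj_eq_iff_inv_mul_mem.1 h'.symm)
  · rintro ⟨y, hy⟩
    obtain ⟨g, rfl⟩ := isConj_iff.1 hy
    exact ⟨QuotientGroup.mk g, rfl⟩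

theorem card_conjugates_mul (x : G) :
    Nat.card {y : G // IsConj x y} * Nat.card (Subgroup.centralizer ({x} : Set G))
      = Nat.card G := by
  rw [card_conjugates_eq_index, Subgroup.index_mul_card]

theorem card_centralizer_conj (g x : G) :
    Nat.card (Subgroup.centralizer ({g * x * g⁻¹} : Set G))
      = Nat.card (Subgroup.centralizer ({x} : Set G)) := by
  refine Nat.card_congr (((MulAut.conj g).symm.toEquiv.subtypeEquiv fun c => ?_))
  rw [mem_centralizer_singleton, mem_centralizer_singleton]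
  show Commute (g * x * g⁻¹) c ↔ Commute x ((MulAut.conj g).symm c)
  rw [MulAut.conj_symm_apply]
  constructor <;> intro h
  · calc x * (g⁻¹ * c * g) = g⁻¹ * ((g * x * g⁻¹) * c) * g := by group
      _ = g⁻¹ * (c * (g * x * g⁻¹)) * g := by rw [h.eq]
      _ = g⁻¹ * c * g * x := by group
  · calc g * x * g⁻¹ * c = g * (x * (g⁻¹ * c * g)) * g⁻¹ := by group
      _ = g * ((g⁻¹ * c * g) * x) * g⁻¹ := by rw [h.eq]
      _ = c * (g * x * g⁻¹) := by group

theorem card_centralizer_of_isConj {x y : G} (h : IsConj x y) :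
    Nat.card (Subgroup.centralizer ({y} : Set G))
      = Nat.card (Subgroup.centralizer ({x} : Set G)) := by
  obtain ⟨g, rfl⟩ := isConj_iff.1 h
  exact card_centralizer_conj g x

/-- `u * v = x` with `u`, `v` involutions forces `u` to invert `x`. -/
theorem invert_of_pair {u v x : G} (hu : orderOf u = 2) (hv : orderOf v = 2) (h : u * v = x) :
    u * x * u⁻¹ = x⁻¹ := by
  subst h; exact invol_conj_prod_left hu hv

/-- An involution inverting `x`, different from `x`, yields a factorisation of `x`. -/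
theorem pair_of_invert {t x : G} (ht : orderOf t = 2) (h : t * x * t⁻¹ = x⁻¹) (hne : x ≠ t) :
    orderOf (t * x) = 2 := by
  rw [invol_iff]
  refine ⟨?_, fun h1 => hne ?_⟩
  · rw [invol_inv ht] at h
    rw [← mul_assoc, h, inv_mul_cancel]
  · rw [eq_inv_of_mul_eq_one_right h1, invol_inv ht]

/-- Pairs of involutions with product `x`, as inverting involutions. -/
def pairEquiv (x : G) :
    {p : G × G // orderOf p.1 = 2 ∧ orderOf p.2 = 2 ∧ p.1 * p.2 = x}
      ≃ {t : G // orderOf t = 2 ∧ t * x * t⁻¹ = x⁻¹ ∧ x ≠ t} where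
  toFun p := ⟨p.1.1, p.2.1, invert_of_pair p.2.1 p.2.2.1 p.2.2.2, fun h =>
    invol_ne_one p.2.2.1 (mul_eq_left.1 (p.2.2.2.trans h))⟩
  invFun t := ⟨(t.1, t.1 * x), t.2.1, pair_of_invert t.2.1 t.2.2.1 t.2.2.2, by
    rw [← mul_assoc, invol_mul_self t.2.1, one_mul]⟩
  left_inv p := by
    refine Subtype.ext (Prod.ext rfl ?_)
    exact (congrArg (p.1.1 * ·) p.2.2.2.symm).trans
      (by show p.1.1 * (p.1.1 * p.1.2) = p.1.2; rw [← mul_assoc, invol_mul_self p.2.1, one_mul])
  right_inv t := rfl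

/-- An element of odd order has a square root among its powers. -/
theorem exists_zpow_sq_eq {a : G} (ha : Odd (orderOf a)) : ∃ k : ℤ, (a ^ k) ^ 2 = a := by
  obtain ⟨m, hm⟩ := ha
  refine ⟨(m + 1 : ℕ), ?_⟩
  rw [zpow_natCast, ← pow_mul, show (m + 1) * 2 = orderOf a + 1 by omega, pow_succ,
    pow_orderOf_eq_one, one_mul]

theorem odd_of_orderOf_dvd {n : ℕ} {a : G} (h : Odd n) (hd : orderOf a ∣ n) : Odd (orderOf a) :=
  Odd.of_dvd_nat h hd

/-- An element of odd order fixed by an automorphism that inverts it is trivial. -/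
theorem eq_one_of_eq_inv_of_odd {a : G} (h : a = a⁻¹) (ha : Odd (orderOf a)) : a = 1 := by
  have h2 : a * a = 1 := mul_eq_one_iff_eq_inv.2 h
  by_contra hne
  rw [invol_iff.2 ⟨h2, hne⟩] at ha
  exact absurd ha (by decide)

end CfsgLib.Involutions
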