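import Mathlib
import Cfsg.Prelude.Def_TwoFusion
import Cfsg.Agent.Lib.Involutions.Basic

/-!
# Isolated involutions
-/

set_option autoImplicit false

namespace CfsgLib.Involutions

open scoped Pointwise

variable {G : Type*} [Group G]

theorem mem_smul_sylow_iff' {p : ℕ} {g x : G} {P : Sylow p G} :
    x ∈ g • P ↔ g⁻¹ * x * g ∈ P := by
  rw [Sylow.smul_def]
  show x ∈ (MulAut.conj g • (P : Subgroup G)) ↔ _
  rw [Subgroup.mem_pointwise_smul_iff_inv_smul_mem]
  simp [MulAut.smul_def, MulAut.conj_symm_apply]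
  rfl

/-- Two commuting involutions generate a `2`-group. -/
theorem isPGroup_closure_pair {x y : G} (hx : orderOf x = 2) (hy : orderOf y = 2)
    (hc : Commute x y) : IsPGroup 2 (Subgroup.closure ({x, y} : Set G)) := by
  intro ⟨d, hd⟩
  refine ⟨1, Subtype.ext ?_⟩
  show d ^ (2 ^ 1) = 1
  have hsq : (x * y) * (x * y) = 1 := by
    rw [← hc.mul_mul_mul_comm, invol_mul_self hx, invol_mul_self hy, one_mul]
  have hk : ∀ k : ℤ, ((x * y) ^ k) ^ 2 = 1 := by
    intro k
    rw [sq, ← (Commute.refl (x * y)).mul_zpow, hsq, one_zpow]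
  obtain ⟨k, rfl | rfl⟩ := (mem_closure_pair_iff hx hy).1 hd
  · simpa using hk k
  · have hxk : Commute x ((x * y) ^ k) := ((Commute.refl x).mul_right hc).zpow_right k
    rw [pow_one, hxk.mul_pow, sq x, invol_mul_self hx, one_mul, hk]

/-- A Sylow `2`-subgroup can be conjugated onto two given commuting involutions. -/
theorem exists_conj_mem_sylow [Finite G] (P : Sylow 2 G) {x y : G} (hx : orderOf x = 2)
    (hy : orderOf y = 2) (hc : Commute x y) : ∃ g : G, g * x * g⁻¹ ∈ P ∧ g * y * g⁻¹ ∈ P := by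
  obtain ⟨Q, hQ⟩ := (isPGroup_closure_pair hx hy hc).exists_le_sylow
  obtain ⟨g, rfl⟩ := MulAction.exists_smul_eq G P Q
  refine ⟨g⁻¹, ?_, ?_⟩ <;> rw [inv_inv] <;> apply mem_smul_sylow_iff'.1 <;>
    exact hQ (Subgroup.subset_closure (by simp))

theorem exists_conj_mem_sylow_one [Finite G] (P : Sylow 2 G) {x : G} (hx : orderOf x = 2) :
    ∃ g : G, g * x * g⁻¹ ∈ P :=
  let ⟨g, h, _⟩ := exists_conj_mem_sylow P hx hx (Commute.refl x)
  ⟨g, h⟩

/-- An involution which is alone in its class in one Sylow `2`-subgroup is isolated. -/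
theorem isolated_of_sylow [Finite G] (P : Sylow 2 G) {u : G} (hu : orderOf u = 2)
    (hiso : ∀ g : G, g * u * g⁻¹ ∈ P → g * u * g⁻¹ = u) : Cfsg.IsIsolatedInvolution u := by
  refine ⟨hu, fun g hc => ?_⟩
  obtain ⟨h, h1, h2⟩ := exists_conj_mem_sylow P hu (conj_invol g hu) hc
  have e1 := hiso h h1
  have e2 : h * (g * u * g⁻¹) * h⁻¹ = u := by
    have := hiso (h * g)
    rw [mul_inv_rev, show h * g * u * (g⁻¹ * h⁻¹) = h * (g * u * g⁻¹) * h⁻¹ by group] at this
    exact this h2
  have := e1.trans e2.symm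
  exact (mul_left_cancel (mul_right_cancel this)).symm

namespace Isolated

variable {z : G}

theorem eq_of_commute_isConj (hz : Cfsg.IsIsolatedInvolution z) {v : G} (hv : IsConj z v)
    (hc : Commute z v) : v = z := by
  obtain ⟨g, rfl⟩ := isConj_iff.1 hv
  exact hz.2 g hc

theorem conj (hz : Cfsg.IsIsolatedInvolution z) (h : G) :
    Cfsg.IsIsolatedInvolution (h * z * h⁻¹) := by
  refine ⟨conj_invol h hz.1, fun g hc => ?_⟩
  have e : h⁻¹ * (g * (h * z * h⁻¹) * g⁻¹) * h = (h⁻¹ * g * h) * z * (h⁻¹ * g * h)⁻¹ := by group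
  have hc' : Commute z (h⁻¹ * (g * (h * z * h⁻¹) * g⁻¹) * h) := by
    have := hc.map (MulAut.conj h⁻¹)
    simp only [MulAut.conj_apply, inv_inv] at this
    rwa [show h⁻¹ * (h * z * h⁻¹) * h = z by group] at this
  rw [e] at hc'
  have := hz.2 _ hc'
  rw [← e] at this
  calc g * (h * z * h⁻¹) * g⁻¹ = h * (h⁻¹ * (g * (h * z * h⁻¹) * g⁻¹) * h) * h⁻¹ := by group
    _ = h * z * h⁻¹ := by rw [this]

theorem of_isConj (hz : Cfsg.IsIsolatedInvolution z) {v : G} (hv : IsConj z v) :
    Cfsg.IsIsolatedInvolution v := by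
  obtain ⟨g, rfl⟩ := isConj_iff.1 hv
  exact conj hz g

/-- The product of an isolated involution with a conjugate has odd order. -/
theorem odd_orderOf_mul [Finite G] (hz : Cfsg.IsIsolatedInvolution z) {v : G} (hv : IsConj z v) :
    Odd (orderOf (z * v)) := by
  by_contra hno
  rw [Nat.not_odd_iff_even] at hno
  have hvo := isConj_invol hv hz.1
  have hw := half_invol (x := z) (y := v) hno
  have hcz := half_comm_left hz.1 hvo hno
  obtain ⟨d, -, ⟨-, hd⟩ | ⟨-, hd⟩⟩ := mul_half_conj_self_or hz.1 hvo hno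
  · have := eq_of_commute_isConj hz (isConj_iff.2 ⟨d, hd⟩) ((Commute.refl z).mul_right hcz.symm)
    exact invol_ne_one hw (mul_eq_left.1 this)
  · have := eq_of_commute_isConj hz (hv.trans (isConj_iff.2 ⟨d, hd⟩))
      ((Commute.refl z).mul_right hcz.symm)
    exact invol_ne_one hw (mul_eq_left.1 this)

theorem odd_orderOf_mul' [Finite G] (hz : Cfsg.IsIsolatedInvolution z) {u v : G}
    (hu : IsConj z u) (hv : IsConj z v) : Odd (orderOf (u * v)) :=
  odd_orderOf_mul (of_isConj hz hu) (hu.symm.trans hv)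

theorem odd_orderOf_commutator [Finite G] (hz : Cfsg.IsIsolatedInvolution z) (g : G) :
    Odd (orderOf (z * g * z⁻¹ * g⁻¹)) := by
  rw [invol_inv hz.1, mul_assoc z g z, mul_assoc z]
  exact odd_orderOf_mul hz (isConj_iff.2 ⟨g, rfl⟩)

/-- If `z` and a conjugate both normalise `H`, the conjugation can be done by an element of `H`
of the form power of their product. -/
theorem exists_zpow_conj [Finite G] (hz : Cfsg.IsIsolatedInvolution z) {v : G}
    (hv : IsConj z v) : ∃ k : ℤ, (z * v) ^ k * z * ((z * v) ^ k)⁻¹ = v :=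
  exists_zpow_conj_of_odd hz.1 (isConj_invol hv hz.1) (odd_orderOf_mul hz hv)

end Isolated

end CfsgLib.Involutions
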