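import Cfsg.Agent.Lib.PLocal.Constrained

/-!
# `p`-constraint of `p`-local subgroups
-/

set_option autoImplicit false
set_option linter.style.haveILetI false

namespace CfsgLib.Involutions

open Cfsg Subgroup CfsgLib.Base CfsgLib.PLocal

universe u

variable {G : Type u} [Group G] [Finite G] {p : ℕ} [Fact p.Prime]

/-- A group with a normal `p`-subgroup of `p`-constrained centralizer is `p`-constrained. -/
theorem isPConstrained_of_normal_pSubgroup {T : Subgroup G} [T.Normal] (hT : IsPGroup p T)
    (hc : IsPConstrained p ↥(centralizer (T : Set G))) : IsPConstrained p G := by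
  set f := QuotientGroup.mk' (pPrimeCore p G) with hf
  set C := centralizer (T : Set G) with hC
  haveI : (C.map f).Normal := Normal.map inferInstance _ (QuotientGroup.mk'_surjective _)
  have hC' : IsPConstrained p ↥(C.map f) :=
    (isPConstrained_iff_of_surjective (f := f.subgroupMap C) (f.subgroupMap_surjective _) (by
      rw [← card_map_subtype (MonoidHom.ker _)]
      refine (pPrimeCore_coprime p G).coprime_dvd_left (card_dvd_of_le ?_)
      rintro _ ⟨a, ha, rfl⟩
      exact (QuotientGroup.eq_one_iff (a : G)).1 (congrArg Subtype.val ha))).1 hc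
  have hbot : pPrimeCore p ↥(C.map f) = ⊥ :=
    (map_eq_bot_iff_of_injective _ (subtype_injective _)).1 (le_bot_iff.1
      ((map_pPrimeCore_le_of_isSubnormal (Normal.isSubnormal ‹(C.map f).Normal›)).trans
        (pPrimeCore_quotient_pPrimeCore p G).le))
  rw [isPConstrained_iff_of_eq_bot hbot] at hC'
  rw [isPConstrained_iff]
  haveI : (T.map f).Normal := Normal.map inferInstance _ (QuotientGroup.mk'_surjective _)
  have hle : T.map f ≤ pCore p (G ⧸ pPrimeCore p G) := le_pCore (hT.map f)
  intro d hd
  have hdC : d ∈ C.map f := by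
    rw [hC, map_centralizer_mk' _ (pPrimeCore_coprime p G) hT]
    exact centralizer_le hle hd
  have h1 : (⟨d, hdC⟩ : C.map f) ∈ pCore p ↥(C.map f) := hC' (mem_centralizer_iff.2 fun r hr =>
    Subtype.ext (mem_centralizer_iff.1 hd (r : G ⧸ pPrimeCore p G)
      ((map_pCore_le_of_isSubnormal (Normal.isSubnormal ‹(C.map f).Normal›)) ⟨r, hr, rfl⟩)))
  exact (map_pCore_le_of_isSubnormal (Normal.isSubnormal ‹(C.map f).Normal›)) ⟨_, h1, rfl⟩

theorem subgroupOf_normalizer_eq {T M : Subgroup G} (hTM : T ≤ M) :
    normalizer ((T.subgroupOf M : Subgroup M) : Set M) = (normalizer (T : Set G)).subgroupOf M := by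
  ext m
  simp only [mem_subgroupOf, mem_normalizer_iff]
  refine ⟨fun h u => ⟨fun hu => (h ⟨u, hTM hu⟩).1 hu, fun hu => ?_⟩, fun h u => h u⟩
  have hu' : u ∈ M := by
    have := M.mul_mem (M.mul_mem (M.inv_mem m.2) (hTM hu)) m.2
    rwa [show (m : G)⁻¹ * (m * u * (m : G)⁻¹) * m = u by group] at this
  exact (h ⟨u, hu'⟩).2 hu

theorem subgroupOf_centralizer_eq {T M : Subgroup G} (hTM : T ≤ M) :
    centralizer ((T.subgroupOf M : Subgroup M) : Set M) = (centralizer (T : Set G)).subgroupOf M := by
  ext m
  simp only [mem_subgroupOf, mem_centralizer_iff]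
  exact ⟨fun h u hu => congrArg Subtype.val (h ⟨u, hTM hu⟩ hu), fun h u hu => Subtype.ext (h u hu)⟩

/-- All `p`-locals are `p`-constrained if the centralizers of elements of order `p` are, or if the
maximal `p`-locals are. -/
theorem pLocal_isPConstrained
    (h : (∀ M : Subgroup G, (∃ T : Subgroup G, IsPGroup p ↥T ∧ T ≠ ⊥ ∧ M = normalizer (T : Set G)) → M ≠ ⊤ →
        (∀ M' : Subgroup G, (∃ T' : Subgroup G, IsPGroup p ↥T' ∧ T' ≠ ⊥ ∧ M' = normalizer (T' : Set G)) →
          M' ≠ ⊤ → M ≤ M' → M = M') → IsPConstrained p ↥M) ∨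
      (∀ x : G, orderOf x = p → IsPConstrained p ↥(centralizer ({x} : Set G))))
    {T : Subgroup G} (hT : IsPGroup p ↥T) (hT1 : T ≠ ⊥) (hTG : normalizer (T : Set G) ≠ ⊤) :
    IsPConstrained p ↥(normalizer (T : Set G)) := by
  rcases h with h | h
  · obtain ⟨M, hle, hM⟩ := Finite.exists_le_maximal (p := fun M : Subgroup G =>
      (∃ T' : Subgroup G, IsPGroup p ↥T' ∧ T' ≠ ⊥ ∧ M = normalizer (T' : Set G)) ∧ M ≠ ⊤)
      ⟨⟨T, hT, hT1, rfl⟩, hTG⟩
    have hMc := h M hM.prop.1 hM.prop.2 fun M' h1 h2 h3 => le_antisymm h3 (hM.le_of_ge ⟨h1, h2⟩ h3)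
    have hTM : T ≤ M := le_normalizer.trans hle
    have hN := isPConstrained_normalizer hMc (P := T.subgroupOf M) hT.comap_subtype
    exact (isPConstrained_congr ((MulEquiv.subgroupCongr (subgroupOf_normalizer_eq hTM)).trans
      (subgroupOfEquivOfLe hle))).1 hN
  · haveI : Nontrivial T := (nontrivial_iff_ne_bot _).2 hT1
    haveI := hT.center_nontrivial
    obtain ⟨z, hz⟩ := exists_prime_orderOf_dvd_card' p (G := center T) (by
      obtain ⟨n, hn⟩ := IsPGroup.iff_card.1 (hT.to_subgroup (center T))
      rw [hn]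
      refine dvd_pow_self p fun h0 => ?_
      rw [h0, pow_zero] at hn
      exact absurd hn Finite.one_lt_card.ne')
    set x : G := ((z : T) : G) with hx
    have hxo : orderOf x = p := by rw [hx, orderOf_coe, orderOf_coe, hz]
    have hTC : T ≤ centralizer ({x} : Set G) := fun t ht => mem_centralizer_singleton_iff.2
      (congrArg Subtype.val (mem_center_iff.1 z.2 ⟨t, ht⟩))
    have hcle : centralizer (T : Set G) ≤ centralizer ({x} : Set G) :=
      centralizer_le (Set.singleton_subset_iff.2 (z : T).2)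
    have hC := isPConstrained_centralizer (h x hxo) (P := T.subgroupOf (centralizer ({x} : Set G)))
      hT.comap_subtype
    have hC' : IsPConstrained p ↥(centralizer (T : Set G)) :=
      (isPConstrained_congr ((MulEquiv.subgroupCongr (subgroupOf_centralizer_eq hTC)).trans
        (subgroupOfEquivOfLe hcle))).1 hC
    set N := normalizer (T : Set G)
    haveI : (T.subgroupOf N).Normal := normal_subgroupOf_of_le_normalizer le_rfl
    refine isPConstrained_of_normal_pSubgroup (T := T.subgroupOf N) hT.comap_subtype ?_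
    exact (isPConstrained_congr ((MulEquiv.subgroupCongr (subgroupOf_centralizer_eq le_normalizer)).trans
      (subgroupOfEquivOfLe (centralizer_le_normalizer _)))).2 hC'

end CfsgLib.Involutions
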