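import Cfsg.Agent.Lib.PGroups.MaxAbelian
import Cfsg.Agent.Lib.PGroups.UniqueOrderP
import Cfsg.Agent.Lib.Involutions.Dihedral
import Cfsg.Agent.Lib.Base.Rank

/-!
# Normal four-groups in `2`-groups of rank at least three
-/

set_option autoImplicit false

namespace CfsgLib.Involutions

open Subgroup CfsgLib.PGroups

/-- A square root of one modulo `2 ^ n` is `±1` modulo `2 ^ (n - 1)`. -/
theorem sqrt_one_two_pow {n : ℕ} (hn : 1 ≤ n) {r : ℤ} (h : (2 : ℤ) ^ n ∣ r * r - 1) :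
    (2 : ℤ) ^ (n - 1) ∣ r - 1 ∨ (2 : ℤ) ^ (n - 1) ∣ r + 1 := by
  obtain ⟨m, rfl⟩ := Nat.exists_eq_add_of_le hn
  have h2 : (2 : ℤ) ∣ r * r - 1 := (dvd_pow_self 2 (by omega)).trans h
  rcases Int.even_or_odd r with ⟨s, rfl⟩ | ⟨s, rfl⟩
  · exfalso
    obtain ⟨c, hc⟩ := h2
    ring_nf at hc
    omega
  rcases m with _ | k
  · simp
  have h3 : (2 : ℤ) ^ k * 4 ∣ (s * (s + 1)) * 4 := by
    rw [show (2 : ℤ) ^ k * 4 = 2 ^ (1 + (k + 1)) by ring,
      show s * (s + 1) * 4 = (2 * s + 1) * (2 * s + 1) - 1 by ring]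
    exact h
  have h4 := Int.dvd_of_mul_dvd_mul_right (by norm_num) h3
  rw [show 1 + (k + 1) - 1 = k + 1 by omega]
  rcases Int.even_or_odd s with ⟨t, rfl⟩ | ⟨t, rfl⟩
  · left
    have hc : IsCoprime ((2 : ℤ) ^ k) (t + t + 1) := by
      refine IsCoprime.pow_left ?_
      exact ⟨-t, 1, by ring⟩
    obtain ⟨c, hc'⟩ := hc.dvd_of_dvd_mul_right h4
    exact ⟨c, by rw [show 2 * (t + t) + 1 - 1 = 2 * (t + t) by ring, hc']; ring⟩
  · right
    have hc : IsCoprime ((2 : ℤ) ^ k) (2 * t + 1) := by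
      refine IsCoprime.pow_left ?_
      exact ⟨-t, 1, by ring⟩
    obtain ⟨c, hc'⟩ := hc.dvd_of_dvd_mul_left h4
    exact ⟨c, by rw [show 2 * (2 * t + 1) + 1 + 1 = 2 * (2 * t + 1 + 1) by ring, hc']; ring⟩

/-- A `2`-group with an elementary abelian subgroup of order at least eight has a normal
four-group: here `z` is central and `u` is an involution whose conjugates are `u` and `u * z`. -/
theorem exists_normal_four {P : Type*} [Group P] [Finite P] (hP : IsPGroup 2 P) (E : Subgroup P)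
    (hE : Cfsg.IsElementaryAbelian 2 E) (hE8 : 8 ≤ Nat.card E) :
    ∃ z u : P, orderOf z = 2 ∧ z ∈ center P ∧ orderOf u = 2 ∧ u ≠ z ∧
      ∀ g : P, g * u * g⁻¹ = u ∨ g * u * g⁻¹ = u * z := by
  obtain ⟨hEc, hE2⟩ := CfsgLib.Base.isElementaryAbelian_iff.1 hE
  obtain ⟨A, hAn, hAab, -, hCA⟩ := exists_selfCentralizing_normal hP (⊥ : Subgroup P)
    inferInstance
  have hAc := CfsgLib.Base.isMulCommutative_subgroup_iff.1 hAab
  have hA1 : A ≠ ⊥ := by
    rintro rfl
    have htop : (⊤ : Subgroup P) ≤ (⊥ : Subgroup P) := fun g _ => by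
      rw [← hCA]; exact mem_centralizer_iff.2 fun x hx => by
        rw [mem_bot.1 hx, one_mul, mul_one]
    have := (card_le_of_le (le_top : E ≤ ⊤)).trans (card_le_of_le htop)
    rw [card_bot] at this
    omega
  obtain ⟨zc, hzc'⟩ := exists_prime_orderOf_dvd_card' 2
    (dvd_card_of_ne_bot hP (inf_center_ne_bot hP hA1))
  obtain ⟨z, hzA, hzc, hz0⟩ : ∃ z, z ∈ A ∧ z ∈ center P ∧ orderOf z = 2 :=
    ⟨(zc : P), zc.2.1, zc.2.2, by rw [Subgroup.orderOf_coe, hzc']⟩
  by_cases hcase : ∃ y ∈ A, y ^ 2 = 1 ∧ y ≠ 1 ∧ y ≠ z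
  · -- `Ω₁ A` supplies the four-group
    let Om : Subgroup P :=
      { carrier := {x | x ∈ A ∧ x ^ 2 = 1}
        mul_mem' := fun {a b} ha hb => ⟨mul_mem ha.1 hb.1,
          by rw [Commute.mul_pow (hAc a ha.1 b hb.1), ha.2, hb.2, one_mul]⟩
        one_mem' := ⟨one_mem _, one_pow _⟩
        inv_mem' := fun {a} ha => ⟨inv_mem ha.1, by rw [inv_pow, ha.2, inv_one]⟩ }
    have hOn : Om.Normal := ⟨fun x hx g => ⟨hAn.conj_mem x hx.1 g, by
      rw [conj_pow, hx.2, mul_one, mul_inv_cancel]⟩⟩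
    obtain ⟨y, hyA, hy2, hy1, hyz⟩ := hcase
    have hzn : (zpowers z).Normal := normal_of_le_center (zpowers_le.2 hzc)
    have hzO : z ∈ Om := ⟨hzA, by rw [← hz0]; exact pow_orderOf_eq_one z⟩
    have hlt : zpowers z < Om := by
      refine lt_of_le_of_ne (zpowers_le.2 hzO) fun he => ?_
      have hy : y ∈ zpowers z := he ▸ (⟨hyA, hy2⟩ : y ∈ Om)
      obtain ⟨k, rfl⟩ := hy
      rcases Int.even_or_odd' k with ⟨m, rfl | rfl⟩
      · refine hy1 ?_
        show z ^ (2 * m) = 1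
        rw [zpow_mul, show z ^ (2 : ℤ) = 1 by
          rw [zpow_two]; exact invol_mul_self hz0, one_zpow]
      · refine hyz ?_
        show z ^ (2 * m + 1) = z
        rw [zpow_add, zpow_mul, show z ^ (2 : ℤ) = 1 by
          rw [zpow_two]; exact invol_mul_self hz0, one_zpow, one_mul, zpow_one]
    obtain ⟨K, hKn, hzK, hKO, hrel, hcomm⟩ := exists_normal_index_prime hP hlt
    obtain ⟨u, huK, huz⟩ := SetLike.exists_of_lt (lt_of_le_of_ne hzK fun he => by
      rw [← he, relIndex_self] at hrel; omega)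
    have hu1 : u ≠ 1 := fun h => huz (h ▸ one_mem _)
    refine ⟨z, u, hz0, hzc, orderOf_eq_prime (hKO huK).2 hu1,
      fun h => huz (h ▸ mem_zpowers _), fun g => ?_⟩
    obtain ⟨k, hk⟩ := hcomm u huK g
    rw [commutatorElement_def] at hk
    have hg : g * u * g⁻¹ = z ^ k * u := by
      rw [show z ^ k = g * u * g⁻¹ * u⁻¹ from hk, inv_mul_cancel_right]
    rw [hg, ← (mem_center_iff.1 (zpow_mem hzc k) u)]
    rcases Int.even_or_odd' k with ⟨m, rfl | rfl⟩
    · left; rw [zpow_mul, show z ^ (2 : ℤ) = 1 by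
        rw [zpow_two]; exact invol_mul_self hz0, one_zpow, mul_one]
    · right; rw [zpow_add, zpow_mul, show z ^ (2 : ℤ) = 1 by
        rw [zpow_two]; exact invol_mul_self hz0, one_zpow, one_mul, zpow_one]
  -- otherwise `A` is cyclic and self-centralising
  push Not at hcase
  have huniq : ∀ y ∈ A, y ^ 2 = 1 → y = 1 ∨ y = z := fun y hy h2 => by
    by_cases h : y = 1
    · exact Or.inl h
    · exact Or.inr (hcase y hy h2 h)
  have hAcyc : IsCyclic A := by
    refine isCyclic_of_abelian_of_unique (p := 2) (hP.to_subgroup A) (z := ⟨z, hzA⟩) ?_ ?_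
    · intro y hy
      rcases huniq y y.2 (congrArg Subtype.val hy) with h | h
      · rw [show y = 1 from Subtype.ext h]; exact one_mem _
      · rw [show y = ⟨z, hzA⟩ from Subtype.ext h]; exact mem_zpowers _
    · exact Subtype.ext (by rw [← hz0]; exact pow_orderOf_eq_one z)
  obtain ⟨a, rfl⟩ : ∃ a : P, zpowers a = A := by
    obtain ⟨⟨a, ha⟩, hgen⟩ := hAcyc.exists_generator
    refine ⟨a, le_antisymm (zpowers_le.2 ha) fun x hx => ?_⟩
    obtain ⟨k, hk⟩ := hgen ⟨x, hx⟩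
    exact ⟨k, congrArg Subtype.val hk⟩
  obtain ⟨n, hn⟩ := IsPGroup.iff_orderOf.1 hP a
  have hn1 : 1 ≤ n := by
    rcases n with _ | n
    · rw [pow_zero, orderOf_eq_one_iff] at hn
      subst hn
      exact absurd (mem_bot.1 (show z ∈ (⊥ : Subgroup P) by simpa using hzA))
        (invol_ne_one hz0)
    · omega
  have hw : a ^ (2 ^ (n - 1) : ℕ) = z := by
    refine (huniq _ (pow_mem (mem_zpowers a) _) ?_).resolve_left fun h => ?_
    · rw [← pow_mul, ← pow_succ, show n - 1 + 1 = n by omega, ← hn, pow_orderOf_eq_one]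
    · have := orderOf_dvd_of_pow_eq_one h
      rw [hn, Nat.pow_dvd_pow_iff_le_right (by norm_num)] at this
      omega
  have hconj : ∀ g : P, ∃ r : ℤ, g * a * g⁻¹ = a ^ r := fun g => by
    obtain ⟨r, hr⟩ := hAn.conj_mem a (mem_zpowers a) g
    exact ⟨r, hr.symm⟩
  have hCa : ∀ g : P, g * a * g⁻¹ = a → g ∈ zpowers a := fun g hg => by
    rw [← hCA, mem_centralizer_iff]
    rintro _ ⟨k, rfl⟩
    refine (Commute.zpow_left ?_ k).eq
    show a * g = g * a
    calc a * g = g * a * g⁻¹ * g := by rw [hg]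
      _ = g * a := by rw [inv_mul_cancel_right]
  have hzz : z * z = 1 := invol_mul_self hz0
  have hzk : ∀ k : ℤ, z ^ (2 * k) = 1 := fun k => by
    rw [zpow_mul, zpow_two, hzz, one_zpow]
  -- the possible actions of an element of `E`
  have hact : ∀ e ∈ E, e * a * e⁻¹ = a ∨ e * a * e⁻¹ = a⁻¹ ∨ e * a * e⁻¹ = a * z ∨
      e * a * e⁻¹ = a⁻¹ * z := by
    intro e he
    obtain ⟨r, hr⟩ := hconj e
    have hee : e * (e * a * e⁻¹) * e⁻¹ = a := by
      rw [show e * (e * a * e⁻¹) * e⁻¹ = e ^ 2 * a * (e ^ 2)⁻¹ by rw [sq]; group, hE2 e he,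
        one_mul, inv_one, mul_one]
    rw [hr, ← conj_zpow, hr, ← zpow_mul] at hee
    have hdvd : (2 : ℤ) ^ n ∣ r * r - 1 := by
      have h1 : a ^ (r * r - 1) = 1 := by
        rw [zpow_sub, hee, zpow_one, mul_inv_cancel]
      have := orderOf_dvd_iff_zpow_eq_one.2 h1
      rw [hn] at this
      exact_mod_cast this
    have hwz : ∀ k : ℤ, a ^ ((2 : ℤ) ^ (n - 1) * k) = z ^ k := fun k => by
      rw [zpow_mul, show ((2 : ℤ) ^ (n - 1)) = ((2 ^ (n - 1) : ℕ) : ℤ) by push_cast; rfl,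
        zpow_natCast, hw]
    rcases sqrt_one_two_pow hn1 hdvd with ⟨k, hk⟩ | ⟨k, hk⟩
    · rw [hr, show r = 1 + (2 : ℤ) ^ (n - 1) * k by linarith, zpow_add, zpow_one, hwz]
      rcases Int.even_or_odd' k with ⟨m, rfl | rfl⟩
      · left; rw [hzk, mul_one]
      · right; right; left; rw [zpow_add, hzk, one_mul, zpow_one]
    · rw [hr, show r = -1 + (2 : ℤ) ^ (n - 1) * k by linarith, zpow_add, zpow_neg_one, hwz]
      rcases Int.even_or_odd' k with ⟨m, rfl | rfl⟩
      · right; left; rw [hzk, mul_one]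
      · right; right; right; rw [zpow_add, hzk, one_mul, zpow_one]
  -- one of them acts as `a ↦ a * z`
  classical
  have : Fintype E := Fintype.ofFinite E
  have hfib : ∀ y : P, (Finset.univ.filter fun e : E => (e : P) * a * (e : P)⁻¹ = y).card ≤ 2 := by
    intro y
    by_contra hlt
    obtain ⟨e1, e2, e3, h1, h2, h3, h12, h13, h23⟩ := Finset.two_lt_card_iff.1 (not_le.1 hlt)
    simp only [Finset.mem_filter, Finset.mem_univ, true_and] at h1 h2 h3
    have hd : ∀ e e' : E, (e : P) * a * (e : P)⁻¹ = y → (e' : P) * a * (e' : P)⁻¹ = y → e ≠ e' →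
        (e : P)⁻¹ * e' = z := by
      intro e e' he he' hne
      have hq : (e : P)⁻¹ * e' ∈ zpowers a := by
        refine hCa _ ?_
        rw [show (e : P)⁻¹ * e' * a * ((e : P)⁻¹ * e')⁻¹ = (e : P)⁻¹ * (e' * a * (e' : P)⁻¹) * e by
          group, he', ← he]
        group
      refine (huniq _ hq (hE2 _ (mul_mem (inv_mem e.2) e'.2))).resolve_left fun h => hne ?_
      exact Subtype.ext (inv_mul_eq_one.1 h)
    exact h23 (Subtype.ext (mul_left_cancel ((hd e1 e2 h1 h2 h12).trans (hd e1 e3 h1 h3 h13).symm)))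
  have himg : 8 ≤ 2 * (Finset.univ.image fun e : E => (e : P) * a * (e : P)⁻¹).card := by
    calc 8 ≤ Nat.card E := hE8
      _ = (Finset.univ : Finset E).card := by rw [Nat.card_eq_fintype_card, Finset.card_univ]
      _ ≤ _ := Finset.card_le_mul_card_image _ _ fun y _ => hfib y
  obtain ⟨e, heE, hea⟩ : ∃ e ∈ E, e * a * e⁻¹ = a * z := by
    by_contra hno
    push Not at hno
    have hsub : (Finset.univ.image fun e : E => (e : P) * a * (e : P)⁻¹) ⊆
        ({a, a⁻¹, a⁻¹ * z} : Finset P) := by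
      intro y hy
      obtain ⟨e, -, rfl⟩ := Finset.mem_image.1 hy
      simp only [Finset.mem_insert, Finset.mem_singleton]
      rcases hact e e.2 with h | h | h | h
      · exact Or.inl h
      · exact Or.inr (Or.inl h)
      · exact absurd h (hno e e.2)
      · exact Or.inr (Or.inr h)
    have := (Finset.card_le_card hsub).trans Finset.card_le_three
    omega
  have hn3 : 3 ≤ n := by
    by_contra h3
    have h4 : a ^ 4 = 1 := orderOf_dvd_iff_pow_eq_one.1
      (hn ▸ (Nat.pow_dvd_pow 2 (by omega : n ≤ 2)))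
    have hsub : (Finset.univ.image fun e : E => (e : P) * a * (e : P)⁻¹) ⊆
        ({a, a ^ 2, a ^ 3} : Finset P) := by
      intro y hy
      obtain ⟨e, -, rfl⟩ := Finset.mem_image.1 hy
      obtain ⟨r, hr⟩ := hconj e
      simp only [Finset.mem_insert, Finset.mem_singleton]
      have hr4 : a ^ r = a ^ (r % 4) := by
        conv_lhs => rw [← Int.mul_ediv_add_emod r 4, zpow_add, zpow_mul,
          show a ^ (4 : ℤ) = 1 from by exact_mod_cast h4, one_zpow, one_mul]
      have h0 : r % 4 ≠ 0 := fun h0 => by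
        rw [h0, zpow_zero] at hr4
        rw [hr4, mul_inv_eq_one, mul_eq_left] at hr
        have := orderOf_eq_one_iff.2 hr
        rw [hn] at this
        have := Nat.one_lt_two_pow (n := n) (by omega)
        omega
      rw [hr, hr4]
      have : r % 4 = 1 ∨ r % 4 = 2 ∨ r % 4 = 3 := by omega
      rcases this with h | h | h <;> rw [h]
      · exact Or.inl (zpow_one a)
      · exact Or.inr (Or.inl (by exact_mod_cast rfl))
      · exact Or.inr (Or.inr (by exact_mod_cast rfl))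
    have := (Finset.card_le_card hsub).trans Finset.card_le_three
    omega
  have he2 : e ^ 2 = 1 := hE2 e heE
  have he1 : e ≠ 1 := by
    rintro rfl
    rw [one_mul, inv_one, mul_one, left_eq_mul] at hea
    exact invol_ne_one hz0 hea
  have hez : e ≠ z := by
    rintro rfl
    rw [← mem_center_iff.1 hzc a, mul_inv_cancel_right, left_eq_mul] at hea
    exact invol_ne_one hz0 hea
  refine ⟨z, e, hz0, hzc, orderOf_eq_prime he2 he1, hez, fun g => ?_⟩
  -- the conjugate has the same action, so lies in `A * e`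
  obtain ⟨j, hj⟩ := hconj g⁻¹
  rw [inv_inv] at hj
  have hjodd : Odd j := by
    rcases Int.even_or_odd' j with ⟨m, rfl | rfl⟩
    · exfalso
      have h1 : (g⁻¹ * a * g) ^ (2 ^ (n - 1) : ℕ) = 1 := by
        rw [hj, ← zpow_natCast, ← zpow_mul, show (2 * m) * ((2 ^ (n - 1) : ℕ) : ℤ)
          = ((2 ^ (n - 1) : ℕ) : ℤ) * (2 * m) by ring, zpow_mul, zpow_natCast, hw, hzk]
      have h2 := orderOf_dvd_of_pow_eq_one h1
      have h5 := orderOf_conj_eq g⁻¹ a
      rw [inv_inv] at h5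
      rw [h5, hn, Nat.pow_dvd_pow_iff_le_right (by norm_num)] at h2
      omega
    · exact ⟨m, rfl⟩
  have hsame : g * e * g⁻¹ * a * (g * e * g⁻¹)⁻¹ = a * z := by
    obtain ⟨m, rfl⟩ := hjodd
    calc g * e * g⁻¹ * a * (g * e * g⁻¹)⁻¹ = g * (e * (g⁻¹ * a * g) * e⁻¹) * g⁻¹ := by group
      _ = g * ((e * a * e⁻¹) ^ (2 * m + 1)) * g⁻¹ := by rw [hj, conj_zpow]
      _ = g * (a ^ (2 * m + 1) * z) * g⁻¹ := by
          rw [hea, Commute.mul_zpow (mem_center_iff.1 hzc a), zpow_add z, hzk, one_mul, zpow_one]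
      _ = g * (g⁻¹ * a * g) * (z * g⁻¹) := by rw [hj]; group
      _ = _ := by rw [← mem_center_iff.1 hzc g⁻¹]; group
  obtain ⟨i, hi⟩ : ∃ i : ℤ, a ^ i = g * e * g⁻¹ * e⁻¹ := by
    refine hCa _ ?_
    have he' : e⁻¹ * a * e = a * z := by
      have h1 : e⁻¹ = e := by rw [inv_eq_iff_mul_eq_one, ← sq, he2]
      nth_rw 2 [← h1]
      rw [h1] at hea ⊢
      exact hea
    calc g * e * g⁻¹ * e⁻¹ * a * (g * e * g⁻¹ * e⁻¹)⁻¹
        = g * e * g⁻¹ * (e⁻¹ * a * e) * (g * e * g⁻¹)⁻¹ := by group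
      _ = (g * e * g⁻¹ * a * (g * e * g⁻¹)⁻¹) * (g * e * g⁻¹ * z * (g * e * g⁻¹)⁻¹) := by
          rw [he']; group
      _ = a * z * z := by rw [hsame, mem_center_iff.1 hzc (g * e * g⁻¹), mul_inv_cancel_right]
      _ = a := by rw [mul_assoc, hzz, mul_one]
  have hge : g * e * g⁻¹ = a ^ i * e := by rw [hi, inv_mul_cancel_right]
  have hsq : a ^ i * (a * z) ^ i = 1 := by
    have h : (g * e * g⁻¹) ^ 2 = 1 := by rw [conj_pow, he2, mul_one, mul_inv_cancel]
    rw [hge, sq] at h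
    rw [← hea, conj_zpow]
    calc a ^ i * (e * a ^ i * e⁻¹) = a ^ i * e * (a ^ i * e) * (e ^ 2)⁻¹ := by rw [sq]; group
      _ = 1 := by rw [h, he2, inv_one, mul_one]
  rw [Commute.mul_zpow (mem_center_iff.1 hzc a), ← mul_assoc, ← zpow_add] at hsq
  rcases Int.even_or_odd' i with ⟨m, rfl | rfl⟩
  · rw [hzk, mul_one] at hsq
    have h2 : (a ^ (2 * m)) ^ 2 = 1 := by
      rw [sq, ← zpow_add]; exact hsq
    rcases huniq _ (zpow_mem (mem_zpowers a) _) h2 with h | h
    · left; rw [hge, h, one_mul]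
    · right; rw [hge, h, mem_center_iff.1 hzc e]
  · exfalso
    have h4 : a ^ ((2 * m + 1) * 4) = 1 := by
      rw [show (2 * m + 1) * 4 = (2 * m + 1 + (2 * m + 1)) * 2 by ring, zpow_mul,
        eq_inv_of_mul_eq_one_left hsq, inv_zpow, ← zpow_mul, show (2 * m + 1) * 2 = 2 * (2 * m + 1)
        by ring, hzk, inv_one]
    have h5 := orderOf_dvd_iff_zpow_eq_one.2 h4
    rw [hn, show (2 * m + 1) * 4 = 4 * (2 * m + 1) by ring] at h5
    have h8 : (2 : ℤ) ^ 3 ∣ 4 * (2 * m + 1) :=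
      (pow_dvd_pow 2 hn3).trans (by exact_mod_cast h5)
    obtain ⟨c, hc⟩ := h8
    omega

end CfsgLib.Involutions
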