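import Mathlib
import Cfsg.Agent.Lib.Involutions.Isolated

/-!
# Groups with a Klein four Sylow `2`-subgroup
-/

set_option autoImplicit false

namespace CfsgLib.Involutions

open Subgroup

variable {G : Type*} [Group G]

theorem klein_sq {P : Subgroup G} (hP : IsKleinFour P) {a : G} (ha : a ∈ P) : a * a = 1 :=
  congrArg Subtype.val (IsKleinFour.mul_self (⟨a, ha⟩ : P))

theorem klein_comm {P : Subgroup G} (hP : IsKleinFour P) {a b : G} (ha : a ∈ P) (hb : b ∈ P) :
    a * b = b * a := by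
  have h := klein_sq hP (P.mul_mem ha hb)
  have hb' := klein_sq hP hb
  have ha' := klein_sq hP ha
  calc a * b = a * ((a * b) * (a * b)) * b := by rw [h, mul_one]
    _ = (a * a) * (b * a) * (b * b) := by group
    _ = b * a := by rw [ha', hb', one_mul, mul_one]

theorem klein_eq_mul {P : Subgroup G} (hP : IsKleinFour P) {a b c : G} (ha : a ∈ P) (hb : b ∈ P)
    (hc : c ∈ P) (ha1 : a ≠ 1) (hb1 : b ≠ 1) (hab : a ≠ b) (hc1 : c ≠ 1) (hca : c ≠ a)
    (hcb : c ≠ b) : c = a * b :=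
  congrArg Subtype.val (IsKleinFour.eq_mul_of_ne_all (x := (⟨a, ha⟩ : P)) (y := ⟨b, hb⟩)
    (z := ⟨c, hc⟩) (fun h => ha1 (congrArg Subtype.val h)) (fun h => hb1 (congrArg Subtype.val h))
    (fun h => hab (congrArg Subtype.val h)) (fun h => hc1 (congrArg Subtype.val h))
    (fun h => hca (congrArg Subtype.val h)) (fun h => hcb (congrArg Subtype.val h)))

/-- The automorphism induced by a normalising element of a Klein four Sylow subgroup never
interchanges two elements. -/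
theorem not_swap [Finite G] (P : Sylow 2 G) (hP : IsKleinFour (P : Subgroup G)) {n : G}
    (hn : n ∈ normalizer ((P : Subgroup G) : Set G)) {t u : G} (_ht : t ∈ P)
    (h1 : n * t * n⁻¹ = u) (h2 : n * u * n⁻¹ = t) : u = t := by
  obtain ⟨a, m, hm2, hm⟩ := Nat.exists_eq_two_pow_mul_odd (n := orderOf n)
    (Nat.pos_iff_ne_zero.1 (orderOf_pos n))
  have hnm : n ^ m ∈ (P : Subgroup G) := by
    have hQ : IsPGroup 2 (zpowers (n ^ m)) := by
      rw [IsPGroup.iff_card]
      refine ⟨a, ?_⟩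
      rw [Nat.card_zpowers, orderOf_pow' _ (by rintro rfl; simp at hm2), hm,
        Nat.gcd_eq_right (dvd_mul_left _ _), Nat.mul_div_cancel _ hm2.pos]
    have hle : zpowers (n ^ m) ≤ normalizer ((P : Subgroup G) : Set G) :=
      zpowers_le.2 (pow_mem hn m)
    have hsup := IsPGroup.to_sup_of_normal_left' P.isPGroup' hQ hle
    have := P.is_maximal' hsup le_sup_left
    exact this ▸ (le_sup_right : zpowers (n ^ m) ≤ _) (mem_zpowers _)
  have heven : ∀ j : ℕ, n ^ (2 * j) * t * (n ^ (2 * j))⁻¹ = t := by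
    intro j
    induction j with
    | zero => simp
    | succ j ih =>
      rw [show 2 * (j + 1) = 1 + 1 + 2 * j by ring, pow_add, pow_add, pow_one]
      calc n * n * n ^ (2 * j) * t * (n * n * n ^ (2 * j))⁻¹
          = n * (n * (n ^ (2 * j) * t * (n ^ (2 * j))⁻¹) * n⁻¹) * n⁻¹ := by group
        _ = t := by rw [ih, h1, h2]
  obtain ⟨j, rfl⟩ := hm2
  have e : n ^ (2 * j + 1) * t * (n ^ (2 * j + 1))⁻¹ = u := by
    rw [pow_succ']
    calc n * n ^ (2 * j) * t * (n * n ^ (2 * j))⁻¹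
        = n * (n ^ (2 * j) * t * (n ^ (2 * j))⁻¹) * n⁻¹ := by group
      _ = u := by rw [heven, h1]
  rw [← e, klein_comm hP hnm _ht, mul_inv_cancel_right]

theorem orderOf_eq_two_of_mem {P : Subgroup G} (hP : IsKleinFour P) {a : G} (ha : a ∈ P)
    (h1 : a ≠ 1) : orderOf a = 2 := invol_iff.2 ⟨klein_sq hP ha, h1⟩

/-- Either no involution of a Klein four Sylow subgroup is conjugate to another one, or all
involutions are conjugate. -/
theorem klein_fusion_dichotomy [Finite G] (P : Sylow 2 G) (hP : IsKleinFour (P : Subgroup G)) :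
    (∀ t ∈ P, ∀ u ∈ P, IsConj t u → t = u) ∨
      (∀ t ∈ P, ∀ u ∈ P, t ≠ 1 → u ≠ 1 → IsConj t u) := by
  by_cases h : ∀ t ∈ P, ∀ u ∈ P, IsConj t u → t = u
  · exact Or.inl h
  push Not at h
  obtain ⟨t, ht, u, hu, hc, hne⟩ := h
  obtain ⟨g, hg⟩ := isConj_iff.1 hc
  have hcen : ∀ v ∈ P, v ∈ centralizer ((P : Subgroup G) : Set G) := fun v hv w hw =>
    klein_comm hP hw hv
  obtain ⟨n, hn, he⟩ := P.conj_eq_normalizer_conj_of_mem_centralizer t g⁻¹ (hcen t ht)
    (by simpa [hg] using hcen u hu)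
  rw [inv_inv, hg] at he
  have hn' : n⁻¹ ∈ normalizer ((P : Subgroup G) : Set G) := inv_mem hn
  have h1 : n⁻¹ * t * n⁻¹⁻¹ = u := by rw [inv_inv, ← he]
  have ht1 : t ≠ 1 := by rintro rfl; exact hne (by simpa using h1)
  have hu1 : u ≠ 1 := by
    rintro rfl
    exact ht1 (conj_eq_one_iff.1 h1)
  have hw : n⁻¹ * u * n⁻¹⁻¹ ∈ (P : Subgroup G) := (mem_normalizer_iff.1 hn' u).1 hu
  have hw1 : n⁻¹ * u * n⁻¹⁻¹ ≠ 1 := fun h => hu1 (conj_eq_one_iff.1 h)
  have hwu : n⁻¹ * u * n⁻¹⁻¹ ≠ u := fun h => hne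
    (mul_left_cancel (mul_right_cancel (h1.trans h.symm)))
  have hwt : n⁻¹ * u * n⁻¹⁻¹ ≠ t := fun h => hne (not_swap P hP hn' ht h1 h).symm
  have hcu : IsConj t (n⁻¹ * u * n⁻¹⁻¹) := hc.trans (isConj_iff.2 ⟨n⁻¹, rfl⟩)
  have key : ∀ v ∈ P, v ≠ 1 → IsConj t v := by
    intro v hv hv1
    by_cases hvt : v = t
    · rw [hvt]
    by_cases hvu : v = u
    · rw [hvu]; exact hc
    rw [klein_eq_mul hP ht hu hv ht1 hu1 hne hv1 hvt hvu,
      ← klein_eq_mul hP ht hu hw ht1 hu1 hne hw1 hwt hwu]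
    exact hcu
  exact Or.inr fun a ha b hb ha1 hb1 => (key a ha ha1).symm.trans (key b hb hb1)

/-- The conjugacy classes of involutions are represented in a Sylow subgroup. -/
theorem card_involution_classes [Finite G] (P : Sylow 2 G) (hP : IsKleinFour (P : Subgroup G)) :
    (Nat.card {C : ConjClasses G // ∃ t : G, orderOf t = 2 ∧ ConjClasses.mk t = C} = 1 ∧
      ∀ t ∈ P, ∀ u ∈ P, t ≠ 1 → u ≠ 1 → IsConj t u) ∨
    (Nat.card {C : ConjClasses G // ∃ t : G, orderOf t = 2 ∧ ConjClasses.mk t = C} = 3 ∧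
      ∀ t ∈ P, ∀ u ∈ P, IsConj t u → t = u) := by
  classical
  let f : {a : (P : Subgroup G) // a ≠ 1} →
      {C : ConjClasses G // ∃ t : G, orderOf t = 2 ∧ ConjClasses.mk t = C} := fun a =>
    ⟨ConjClasses.mk (a.1 : G), a.1, orderOf_eq_two_of_mem hP a.1.2
      (fun h => a.2 (Subtype.ext h)), rfl⟩
  have hsurj : Function.Surjective f := by
    rintro ⟨C, t, ht, rfl⟩
    obtain ⟨g, hg⟩ := exists_conj_mem_sylow_one P ht
    refine ⟨⟨⟨_, hg⟩, fun h => invol_ne_one (conj_invol g ht) (congrArg Subtype.val h)⟩,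
      Subtype.ext (ConjClasses.mk_eq_mk_iff_isConj.2 (isConj_iff.2 ⟨g⁻¹, by group⟩))⟩
  have h4 : Nat.card {a : (P : Subgroup G) // a ≠ 1} = 3 := by
    have : Fintype (P : Subgroup G) := Fintype.ofFinite _
    rw [Nat.card_eq_fintype_card, Fintype.card_subtype_compl, Fintype.card_subtype_eq,
      ← Nat.card_eq_fintype_card, IsKleinFour.card_four]
  rcases klein_fusion_dichotomy P hP with h | h
  · refine Or.inr ⟨?_, h⟩
    rw [← Nat.card_congr (Equiv.ofBijective f ⟨fun a b hab => ?_, hsurj⟩), h4]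
    exact Subtype.ext (Subtype.ext (h _ a.1.2 _ b.1.2
      (ConjClasses.mk_eq_mk_iff_isConj.1 (Subtype.ext_iff.1 hab))))
  · refine Or.inl ⟨?_, h⟩
    obtain ⟨a⟩ : Nonempty {a : (P : Subgroup G) // a ≠ 1} := by
      have := h4
      exact (Nat.card_pos_iff.1 (by omega)).1
    refine Nat.card_eq_one_iff_exists.2 ⟨f a, fun C => ?_⟩
    obtain ⟨b, rfl⟩ := hsurj C
    exact Subtype.ext (ConjClasses.mk_eq_mk_iff_isConj.2 (h _ b.1.2 _ a.1.2
      (fun hh => b.2 (Subtype.ext hh)) (fun hh => a.2 (Subtype.ext hh))))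

end CfsgLib.Involutions
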