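import Mathlib
import Cfsg.Prelude.Def_Involutions
import Cfsg.Agent.Lib.Involutions.Basic
import Cfsg.Agent.Lib.Involutions.Isolated

/-!
# Strongly embedded subgroups
-/

set_option autoImplicit false

namespace CfsgLib.Involutions

open Subgroup

variable {G : Type*} [Group G]

theorem mem_conj_map {g x : G} {H : Subgroup G} :
    x ∈ H.map (MulAut.conj g).toMonoidHom ↔ g⁻¹ * x * g ∈ H := by
  rw [Subgroup.mem_map_equiv, MulAut.conj_symm_apply]

theorem map_conj_mem {g x : G} {H : Subgroup G} (hx : x ∈ H) :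
    g * x * g⁻¹ ∈ H.map (MulAut.conj g).toMonoidHom := ⟨x, hx, rfl⟩

theorem even_card_iff [Finite G] (K : Subgroup G) :
    Even (Nat.card K) ↔ ∃ t ∈ K, orderOf t = 2 := by
  constructor
  · intro h
    obtain ⟨t, ht⟩ := exists_prime_orderOf_dvd_card' 2 (even_iff_two_dvd.1 h)
    exact ⟨t, t.2, by rwa [orderOf_coe]⟩
  · rintro ⟨t, htK, ht⟩
    rw [even_iff_two_dvd, ← ht]
    exact Subgroup.orderOf_dvd_natCard K htK

theorem odd_card_iff [Finite G] (K : Subgroup G) :
    Odd (Nat.card K) ↔ ∀ t ∈ K, orderOf t ≠ 2 := by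
  rw [← Nat.not_even_iff_odd, even_card_iff]
  push Not
  rfl

namespace SE

variable {H : Subgroup G}

theorem mem_of_conj [Finite G] (hH : Cfsg.IsStronglyEmbedded H) {t g : G} (ht : orderOf t = 2)
    (htH : t ∈ H) (hg : g * t * g⁻¹ ∈ H) : g ∈ H := by
  by_contra h
  exact (odd_card_iff _).1 (hH.2.2 g h) (g * t * g⁻¹) ⟨hg, map_conj_mem htH⟩
    (conj_invol g ht)

theorem centralizer_le [Finite G] (hH : Cfsg.IsStronglyEmbedded H) {t : G} (ht : orderOf t = 2)
    (htH : t ∈ H) : centralizer ({t} : Set G) ≤ H := fun c hc =>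
  mem_of_conj hH ht htH (by rw [← (mem_centralizer_singleton.1 hc).eq, mul_inv_cancel_right]; exact htH)

theorem normalizer_le [Finite G] (hH : Cfsg.IsStronglyEmbedded H) {X : Subgroup G} (hX : X ≤ H)
    (he : Even (Nat.card X)) : normalizer (X : Set G) ≤ H := by
  intro g hg
  obtain ⟨t, htX, ht⟩ := (even_card_iff X).1 he
  exact mem_of_conj hH ht (hX htX) (hX ((mem_normalizer_iff.1 hg t).1 htX))

theorem exists_invol [Finite G] (hH : Cfsg.IsStronglyEmbedded H) : ∃ t ∈ H, orderOf t = 2 :=
  (even_card_iff H).1 hH.2.1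

/-- An involution outside `H` and an involution inside have product of odd order. -/
theorem odd_orderOf_mul [Finite G] (hH : Cfsg.IsStronglyEmbedded H) {t u : G} (ht : orderOf t = 2)
    (htH : t ∈ H) (hu : orderOf u = 2) (huH : u ∉ H) : Odd (orderOf (t * u)) := by
  by_contra hno
  rw [Nat.not_odd_iff_even] at hno
  have hw := half_invol (x := t) (y := u) hno
  have hwH : (t * u) ^ (orderOf (t * u) / 2) ∈ H :=
    centralizer_le hH ht htH (mem_centralizer_singleton.2 (half_comm_left ht hu hno).symm)
  exact huH (centralizer_le hH hw hwH (mem_centralizer_singleton.2 (half_comm_right ht hu hno)))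

theorem exists_invol_not_mem [Finite G] (hH : Cfsg.IsStronglyEmbedded H) :
    ∃ u, u ∉ H ∧ orderOf u = 2 := by
  obtain ⟨t, htH, ht⟩ := exists_invol hH
  obtain ⟨g, -, hg⟩ := SetLike.exists_of_lt hH.1.lt_top
  exact ⟨g * t * g⁻¹, fun h => hg (mem_of_conj hH ht htH h), conj_invol g ht⟩

theorem isConj [Finite G] (hH : Cfsg.IsStronglyEmbedded H) {a b : G} (ha : orderOf a = 2)
    (hb : orderOf b = 2) : IsConj a b := by
  obtain ⟨u, huH, hu⟩ := exists_invol_not_mem hH
  have key : ∀ t : G, orderOf t = 2 → IsConj t u := by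
    intro t ht
    obtain ⟨s, hsH, hs⟩ := exists_invol hH
    by_cases htH : t ∈ H
    · exact isConj_of_odd_prod ht hu (odd_orderOf_mul hH ht htH hu huH)
    · exact (isConj_of_odd_prod hs ht (odd_orderOf_mul hH hs hsH ht htH)).symm.trans
        (isConj_of_odd_prod hs hu (odd_orderOf_mul hH hs hsH hu huH))
  exact (key a ha).trans (key b hb).symm

end SE

/-- The general normaliser criterion behind strong embedding: if `Φ` is inherited by overgroups
and by conjugates, and normalisers of the `p`-subgroups of `H` satisfying `Φ` lie in `H`, then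
no such subgroup lies in `H` and in a different conjugate of `H`. -/
theorem not_le_inf_conj_of_normalizer_le [Finite G] {p : ℕ} [Fact p.Prime] (H : Subgroup G)
    (Φ : Subgroup G → Prop) (hmono : ∀ D E : Subgroup G, D ≤ E → Φ D → Φ E)
    (hN : ∀ D : Subgroup G, D ≤ H → IsPGroup p D → Φ D → normalizer (D : Set G) ≤ H)
    {g : G} (hg : g ∉ H) (D : Subgroup G) (hD : IsPGroup p D)
    (hDle : D ≤ H ⊓ H.map (MulAut.conj g).toMonoidHom) (hΦ : Φ D) : False := by
  induction D using WellFoundedGT.induction with
  | ind D ih =>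
    obtain ⟨R, hR⟩ := (hD.comap_subtype (K := H)).exists_le_sylow
    have hRp : IsPGroup p ((R : Subgroup H).map H.subtype) := R.2.map _
    have hDR : D ≤ (R : Subgroup H).map H.subtype :=
      fun d hd => ⟨⟨d, (hDle hd).1⟩, hR hd, rfl⟩
    -- a Sylow subgroup of the conjugate containing `D`
    let D' : Subgroup G := D.map (MulAut.conj g⁻¹).toMonoidHom
    have hD'H : D' ≤ H := by
      rintro _ ⟨d, hd, rfl⟩
      have h := mem_conj_map.1 (hDle hd).2
      simpa using h
    have hD'p : IsPGroup p D' := hD.map _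
    obtain ⟨R', hR'⟩ := (hD'p.comap_subtype (K := H)).exists_le_sylow
    have hR'p : IsPGroup p (((R' : Subgroup H).map H.subtype).map (MulAut.conj g).toMonoidHom) :=
      (R'.2.map _).map _
    have hDR' : D ≤ ((R' : Subgroup H).map H.subtype).map (MulAut.conj g).toMonoidHom := by
      intro d hd
      have hd' : g⁻¹ * d * g ∈ D' := ⟨d, hd, by simp⟩
      exact mem_conj_map.2 ⟨⟨_, hD'H hd'⟩, hR' hd', rfl⟩
    rcases hDR'.lt_or_eq with hlt | heq
    · -- grow `D` inside the conjugate
      obtain ⟨E, hDE, hEle⟩ : ∃ E : Subgroup G, D < E ∧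
          E ≤ ((R' : Subgroup H).map H.subtype).map (MulAut.conj g).toMonoidHom ⊓
            normalizer (D : Set G) := by
        refine ⟨_, ?_, le_rfl⟩
        refine lt_of_le_of_ne (le_inf hDR' le_normalizer) fun he => ?_
        have hnil : Group.IsNilpotent
            (((R' : Subgroup H).map H.subtype).map (MulAut.conj g).toMonoidHom) := hR'p.isNilpotent
        have hlt' : D.subgroupOf (((R' : Subgroup H).map H.subtype).map (MulAut.conj g).toMonoidHom)
            < ⊤ := lt_top_iff_ne_top.2 fun h => hlt.ne (le_antisymm hDR' (subgroupOf_eq_top.1 h))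
        have h1 := Group.normalizerCondition_of_isNilpotent (h := hnil) _ hlt'
        rw [← subgroupOf_normalizer_eq hDR'] at h1
        refine h1.not_ge fun x hx => ?_
        show (x : G) ∈ D
        rw [he]
        exact ⟨x.2, hx⟩
      refine ih E hDE (hR'p.to_le (hEle.trans inf_le_left)) (le_inf ?_ ?_) (hmono _ _ hDE.le hΦ)
      · exact hEle.trans (inf_le_right.trans (hN D (fun d hd => (hDle hd).1) hD hΦ))
      · exact hEle.trans (inf_le_left.trans (map_mono (map_subtype_le _)))
    · -- `D` is a conjugate of a Sylow subgroup of `H`, hence one of them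
      have hsub : D.comap H.subtype = (R : Subgroup H) := by
        refine le_antisymm hR ?_
        have hcardD : Nat.card (D.comap H.subtype) = Nat.card R' := by
          rw [show Nat.card (D.comap H.subtype) = Nat.card D from
            Nat.card_congr (subgroupOfEquivOfLe (hDle.trans inf_le_left)).toEquiv, heq]
          rw [← Nat.card_congr (Subgroup.equivMapOfInjective _ _ (MulAut.conj g).injective).toEquiv,
            ← Nat.card_congr (Subgroup.equivMapOfInjective _ _ H.subtype_injective).toEquiv]
        refine (Subgroup.eq_of_le_of_card_ge hR ?_).ge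
        rw [hcardD, R.card_eq_multiplicity, R'.card_eq_multiplicity]
      obtain ⟨h, hh⟩ := MulAction.exists_smul_eq H R R'
      apply hg
      have hmem : g * (h : G) ∈ normalizer (D : Set G) := by
        rw [mem_normalizer_iff_map_conj_eq]
        refine Subgroup.eq_of_le_of_card_ge ?_
          (Nat.card_congr (Subgroup.equivMapOfInjective D _ (MulAut.conj _).injective).toEquiv).le
        rintro _ ⟨d, hd, rfl⟩
        have hdR : (⟨d, (hDle hd).1⟩ : H) ∈ R := hR hd
        rw [heq]
        refine mem_conj_map.2 ?_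
        refine ⟨h * ⟨d, (hDle hd).1⟩ * h⁻¹, ?_, ?_⟩
        · rw [← hh]
          refine mem_smul_sylow_iff'.2 ?_
          rwa [show h⁻¹ * (h * ⟨d, (hDle hd).1⟩ * h⁻¹) * h = ⟨d, (hDle hd).1⟩ by group]
        · simp [mul_assoc]
      have := hN D (fun d hd => (hDle hd).1) hD hΦ hmem
      exact (H.mul_mem_cancel_right h.2).1 this

end CfsgLib.Involutions
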