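import Mathlib
import Cfsg.Agent.Lib.Involutions.StrongEmb

/-!
# A group with a strongly embedded subgroup acting on the cosets
-/

set_option autoImplicit false

namespace CfsgLib.Involutions

namespace SE

variable {G : Type*} [Group G] [Finite G] {H : Subgroup G}

omit [Finite G] in
theorem smul_mk_eq_iff {t g : G} : t • (g : G ⧸ H) = g ↔ g⁻¹ * t * g ∈ H := by
  rw [MulAction.Quotient.smul_mk, QuotientGroup.eq, smul_eq_mul, mul_inv_rev]
  constructor <;> intro h <;> simpa [mul_assoc] using H.inv_mem h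

theorem eq_of_fixed (hH : Cfsg.IsStronglyEmbedded H) {i : G} (hi : orderOf i = 2) {x y : G ⧸ H}
    (hx : i • x = x) (hy : i • y = y) : x = y := by
  obtain ⟨a, rfl⟩ := QuotientGroup.mk_surjective x
  obtain ⟨b, rfl⟩ := QuotientGroup.mk_surjective y
  have ha := smul_mk_eq_iff.1 hx
  have hb := smul_mk_eq_iff.1 hy
  have hord : orderOf (a⁻¹ * i * a) = 2 := by
    simpa [hi] using orderOf_conj_eq a⁻¹ i
  rw [QuotientGroup.eq]
  have := mem_of_conj hH (g := b⁻¹ * a) hord ha (by
    convert hb using 1
    group)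
  simpa using H.inv_mem this

theorem exists_fixed (hH : Cfsg.IsStronglyEmbedded H) {i : G} (hi : orderOf i = 2) :
    ∃ x : G ⧸ H, i • x = x := by
  obtain ⟨t, htH, ht⟩ := exists_invol hH
  obtain ⟨g, rfl⟩ := isConj_iff.1 (isConj hH ht hi)
  exact ⟨(g : G ⧸ H), smul_mk_eq_iff.2 (by simpa [mul_assoc] using htH)⟩

theorem fixed_of_commute (hH : Cfsg.IsStronglyEmbedded H) {i c : G} (hi : orderOf i = 2)
    (hc : Commute i c) {x : G ⧸ H} (hx : i • x = x) : c • x = x :=
  eq_of_fixed hH hi (by rw [← mul_smul, hc.eq, mul_smul, hx]) hx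

theorem odd_of_two_fixed (hH : Cfsg.IsStronglyEmbedded H) {r : G} {x y : G ⧸ H} (hxy : x ≠ y)
    (hx : r • x = x) (hy : r • y = y) : Odd (orderOf r) := by
  by_contra hno
  rw [Nat.not_odd_iff_even] at hno
  obtain ⟨i, hi⟩ := exists_prime_orderOf_dvd_card' 2 (G := Subgroup.zpowers r) (by
    rw [Nat.card_zpowers]; exact even_iff_two_dvd.1 hno)
  refine hxy (eq_of_fixed hH (i := (i : G)) (by rwa [Subgroup.orderOf_coe]) ?_ ?_)
  · obtain ⟨k, hk⟩ := i.2
    rw [← hk]
    exact (MulAction.stabilizer G x).zpow_mem (MulAction.mem_stabilizer_iff.2 hx) k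
  · obtain ⟨k, hk⟩ := i.2
    rw [← hk]
    exact (MulAction.stabilizer G y).zpow_mem (MulAction.mem_stabilizer_iff.2 hy) k

theorem odd_of_fixed_ne (hH : Cfsg.IsStronglyEmbedded H) {s v : G} (hs : orderOf s = 2)
    (hv : orderOf v = 2) {x y : G ⧸ H} (hxy : x ≠ y) (hx : s • x = x) (hy : v • y = y) :
    Odd (orderOf (s * v)) := by
  by_contra hno
  rw [Nat.not_odd_iff_even] at hno
  exact hxy (eq_of_fixed hH (half_invol (x := s) (y := v) hno)
    (fixed_of_commute hH hs (half_comm_left hs hv hno).symm hx)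
    (fixed_of_commute hH hv (half_comm_right hs hv hno).symm hy))

/-- For involutions fixing different points there is exactly one involution conjugating the
first into the second. -/
theorem existsUnique_conj (hH : Cfsg.IsStronglyEmbedded H) {s v : G} (hs : orderOf s = 2)
    (hv : orderOf v = 2) {x y : G ⧸ H} (hxy : x ≠ y) (hx : s • x = x) (hy : v • y = y) :
    ∃ w, (orderOf w = 2 ∧ w • x = y ∧ w * s * w = v) ∧
      ∀ w', orderOf w' = 2 → w' * s * w' = v → w' = w := by
  have hodd := odd_of_fixed_ne hH hs hv hxy hx hy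
  have hne : s * v ≠ 1 := by
    intro h
    rw [mul_eq_one_iff_inv_eq, invol_inv hs] at h
    subst h
    exact hxy (eq_of_fixed hH hs hx hy)
  obtain ⟨k, hk⟩ := exists_zpow_conj_of_odd hs hv hodd
  have hw : orderOf ((s * v) ^ k * s) = 2 := by
    rw [zpow_mul_invol hs hv]; exact orderOf_refl hs hv hne _
  have hconj : (s * v) ^ k * s * s * ((s * v) ^ k * s) = v := by
    have h := invol_inv hw
    calc (s * v) ^ k * s * s * ((s * v) ^ k * s)
        = (s * v) ^ k * s * s * ((s * v) ^ k * s)⁻¹ := by rw [h]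
      _ = (s * v) ^ k * s * ((s * v) ^ k)⁻¹ := by
          rw [mul_assoc ((s * v) ^ k) s s, invol_mul_self hs, mul_one, mul_inv_rev, invol_inv hs,
            ← mul_assoc]
      _ = v := hk
  generalize (s * v) ^ k * s = w at hw hconj ⊢
  have hmaps : ∀ w' : G, orderOf w' = 2 → w' * s * w' = v → w' • x = y := by
    intro w' hw' h
    refine eq_of_fixed hH hv ?_ hy
    rw [← mul_smul, ← h, mul_assoc, invol_mul_self hw', mul_one, mul_smul, hx]
  refine ⟨w, ⟨hw, hmaps w hw hconj, hconj⟩, fun w' hw' h => ?_⟩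
  have e1 := hmaps w hw hconj
  have e2 := hmaps w' hw' h
  have hw'y : w' • y = x := by
    rw [← e2, ← mul_smul, invol_mul_self hw', one_smul]
  have hwy : w • y = x := by
    rw [← e1, ← mul_smul, invol_mul_self hw, one_smul]
  have hodd' := odd_of_two_fixed hH (r := w * w') hxy (by rw [mul_smul, e2, hwy])
    (by rw [mul_smul, hw'y, e1])
  -- `w * w'` centralises `s` and `v`, hence also the midpoint `w`
  have hcs : Commute (w * w') s := by
    show w * w' * s = s * (w * w')
    calc w * w' * s = w * (w' * s * w') * w' := by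
          simp only [mul_assoc, invol_mul_self hw', mul_one]
      _ = (w * (w * s * w)) * w' := by rw [h, hconj]
      _ = s * (w * w') := by rw [← mul_assoc, ← mul_assoc, invol_mul_self hw, one_mul, mul_assoc]
  have hcv : Commute (w * w') v := by
    show w * w' * v = v * (w * w')
    calc w * w' * v = w * (w' * w') * s * w' := by rw [← h]; simp [mul_assoc]
      _ = w * s * w' := by rw [invol_mul_self hw', mul_one]
      _ = (w * s * w) * (w * w') := by
          simp only [mul_assoc, ← mul_assoc w w, invol_mul_self hw, one_mul]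
      _ = v * (w * w') := by rw [hconj]
  obtain ⟨k', hk'⟩ := exists_zpow_conj_of_odd hs hv hodd
  -- `w` agrees with `(s*v)^k' * s` up to an element commuting with `w * w'`
  have hww : Commute (w * w') w := by
    have hr : ∀ r : G, Commute r s → Commute r v → Commute r ((s * v) ^ k' * s) :=
      fun r h1 h2 => ((h1.mul_right h2).zpow_right k').mul_right h1
    have hr0 := hr _ hcs hcv
    -- identify `w` with the midpoint
    have hone : orderOf ((s * v) ^ k' * s) = 2 := by
      rw [zpow_mul_invol hs hv]; exact orderOf_refl hs hv hne _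
    have hconj0 : (s * v) ^ k' * s * s * ((s * v) ^ k' * s) = v := by
      calc (s * v) ^ k' * s * s * ((s * v) ^ k' * s)
          = (s * v) ^ k' * s * s * ((s * v) ^ k' * s)⁻¹ := by rw [invol_inv hone]
        _ = v := by
          rw [mul_assoc ((s * v) ^ k') s s, invol_mul_self hs, mul_one, mul_inv_rev, invol_inv hs,
            ← mul_assoc, hk']
    generalize (s * v) ^ k' * s = w₀ at hr hr0 hone hconj0
    -- `w₀ * w` centralises `s`, `v` and hence `w₀`; it has odd order
    have hcs0 : Commute (w₀ * w) s := by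
      show w₀ * w * s = s * (w₀ * w)
      calc w₀ * w * s = w₀ * (w * s * w) * w := by simp only [mul_assoc, invol_mul_self hw, mul_one]
        _ = (w₀ * (w₀ * s * w₀)) * w := by rw [hconj, hconj0]
        _ = s * (w₀ * w) := by rw [← mul_assoc, ← mul_assoc, invol_mul_self hone, one_mul, mul_assoc]
    have hcv0 : Commute (w₀ * w) v := by
      show w₀ * w * v = v * (w₀ * w)
      calc w₀ * w * v = w₀ * (w * w) * s * w := by rw [← hconj]; simp [mul_assoc]
        _ = w₀ * s * w := by rw [invol_mul_self hw, mul_one]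
        _ = (w₀ * s * w₀) * (w₀ * w) := by
            simp only [mul_assoc, ← mul_assoc w₀ w₀, invol_mul_self hone, one_mul]
        _ = v * (w₀ * w) := by rw [hconj0]
    have hodd0 := odd_of_two_fixed hH (r := w₀ * w) hxy
      (by
        have := hmaps w₀ hone hconj0
        rw [mul_smul, e1, ← this, ← mul_smul, invol_mul_self hone, one_smul])
      (by rw [mul_smul, hwy, hmaps w₀ hone hconj0])
    have hc0 : Commute (w₀ * w) w₀ := hr _ hcs0 hcv0
    have : w₀ * w = 1 := by
      refine eq_one_of_eq_inv_of_odd ?_ hodd0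
      have hh : Commute w₀ w := by
        have := hc0.eq
        rw [mul_assoc] at this
        exact (mul_left_cancel this).symm
      rw [mul_inv_rev, invol_inv hone, invol_inv hw]
      exact hh.eq
    rw [mul_eq_one_iff_inv_eq, invol_inv hone] at this
    exact this ▸ hr0
  have : w * w' = 1 := by
    refine eq_one_of_eq_inv_of_odd ?_ hodd'
    have hh : Commute w w' := by
      have := hww.eq
      rw [mul_assoc] at this
      exact (mul_left_cancel this).symm
    rw [mul_inv_rev, invol_inv hw, invol_inv hw']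
    exact hh.eq
  rw [mul_eq_one_iff_inv_eq, invol_inv hw] at this
  exact this.symm

/-- Involutions carrying `x` to `y` correspond to involutions fixing `y`. -/
theorem card_carry (hH : Cfsg.IsStronglyEmbedded H) {s : G} (hs : orderOf s = 2)
    {x y : G ⧸ H} (hxy : x ≠ y) (hx : s • x = x) :
    Nat.card {i : G // orderOf i = 2 ∧ i • x = y} = Nat.card {v : G // orderOf v = 2 ∧ v • y = y} := by
  refine Nat.card_congr (Equiv.ofBijective
    (fun i => ⟨i.1 * s * i.1, ?_, ?_⟩) ⟨?_, ?_⟩)
  · have := conj_invol i.1 hs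
    rwa [invol_inv i.2.1] at this
  · rw [mul_smul, mul_smul]
    have h1 : i.1 • y = x := by
      refine (congrArg (i.1 • ·) i.2.2.symm).trans ?_
      show i.1 • i.1 • x = x
      rw [← mul_smul, invol_mul_self i.2.1, one_smul]
    rw [h1, hx, i.2.2]
  · intro a b hab
    have hab' : a.1 * s * a.1 = b.1 * s * b.1 := congrArg Subtype.val hab
    have hv : orderOf (a.1 * s * a.1) = 2 := by
      have := conj_invol a.1 hs
      rwa [invol_inv a.2.1] at this
    obtain ⟨w, -, huniq⟩ := existsUnique_conj hH hs hv hxy hx (y := y) (by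
      rw [mul_smul, mul_smul]
      have h1 : a.1 • y = x := by
        refine (congrArg (a.1 • ·) a.2.2.symm).trans ?_
        show a.1 • a.1 • x = x
        rw [← mul_smul, invol_mul_self a.2.1, one_smul]
      rw [h1, hx, a.2.2])
    exact Subtype.ext ((huniq _ a.2.1 rfl).trans (huniq _ b.2.1 hab'.symm).symm)
  · rintro ⟨v, hv, hvy⟩
    obtain ⟨w, ⟨hw, hwx, hwv⟩, -⟩ := existsUnique_conj hH hs hv hxy hx hvy
    exact ⟨⟨w, hw, hwx⟩, Subtype.ext hwv⟩

omit [Finite G] in
/-- Every point is fixed by as many involutions as `H` contains. -/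
theorem card_fixing (x : G ⧸ H) :
    Nat.card {v : G // orderOf v = 2 ∧ v • x = x} = Nat.card {t : G // orderOf t = 2 ∧ t ∈ H} := by
  obtain ⟨g, rfl⟩ := QuotientGroup.mk_surjective x
  refine Nat.card_congr ((MulAut.conj g⁻¹).toEquiv.subtypeEquiv fun v => ?_)
  show orderOf v = 2 ∧ v • (g : G ⧸ H) = g
    ↔ orderOf (g⁻¹ * v * g⁻¹⁻¹) = 2 ∧ g⁻¹ * v * g⁻¹⁻¹ ∈ H
  rw [smul_mk_eq_iff, orderOf_conj_eq, inv_inv]

end SE

end CfsgLib.Involutions
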