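import Mathlib
import Cfsg.Agent.Lib.Involutions.StrongEmbCosets

/-!
# Groups whose involution centralizers are elementary abelian `2`-groups
-/

set_option autoImplicit false

namespace CfsgLib.Involutions

open Subgroup

variable {G : Type*} [Group G]

/-- An involution without fixed points on a finite subgroup it normalises inverts it. -/
theorem inverts_of_fpf [Finite G] (D : Subgroup G) {u : G} (hu : orderOf u = 2)
    (hnorm : ∀ d ∈ D, u * d * u ∈ D) (hfpf : ∀ d ∈ D, u * d * u = d → d = 1) :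
    ∀ d ∈ D, u * d * u = d⁻¹ := by
  have huu := invol_mul_self hu
  let f : D → D := fun d => ⟨(d : G)⁻¹ * (u * d * u), D.mul_mem (D.inv_mem d.2) (hnorm _ d.2)⟩
  have hinj : Function.Injective f := by
    intro a b hab
    have h : (a : G)⁻¹ * (u * a * u) = (b : G)⁻¹ * (u * b * u) := congrArg Subtype.val hab
    have key : u * ((b : G) * (a : G)⁻¹) * u = (b : G) * (a : G)⁻¹ := by
      calc u * ((b : G) * (a : G)⁻¹) * u
          = (u * b * u) * (u * a * u)⁻¹ := by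
            rw [mul_inv_rev, mul_inv_rev, invol_inv hu]
            simp only [mul_assoc, ← mul_assoc u u, huu, one_mul]
        _ = b * ((b : G)⁻¹ * (u * b * u)) * (u * a * u)⁻¹ := by group
        _ = b * ((a : G)⁻¹ * (u * a * u)) * (u * a * u)⁻¹ := by rw [h]
        _ = (b : G) * (a : G)⁻¹ := by group
    exact Subtype.ext (mul_inv_eq_one.1 (hfpf _ (D.mul_mem b.2 (D.inv_mem a.2)) key)).symm
  intro d hd
  obtain ⟨⟨e, he⟩, hde⟩ := (Finite.injective_iff_surjective.1 hinj) ⟨d, hd⟩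
  have hde' : e⁻¹ * (u * e * u) = d := congrArg Subtype.val hde
  rw [← hde', mul_inv_rev, inv_inv, mul_inv_rev, mul_inv_rev, invol_inv hu]
  simp only [mul_assoc, ← mul_assoc u u, huu, one_mul, mul_one]

theorem sq_odd_eq_one {c : G} (h : c ^ 2 = 1) (ho : Odd (orderOf c)) : c = 1 :=
  eq_one_of_eq_inv_of_odd (eq_inv_of_mul_eq_one_left (by rw [← sq, h])) ho

/-- The standing hypotheses: a noncyclic non-normal Sylow `2`-subgroup, and all involution
centralizers elementary abelian `2`-groups. -/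
structure ElemAbCent [Finite G] (T : Sylow 2 G) : Prop where
  nc : ¬ IsCyclic (T : Subgroup G)
  nn : ¬ (T : Subgroup G).Normal
  hC : ∀ t : G, orderOf t = 2 → IsMulCommutative (centralizer ({t} : Set G)) ∧
    ∀ c ∈ centralizer ({t} : Set G), c ^ 2 = 1

namespace ElemAbCent

variable [Finite G] {T : Sylow 2 G} (h : ElemAbCent T)
include h

theorem isPGroup_centralizer {t : G} (ht : orderOf t = 2) :
    IsPGroup 2 (centralizer ({t} : Set G)) :=
  fun c => ⟨1, Subtype.ext ((h.hC t ht).2 c.1 c.2)⟩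

theorem sq_of_commute {t c : G} (ht : orderOf t = 2) (hc : Commute t c) : c ^ 2 = 1 :=
  (h.hC t ht).2 c (mem_centralizer_singleton.2 hc)

theorem ne_bot : (T : Subgroup G) ≠ ⊥ := by
  intro hb
  exact h.nc (by rw [hb]; infer_instance)

theorem four_le_card : 4 ≤ Nat.card T := by
  obtain ⟨k, hk⟩ := IsPGroup.iff_card.1 T.isPGroup'
  rcases k with _ | _ | k
  · exact absurd (Subgroup.eq_bot_of_card_eq _ (by rw [hk, pow_zero])) h.ne_bot
  · exact absurd (isCyclic_of_prime_card (p := 2) (by rw [hk]; rfl)) h.nc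
  · rw [show Nat.card T = Nat.card (T : Subgroup G) from rfl, hk, pow_add, pow_add]
    have := Nat.one_le_two_pow (n := k)
    omega

theorem exists_central : ∃ z ∈ T, orderOf z = 2 ∧ ∀ a ∈ T, Commute z a := by
  have : Nontrivial (T : Subgroup G) := (Subgroup.nontrivial_iff_ne_bot _).2 h.ne_bot
  have := T.isPGroup'.center_nontrivial
  have h2 : 2 ∣ Nat.card (center (T : Subgroup G)) := by
    obtain ⟨k, hk⟩ := IsPGroup.iff_card.1 (T.isPGroup'.to_subgroup (center (T : Subgroup G)))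
    rw [hk]
    refine dvd_pow_self 2 fun h0 => ?_
    rw [h0, pow_zero] at hk
    exact (Finite.one_lt_card_iff_nontrivial.2 ‹_›).ne' hk
  obtain ⟨z, hz⟩ := exists_prime_orderOf_dvd_card' 2 h2
  refine ⟨z.1.1, z.1.2, by rw [Subgroup.orderOf_coe, Subgroup.orderOf_coe, hz], fun a ha => ?_⟩
  exact congrArg Subtype.val (Subgroup.mem_center_iff.1 z.2 ⟨a, ha⟩).symm

theorem mul_self_of_mem {a : G} (ha : a ∈ T) : a * a = 1 := by
  obtain ⟨z, -, hzo, hz⟩ := h.exists_central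
  rw [← sq]; exact h.sq_of_commute hzo (hz a ha)

theorem comm_of_mem {a b : G} (ha : a ∈ T) (hb : b ∈ T) : Commute a b := by
  obtain ⟨z, -, hzo, hz⟩ := h.exists_central
  exact congrArg Subtype.val ((h.hC z hzo).1.1.1
    ⟨a, mem_centralizer_singleton.2 (hz a ha)⟩ ⟨b, mem_centralizer_singleton.2 (hz b hb)⟩)

theorem orderOf_of_mem {a : G} (ha : a ∈ T) (h1 : a ≠ 1) : orderOf a = 2 :=
  invol_iff.2 ⟨h.mul_self_of_mem ha, h1⟩

theorem centralizer_eq {t : G} (ht : orderOf t = 2) (htT : t ∈ T) :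
    centralizer ({t} : Set G) = (T : Subgroup G) :=
  T.is_maximal' (h.isPGroup_centralizer ht)
    fun _ ha => mem_centralizer_singleton.2 (h.comm_of_mem htT ha)

theorem mem_of_commute {t c : G} (ht : orderOf t = 2) (htT : t ∈ T) (hc : Commute t c) : c ∈ T := by
  have := mem_centralizer_singleton.2 hc
  rw [h.centralizer_eq ht htT] at this
  exact this

theorem mem_normalizer_of_conj {t g : G} (ht : orderOf t = 2) (htT : t ∈ T)
    (hg : g * t * g⁻¹ ∈ T) : g ∈ normalizer ((T : Subgroup G) : Set G) := by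
  rw [mem_normalizer_iff_map_conj_eq]
  refine Subgroup.eq_of_le_of_card_ge ?_
    (Nat.card_congr (equivMapOfInjective _ _ (MulAut.conj g).injective).toEquiv).le
  rintro _ ⟨a, ha, rfl⟩
  exact h.mem_of_commute (conj_invol g ht) hg ((h.comm_of_mem htT ha).map (MulAut.conj g))

theorem mem_sylow_of_invol {s : G} (hs : orderOf s = 2)
    (hsH : s ∈ normalizer ((T : Subgroup G) : Set G)) : s ∈ T := by
  have hp : IsPGroup 2 (zpowers s) := by
    rw [IsPGroup.iff_card]; exact ⟨1, by rw [Nat.card_zpowers, hs, pow_one]⟩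
  have := T.is_maximal' (IsPGroup.to_sup_of_normal_left' T.isPGroup' hp (zpowers_le.2 hsH))
    le_sup_left
  exact this.le ((le_sup_right : zpowers s ≤ (T : Subgroup G) ⊔ zpowers s) (mem_zpowers s))

theorem stronglyEmbedded :
    Cfsg.IsStronglyEmbedded (normalizer ((T : Subgroup G) : Set G)) := by
  refine ⟨fun ht => h.nn (normalizer_eq_top_iff.1 ht), ?_, fun g hg => ?_⟩
  · obtain ⟨z, hzT, hzo, -⟩ := h.exists_central
    exact (even_card_iff _).2 ⟨z, le_normalizer hzT, hzo⟩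
  · rw [odd_card_iff]
    intro s hs hso
    apply hg
    have ho : orderOf (g⁻¹ * s * g) = 2 := by simpa [hso] using orderOf_conj_eq g⁻¹ s
    refine h.mem_normalizer_of_conj ho (h.mem_sylow_of_invol ho (mem_conj_map.1 hs.2)) ?_
    rw [show g * (g⁻¹ * s * g) * g⁻¹ = s by group]
    exact h.mem_sylow_of_invol hso hs.1

local notation "𝐇" => normalizer ((T : Subgroup G) : Set G)
local notation "x₀" => ((1 : G) : G ⧸ 𝐇)

omit h in
omit [Finite G] in
theorem mem_iff_fixes {g : G} : g ∈ 𝐇 ↔ g • x₀ = x₀ := by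
  rw [SE.smul_mk_eq_iff, inv_one, one_mul, mul_one]

theorem mem_sylow_iff {i : G} (hi : orderOf i = 2) : i ∈ T ↔ i • x₀ = x₀ :=
  ⟨fun hiT => mem_iff_fixes.1 (le_normalizer hiT),
    fun hf => h.mem_sylow_of_invol hi (mem_iff_fixes.2 hf)⟩

theorem card_invol_normalizer :
    Nat.card {t : G // orderOf t = 2 ∧ t ∈ 𝐇} + 1 = Nat.card T := by
  have e : insert 1 {t : G | orderOf t = 2 ∧ t ∈ 𝐇} = ((T : Subgroup G) : Set G) := by
    ext t
    simp only [Set.mem_insert_iff, Set.mem_ofPred_eq, SetLike.mem_coe]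
    constructor
    · rintro (rfl | ⟨h1, h2⟩)
      · exact T.one_mem
      · exact h.mem_sylow_of_invol h1 h2
    · intro ht
      by_cases h1 : t = 1
      · exact Or.inl h1
      · exact Or.inr ⟨h.orderOf_of_mem ht h1, le_normalizer ht⟩
  show ({t : G | orderOf t = 2 ∧ t ∈ 𝐇}).ncard + 1 = ((T : Subgroup G) : Set G).ncard
  rw [← Set.ncard_insert_of_notMem (show (1 : G) ∉ {t : G | orderOf t = 2 ∧ t ∈ 𝐇} by simp), e]

theorem eq_of_fixes {i : G} (hiT : i ∈ T) (h1 : i ≠ 1) {y : G ⧸ 𝐇} (hy : i • y = y) : y = x₀ :=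
  SE.eq_of_fixed h.stronglyEmbedded (h.orderOf_of_mem hiT h1) hy
    (mem_iff_fixes.1 (le_normalizer hiT))

theorem exists_swap {y : G ⧸ 𝐇} (hy : y ≠ x₀) : ∃ u : G, orderOf u = 2 ∧ u • x₀ = y := by
  obtain ⟨z, hzT, hzo, -⟩ := h.exists_central
  have hc := SE.card_carry h.stronglyEmbedded hzo (x := x₀) (y := y) hy.symm
    (mem_iff_fixes.1 (le_normalizer hzT))
  rw [SE.card_fixing] at hc
  have hpos : 0 < Nat.card {i : G // orderOf i = 2 ∧ i • x₀ = y} := by
    rw [hc]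
    exact Nat.card_pos_iff.2 ⟨⟨⟨z, hzo, le_normalizer hzT⟩⟩, inferInstance⟩
  obtain ⟨⟨u, hu⟩⟩ := (Nat.card_pos_iff.1 hpos).1
  exact ⟨u, hu⟩

omit h in
/-- The stabilizer of the base point and `y`. -/
def pair (T : Sylow 2 G) (y : G ⧸ normalizer ((T : Subgroup G) : Set G)) : Subgroup G :=
  normalizer ((T : Subgroup G) : Set G) ⊓ MulAction.stabilizer G y

omit h in
theorem mem_pair {y : G ⧸ 𝐇} {d : G} : d ∈ pair T y ↔ d • x₀ = x₀ ∧ d • y = y := by
  rw [pair, Subgroup.mem_inf, mem_iff_fixes, MulAction.mem_stabilizer_iff]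

theorem odd_of_pair {y : G ⧸ 𝐇} (hy : y ≠ x₀) {d : G} (hd : d ∈ pair T y) : Odd (orderOf d) :=
  SE.odd_of_two_fixed h.stronglyEmbedded hy (mem_pair.1 hd).2 (mem_pair.1 hd).1

theorem pair_inter_sylow {y : G ⧸ 𝐇} (hy : y ≠ x₀) {d : G} (hd : d ∈ pair T y) (hdT : d ∈ T) :
    d = 1 :=
  sq_odd_eq_one (by rw [sq]; exact h.mul_self_of_mem hdT) (h.odd_of_pair hy hd)

theorem pair_commute_eq_one {y : G ⧸ 𝐇} (hy : y ≠ x₀) {d t : G} (hd : d ∈ pair T y)
    (ht : t ∈ T) (ht1 : t ≠ 1) (hc : Commute d t) : d = 1 :=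
  h.pair_inter_sylow hy hd (h.mem_of_commute (h.orderOf_of_mem ht ht1) ht hc.symm)

theorem pair_inverted {y : G ⧸ 𝐇} (hy : y ≠ x₀) {u : G} (hu : orderOf u = 2) (hux : u • x₀ = y) :
    ∀ d ∈ pair T y, u * d * u = d⁻¹ := by
  have huy : u • y = x₀ := by rw [← hux, ← mul_smul, invol_mul_self hu, one_smul]
  refine inverts_of_fpf _ hu (fun d hd => ?_) (fun d hd hfix => ?_)
  · obtain ⟨h1, h2⟩ := mem_pair.1 hd
    exact mem_pair.2 ⟨by rw [mul_smul, mul_smul, hux, h2, huy],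
      by rw [mul_smul, mul_smul, huy, h1, hux]⟩
  · refine sq_odd_eq_one (h.sq_of_commute hu ?_) (h.odd_of_pair hy hd)
    show u * d = d * u
    calc u * d = u * d * u * u := by rw [mul_assoc, invol_mul_self hu, mul_one]
      _ = d * u := by rw [hfix]

theorem pair_comm {y : G ⧸ 𝐇} (hy : y ≠ x₀) {a b : G} (ha : a ∈ pair T y) (hb : b ∈ pair T y) :
    a * b = b * a := by
  obtain ⟨u, hu, hux⟩ := h.exists_swap hy
  have i1 := h.pair_inverted hy hu hux a ha
  have i2 := h.pair_inverted hy hu hux b hb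
  have i3 := h.pair_inverted hy hu hux _ ((pair T y).mul_mem ha hb)
  have e : u * (a * b) * u = (u * a * u) * (u * b * u) := by
    simp only [mul_assoc, ← mul_assoc u u, invol_mul_self hu, one_mul]
  rw [i3, i1, i2, mul_inv_rev] at e
  calc a * b = (b⁻¹ * a⁻¹)⁻¹ := by group
    _ = b * a := by rw [e]; group

theorem conj_mem_sylow {g t : G} (hg : g ∈ 𝐇) (ht : t ∈ T) : g * t * g⁻¹ ∈ T :=
  (mem_normalizer_iff.1 hg t).1 ht

theorem card_pair {y : G ⧸ 𝐇} (hy : y ≠ x₀) : Nat.card (pair T y) + 1 = Nat.card T := by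
  obtain ⟨u, hu, hux⟩ := h.exists_swap hy
  obtain ⟨z, hzT, hzo, -⟩ := h.exists_central
  rw [← h.card_invol_normalizer]
  congr 1
  refine le_antisymm ?_ ?_
  · refine Nat.card_le_card_of_injective (fun d => (⟨(d : G) * z * (d : G)⁻¹,
      conj_invol _ hzo, le_normalizer (h.conj_mem_sylow (mem_pair.1 d.2 |> fun hh =>
        mem_iff_fixes.2 hh.1) hzT)⟩ : {t : G // orderOf t = 2 ∧ t ∈ 𝐇})) fun a b hab => ?_
    have e : (a : G) * z * (a : G)⁻¹ = (b : G) * z * (b : G)⁻¹ := congrArg Subtype.val hab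
    have hc := (conj_eq_iff_inv_mul_mem.1 e)
    refine Subtype.ext (inv_mul_eq_one.1 (h.pair_commute_eq_one hy
      ((pair T y).mul_mem ((pair T y).inv_mem b.2) a.2) hzT (invol_ne_one hzo) ?_)).symm
    exact (mem_centralizer_singleton.1 hc).symm
  · have hc := SE.card_carry h.stronglyEmbedded hzo (x := x₀) (y := y) hy.symm
      (mem_iff_fixes.1 (le_normalizer hzT))
    rw [SE.card_fixing] at hc
    rw [← hc]
    have huy : u • y = x₀ := by rw [← hux, ← mul_smul, invol_mul_self hu, one_smul]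
    refine Nat.card_le_card_of_injective (fun i => (⟨u * i.1, mem_pair.2 ⟨?_, ?_⟩⟩ : pair T y))
      fun a b hab => Subtype.ext (mul_left_cancel (congrArg Subtype.val hab :))
    · rw [mul_smul, i.2.2, huy]
    · have hiy : i.1 • y = x₀ := by
        refine (congrArg (i.1 • ·) i.2.2.symm).trans ?_
        show i.1 • i.1 • x₀ = x₀
        rw [← mul_smul, invol_mul_self i.2.1, one_smul]
      rw [mul_smul, hiy, hux]

theorem exists_ne_one_pair {y : G ⧸ 𝐇} (hy : y ≠ x₀) : ∃ d ∈ pair T y, d ≠ 1 := by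
  have h1 := h.four_le_card
  have h2 := h.card_pair hy
  by_contra hno
  push Not at hno
  rw [(Subgroup.eq_bot_iff_forall _).2 hno, Subgroup.card_bot] at h2
  omega

/-- `H = D T`. -/
theorem exists_mul_eq {y : G ⧸ 𝐇} (hy : y ≠ x₀) {g : G} (hg : g ∈ 𝐇) :
    ∃ d ∈ pair T y, ∃ t ∈ T, d * t = g := by
  obtain ⟨z, hzT, hzo, -⟩ := h.exists_central
  let f : pair T y → {t : G // orderOf t = 2 ∧ t ∈ 𝐇} := fun d =>
    ⟨(d : G) * z * (d : G)⁻¹, conj_invol _ hzo,
      le_normalizer (h.conj_mem_sylow (mem_iff_fixes.2 (mem_pair.1 d.2).1) hzT)⟩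
  have hinj : Function.Injective f := fun a b hab => by
    have e : (a : G) * z * (a : G)⁻¹ = (b : G) * z * (b : G)⁻¹ := congrArg Subtype.val hab
    exact Subtype.ext (inv_mul_eq_one.1 (h.pair_commute_eq_one hy
      ((pair T y).mul_mem ((pair T y).inv_mem b.2) a.2) hzT (invol_ne_one hzo)
      (mem_centralizer_singleton.1 (conj_eq_iff_inv_mul_mem.1 e)).symm)).symm
  have h1 := h.card_pair hy
  have h2 := h.card_invol_normalizer
  obtain ⟨d, hd⟩ := (hinj.bijective_of_nat_card_le (by omega)).2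
    ⟨g * z * g⁻¹, conj_invol _ hzo, le_normalizer (h.conj_mem_sylow hg hzT)⟩
  have e : (d : G) * z * (d : G)⁻¹ = g * z * g⁻¹ := congrArg Subtype.val hd
  refine ⟨d, d.2, (d : G)⁻¹ * g, ?_, mul_inv_cancel_left _ _⟩
  have := conj_eq_iff_inv_mul_mem.1 e.symm
  rw [h.centralizer_eq hzo hzT] at this
  exact this

theorem card_normalizer {y : G ⧸ 𝐇} (hy : y ≠ x₀) :
    Nat.card 𝐇 = Nat.card (pair T y) * Nat.card T := by
  rw [← Nat.card_prod]
  refine (Nat.card_congr (Equiv.ofBijective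
    (fun p : pair T y × T => (⟨(p.1 : G) * p.2,
      mul_mem (mem_iff_fixes.2 (mem_pair.1 p.1.2).1) (le_normalizer p.2.2)⟩ : 𝐇)) ⟨?_, ?_⟩)).symm
  · rintro ⟨a, s⟩ ⟨b, t⟩ hab
    have e : (a : G) * s = (b : G) * t := congrArg Subtype.val hab
    have hmem : (b : G)⁻¹ * a ∈ T := by
      rw [show (b : G)⁻¹ * a = (t : G) * (s : G)⁻¹ by
        rw [eq_mul_inv_iff_mul_eq, mul_assoc, e, inv_mul_cancel_left]]
      exact mul_mem t.2 (inv_mem s.2)
    have hab' : (b : G)⁻¹ * a = 1 :=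
      h.pair_inter_sylow hy ((pair T y).mul_mem ((pair T y).inv_mem b.2) a.2) hmem
    obtain rfl : b = a := Subtype.ext (inv_mul_eq_one.1 hab')
    exact Prod.ext rfl (Subtype.ext (mul_left_cancel e))
  · rintro ⟨g, hg⟩
    obtain ⟨d, hd, t, ht, e⟩ := h.exists_mul_eq hy hg
    exact ⟨(⟨d, hd⟩, ⟨t, ht⟩), Subtype.ext e⟩

theorem eq_pair_of_commute {y : G ⧸ 𝐇} (hy : y ≠ x₀) {d g : G} (hd : d ∈ pair T y) (hd1 : d ≠ 1)
    (hg : g ∈ 𝐇) (hc : Commute d g) : g ∈ pair T y := by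
  obtain ⟨e, he, t, ht, rfl⟩ := h.exists_mul_eq hy hg
  by_cases ht1 : t = 1
  · simpa [ht1] using he
  · exfalso
    have hde : Commute d e := h.pair_comm hy hd he
    have h2 := hde.inv_right.mul_right hc
    rw [inv_mul_cancel_left] at h2
    exact hd1 (h.pair_commute_eq_one hy hd ht ht1 h2)

/-- Only two points are fixed by a two point stabilizer. -/
theorem fixed_pair {y : G ⧸ 𝐇} (hy : y ≠ x₀) {z : G ⧸ 𝐇}
    (hz : ∀ d ∈ pair T y, d • z = z) : z = x₀ ∨ z = y := by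
  by_contra hne
  push Not at hne
  obtain ⟨hz0, hzy⟩ := hne
  obtain ⟨u, hu, hux⟩ := h.exists_swap hy
  obtain ⟨v, hv, hvx⟩ := h.exists_swap hz0
  have huy : u • y = x₀ := by rw [← hux, ← mul_smul, invol_mul_self hu, one_smul]
  have hle : pair T y ≤ pair T z := fun d hd => mem_pair.2 ⟨(mem_pair.1 hd).1, hz d hd⟩
  have heq : pair T y = pair T z := Subgroup.eq_of_le_of_card_ge hle (by
    have h1 := h.card_pair hy
    have h2 := h.card_pair hz0
    omega)
  obtain ⟨d, hd, hd1⟩ := h.exists_ne_one_pair hy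
  have hr : ∀ e ∈ pair T y, Commute e (u * v) := by
    intro e he
    have i1 := h.pair_inverted hy hu hux e⁻¹ (inv_mem he)
    have i2 := h.pair_inverted hz0 hv hvx e (heq ▸ he)
    show e * (u * v) = u * v * e
    rw [inv_inv] at i1
    calc e * (u * v) = u * e⁻¹ * u * (u * v) := by rw [i1]
      _ = u * e⁻¹ * v := by simp only [mul_assoc, ← mul_assoc u u, invol_mul_self hu, one_mul]
      _ = u * (v * e * v) * v := by rw [i2]
      _ = u * v * e := by simp only [mul_assoc, invol_mul_self hv, mul_one]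
  -- `u * v` moves the base point
  have hrx : (u * v) • x₀ ≠ x₀ := by
    rw [mul_smul, hvx]
    intro hh
    refine hzy ?_
    calc z = u • u • z := by rw [← mul_smul, invol_mul_self hu, one_smul]
      _ = y := by rw [hh, hux]
  -- and so it is an involution
  set r := u * v with hrdef
  let w := r • x₀
  obtain ⟨a, ha, hax⟩ := h.exists_swap (y := w) hrx
  have hw : ∀ e ∈ pair T y, e • w = w := fun e he => by
    show e • r • x₀ = r • x₀
    rw [← mul_smul, (hr e he).eq, mul_smul, (mem_pair.1 he).1]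
  have heqw : pair T y = pair T w := Subgroup.eq_of_le_of_card_ge
    (fun e he => mem_pair.2 ⟨(mem_pair.1 he).1, hw e he⟩) (by
    have h1 := h.card_pair hy
    have h2 := h.card_pair (y := w) hrx
    omega)
  have hg : a * r ∈ 𝐇 := by
    refine mem_iff_fixes.2 ?_
    rw [mul_smul, show r • x₀ = a • x₀ from hax.symm, ← mul_smul, invol_mul_self ha, one_smul]
  obtain ⟨e, he, t, ht, het⟩ := h.exists_mul_eq hy hg
  have ht1 : t = 1 := by
    by_contra ht1
    have i2 := h.pair_inverted (y := w) hrx ha hax d (heqw ▸ hd)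
    have hconj : a * r * d * (a * r)⁻¹ = d⁻¹ := by
      rw [show a * r * d * (a * r)⁻¹ = a * (r * d * r⁻¹) * a⁻¹ by group, ← (hr d hd).eq,
        mul_inv_cancel_right, invol_inv ha, i2]
    rw [← het] at hconj
    have h3 : t * d * t⁻¹ ∈ pair T y := by
      rw [show t * d * t⁻¹ = e⁻¹ * (e * t * d * (e * t)⁻¹) * e by group, hconj]
      exact mul_mem (mul_mem (inv_mem he) (inv_mem hd)) he
    have hdH : d ∈ 𝐇 := mem_iff_fixes.2 (mem_pair.1 hd).1
    have h4 : t * d * t⁻¹ * d⁻¹ ∈ T := by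
      rw [show t * d * t⁻¹ * d⁻¹ = t * (d * t⁻¹ * d⁻¹) by group]
      exact mul_mem ht (h.conj_mem_sylow hdH (inv_mem ht))
    have h5 := h.pair_inter_sylow hy (mul_mem h3 (inv_mem hd)) h4
    refine hd1 (h.pair_commute_eq_one hy hd ht ht1 ?_)
    rw [mul_inv_eq_one, mul_inv_eq_iff_eq_mul] at h5
    exact h5.symm
  rw [ht1, mul_one] at het
  have hr2 : r * r = 1 := by
    have i2 := h.pair_inverted (y := w) hrx ha hax e (heqw ▸ he)
    have hre : r = a * e := by rw [het, ← mul_assoc, invol_mul_self ha, one_mul]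
    rw [hre, show a * e * (a * e) = a * e * a * e by group, i2, inv_mul_cancel]
  have hro : orderOf r = 2 := invol_iff.2 ⟨hr2, fun h1 => hrx (by rw [h1, one_smul])⟩
  exact hd1 (sq_odd_eq_one (h.sq_of_commute hro (hr d hd).symm) (h.odd_of_pair hy hd))

theorem transitive {y z : G ⧸ 𝐇} (hy : y ≠ x₀) (hz : z ≠ x₀) : ∃ t ∈ T, t • y = z := by
  obtain ⟨d, hd, hd1⟩ := h.exists_ne_one_pair hy
  have hdH : d ∈ 𝐇 := mem_iff_fixes.2 (mem_pair.1 hd).1
  obtain ⟨e, he, s, hs, hes⟩ := h.exists_mul_eq hz hdH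
  -- find `a ∈ T` conjugating `d` to `e`
  let f : T → T := fun a => ⟨d⁻¹ * a * d * (a : G)⁻¹, by
    have := h.conj_mem_sylow (inv_mem hdH) a.2
    rw [inv_inv] at this
    exact mul_mem this (inv_mem a.2)⟩
  have hinj : Function.Injective f := by
    intro a b hab
    have e1 : d⁻¹ * a * d * (a : G)⁻¹ = d⁻¹ * b * d * (b : G)⁻¹ := congrArg Subtype.val hab
    by_contra hne
    refine hd1 (h.pair_commute_eq_one hy hd (mul_mem (inv_mem b.2) a.2)
      (fun hh => hne (Subtype.ext (inv_mul_eq_one.1 hh).symm)) ?_)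
    show d * ((b : G)⁻¹ * a) = (b : G)⁻¹ * a * d
    calc d * ((b : G)⁻¹ * a)
        = (b : G)⁻¹ * d * (d⁻¹ * b * d * (b : G)⁻¹) * a := by group
      _ = (b : G)⁻¹ * d * (d⁻¹ * a * d * (a : G)⁻¹) * a := by rw [e1]
      _ = (b : G)⁻¹ * a * d := by group
  obtain ⟨⟨a, ha⟩, haf⟩ := (Finite.injective_iff_surjective.1 hinj) ⟨s⁻¹, inv_mem hs⟩
  have haf' : d⁻¹ * a * d * a⁻¹ = s⁻¹ := congrArg Subtype.val haf
  have hconj : a * d * a⁻¹ = e := by
    calc a * d * a⁻¹ = d * (d⁻¹ * a * d * a⁻¹) := by group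
      _ = e := by rw [haf', ← hes, mul_inv_cancel_right]
  refine ⟨a, ha, ?_⟩
  have haH : a ∈ 𝐇 := le_normalizer ha
  have hfix : ∀ g ∈ pair T y, g • a⁻¹ • z = a⁻¹ • z := by
    have he1 : e ≠ 1 := by
      rw [← hconj]; exact fun hh => hd1 (conj_eq_one_iff.1 hh)
    intro g hg
    have hmem : a * g * a⁻¹ ∈ pair T z :=
      h.eq_pair_of_commute hz he he1
        (mul_mem (mul_mem haH (mem_iff_fixes.2 (mem_pair.1 hg).1)) (inv_mem haH))
        (by rw [← hconj]; exact (show Commute d g from h.pair_comm hy hd hg).map (MulAut.conj a))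
    calc g • a⁻¹ • z = a⁻¹ • (a * g * a⁻¹) • z := by simp only [← mul_smul]; congr 1; group
      _ = a⁻¹ • z := by rw [(mem_pair.1 hmem).2]
  rcases h.fixed_pair hy hfix with h1 | h1
  · exfalso; apply hz
    rw [← mem_iff_fixes.1 haH, ← h1, smul_inv_smul]
  · rw [← h1, smul_inv_smul]

theorem card_points : Nat.card (G ⧸ 𝐇) = Nat.card T + 1 := by
  obtain ⟨u, huH, hu⟩ := SE.exists_invol_not_mem h.stronglyEmbedded
  have hy : (u : G ⧸ 𝐇) ≠ x₀ := fun hh => huH (by
    have := QuotientGroup.eq.1 hh.symm; simpa using this)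
  have : Nat.card {z : G ⧸ 𝐇 // z ≠ x₀} = Nat.card T := by
    refine (Nat.card_congr (Equiv.ofBijective
      (fun t : T => (⟨(t : G) • (u : G ⧸ 𝐇), ?_⟩ : {z : G ⧸ 𝐇 // z ≠ x₀})) ⟨?_, ?_⟩)).symm
    · intro hh
      exact hy ((smul_left_cancel_iff (t : G)).1 (hh.trans (mem_iff_fixes.1 (le_normalizer t.2)).symm))
    · intro a b hab
      have e : (a : G) • (u : G ⧸ 𝐇) = (b : G) • (u : G ⧸ 𝐇) := congrArg Subtype.val hab
      by_contra hne
      apply hy
      refine h.eq_of_fixes (mul_mem (inv_mem b.2) a.2)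
        (fun hh => hne (Subtype.ext (inv_mul_eq_one.1 hh).symm)) ?_
      rw [mul_smul, e, inv_smul_smul]
    · rintro ⟨z, hz⟩
      obtain ⟨t, ht, htz⟩ := h.transitive hy hz
      exact ⟨⟨t, ht⟩, Subtype.ext htz⟩
  rw [← this]
  classical
  rw [← Finite.card_option, ← Nat.card_congr (Equiv.optionSubtypeNe x₀).symm]

/-- The two point stabilizer is regular on the remaining points. -/
theorem transitive_pair {y z w : G ⧸ 𝐇} (hy : y ≠ x₀) (hz0 : z ≠ x₀) (hzy : z ≠ y)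
    (hw0 : w ≠ x₀) (hwy : w ≠ y) : ∃ d ∈ pair T y, d • z = w := by
  have hfree : ∀ d ∈ pair T y, d • z = z → d = 1 := by
    intro d hd hdz
    obtain ⟨t, ht, rfl⟩ := h.transitive hy hz0
    have ht1 : t ≠ 1 := fun hh => hzy (by rw [hh, one_smul])
    refine h.pair_commute_eq_one hy hd ht ht1 ?_
    have hdt : d * t * d⁻¹ ∈ T := h.conj_mem_sylow (mem_iff_fixes.2 (mem_pair.1 hd).1) ht
    have hfix : (t⁻¹ * (d * t * d⁻¹)) • y = y := by
      rw [mul_smul, mul_smul, mul_smul,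
        show d⁻¹ • y = y from inv_smul_eq_iff.2 (mem_pair.1 hd).2.symm, hdz, inv_smul_smul]
    by_contra hne
    apply hy
    refine h.eq_of_fixes (mul_mem (inv_mem ht) hdt) (fun hh => hne ?_) hfix
    rw [inv_mul_eq_one, eq_mul_inv_iff_mul_eq] at hh
    exact hh.symm
  let f : pair T y → {v : G ⧸ 𝐇 // v ≠ x₀ ∧ v ≠ y} := fun d => ⟨(d : G) • z,
    fun hh => hz0 ((smul_left_cancel_iff (d : G)).1 (hh.trans (mem_pair.1 d.2).1.symm)),
    fun hh => hzy ((smul_left_cancel_iff (d : G)).1 (hh.trans (mem_pair.1 d.2).2.symm))⟩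
  have hinj : Function.Injective f := fun a b hab => by
    have e : (a : G) • z = (b : G) • z := congrArg Subtype.val hab
    exact Subtype.ext (inv_mul_eq_one.1 (hfree _ (mul_mem (inv_mem b.2) a.2)
      (by rw [mul_smul, e, inv_smul_smul]))).symm
  have hcard : Nat.card {v : G ⧸ 𝐇 // v ≠ x₀ ∧ v ≠ y} + 2 = Nat.card (G ⧸ 𝐇) := by
    have e : insert x₀ (insert y {v : G ⧸ 𝐇 | v ≠ x₀ ∧ v ≠ y}) = Set.univ := by
      ext v
      simp only [Set.mem_insert_iff, Set.mem_ofPred_eq, Set.mem_univ, iff_true]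
      tauto
    show ({v : G ⧸ 𝐇 | v ≠ x₀ ∧ v ≠ y}).ncard + 2 = _
    rw [← Set.ncard_univ (G ⧸ 𝐇), ← e, Set.ncard_insert_of_notMem (by simp; exact fun hh => hy hh.symm),
      Set.ncard_insert_of_notMem (by simp)]
  have h1 := h.card_points
  have h2 := h.card_pair hy
  obtain ⟨d, hd⟩ := (hinj.bijective_of_nat_card_le (by omega)).2 ⟨w, hw0, hwy⟩
  exact ⟨d, d.2, congrArg Subtype.val hd⟩

theorem eq_one_of_three_fixed {y z : G ⧸ 𝐇} (hy : y ≠ x₀) (hz0 : z ≠ x₀) (hzy : z ≠ y)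
    {d : G} (hd : d ∈ pair T y) (hdz : d • z = z) : d = 1 := by
  obtain ⟨t, ht, rfl⟩ := h.transitive hy hz0
  have ht1 : t ≠ 1 := fun hh => hzy (by rw [hh, one_smul])
  refine h.pair_commute_eq_one hy hd ht ht1 ?_
  have hdt : d * t * d⁻¹ ∈ T := h.conj_mem_sylow (mem_iff_fixes.2 (mem_pair.1 hd).1) ht
  have hfix : (t⁻¹ * (d * t * d⁻¹)) • y = y := by
    rw [mul_smul, mul_smul, mul_smul,
      show d⁻¹ • y = y from inv_smul_eq_iff.2 (mem_pair.1 hd).2.symm, hdz, inv_smul_smul]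
  by_contra hne
  apply hy
  refine h.eq_of_fixes (mul_mem (inv_mem ht) hdt) (fun hh => hne ?_) hfix
  rw [inv_mul_eq_one, eq_mul_inv_iff_mul_eq] at hh
  exact hh.symm

theorem normalizer_pair {y : G ⧸ 𝐇} (hy : y ≠ x₀) {u : G} (hu : orderOf u = 2)
    (hux : u • x₀ = y) : normalizer (pair T y : Set G) = pair T y ⊔ zpowers u := by
  refine le_antisymm (fun g hg => ?_) (sup_le le_normalizer (zpowers_le.2 ?_))
  · have hfix : ∀ d ∈ pair T y, d • g • x₀ = g • x₀ := fun d hd => by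
      have := (mem_normalizer_iff'.1 (inv_mem hg) (d * g)).1 ?_
      swap
      · simpa using hd
      obtain ⟨h1, -⟩ := mem_pair.1 this
      rw [mul_smul, mul_smul, inv_smul_eq_iff] at h1
      exact h1
    have key : ∀ g ∈ 𝐇, g ∈ normalizer (pair T y : Set G) → g ∈ pair T y := by
      intro g hgH hgN
      obtain ⟨e, he, t, ht, rfl⟩ := h.exists_mul_eq hy hgH
      by_cases ht1 : t = 1
      · simpa [ht1] using he
      exfalso
      obtain ⟨d, hd, hd1⟩ := h.exists_ne_one_pair hy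
      have h3 : t * d * t⁻¹ ∈ pair T y := by
        have := mul_mem (mul_mem (inv_mem he) ((mem_normalizer_iff.1 hgN d).1 hd)) he
        rwa [show e⁻¹ * (e * t * d * (e * t)⁻¹) * e = t * d * t⁻¹ by group] at this
      have h4 : t * d * t⁻¹ * d⁻¹ ∈ T := by
        rw [show t * d * t⁻¹ * d⁻¹ = t * (d * t⁻¹ * d⁻¹) by group]
        exact mul_mem ht (h.conj_mem_sylow (mem_iff_fixes.2 (mem_pair.1 hd).1) (inv_mem ht))
      have h5 := h.pair_inter_sylow hy (mul_mem h3 (inv_mem hd)) h4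
      refine hd1 (h.pair_commute_eq_one hy hd ht ht1 ?_)
      rw [mul_inv_eq_one, mul_inv_eq_iff_eq_mul] at h5
      exact h5.symm
    rcases h.fixed_pair hy hfix with h1 | h1
    · exact le_sup_left (a := pair T y) (key g (mem_iff_fixes.2 h1) hg)
    · have huN : u ∈ normalizer (pair T y : Set G) := by
        rw [mem_normalizer_iff_map_conj_eq]
        refine Subgroup.eq_of_le_of_card_ge ?_
          (Nat.card_congr (equivMapOfInjective _ _ (MulAut.conj u).injective).toEquiv).le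
        rintro _ ⟨d, hd, rfl⟩
        show u * d * u⁻¹ ∈ pair T y
        rw [invol_inv hu, h.pair_inverted hy hu hux d hd]
        exact inv_mem hd
      have hug : u * g ∈ pair T y := key _
        (mem_iff_fixes.2 (by rw [mul_smul, h1, ← hux, ← mul_smul, invol_mul_self hu, one_smul]))
        (mul_mem huN hg)
      have := mul_mem ((le_sup_right : zpowers u ≤ pair T y ⊔ zpowers u) (mem_zpowers u))
        ((le_sup_left : pair T y ≤ pair T y ⊔ zpowers u) hug)
      rwa [← mul_assoc, invol_mul_self hu, one_mul] at this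
  · rw [mem_normalizer_iff_map_conj_eq]
    refine Subgroup.eq_of_le_of_card_ge ?_
      (Nat.card_congr (equivMapOfInjective _ _ (MulAut.conj u).injective).toEquiv).le
    rintro _ ⟨d, hd, rfl⟩
    show u * d * u⁻¹ ∈ pair T y
    rw [invol_inv hu, h.pair_inverted hy hu hux d hd]
    exact inv_mem hd

theorem pair_eq_inf_map (u : G) :
    𝐇 ⊓ (𝐇).map (MulAut.conj u).toMonoidHom = pair T (u : G ⧸ 𝐇) := by
  ext d
  rw [pair, Subgroup.mem_inf, Subgroup.mem_inf, mem_conj_map, MulAction.mem_stabilizer_iff,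
    SE.smul_mk_eq_iff]

theorem sharply_three_transitive {x₁ x₂ x₃ y₁ y₂ y₃ : G ⧸ 𝐇} (h12 : x₁ ≠ x₂) (h13 : x₁ ≠ x₃)
    (h23 : x₂ ≠ x₃) (k12 : y₁ ≠ y₂) (k13 : y₁ ≠ y₃) (k23 : y₂ ≠ y₃) :
    ∃ g : G, g • x₁ = y₁ ∧ g • x₂ = y₂ ∧ g • x₃ = y₃ := by
  obtain ⟨u, huH, hu⟩ := SE.exists_invol_not_mem h.stronglyEmbedded
  set p : G ⧸ 𝐇 := (u : G ⧸ 𝐇) with hp
  have hp0 : p ≠ x₀ := fun hh => huH (by have := QuotientGroup.eq.1 hh.symm; simpa using this)
  -- bring any triple to `x₀, p, w` for one fixed `w`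
  have key : ∀ a b c : G ⧸ 𝐇, a ≠ b → a ≠ c → b ≠ c → ∀ w, w ≠ x₀ → w ≠ p →
      ∃ g : G, g • a = x₀ ∧ g • b = p ∧ g • c = w := by
    intro a b c hab hac hbc w hw0 hwp
    obtain ⟨g₁, hg₁⟩ := MulAction.exists_smul_eq G a x₀
    have hb : g₁ • b ≠ x₀ := fun hh => hab ((smul_left_cancel_iff g₁).1 (hg₁.trans hh.symm))
    obtain ⟨t, ht, htb⟩ := h.transitive hb hp0
    have ht0 : t • x₀ = x₀ := mem_iff_fixes.1 (le_normalizer ht)
    have hc0 : (t * g₁) • c ≠ x₀ := fun hh => hac ((smul_left_cancel_iff (t * g₁)).1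
      ((by rw [mul_smul, hg₁, ht0] : (t * g₁) • a = x₀).trans hh.symm))
    have hcp : (t * g₁) • c ≠ p := fun hh => hbc ((smul_left_cancel_iff (t * g₁)).1
      ((by rw [mul_smul, htb] : (t * g₁) • b = p).trans hh.symm))
    obtain ⟨d, hd, hdc⟩ := h.transitive_pair hp0 hc0 hcp hw0 hwp
    exact ⟨d * (t * g₁), by rw [mul_smul, mul_smul, hg₁, ht0, (mem_pair.1 hd).1],
      by rw [mul_smul, mul_smul, htb, (mem_pair.1 hd).2], by rw [mul_smul, hdc]⟩
  obtain ⟨g₁, hg₁⟩ := MulAction.exists_smul_eq G y₁ x₀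
  have hb : g₁ • y₂ ≠ x₀ := fun hh => k12 ((smul_left_cancel_iff g₁).1 (hg₁.trans hh.symm))
  obtain ⟨t, ht, htb⟩ := h.transitive hb hp0
  have ht0 : t • x₀ = x₀ := mem_iff_fixes.1 (le_normalizer ht)
  obtain ⟨g, hga, hgb, hgc⟩ := key x₁ x₂ x₃ h12 h13 h23 ((t * g₁) • y₃)
    (fun hh => k13 ((smul_left_cancel_iff (t * g₁)).1
      ((by rw [mul_smul, hg₁, ht0] : (t * g₁) • y₁ = x₀).trans hh.symm)))
    (fun hh => k23 ((smul_left_cancel_iff (t * g₁)).1
      ((by rw [mul_smul, htb] : (t * g₁) • y₂ = p).trans hh.symm)))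
  refine ⟨(t * g₁)⁻¹ * g, ?_, ?_, ?_⟩
  · rw [mul_smul, hga, inv_smul_eq_iff, mul_smul, hg₁, ht0]
  · rw [mul_smul, hgb, inv_smul_eq_iff, mul_smul, htb]
  · rw [mul_smul, hgc, inv_smul_smul]

theorem eq_one_of_fixes_three {g : G} {x₁ x₂ x₃ : G ⧸ 𝐇} (h12 : x₁ ≠ x₂) (h13 : x₁ ≠ x₃)
    (h23 : x₂ ≠ x₃) (e1 : g • x₁ = x₁) (e2 : g • x₂ = x₂) (e3 : g • x₃ = x₃) : g = 1 := by
  obtain ⟨k, hk⟩ := MulAction.exists_smul_eq G x₁ x₀
  have n2 : k • x₂ ≠ x₀ := fun hh => h12 ((smul_left_cancel_iff k).1 (hk.trans hh.symm))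
  have n3 : k • x₃ ≠ x₀ := fun hh => h13 ((smul_left_cancel_iff k).1 (hk.trans hh.symm))
  have hc : ∀ x : G ⧸ 𝐇, g • x = x → (k * g * k⁻¹) • k • x = k • x := fun x hx => by
    rw [mul_smul, mul_smul, inv_smul_smul, hx]
  have := h.eq_one_of_three_fixed n2 n3 (fun hh => h23 ((smul_left_cancel_iff k).1 hh).symm)
    (d := k * g * k⁻¹) (mem_pair.2 ⟨hk ▸ hc x₁ e1, hc x₂ e2⟩) (hc x₃ e3)
  exact conj_eq_one_iff.1 this

end ElemAbCent

end CfsgLib.Involutions
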