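import Mathlib
import Cfsg.Agent.Lib.Involutions.ElemAbCent
import Cfsg.Agent.Lib.Classical.Order
import Cfsg.Agent.Lib.Classical.SLGen

/-!
# Groups with elementary abelian involution centralizers are linear
-/

set_option autoImplicit false

namespace CfsgLib.Involutions

open Subgroup Matrix

namespace ElemAbCent

variable {G : Type*} [Group G] [Finite G] {T : Sylow 2 G} (h : ElemAbCent T)
include h

local notation "𝐇" => normalizer ((T : Subgroup G) : Set G)
local notation "x₀" => ((1 : G) : G ⧸ 𝐇)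

open scoped IsMulCommutative in
/-- A field structure on the Sylow subgroup, the two point stabilizer acting as scalars. -/
theorem exists_field_coord {y : G ⧸ 𝐇} (hy : y ≠ x₀) :
    ∃ k : ℕ, k ≠ 0 ∧ Nat.card T = 2 ^ k ∧ ∃ ψ : GaloisField 2 k → G,
      (∀ a, ψ a ∈ T) ∧ Function.Injective ψ ∧ (∀ t ∈ T, ∃ a, ψ a = t) ∧
      (∀ a b, ψ (a + b) = ψ a * ψ b) ∧
      ∀ a, a ≠ 0 → ∃ d ∈ pair T y, ∀ b, d * ψ b * d⁻¹ = ψ (a * b) := by
  haveI : IsMulCommutative (T : Subgroup G) :=
    ⟨⟨fun a b => Subtype.ext (h.comm_of_mem a.2 b.2)⟩⟩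
  obtain ⟨z, hzT, hzo, -⟩ := h.exists_central
  obtain ⟨k, hk⟩ := IsPGroup.iff_card.1 T.isPGroup'
  have hk' : Nat.card T = 2 ^ k := hk
  have h4 := h.four_le_card
  have hk0 : k ≠ 0 := by rintro rfl; rw [hk'] at h4; norm_num at h4
  have hH : ∀ d : pair T y, (d : G) ∈ 𝐇 := fun d => mem_iff_fixes.2 (mem_pair.1 d.2).1
  let ρ : pair T y → AddMonoid.End (Additive (T : Subgroup G)) := fun d =>
    AddMonoidHom.mk'
      (fun v => Additive.ofMul (⟨(d : G) * (Additive.toMul v : (T : Subgroup G)) * (d : G)⁻¹,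
        h.conj_mem_sylow (hH d) (Additive.toMul v).2⟩ : (T : Subgroup G)))
      (fun v w => Additive.toMul.injective (Subtype.ext (by simp [mul_assoc])))
  let R : Subring (AddMonoid.End (Additive (T : Subgroup G))) := Subring.closure (Set.range ρ)
  have hρcomm : ∀ a b : pair T y, ρ a * ρ b = ρ b * ρ a := by
    intro a b
    refine AddMonoidHom.ext fun v => Additive.toMul.injective (Subtype.ext ?_)
    show (a : G) * ((b : G) * ((Additive.toMul v : (T : Subgroup G)) : G) * (b : G)⁻¹) * (a : G)⁻¹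
      = (b : G) * ((a : G) * ((Additive.toMul v : (T : Subgroup G)) : G) * (a : G)⁻¹) * (b : G)⁻¹
    have e := h.pair_comm hy a.2 b.2
    generalize ((Additive.toMul v : (T : Subgroup G)) : G) = w
    calc (a : G) * ((b : G) * w * (b : G)⁻¹) * (a : G)⁻¹
        = ((a : G) * b) * w * ((a : G) * b)⁻¹ := by group
      _ = ((b : G) * a) * w * ((b : G) * a)⁻¹ := by rw [e]
      _ = _ := by group
  let _ : CommRing R := Subring.closureCommRingOfComm (by
    rintro _ ⟨a, rfl⟩ _ ⟨b, rfl⟩
    exact hρcomm a b)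
  let e₀ : Additive (T : Subgroup G) := Additive.ofMul ⟨z, hzT⟩
  have he₀ : e₀ ≠ 0 := fun h0 =>
    invol_ne_one hzo (congrArg (fun v => ((Additive.toMul v : (T : Subgroup G)) : G)) h0 :)
  let ρR : pair T y → R := fun d => ⟨ρ d, Subring.subset_closure ⟨d, rfl⟩⟩
  -- every nonzero vector is in the orbit of `e₀`
  have horbit : ∀ v : Additive (T : Subgroup G), v ≠ 0 → ∃ d, ρ d e₀ = v := by
    intro v hv
    let f : pair T y → {w : Additive (T : Subgroup G) // w ≠ 0} := fun d => ⟨ρ d e₀, fun h0 =>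
      invol_ne_one hzo (conj_eq_one_iff.1
        (congrArg (fun v => ((Additive.toMul v : (T : Subgroup G)) : G)) h0 :))⟩
    have hinj : Function.Injective f := by
      intro a b hab
      have e : (a : G) * z * (a : G)⁻¹ = (b : G) * z * (b : G)⁻¹ :=
        (congrArg (fun v => ((Additive.toMul v : (T : Subgroup G)) : G)) (Subtype.ext_iff.1 hab) :)
      exact Subtype.ext (inv_mul_eq_one.1 (h.pair_commute_eq_one hy
        ((pair T y).mul_mem ((pair T y).inv_mem b.2) a.2) hzT (invol_ne_one hzo)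
        (mem_centralizer_singleton.1 (conj_eq_iff_inv_mul_mem.1 e)).symm)).symm
    have hcard : Nat.card {w : Additive (T : Subgroup G) // w ≠ 0} + 1 = Nat.card T := by
      classical
      rw [← Finite.card_option, Nat.card_congr (Equiv.optionSubtypeNe _)]
      exact Nat.card_congr Additive.toMul
    have h1 := h.card_pair hy
    obtain ⟨d, hd⟩ := (hinj.bijective_of_nat_card_le (by omega)).2 ⟨v, hv⟩
    exact ⟨d, congrArg Subtype.val hd⟩
  let Φ : R → Additive (T : Subgroup G) :=
    fun r => (r : AddMonoid.End (Additive (T : Subgroup G))) e₀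
  have hΦinj : ∀ r : R, Φ r = 0 → r = 0 := by
    intro r hr
    refine Subtype.ext (AddMonoidHom.ext fun v => ?_)
    show (r : AddMonoid.End (Additive (T : Subgroup G))) v = 0
    by_cases hv : v = 0
    · rw [hv, map_zero]
    obtain ⟨d, rfl⟩ := horbit v hv
    have hc : (r * ρR d : R) = ρR d * r := mul_comm _ _
    have hc' : (r : AddMonoid.End (Additive (T : Subgroup G))) (ρ d e₀)
        = ρ d ((r : AddMonoid.End (Additive (T : Subgroup G))) e₀) :=
      (congrArg (fun x : R => (x : AddMonoid.End (Additive (T : Subgroup G))) e₀) hc :)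
    rw [hc', show (r : AddMonoid.End (Additive (T : Subgroup G))) e₀ = 0 from hr, map_zero]
  have hΦsub : ∀ r s : R, Φ (r - s) = Φ r - Φ s := fun r s => rfl
  have hΦbij : Function.Bijective Φ := by
    refine ⟨fun r s hrs => sub_eq_zero.1 (hΦinj _ (by rw [hΦsub, hrs, sub_self])), fun v => ?_⟩
    by_cases hv : v = 0
    · exact ⟨0, hv.symm⟩
    · obtain ⟨d, hd⟩ := horbit v hv
      exact ⟨ρR d, hd⟩
  have : Finite R := Finite.of_injective Φ hΦbij.1
  have : Nontrivial R := ⟨⟨0, 1, fun h01 => he₀ (congrArg Φ h01).symm⟩⟩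
  have : NoZeroDivisors R := ⟨fun {r s} hrs => by
    by_cases hs : Φ s = 0
    · exact Or.inr (hΦinj s hs)
    left
    obtain ⟨d, hd⟩ := horbit _ hs
    have hs' : s = ρR d := hΦbij.1 hd.symm
    have : Φ (ρR d * r) = 0 := by rw [mul_comm, ← hs', hrs]; rfl
    refine hΦinj r ?_
    have hd' : ρ d (Φ r) = 0 := this
    by_contra hne
    obtain ⟨d', hd''⟩ := horbit _ hne
    apply invol_ne_one hzo
    have e1 := (congrArg (fun v => ((Additive.toMul v : (T : Subgroup G)) : G)) hd'' :)
    have e2 := (congrArg (fun v => ((Additive.toMul v : (T : Subgroup G)) : G)) hd' :)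
    simp only [ρ] at e1
    change (d : G) * _ * (d : G)⁻¹ = 1 at e2
    rw [conj_eq_one_iff] at e2
    change _ = ((Additive.toMul (Φ r) : (T : Subgroup G)) : G) at e1
    rw [e2] at e1
    exact conj_eq_one_iff.1 e1⟩
  have : IsDomain R := NoZeroDivisors.to_isDomain R
  let _ : Field R := (Finite.isField_of_domain R).toField
  let _ : Fintype R := Fintype.ofFinite R
  let _ : Fintype (GaloisField 2 k) := Fintype.ofFinite _
  have hcardR : Fintype.card (GaloisField 2 k) = Fintype.card R := by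
    rw [← Nat.card_eq_fintype_card, ← Nat.card_eq_fintype_card, GaloisField.card 2 k hk0,
      Nat.card_congr (Equiv.ofBijective Φ hΦbij), Nat.card_congr Additive.toMul, hk]
  let e : GaloisField 2 k ≃+* R := FiniteField.ringEquivOfCardEq hcardR
  refine ⟨k, hk0, hk', fun a => ((Additive.toMul (Φ (e a)) : (T : Subgroup G)) : G),
    fun a => (Additive.toMul (Φ (e a))).2, fun a b hab => ?_, fun t ht => ?_, fun a b => ?_,
    fun a ha => ?_⟩
  · exact e.injective (hΦbij.1 (Additive.toMul.injective (Subtype.ext hab)))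
  · obtain ⟨r, hr⟩ := hΦbij.2 (Additive.ofMul ⟨t, ht⟩)
    exact ⟨e.symm r, by simp [hr]⟩
  · show ((Additive.toMul (Φ (e (a + b))) : (T : Subgroup G)) : G) = _
    rw [map_add]; rfl
  · have hne : Φ (e a) ≠ 0 := fun h0 => ha (e.injective (by rw [hΦinj _ h0, map_zero]))
    obtain ⟨d, hd⟩ := horbit _ hne
    have hd' : ρR d = e a := hΦbij.1 hd
    refine ⟨d, d.2, fun b => ?_⟩
    show _ = ((Additive.toMul (Φ (e (a * b))) : (T : Subgroup G)) : G)
    rw [map_mul, ← hd']
    rfl

open scoped Classical in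
theorem exists_iso_PSL : ∃ k : ℕ, Nat.card T = 2 ^ k ∧
    Nat.card (GaloisField 2 k) = Nat.card T ∧
    Nonempty (G ≃* Matrix.ProjectiveSpecialLinearGroup (Fin 2) (GaloisField 2 k)) := by
  classical
  obtain ⟨u, huH, hu⟩ := SE.exists_invol_not_mem h.stronglyEmbedded
  set y : G ⧸ 𝐇 := (u : G ⧸ 𝐇) with hydef
  have hy : y ≠ x₀ := fun hh => huH (by have := QuotientGroup.eq.1 hh.symm; simpa using this)
  have hux : u • x₀ = y := by rw [hydef, MulAction.Quotient.smul_mk, smul_eq_mul, mul_one]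
  have huy : u • y = x₀ := by rw [← hux, ← mul_smul, invol_mul_self hu, one_smul]
  obtain ⟨k, hk0, hk, ψ, hψT, hψi, hψs, hψadd, hψmul⟩ := h.exists_field_coord hy
  have hcardF : Nat.card (GaloisField 2 k) = Nat.card T := by rw [GaloisField.card 2 k hk0, hk]
  refine ⟨k, hk, hcardF, ?_⟩
  have hψ0 : ψ 0 = 1 := mul_eq_left.1 (show ψ 0 * ψ 0 = ψ 0 by rw [← hψadd, add_zero])
  let π : OnePoint (GaloisField 2 k) → G ⧸ 𝐇 := fun p => p.elim x₀ (fun a => ψ a • y)
  have hπne : ∀ a, ψ a • y ≠ x₀ := fun a hh =>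
    hy ((smul_left_cancel_iff (ψ a)).1 (hh.trans (mem_iff_fixes.1 (le_normalizer (hψT a))).symm))
  have hπinj : Function.Injective π := by
    intro p q hpq
    induction p using OnePoint.rec <;> induction q using OnePoint.rec
    · rfl
    · exact absurd hpq.symm (hπne _)
    · exact absurd hpq (hπne _)
    · next a b =>
      have e : ψ a • y = ψ b • y := hpq
      congr 1
      by_contra hne
      refine hy (h.eq_of_fixes (mul_mem (inv_mem (hψT b)) (hψT a))
        (fun hh => hne (hψi (inv_mul_eq_one.1 hh).symm)) ?_)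
      rw [mul_smul, e, inv_smul_smul]
  have hπsurj : Function.Surjective π := by
    intro x
    by_cases hx : x = x₀
    · exact ⟨OnePoint.infty, hx.symm⟩
    · obtain ⟨t, ht, rfl⟩ := h.transitive hy hx
      obtain ⟨a, rfl⟩ := hψs t ht
      exact ⟨(a : OnePoint _), rfl⟩
  -- translations and the inversion
  have hch : ∀ a : GaloisField 2 k, -a = a := fun a => CharTwo.neg_eq a
  have h1ne : (1 : GaloisField 2 k) ≠ 0 := one_ne_zero
  obtain ⟨c, hc⟩ : ∃ c, u • ψ 1 • y = ψ c • y := by
    obtain ⟨p, hp⟩ := hπsurj (u • ψ 1 • y)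
    induction p using OnePoint.rec with
    | infty =>
      exfalso
      have : ψ 1 • y = y := by
        refine (smul_left_cancel_iff u).1 ?_
        rw [← hp, huy]
        rfl
      exact h1ne (by
        have := hπinj (a₁ := ((1 : GaloisField 2 k) : OnePoint _))
          (a₂ := ((0 : GaloisField 2 k) : OnePoint _))
          (by show ψ 1 • y = ψ 0 • y; rw [this, hψ0, one_smul])
        exact OnePoint.coe_injective this)
    | coe a => exact ⟨a, hp.symm⟩
  have hc0 : c ≠ 0 := by
    rintro rfl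
    rw [hψ0, one_smul] at hc
    apply hπne 1
    rw [← inv_smul_smul u (ψ 1 • y), hc, invol_inv hu, huy]
  have hu_act : ∀ a, a ≠ 0 → u • ψ a • y = ψ (a⁻¹ * c) • y := by
    intro a ha
    obtain ⟨d, hd, hdm⟩ := hψmul a ha
    have h1 : d * ψ 1 * d⁻¹ = ψ a := by rw [hdm, mul_one]
    have h2 : d⁻¹ * ψ c * d = ψ (a⁻¹ * c) := by
      have e := hdm (a⁻¹ * c)
      rw [mul_inv_cancel_left₀ ha] at e
      rw [← e]; group
    have hinv := h.pair_inverted hy hu hux d hd
    calc u • ψ a • y = (u * d * u) • u • ψ 1 • d⁻¹ • y := by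
          simp only [← mul_smul]; congr 1
          rw [← h1]
          simp only [mul_assoc, ← mul_assoc u u, invol_mul_self hu, one_mul]
      _ = d⁻¹ • ψ c • y := by
          rw [show d⁻¹ • y = y from (mem_pair.1 (inv_mem hd)).2, hinv, hc]
      _ = (d⁻¹ * ψ c * d) • y := by rw [mul_smul, mul_smul, (mem_pair.1 hd).2]
      _ = ψ (a⁻¹ * c) • y := by rw [h2]
  obtain ⟨d₀, hd₀, hd₀m⟩ := hψmul c⁻¹ (inv_ne_zero hc0)
  have hd₀0 : d₀ • x₀ = x₀ := (mem_pair.1 hd₀).1
  have hd₀y : d₀ • y = y := (mem_pair.1 hd₀).2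
  let j : G := d₀ * u
  have hj : j • x₀ = y ∧ j • y = x₀ ∧ ∀ a, a ≠ 0 → j • ψ a • y = ψ a⁻¹ • y := by
    refine ⟨by rw [mul_smul, hux, hd₀y], by rw [mul_smul, huy, hd₀0], fun a ha => ?_⟩
    rw [mul_smul, hu_act a ha]
    calc d₀ • ψ (a⁻¹ * c) • y = (d₀ * ψ (a⁻¹ * c) * d₀⁻¹) • d₀ • y := by
          simp only [← mul_smul]; congr 1; group
      _ = ψ a⁻¹ • y := by rw [hd₀y, hd₀m]; congr 2; field_simp
  -- elements of `SL₂` realised inside `G`
  let Rel : Matrix.SpecialLinearGroup (Fin 2) (GaloisField 2 k) → G → Prop := fun g γ =>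
    ∀ p, π (Matrix.SpecialLinearGroup.toGL g • p) = γ • π p
  let S : Subgroup (Matrix.SpecialLinearGroup (Fin 2) (GaloisField 2 k)) :=
    { carrier := {g | ∃ γ, Rel g γ}
      one_mem' := ⟨1, fun p => by rw [map_one, one_smul, one_smul]⟩
      mul_mem' := by
        rintro g g' ⟨a, ha⟩ ⟨b, hb⟩
        exact ⟨a * b, fun p => by rw [map_mul, mul_smul, ha, hb, mul_smul]⟩
      inv_mem' := by
        rintro g ⟨a, ha⟩
        refine ⟨a⁻¹, fun p => ?_⟩
        rw [eq_inv_smul_iff, ← ha, map_inv, smul_inv_smul] }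
  have hcoe : ∀ (g : Matrix.SpecialLinearGroup (Fin 2) (GaloisField 2 k)) (r l : Fin 2),
      (Matrix.SpecialLinearGroup.toGL g).1 r l = g.1 r l := fun _ _ _ => rfl
  let J : Matrix.SpecialLinearGroup (Fin 2) (GaloisField 2 k) :=
    ⟨!![0, 1; 1, 0], by rw [Matrix.det_fin_two_of]; simp [hch]⟩
  have hJv : J.1 0 0 = 0 ∧ J.1 0 1 = 1 ∧ J.1 1 0 = 1 ∧ J.1 1 1 = 0 := ⟨rfl, rfl, rfl, rfl⟩
  have hJ : J ∈ S := by
    refine ⟨j, fun p => ?_⟩
    induction p using OnePoint.rec with
    | infty =>
      rw [OnePoint.smul_infty_eq_ite]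
      show π _ = j • x₀
      rw [hj.1]
      simp [hcoe, hJv, π, hψ0]
    | coe a =>
      rw [OnePoint.smul_some_eq_ite]
      show π _ = j • ψ a • y
      by_cases ha : a = 0
      · subst ha
        rw [hψ0, one_smul, hj.2.1]
        simp [hcoe, hJv, π]
      · rw [hj.2.2 a ha]
        simp [hcoe, hJv, π, ha]
  have hU : ∀ b, SpecialLinearGroup.transvection
      (show (0 : Fin 2) ≠ 1 by decide) (b : GaloisField 2 k) ∈ S := by
    intro b
    refine ⟨ψ b, fun p => ?_⟩
    induction p using OnePoint.rec with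
    | infty =>
      rw [OnePoint.smul_infty_eq_ite]
      show π _ = ψ b • x₀
      rw [mem_iff_fixes.1 (le_normalizer (hψT b))]
      simp [hcoe, π, SpecialLinearGroup.transvection_coe]
    | coe a =>
      rw [OnePoint.smul_some_eq_ite]
      show π _ = ψ b • ψ a • y
      rw [← mul_smul, ← hψadd]
      simp [hcoe, π, SpecialLinearGroup.transvection_coe]
      rw [add_comm]
  have hS : S = ⊤ := by
    refine CfsgLib.Classical.eq_top_of_transvection_mem S fun i l hil b => ?_
    fin_cases i <;> fin_cases l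
    · exact absurd rfl hil
    · exact hU b
    · have : SpecialLinearGroup.transvection hil b
          = J * SpecialLinearGroup.transvection (show (0 : Fin 2) ≠ 1 by decide) b * J := by
        apply Matrix.SpecialLinearGroup.ext
        intro r s
        rw [Matrix.SpecialLinearGroup.coe_mul, Matrix.SpecialLinearGroup.coe_mul]
        fin_cases r <;> fin_cases s <;>
          simp [J, SpecialLinearGroup.transvection_coe, Matrix.mul_apply, Fin.sum_univ_two,
            Matrix.single, Matrix.vecMul, dotProduct, Matrix.one_apply]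
      rw [this]
      exact mul_mem (mul_mem hJ (hU b)) hJ
    · exact absurd rfl hil
  have hall : ∀ g, ∃ γ, Rel g γ := fun g => (hS ▸ mem_top g : g ∈ S)
  choose θ hθ using hall
  have huniq : ∀ g γ γ', Rel g γ → Rel g γ' → γ = γ' := by
    intro g γ γ' h1 h2
    have hfix : ∀ p, (γ'⁻¹ * γ) • π p = π p := fun p => by
      rw [mul_smul, ← h1, h2, inv_smul_smul]
    have e1 : π (OnePoint.infty) ≠ π ((0 : GaloisField 2 k) : OnePoint _) := (hπne 0).symm
    have e2 : π (OnePoint.infty) ≠ π ((1 : GaloisField 2 k) : OnePoint _) := (hπne 1).symm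
    have e3 : π ((0 : GaloisField 2 k) : OnePoint _) ≠ π ((1 : GaloisField 2 k) : OnePoint _) :=
      fun hh => h1ne (OnePoint.coe_injective (hπinj hh)).symm
    exact (inv_mul_eq_one.1 (h.eq_one_of_fixes_three e1 e2 e3 (hfix _) (hfix _) (hfix _))).symm
  let Θ : Matrix.SpecialLinearGroup (Fin 2) (GaloisField 2 k) →* G := MonoidHom.mk' θ fun g g' =>
    huniq (g * g') _ _ (hθ _) fun p => by rw [map_mul, mul_smul, hθ, hθ, mul_smul]
  have hΘinj : Function.Injective Θ := by
    rw [injective_iff_map_eq_one]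
    intro g hg
    have hfix : ∀ p, Matrix.SpecialLinearGroup.toGL g • p = p := fun p => hπinj (by
      rw [hθ]; show Θ g • π p = π p; rw [hg, one_smul])
    have h10 : g.1 1 0 = 0 := by
      have := hfix OnePoint.infty
      rwa [OnePoint.smul_infty_eq_self_iff] at this
    have hdet := g.2
    rw [Matrix.det_fin_two, h10, mul_zero, sub_zero] at hdet
    have h11 : g.1 1 1 ≠ 0 := fun h0 => by rw [h0, mul_zero] at hdet; exact zero_ne_one hdet
    have h00 := hfix ((0 : GaloisField 2 k) : OnePoint _)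
    have h01 := hfix ((1 : GaloisField 2 k) : OnePoint _)
    rw [OnePoint.smul_some_eq_ite] at h00 h01
    simp [h10, h11] at h00 h01
    rw [h00, add_zero, div_eq_one_iff_eq h11] at h01
    rw [h01] at hdet
    have hd1 : g.1 1 1 = 1 := by
      have h2 : (g.1 1 1 + 1) * (g.1 1 1 + 1) = 0 := by
        calc (g.1 1 1 + 1) * (g.1 1 1 + 1)
            = (g.1 1 1 * g.1 1 1 + 1) + (g.1 1 1 + g.1 1 1) := by ring
          _ = 0 := by rw [hdet, CharTwo.add_self_eq_zero, CharTwo.add_self_eq_zero, add_zero]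
      exact CharTwo.add_eq_zero.1 (mul_self_eq_zero.1 h2)
    apply Matrix.SpecialLinearGroup.ext
    intro r s
    fin_cases r <;> fin_cases s <;> simp [h10, h00, h01, hd1]
  have hcardG : Nat.card G
      = Nat.card (Matrix.SpecialLinearGroup (Fin 2) (GaloisField 2 k)) := by
    rw [CfsgLib.Classical.card_SL_two, hcardF, ← (𝐇).index_mul_card, h.card_normalizer hy,
      show (𝐇).index = Nat.card T + 1 from h.card_points]
    obtain ⟨m, hm⟩ : ∃ m, Nat.card T = m + 1 := ⟨_, (h.card_pair hy).symm⟩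
    have hp : Nat.card (pair T y) = m := by have := h.card_pair hy; omega
    rw [hp, hm, show (m + 1) ^ 2 - 1 = (m + 2) * m by ring_nf; omega]
    ring
  have hbij : Function.Bijective Θ := hΘinj.bijective_of_nat_card_le hcardG.le
  have hPSL : Nat.card (Matrix.ProjectiveSpecialLinearGroup (Fin 2) (GaloisField 2 k))
      = Nat.card (Matrix.SpecialLinearGroup (Fin 2) (GaloisField 2 k)) := by
    rw [CfsgLib.Classical.card_SL_two, ← CfsgLib.Classical.card_PSL_two_mul,
      show Nat.gcd 2 (Nat.card (GaloisField 2 k) - 1) = 1 from ?_, one_mul]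
    refine Nat.coprime_two_left.2 (Nat.Even.sub_odd ?_ ?_ odd_one)
    · rw [GaloisField.card 2 k hk0]; exact Nat.one_le_two_pow
    · rw [GaloisField.card 2 k hk0]; exact (Nat.even_pow.2 ⟨even_two, hk0⟩)
  let q := QuotientGroup.mk' (Subgroup.center (Matrix.SpecialLinearGroup (Fin 2) (GaloisField 2 k)))
  have hq : Function.Bijective q :=
    (QuotientGroup.mk'_surjective _).bijective_of_nat_card_le hPSL.ge
  exact ⟨(MulEquiv.ofBijective Θ hbij).symm.trans (MulEquiv.ofBijective q hq)⟩

end ElemAbCent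

end CfsgLib.Involutions
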