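import Mathlib
import Cfsg.Prelude.Def_CaseTheorems

/-!
# Automorphism groups of 2-groups with a distinguished cyclic subgroup of index 2
-/

set_option autoImplicit false

namespace CfsgLib.Involutions

variable {X : Type*} [Group X] [Finite X]

/-- If `⟨c⟩` has index at most two and every element outside it has order different from that
of `c`, then `Aut X` is a 2-group. -/
theorem isPGroup_mulAut_of_cyclic (h2 : IsPGroup 2 X) {c y : X}
    (hgen : ∀ g : X, g ∈ Subgroup.zpowers c ∨ y⁻¹ * g ∈ Subgroup.zpowers c)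
    (hord : ∀ g : X, g ∉ Subgroup.zpowers c → orderOf g ≠ orderOf c) :
    IsPGroup 2 (MulAut X) := by
  haveI : Fintype (MulAut X) := Fintype.ofFinite _
  have hN : Nat.card (MulAut X) ≠ 0 := Nat.card_pos.ne'
  refine IsPGroup.of_card (n := (Nat.card (MulAut X)).primeFactorsList.length)
    (Nat.eq_prime_pow_of_unique_prime_dvd hN ?_)
  intro r hr hrd
  by_contra hr2
  haveI := Fact.mk hr
  obtain ⟨φ, hφ⟩ := exists_prime_orderOf_dvd_card' r hrd
  obtain ⟨m, hm⟩ := (IsPGroup.iff_orderOf.1 h2) c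
  have hrodd : r.Coprime (2 ^ m) :=
    Nat.Coprime.pow_right m ((Nat.coprime_primes hr Nat.prime_two).2 hr2)
  have hφc : φ c ∈ Subgroup.zpowers c := by
    by_contra h
    exact hord _ h (φ.orderOf_eq c)
  obtain ⟨k, hk⟩ := hφc
  have hk' : ∀ i : ℕ, (φ ^ i) c = c ^ (k ^ i) := by
    intro i
    induction i with
    | zero => simp
    | succ i ih =>
      rw [pow_succ', MulAut.mul_apply, ih, map_zpow, ← hk, ← zpow_mul, pow_succ']
  have hc : φ c = c := by
    have h1 : c ^ (k ^ r) = c := by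
      have := hk' r
      rwa [← hφ, pow_orderOf_eq_one, hφ, MulAut.one_apply, eq_comm] at this
    have h2 : ((k : ZMod (2 ^ m))) ^ r = 1 := by
      have := (zpow_eq_zpow_iff_modEq (x := c) (m := k ^ r) (n := 1)).1 (by rwa [zpow_one])
      rw [hm] at this
      have := (ZMod.intCast_eq_intCast_iff (k ^ r) 1 (2 ^ m)).2 this
      simpa using this
    have h3 : (k : ZMod (2 ^ m)) = 1 := by
      haveI : NeZero (2 ^ m) := ⟨by positivity⟩
      have hu : IsUnit (k : ZMod (2 ^ m)) := IsUnit.of_mul_eq_one _ (by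
        rwa [← mul_pow_sub_one hr.ne_zero (k : ZMod (2 ^ m))] at h2)
      obtain ⟨u, hu⟩ := hu
      have hur : u ^ r = 1 := Units.ext (by rw [Units.val_pow_eq_pow_val, hu, h2, Units.val_one])
      have h4 : orderOf u ∣ 1 := by
        rcases Nat.eq_zero_or_pos m with rfl | hm0
        · haveI : Subsingleton (ZMod (2 ^ 0)) := by rw [pow_zero]; infer_instance
          rw [Subsingleton.elim u 1, orderOf_one]
        have hd := orderOf_dvd_natCard u
        rw [Nat.card_eq_fintype_card, ZMod.card_units_eq_totient,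
          Nat.totient_prime_pow Nat.prime_two hm0, show 2 - 1 = 1 from rfl, mul_one] at hd
        have := Nat.dvd_gcd (orderOf_dvd_of_pow_eq_one hur) hd
        rwa [(Nat.Coprime.pow_right (m - 1) ((Nat.coprime_primes hr Nat.prime_two).2 hr2) :
          r.Coprime (2 ^ (m - 1))).gcd_eq_one] at this
      rw [← hu, orderOf_eq_one_iff.1 (Nat.dvd_one.1 h4), Units.val_one]
    rw [← hk]
    show c ^ k = c
    conv_rhs => rw [← zpow_one c]
    rw [zpow_eq_zpow_iff_modEq, hm]
    exact (ZMod.intCast_eq_intCast_iff k 1 (2 ^ m)).1 (by simpa using h3)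
  have hfixc : ∀ g ∈ Subgroup.zpowers c, φ g = g := by
    rintro _ ⟨i, rfl⟩
    rw [map_zpow, hc]
  have hy : φ y = y := by
    by_cases hyc : y ∈ Subgroup.zpowers c
    · exact hfixc y hyc
    have hmem : y⁻¹ * φ y ∈ Subgroup.zpowers c := by
      refine (hgen (φ y)).resolve_left fun h => hyc ?_
      have := φ.injective (hfixc _ h)
      rwa [this] at h
    obtain ⟨j, hj⟩ := hmem
    have hj' : φ y = y * c ^ j := by
      change c ^ j = y⁻¹ * φ y at hj
      rw [hj, mul_inv_cancel_left]
    have hi : ∀ i : ℕ, (φ ^ i) y = y * c ^ (j * i) := by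
      intro i
      induction i with
      | zero => simp
      | succ i ih =>
        rw [pow_succ', MulAut.mul_apply, ih, map_mul, hfixc _ ⟨_, rfl⟩, hj', mul_assoc, ← zpow_add]
        push_cast
        ring_nf
    have h1 : c ^ (j * r) = 1 := by
      have := hi r
      rwa [← hφ, pow_orderOf_eq_one, hφ, MulAut.one_apply, left_eq_mul] at this
    rw [zpow_mul, zpow_natCast, ← orderOf_dvd_iff_pow_eq_one] at h1
    have h2 : orderOf (c ^ j) ∣ 2 ^ m := hm ▸ orderOf_dvd_of_mem_zpowers ⟨j, rfl⟩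
    have h3 := Nat.dvd_gcd h1 h2
    rw [hrodd.gcd_eq_one] at h3
    rw [hj', orderOf_eq_one_iff.1 (Nat.dvd_one.1 h3), mul_one]
  have : φ = 1 := MulEquiv.ext fun g => by
    rcases hgen g with h | h
    · exact hfixc g h
    · have := hfixc _ h
      rw [map_mul, map_inv, hy] at this
      exact mul_left_cancel this
  rw [this, orderOf_one] at hφ
  exact hr.ne_one hφ.symm

theorem isPGroup_mulAut_dihedral_or_qd (h2 : IsPGroup 2 X)
    (h : (∃ n : ℕ, 4 ≤ n ∧ Nonempty (X ≃* DihedralGroup n)) ∨ Cfsg.IsQuasiDihedral X) :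
    IsPGroup 2 (MulAut X) := by
  rcases h with ⟨n, hn, ⟨e⟩⟩ | ⟨n, hn, hcard, x, y, hx, hy, hc⟩
  · haveI : NeZero n := ⟨by omega⟩
    have hmem : ∀ (g : X) (i : ZMod n), e g = DihedralGroup.r i →
        g ∈ Subgroup.zpowers (e.symm (DihedralGroup.r 1)) := fun g i hg =>
      ⟨(i.val : ℤ), e.injective (by simp [hg, DihedralGroup.r_one_pow])⟩
    refine isPGroup_mulAut_of_cyclic h2 (c := e.symm (DihedralGroup.r 1))
      (y := e.symm (DihedralGroup.sr 0)) (fun g => ?_) (fun g hg => ?_)
    · rcases hg : e g with i | i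
      · exact Or.inl (hmem g i hg)
      · exact Or.inr (hmem _ i (by simp [hg]))
    · rw [MulEquiv.orderOf_eq e.symm, DihedralGroup.orderOf_r_one, ← MulEquiv.orderOf_eq e g]
      rcases hg' : e g with i | i
      · exact absurd (hmem g i hg') hg
      · rw [DihedralGroup.orderOf_sr]; omega
  · have hyx : y ∉ Subgroup.zpowers x := by
      rintro ⟨i, rfl⟩
      rw [show (x ^ i) * x * (x ^ i)⁻¹ = x by group] at hc
      have h1 : x ^ 1 = x ^ (2 ^ (n - 1) - 1) := by rw [pow_one]; exact hc
      have h2 := pow_inj_mod.1 h1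
      have h4 : 2 ^ n = 2 * 2 ^ (n - 1) := by rw [← pow_succ']; congr 1; omega
      have h5 : 4 ≤ 2 ^ (n - 1) := by
        calc 4 = 2 ^ 2 := rfl
          _ ≤ _ := Nat.pow_le_pow_right two_pos (by omega)
      rw [hx, Nat.mod_eq_of_lt (by omega), Nat.mod_eq_of_lt (by omega)] at h2
      omega
    have hidx : (Subgroup.zpowers x).index = 2 := by
      have h := (Subgroup.zpowers x).card_mul_index
      rw [Nat.card_zpowers, hx, hcard, pow_succ] at h
      exact Nat.eq_of_mul_eq_mul_left (by positivity) h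
    have hgen : ∀ g : X, g ∈ Subgroup.zpowers x ∨ y⁻¹ * g ∈ Subgroup.zpowers x := fun g => by
      by_cases hg : g ∈ Subgroup.zpowers x
      · exact Or.inl hg
      · exact Or.inr ((Subgroup.mul_mem_iff_of_index_two hidx).2 (by simp [hg, hyx]))
    refine isPGroup_mulAut_of_cyclic h2 hgen fun g hg => ?_
    obtain ⟨i, hi⟩ := (hgen g).resolve_left hg
    change x ^ i = y⁻¹ * g at hi
    have hg' : g = y * x ^ i := by rw [hi, mul_inv_cancel_left]
    have hyy : y * y = 1 := by rw [← sq, ← hy, pow_orderOf_eq_one]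
    have hyi : y⁻¹ = y := inv_eq_of_mul_eq_one_left hyy
    have hsq : g * g = (x ^ (2 ^ (n - 1))) ^ i := by
      have h1 : y * x ^ i * y⁻¹ = (x ^ (2 ^ (n - 1) - 1)) ^ i := by rw [← conj_zpow, hc]
      rw [hg', show y * x ^ i * (y * x ^ i) = (y * x ^ i * y) * x ^ i by group]
      nth_rewrite 2 [← hyi]
      rw [h1, ← Commute.mul_zpow ((Commute.refl x).pow_left _), ← pow_succ,
        Nat.sub_add_cancel Nat.one_le_two_pow]
    have h4 : g ^ 4 = 1 := by
      have hx2 : (x ^ (2 ^ (n - 1))) ^ 2 = 1 := by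
        rw [← pow_mul, ← pow_succ, Nat.sub_add_cancel (by omega), ← hx, pow_orderOf_eq_one]
      rw [show g ^ 4 = (g * g) ^ 2 by rw [← sq, ← pow_mul], hsq, ← zpow_natCast, ← zpow_mul,
        mul_comm i, zpow_mul, zpow_natCast, hx2, one_zpow]
    intro e
    have := orderOf_dvd_of_pow_eq_one h4
    rw [e, hx] at this
    have h8 : 8 ≤ 2 ^ n := by
      calc 8 = 2 ^ 3 := rfl
        _ ≤ _ := Nat.pow_le_pow_right two_pos hn
    have := Nat.le_of_dvd (by norm_num) this
    omega

end CfsgLib.Involutions
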