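import Mathlib

/-!
# The centralizer of an involution of `PSL₃` in odd characteristic
-/

set_option autoImplicit false
set_option linter.style.haveILetI false
set_option maxHeartbeats 1000000

namespace CfsgLib.Involutions.PSL3

open Matrix MatrixGroups

variable {F : Type*} [Field F]

/-- The diagonal matrix `(1, -1, -1)`. -/
def dmat (F : Type*) [Field F] : Matrix (Fin 3) (Fin 3) F := !![1, 0, 0; 0, -1, 0; 0, 0, -1]

theorem dmat_det : (dmat F).det = 1 := by simp [dmat, Matrix.det_fin_three]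

/-- An involutory matrix of determinant one is diagonalized by some matrix of determinant one. -/
theorem exists_conj (h2 : (2 : F) ≠ 0) (S : Matrix (Fin 3) (Fin 3) F) (hS : S * S = 1)
    (hdet : S.det = 1) (hne : S ≠ 1) :
    ∃ P : Matrix (Fin 3) (Fin 3) F, P.det = 1 ∧ S * P = P * dmat F := by
  set L := Matrix.toLin' S with hL
  set V₁ := LinearMap.ker (L - LinearMap.id) with hV1
  set V₂ := LinearMap.ker (L + LinearMap.id) with hV2
  have hm1 : ∀ v, v ∈ V₁ ↔ S *ᵥ v = v := fun v => by
    rw [hV1, LinearMap.mem_ker, LinearMap.sub_apply, sub_eq_zero, hL, Matrix.toLin'_apply,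
      LinearMap.id_apply]
  have hm2 : ∀ v, v ∈ V₂ ↔ S *ᵥ v = -v := fun v => by
    rw [hV2, LinearMap.mem_ker, LinearMap.add_apply, add_eq_zero_iff_eq_neg, hL,
      Matrix.toLin'_apply, LinearMap.id_apply]
  have hSS : ∀ v, S *ᵥ (S *ᵥ v) = v := fun v => by
    rw [Matrix.mulVec_mulVec, hS, Matrix.one_mulVec]
  have hc : IsCompl V₁ V₂ := by
    refine ⟨disjoint_iff.2 (eq_bot_iff.2 fun v hv => ?_), codisjoint_iff.2 (eq_top_iff.2 fun v _ => ?_)⟩
    · rw [Submodule.mem_inf, hm1, hm2] at hv
      have : (2 : F) • v = 0 := by rw [two_smul]; nth_rw 1 [← hv.1]; rw [hv.2, neg_add_cancel]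
      exact (Submodule.mem_bot F).2 ((smul_eq_zero.1 this).resolve_left h2)
    · refine Submodule.mem_sup.2 ⟨(2⁻¹ : F) • (v + S *ᵥ v), ?_, (2⁻¹ : F) • (v - S *ᵥ v), ?_, ?_⟩
      · rw [hm1, Matrix.mulVec_smul, Matrix.mulVec_add, hSS, add_comm]
      · rw [hm2, Matrix.mulVec_smul, Matrix.mulVec_sub, hSS, ← smul_neg, neg_sub]
      · rw [← smul_add]
        ext i
        simp
        field_simp
        ring
  set e := Submodule.prodEquivOfIsCompl V₁ V₂ hc
  have hcomp : L = (e : (V₁ × V₂) →ₗ[F] _).comp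
      (((LinearMap.id : V₁ →ₗ[F] V₁).prodMap (-LinearMap.id : V₂ →ₗ[F] V₂)).comp
        (e.symm : _ →ₗ[F] (V₁ × V₂))) := by
    refine LinearMap.ext fun v => ?_
    obtain ⟨⟨a, b⟩, rfl⟩ := e.surjective v
    show S *ᵥ (e (a, b)) = e (((LinearMap.id : V₁ →ₗ[F] V₁).prodMap (-LinearMap.id : V₂ →ₗ[F] V₂))
      (e.symm (e (a, b))))
    rw [e.symm_apply_apply, LinearMap.prodMap_apply]
    simp only [e, Submodule.coe_prodEquivOfIsCompl', LinearMap.id_apply, LinearMap.neg_apply,
      Submodule.coe_neg]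
    rw [Matrix.mulVec_add, (hm1 _).1 a.2, (hm2 _).1 b.2]
  have hsum : Module.finrank F V₁ + Module.finrank F V₂ = 3 := by
    rw [Submodule.finrank_add_eq_of_isCompl hc, Module.finrank_fin_fun]
  have hk : (-1 : F) ^ Module.finrank F V₂ = 1 := by
    have h : LinearMap.det L = 1 := by rw [hL, LinearMap.det_toLin']; exact hdet
    rw [hcomp, LinearMap.det_conj, LinearMap.det_prodMap, LinearMap.det_id, one_mul,
      show (-LinearMap.id : V₂ →ₗ[F] V₂) = (-1 : F) • LinearMap.id by ext; simp,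
      LinearMap.det_smul, LinearMap.det_id, mul_one] at h
    exact h
  have hk0 : Module.finrank F V₂ ≠ 0 := fun h => hne (Matrix.toLin'.injective (LinearMap.ext fun v => by
    have hb : V₂ = ⊥ := Submodule.finrank_eq_zero.1 h
    have ht : V₁ = ⊤ := by have := hc.sup_eq_top; rwa [hb, sup_bot_eq] at this
    rw [Matrix.toLin'_one, LinearMap.id_apply, Matrix.toLin'_apply]
    exact (hm1 v).1 (ht ▸ Submodule.mem_top)))
  have hne1 : (-1 : F) ≠ 1 := fun h => h2 (by linear_combination -h)
  have hk2 : Module.finrank F V₂ = 2 := by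
    have hle : Module.finrank F V₂ ≤ 3 := by omega
    generalize Module.finrank F V₂ = k at hk hk0 hle ⊢
    interval_cases k <;> simp_all [pow_succ]
  let b₁ := Module.finBasisOfFinrankEq F V₁ (show Module.finrank F V₁ = 1 by omega)
  let b₂ := Module.finBasisOfFinrankEq F V₂ hk2
  let b := ((b₁.prod b₂).map e).reindex (finSumFinEquiv : Fin 1 ⊕ Fin 2 ≃ Fin 3)
  set P := (Pi.basisFun F (Fin 3)).toMatrix b
  have hu : IsUnit P.det := by
    have h1 : P * b.toMatrix (Pi.basisFun F (Fin 3)) = 1 := Module.Basis.toMatrix_mul_toMatrix_flip _ _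
    exact Matrix.isUnit_det_of_right_inverse h1
  have hcol : ∀ i j, P i j = b j i := fun i j => by
    simp [P, Module.Basis.toMatrix_apply]
  have hb0 : b 0 ∈ V₁ := by
    simp [b, show (finSumFinEquiv : Fin 1 ⊕ Fin 2 ≃ Fin 3).symm 0 = Sum.inl 0 by decide,
      e, Submodule.coe_prodEquivOfIsCompl']
  have hb1 : b 1 ∈ V₂ := by
    simp [b, show (finSumFinEquiv : Fin 1 ⊕ Fin 2 ≃ Fin 3).symm 1 = Sum.inr 0 by decide,
      e, Submodule.coe_prodEquivOfIsCompl']
  have hb2 : b 2 ∈ V₂ := by
    simp [b, show (finSumFinEquiv : Fin 1 ⊕ Fin 2 ≃ Fin 3).symm 2 = Sum.inr 1 by decide,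
      e, Submodule.coe_prodEquivOfIsCompl']
  have hSP : S * P = P * dmat F := by
    ext i j
    have hl : (S * P) i j = (S *ᵥ b j) i := by
      simp [Matrix.mul_apply, Matrix.mulVec, dotProduct, hcol]
    rw [hl]
    fin_cases j
    · simp [(hm1 _).1 hb0, Matrix.mul_apply, dmat, Fin.sum_univ_three, hcol]
    · simp [(hm2 _).1 hb1, Matrix.mul_apply, dmat, Fin.sum_univ_three, hcol]
    · simp [(hm2 _).1 hb2, Matrix.mul_apply, dmat, Fin.sum_univ_three, hcol]
  refine ⟨P * !![P.det⁻¹, 0, 0; 0, 1, 0; 0, 0, 1], ?_, ?_⟩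
  · rw [Matrix.det_mul]
    simp [Matrix.det_fin_three]
    exact mul_inv_cancel₀ (Matrix.det_fin_three P ▸ hu.ne_zero)
  · rw [← mul_assoc, hSP, mul_assoc, mul_assoc]
    congr 1
    simp [dmat]

/-- `A ↦ diag (det A⁻¹, A)`. -/
noncomputable def blockHom (F : Type*) [Field F] : GL (Fin 2) F →* SL(3, F) :=
  MonoidHom.mk' (fun A => ⟨!![(A : Matrix (Fin 2) (Fin 2) F).det⁻¹, 0, 0;
      0, (A : Matrix (Fin 2) (Fin 2) F) 0 0, (A : Matrix (Fin 2) (Fin 2) F) 0 1;
      0, (A : Matrix (Fin 2) (Fin 2) F) 1 0, (A : Matrix (Fin 2) (Fin 2) F) 1 1], by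
    have h : (A : Matrix (Fin 2) (Fin 2) F).det ≠ 0 :=
      ((Matrix.isUnit_iff_isUnit_det _).1 A.isUnit).ne_zero
    simp [Matrix.det_fin_three]
    rw [Matrix.det_fin_two] at h ⊢
    field_simp⟩)
    fun A B => Subtype.ext (by
      show _ = _ * _
      ext i j
      fin_cases i <;> fin_cases j <;>
        simp [Matrix.mul_apply, Fin.sum_univ_three, Fin.sum_univ_two, Matrix.det_mul, mul_comm])

theorem blockHom_apply (A : GL (Fin 2) F) :
    (blockHom F A : Matrix (Fin 3) (Fin 3) F) = !![(A : Matrix (Fin 2) (Fin 2) F).det⁻¹, 0, 0;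
      0, (A : Matrix (Fin 2) (Fin 2) F) 0 0, (A : Matrix (Fin 2) (Fin 2) F) 0 1;
      0, (A : Matrix (Fin 2) (Fin 2) F) 1 0, (A : Matrix (Fin 2) (Fin 2) F) 1 1] := rfl

/-- `blockHom` into `PSL₃`. -/
noncomputable def projHom (F : Type*) [Field F] :
    GL (Fin 2) F →* Matrix.ProjectiveSpecialLinearGroup (Fin 3) F :=
  (QuotientGroup.mk' (Subgroup.center SL(3, F))).comp (blockHom F)

/-- The involution `diag (1, -1, -1)`. -/
def dSL (F : Type*) [Field F] : SL(3, F) := ⟨dmat F, dmat_det⟩

theorem dSL_coe : (dSL F : Matrix (Fin 3) (Fin 3) F) = dmat F := rfl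

theorem range_projHom (h2 : (2 : F) ≠ 0) :
    (projHom F).range = Subgroup.centralizer
      ({QuotientGroup.mk' (Subgroup.center SL(3, F)) (dSL F)} :
        Set (Matrix.ProjectiveSpecialLinearGroup (Fin 3) F)) := by
  ext g
  rw [Subgroup.mem_centralizer_singleton_iff]
  constructor
  · rintro ⟨A, rfl⟩
    have h : blockHom F A * dSL F = dSL F * blockHom F A := by
      refine Subtype.ext ?_
      rw [Matrix.SpecialLinearGroup.coe_mul, Matrix.SpecialLinearGroup.coe_mul, blockHom_apply,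
        dSL_coe, dmat]
      simp
    simp only [projHom, MonoidHom.comp_apply, ← map_mul, h]
  · intro hg
    obtain ⟨g, rfl⟩ := QuotientGroup.mk'_surjective (Subgroup.center SL(3, F)) g
    rw [← map_mul, ← map_mul] at hg
    obtain ⟨z, hz, hgz⟩ := (QuotientGroup.mk'_eq_mk' _).1 hg
    obtain ⟨r, hr3, hr⟩ := Matrix.SpecialLinearGroup.mem_center_iff.1 hz
    have hm : (g : Matrix (Fin 3) (Fin 3) F) * dmat F * Matrix.scalar (Fin 3) r
        = dmat F * (g : Matrix (Fin 3) (Fin 3) F) := by
      rw [hr, ← dSL_coe, ← Matrix.SpecialLinearGroup.coe_mul, ← Matrix.SpecialLinearGroup.coe_mul,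
        hgz, Matrix.SpecialLinearGroup.coe_mul]
    have hm' := fun i j => congrFun (congrFun hm i) j
    simp [dmat, Matrix.mul_apply, Fin.sum_univ_three] at hm'
    -- comparing traces gives `r = 1`
    have hr1 : r = 1 := by
      have ht : (dmat F * Matrix.scalar (Fin 3) r).trace = (dmat F).trace := by
        have h1 : dmat F * Matrix.scalar (Fin 3) r
            = (g⁻¹ : SL(3, F)).1 * (dmat F * g.1) := by
          rw [← hm, ← mul_assoc, ← mul_assoc, ← Matrix.SpecialLinearGroup.coe_mul,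
            inv_mul_cancel, Matrix.SpecialLinearGroup.coe_one, one_mul]
        rw [h1, Matrix.trace_mul_comm, mul_assoc, ← Matrix.SpecialLinearGroup.coe_mul,
          mul_inv_cancel, Matrix.SpecialLinearGroup.coe_one, mul_one]
      simp [dmat, Matrix.trace_fin_three] at ht
      linear_combination ht
    have e : ∀ (i j : Fin 3), (i = 0 ∧ j ≠ 0) ∨ (i ≠ 0 ∧ j = 0) →
        (g : Matrix (Fin 3) (Fin 3) F) i j = 0 := by
      intro i j hij
      have h := congrFun (congrFun hm i) j
      rw [hr1] at h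
      have : (2 : F) * (g : Matrix (Fin 3) (Fin 3) F) i j = 0 := by
        rcases hij with ⟨rfl, hj⟩ | ⟨hi, rfl⟩
        · fin_cases j <;> simp [dmat, Matrix.mul_apply, Fin.sum_univ_three] at hj h <;>
            simp only [Fin.mk_one, Fin.reduceFinMk, Fin.isValue] <;> linear_combination -h
        · fin_cases i <;> simp [dmat, Matrix.mul_apply, Fin.sum_univ_three] at hi h <;>
            simp only [Fin.mk_one, Fin.reduceFinMk, Fin.isValue] <;> linear_combination h
      exact (mul_eq_zero.1 this).resolve_left h2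
    have hd : (g : Matrix (Fin 3) (Fin 3) F).det = 1 := g.2
    rw [Matrix.det_fin_three, e 0 1 (by simp), e 0 2 (by simp), e 1 0 (by simp),
      e 2 0 (by simp)] at hd
    set M : Matrix (Fin 2) (Fin 2) F := !![g.1 1 1, g.1 1 2; g.1 2 1, g.1 2 2]
    have hM : g.1 0 0 * M.det = 1 := by
      rw [Matrix.det_fin_two]; simp [M]; linear_combination hd
    refine ⟨Matrix.GeneralLinearGroup.mkOfDetNeZero M (right_ne_zero_of_mul_eq_one hM),
      congrArg (QuotientGroup.mk' _) (Subtype.ext ?_)⟩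
    rw [blockHom_apply]
    ext i j
    fin_cases i <;> fin_cases j <;> simp [M, e]
    exact (eq_inv_of_mul_eq_one_left (by simpa [M] using hM)).symm

theorem ker_projHom (A : GL (Fin 2) F) :
    A ∈ (projHom F).ker ↔ ∃ a : F, a ^ 3 = 1 ∧
      (A : Matrix (Fin 2) (Fin 2) F) = Matrix.scalar (Fin 2) a := by
  simp only [projHom, MonoidHom.mem_ker, MonoidHom.comp_apply, QuotientGroup.mk'_apply,
    QuotientGroup.eq_one_iff, Matrix.SpecialLinearGroup.mem_center_iff, blockHom_apply,
    Fintype.card_fin]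
  constructor
  · rintro ⟨r, hr, h⟩
    refine ⟨r, hr, ?_⟩
    have h1 := fun i j => congrFun (congrFun h i) j
    ext i j
    fin_cases i <;> fin_cases j
    · simpa using (h1 1 1).symm
    · simpa using (h1 1 2).symm
    · simpa using (h1 2 1).symm
    · simpa using (h1 2 2).symm
  · rintro ⟨a, ha, h⟩
    refine ⟨a, ha, ?_⟩
    rw [h]
    ext i j
    fin_cases i <;> fin_cases j <;> simp [Matrix.det_fin_two]
    have : a ≠ 0 := fun h0 => by rw [h0] at ha; norm_num at ha
    field_simp
    linear_combination ha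

theorem centralizer_involution [Fintype F] (hF : Odd (Fintype.card F))
    (t : Matrix.ProjectiveSpecialLinearGroup (Fin 3) F) (ht : orderOf t = 2) :
    ∃ (Z : Subgroup (GL (Fin 2) F)) (_ : Z.Normal), Z ≤ Subgroup.center (GL (Fin 2) F) ∧
      Nat.card Z = Nat.gcd (Fintype.card F - 1) 3 ∧
      Nonempty (↥(Subgroup.centralizer ({t} : Set (Matrix.ProjectiveSpecialLinearGroup (Fin 3) F)))
        ≃* GL (Fin 2) F ⧸ Z) := by
  classical
  have h2 : (2 : F) ≠ 0 := Ring.two_ne_zero fun h => by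
    have := FiniteField.even_card_of_char_two h
    rw [Nat.odd_iff] at hF; omega
  set π := QuotientGroup.mk' (Subgroup.center SL(3, F))
  obtain ⟨s, hs⟩ := QuotientGroup.mk'_surjective (Subgroup.center SL(3, F)) t
  have ht1 : t ≠ 1 := fun h => by rw [h, orderOf_one] at ht; norm_num at ht
  have htt : π (s * s) = 1 := by rw [map_mul, hs, ← sq, ← ht, pow_orderOf_eq_one]
  have hζ : s * s ∈ Subgroup.center SL(3, F) := (QuotientGroup.eq_one_iff _).1 htt
  have hζ3 : (s * s) ^ 3 = 1 := by
    obtain ⟨r, hr, h⟩ := Matrix.SpecialLinearGroup.mem_center_iff.1 hζ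
    refine Subtype.ext ?_
    rw [Matrix.SpecialLinearGroup.coe_pow, ← h, ← map_pow, show r ^ 3 = 1 from by simpa using hr,
      map_one, Matrix.SpecialLinearGroup.coe_one]
  set s' := (s * s) * s with hs'
  have hs'2 : s' * s' = 1 := by
    calc s' * s' = (s * s) ^ 3 := by rw [hs', pow_succ, pow_succ, pow_one]; group
      _ = 1 := hζ3
  have hs't : π s' = t := by rw [hs', map_mul, htt, one_mul, hs]
  obtain ⟨P, hP, hSP⟩ := exists_conj h2 s'.1
    (by rw [← Matrix.SpecialLinearGroup.coe_mul, hs'2, Matrix.SpecialLinearGroup.coe_one]) s'.2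
    (fun h => ht1 (by rw [← hs't, show s' = 1 from Subtype.ext h, map_one]))
  set p : SL(3, F) := ⟨P, hP⟩
  have hconj : s' * p = p * dSL F := Subtype.ext hSP
  have htd : MulAut.conj (π p) (π (dSL F)) = t := by
    rw [MulAut.conj_apply, ← map_inv, ← map_mul, ← map_mul, ← hconj, mul_inv_cancel_right, hs't]
  refine ⟨(projHom F).ker, inferInstance, ?_, ?_, ⟨?_⟩⟩
  · intro A hA
    obtain ⟨a, -, h⟩ := (ker_projHom A).1 hA
    rw [Subgroup.mem_center_iff]
    intro B
    refine Units.ext ?_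
    rw [Units.val_mul, Units.val_mul, h]
    exact (Matrix.scalar_commute a (Commute.all a) _).eq.symm
  · rw [← Fintype.card_units, ← Nat.card_eq_fintype_card,
      ← IsCyclic.card_powMonoidHom_ker (G := Fˣ) 3]
    let f : Fˣ →* GL (Fin 2) F := Units.map (Matrix.scalar (Fin 2)).toMonoidHom
    have hf : Function.Injective f := Units.map_injective fun a b h => Matrix.scalar_inj.mp h
    have : (projHom F).ker = (powMonoidHom 3 : Fˣ →* Fˣ).ker.map f := by
      ext A
      rw [ker_projHom, Subgroup.mem_map]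
      constructor
      · rintro ⟨a, ha, h⟩
        have ha0 : a ≠ 0 := fun h0 => by rw [h0] at ha; norm_num at ha
        exact ⟨Units.mk0 a ha0, Units.ext (by simpa using ha), Units.ext h.symm⟩
      · rintro ⟨a, ha, rfl⟩
        exact ⟨a, by simpa [Units.ext_iff] using ha, rfl⟩
    rw [this, Subgroup.card_map_of_injective hf]
  · refine ((QuotientGroup.quotientKerEquivRange (projHom F)).trans
      ((MulEquiv.subgroupCongr (range_projHom h2)).trans
        (((Subgroup.centralizer {π (dSL F)}).equivMapOfInjective (MulAut.conj (π p)).toMonoidHom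
          (MulAut.conj (π p)).injective).trans (MulEquiv.subgroupCongr ?_)))).symm
    ext g
    rw [Subgroup.mem_map]
    simp only [Subgroup.mem_centralizer_singleton_iff]
    constructor
    · rintro ⟨c, hc, rfl⟩
      rw [← htd]
      show MulAut.conj (π p) c * MulAut.conj (π p) (π (dSL F))
        = MulAut.conj (π p) (π (dSL F)) * MulAut.conj (π p) c
      rw [← map_mul, ← map_mul, hc]
    · intro hg
      refine ⟨(MulAut.conj (π p)).symm g, ?_, (MulAut.conj (π p)).apply_symm_apply g⟩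
      apply (MulAut.conj (π p)).injective
      rw [map_mul, map_mul, MulEquiv.apply_symm_apply, htd, hg]

end CfsgLib.Involutions.PSL3
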