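import Cfsg.Agent.Lib.Involutions.SylowGLTwo

/-!
# Sylow 2-subgroups of `GU₂` in odd characteristic
-/

set_option autoImplicit false
set_option linter.style.haveILetI false

namespace CfsgLib.Involutions

open Subgroup Matrix

variable {F : Type*} [Field F] [Finite F] {q : ℕ}

omit [Finite F] in
theorem hermForm_two (q : ℕ) (u v : Fin 2 → F) :
    Cfsg.hermForm 2 F q u v = u 0 * v 0 ^ q + u 1 * v 1 ^ q := by
  simp [Cfsg.hermForm, Fin.sum_univ_two]

omit [Finite F] in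
theorem diag_mem_GU {a b : Fˣ} (ha : a ^ (q + 1) = 1) (hb : b ^ (q + 1) = 1) :
    diagHom F (a, b) ∈ Cfsg.GU 2 F q := by
  intro u v
  have e1 : (a : F) * (a : F) ^ q = 1 := by
    rw [← pow_succ', ← Units.val_pow_eq_pow_val, ha, Units.val_one]
  have e2 : (b : F) * (b : F) ^ q = 1 := by
    rw [← pow_succ', ← Units.val_pow_eq_pow_val, hb, Units.val_one]
  simp only [Units.coeHom_apply, diagHom_val, hermForm_two]
  simp only [Matrix.mulVec, dotProduct, Fin.sum_univ_two]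
  simp [mul_pow]
  linear_combination (u 0 * v 0 ^ q) * e1 + (u 1 * v 1 ^ q) * e2

omit [Finite F] in
theorem swap_mem_GU : swapGL F ∈ Cfsg.GU 2 F q := by
  intro u v
  simp only [Units.coeHom_apply, swapGL, hermForm_two]
  simp [Matrix.mulVec, dotProduct, Fin.sum_univ_two, add_comm]

theorem card_GU_two (hF : Nat.card F = q ^ 2) :
    Nat.card (Cfsg.GU 2 F q) = q * ((q + 1) * (q ^ 2 - 1)) := by
  rw [Classical.card_GU hF, Finset.prod_range_succ, Finset.prod_range_succ, Finset.prod_range_zero]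
  simp

theorem sq_sub_one (q : ℕ) : q ^ 2 - 1 = (q + 1) * (q - 1) := by
  rw [← Nat.sq_sub_sq, one_pow]

/-- `GU(2, q)`, `q ≡ 3 (mod 4)`. -/
theorem isWreathed_sylow_GU (hF : Nat.card F = q ^ 2) (h : q % 4 = 3)
    (P : Sylow 2 (Cfsg.GU 2 F q)) : Cfsg.IsWreathed (P : Subgroup (Cfsg.GU 2 F q)) := by
  obtain ⟨n, m, hm, hqm⟩ := odd_split (q + 1) (by omega)
  have hn : 2 ≤ n := by
    by_contra hn
    obtain ⟨j, rfl⟩ := hm
    interval_cases n <;> omega
  obtain ⟨a, ha⟩ := exists_units_order (F := F) (d := 2 ^ n) (by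
    rw [Nat.card_units, hF, sq_sub_one, hqm, mul_assoc]; exact dvd_mul_right _ _)
  have ha' : a ^ (q + 1) = 1 := by
    refine orderOf_dvd_iff_pow_eq_one.1 ?_
    rw [ha, hqm]; exact dvd_mul_right _ _
  refine isWreathed_of_diag _ hn ha (diag_mem_GU ha' (one_pow _)) (diag_mem_GU (one_pow _) ha')
    swap_mem_GU (m := m * m * q * ((q - 1) / 2)) ?_ ?_ P
  · have h4 : q - 1 = 2 * ((q - 1) / 2) := by omega
    rw [card_GU_two hF, sq_sub_one]
    generalize (q - 1) / 2 = t at h4 ⊢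
    rw [hqm, h4]; ring
  · exact ((hm.mul hm).mul (by rw [Nat.odd_iff]; omega)).mul (by rw [Nat.odd_iff]; omega)

theorem qd_exp' {n q m : ℕ} (hn : 1 ≤ n) (hq : q = 2 ^ (n - 1) * m + 1) (hm : Odd m) :
    (2 ^ (n - 1) - 1 + q) % 2 ^ n = 0 := by
  obtain ⟨j, rfl⟩ := hm
  obtain ⟨i, rfl⟩ : ∃ i, n = i + 1 := ⟨n - 1, by omega⟩
  simp only [Nat.add_sub_cancel] at hq ⊢
  have h1 : 1 ≤ 2 ^ i := Nat.one_le_two_pow
  have : 2 ^ i - 1 + q = 2 ^ (i + 1) * (j + 1) := by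
    rw [hq, pow_succ, mul_add, mul_one, mul_add, mul_one]
    have : 2 ^ i * (2 * j) = 2 ^ i * 2 * j := by ring
    omega
  rw [this, Nat.mul_mod_right]

/-- `GU(2, q)`, `q ≡ 1 (mod 4)`. -/
theorem isQuasiDihedral_sylow_GU (hF : Nat.card F = q ^ 2) (h : q % 4 = 1)
    (P : Sylow 2 (Cfsg.GU 2 F q)) : Cfsg.IsQuasiDihedral (P : Subgroup (Cfsg.GU 2 F q)) := by
  classical
  have := Fintype.ofFinite F
  have hq2 := Classical.two_le_q hF
  obtain ⟨k, m, hm, hkm⟩ := odd_split (q - 1) (by omega)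
  have hk : 2 ≤ k := by
    by_contra hk
    obtain ⟨j, rfl⟩ := hm
    interval_cases k <;> omega
  have hq1 : q + 1 = 2 * ((q + 1) / 2) := by omega
  set t := (q + 1) / 2 with ht
  have hsq : q ^ 2 - 1 = 2 ^ (k + 1) * (m * t) := by rw [sq_sub_one, hkm, hq1]; ring
  obtain ⟨u, hu⟩ := exists_units_order (F := F) (d := 2 ^ (k + 1))
    (by rw [Nat.card_units, hF, hsq]; exact dvd_mul_right _ _)
  have hchar : ringChar F ≠ 2 := fun h2 => by
    have := FiniteField.even_card_of_char_two h2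
    rw [← Nat.card_eq_fintype_card, hF, Nat.pow_mod] at this
    rcases Nat.mod_two_eq_zero_or_one q with e | e
    · omega
    · rw [e] at this; norm_num at this
  have h20 : (2 : F) ≠ 0 := Ring.two_ne_zero hchar
  obtain ⟨p, hp⟩ := CharP.exists F
  obtain ⟨σ, hσ, -, hσ2⟩ := Classical.exists_frob hF
  have hneg : (-1 : F) ^ q = -1 := Odd.neg_one_pow (by rw [Nat.odd_iff]; omega)
  obtain ⟨θ, hθ⟩ := Classical.exists_pow_succ_eq hF hneg
  have hθ0 : θ ≠ 0 := fun h0 => by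
    rw [h0, zero_pow (by omega)] at hθ
    exact one_ne_zero (neg_eq_zero.1 hθ.symm)
  let M : GL (Fin 2) F := GeneralLinearGroup.mkOfDetNeZero !![1, 1; θ, -θ] (by
    rw [Matrix.det_fin_two]; simp; intro h0
    have : (2 : F) * θ = 0 := by linear_combination -h0
    exact (mul_ne_zero h20 hθ0) this)
  set v : Fˣ := (u ^ q)⁻¹ with hv
  set X := M * diagHom F (u, v) * M⁻¹ with hX
  set D := M * swapGL F * M⁻¹ with hD
  -- the form in the isotropic basis
  have hform : ∀ a b : Fin 2 → F, Cfsg.hermForm 2 F q ((M : Matrix (Fin 2) (Fin 2) F) *ᵥ a)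
      ((M : Matrix (Fin 2) (Fin 2) F) *ᵥ b) = 2 * (a 0 * b 1 ^ q + a 1 * b 0 ^ q) := by
    intro a b
    have hθ' : θ * θ ^ q = -1 := by rw [← pow_succ', hθ]
    simp only [hermForm_two, ← hσ]
    simp [M, Matrix.mulVec, dotProduct, Fin.sum_univ_two]
    rw [← hσ θ] at hθ'
    linear_combination (a 0 - a 1) * (σ (b 0) - σ (b 1)) * hθ'
  have hmem : ∀ g : GL (Fin 2) F, (∀ a b : Fin 2 → F,
      ((g : Matrix (Fin 2) (Fin 2) F) *ᵥ a) 0 * ((g : Matrix (Fin 2) (Fin 2) F) *ᵥ b) 1 ^ q +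
        ((g : Matrix (Fin 2) (Fin 2) F) *ᵥ a) 1 * ((g : Matrix (Fin 2) (Fin 2) F) *ᵥ b) 0 ^ q
        = a 0 * b 1 ^ q + a 1 * b 0 ^ q) → M * g * M⁻¹ ∈ Cfsg.GU 2 F q := by
    intro g hg a b
    obtain ⟨a', ha'⟩ : ∃ a', a = (M : Matrix (Fin 2) (Fin 2) F) *ᵥ a' :=
      ⟨(M⁻¹ : GL (Fin 2) F).1 *ᵥ a, by rw [Matrix.mulVec_mulVec, ← Units.val_mul, mul_inv_cancel,
        Units.val_one, Matrix.one_mulVec]⟩
    obtain ⟨b', hb'⟩ : ∃ b', b = (M : Matrix (Fin 2) (Fin 2) F) *ᵥ b' :=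
      ⟨(M⁻¹ : GL (Fin 2) F).1 *ᵥ b, by rw [Matrix.mulVec_mulVec, ← Units.val_mul, mul_inv_cancel,
        Units.val_one, Matrix.one_mulVec]⟩
    have key : ∀ c : Fin 2 → F, ((M * g * M⁻¹ : GL (Fin 2) F) : Matrix (Fin 2) (Fin 2) F) *ᵥ
        ((M : Matrix (Fin 2) (Fin 2) F) *ᵥ c)
        = (M : Matrix (Fin 2) (Fin 2) F) *ᵥ ((g : Matrix (Fin 2) (Fin 2) F) *ᵥ c) := fun c => by
      rw [Matrix.mulVec_mulVec, ← Units.val_mul, inv_mul_cancel_right, Units.val_mul,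
        Matrix.mulVec_mulVec]
    rw [ha', hb']
    simp only [Units.coeHom_apply]
    rw [key, key, hform, hform, hg]
  have huv : (u : F) * (v : F) ^ q = 1 ∧ (v : F) * (u : F) ^ q = 1 := by
    have h1 : ((v : F) : F) * (u : F) ^ q = 1 := by
      rw [← Units.val_pow_eq_pow_val, ← Units.val_mul, hv, inv_mul_cancel, Units.val_one]
    refine ⟨?_, h1⟩
    have := congrArg σ h1
    rwa [map_mul, map_one, ← hσ (u : F), hσ2, hσ, mul_comm] at this
  have hXmem : X ∈ Cfsg.GU 2 F q := hmem _ fun a b => by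
    simp only [diagHom_val, ← hσ]
    simp [Matrix.mulVec, dotProduct, Fin.sum_univ_two]
    obtain ⟨h1, h2⟩ := huv
    rw [← hσ] at h1 h2
    linear_combination (a 0 * σ (b 1)) * h1 + (a 1 * σ (b 0)) * h2
  have hDmem : D ∈ Cfsg.GU 2 F q := hmem _ fun a b => by
    simp [swapGL, Matrix.mulVec, dotProduct, Fin.sum_univ_two, add_comm]
  have hordX : orderOf X = 2 ^ (k + 1) := by
    rw [hX, show M * diagHom F (u, v) * M⁻¹ = MulAut.conj M (diagHom F (u, v)) from rfl,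
      MulEquiv.orderOf_eq, orderOf_injective _ diagHom_injective, Prod.orderOf]
    have : orderOf v ∣ orderOf u := by rw [hv, orderOf_inv]; exact orderOf_pow_dvd _
    rw [Nat.lcm_eq_left this, hu]
  refine isQuasiDihedral_sylow (x := ⟨X, hXmem⟩) (y := ⟨D, hDmem⟩) (n := k + 1)
    (m := t * t * m * q) (by omega) (by rw [Subgroup.orderOf_mk, hordX]) ?_ ?_ ?_ ?_ ?_ P
  · rw [Subgroup.orderOf_mk, hD, show M * swapGL F * M⁻¹ = MulAut.conj M (swapGL F) from rfl,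
      MulEquiv.orderOf_eq, orderOf_swap]
  · refine Subtype.ext ?_
    show D * X * D⁻¹ = X ^ (2 ^ (k + 1 - 1) - 1)
    have h0 : X ^ (2 ^ (k + 1 - 1) - 1 + q) = 1 := orderOf_dvd_iff_pow_eq_one.1 (by
      rw [hordX]
      exact Nat.dvd_of_mod_eq_zero (qd_exp' (by omega) (by rw [Nat.add_sub_cancel]; omega) hm))
    rw [pow_add] at h0
    have e : ((u, v) ^ q)⁻¹ = ((v, u) : Fˣ × Fˣ) := by
      refine Prod.ext hv.symm (Units.ext ?_)
      show (((v ^ q)⁻¹ : Fˣ) : F) = u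
      rw [Units.val_inv_eq_inv_val]
      refine inv_eq_of_mul_eq_one_right ?_
      rw [Units.val_pow_eq_pow_val, mul_comm, huv.1]
    rw [eq_inv_of_mul_eq_one_left h0, hX, hD, conj_pow]
    calc M * swapGL F * M⁻¹ * (M * diagHom F (u, v) * M⁻¹) * (M * swapGL F * M⁻¹)⁻¹
        = M * (swapGL F * diagHom F (u, v) * (swapGL F)⁻¹) * M⁻¹ := by group
      _ = M * ((diagHom F (u, v)) ^ q)⁻¹ * M⁻¹ := by
        rw [swap_conj, ← map_pow, ← map_inv, e]
      _ = (M * diagHom F (u, v) ^ q * M⁻¹)⁻¹ := by group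
  · rintro ⟨i, hi⟩
    have h1 : X ^ i = D := congrArg Subtype.val hi
    rw [hX, hD, conj_zpow, ← map_zpow] at h1
    have h2 : diagHom F ((u, v) ^ i) = swapGL F := mul_left_cancel (mul_right_cancel h1)
    have h2' : ((diagHom F ((u, v) ^ i)) : Matrix (Fin 2) (Fin 2) F)
        = (swapGL F : Matrix (Fin 2) (Fin 2) F) := by rw [h2]
    have h3 := congrFun (congrFun h2' 0) 1
    simp [swapGL, diagHom] at h3
  · rw [card_GU_two hF, hsq, hq1]; ring
  · refine ((?_ : Odd t).mul (?_ : Odd t)).mul hm |>.mul ?_ <;> rw [Nat.odd_iff] <;> omega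

end CfsgLib.Involutions
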