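import Cfsg.Agent.Lib.Involutions.TwoGenSylow
import Cfsg.Agent.Lib.Classical.UnitaryOrder

/-!
# Sylow 2-subgroups of `GL₂` and `GU₂` in odd characteristic
-/

set_option autoImplicit false
set_option linter.style.haveILetI false

namespace CfsgLib.Involutions

open Subgroup Matrix

variable {F : Type*} [Field F] [Finite F]

theorem exists_units_order {d : ℕ} (hd : d ∣ Nat.card Fˣ) : ∃ u : Fˣ, orderOf u = d := by
  obtain ⟨g, hg⟩ := IsCyclic.exists_ofOrder_eq_natCard (α := Fˣ)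
  obtain ⟨e, he⟩ := hd
  have he0 : e ≠ 0 := fun h => by
    rw [h, mul_zero] at he
    exact Nat.card_pos.ne' he
  refine ⟨g ^ e, ?_⟩
  rw [orderOf_pow_of_dvd he0 (by rw [hg, he]; exact dvd_mul_left e d), hg, he,
    Nat.mul_div_cancel _ (Nat.pos_of_ne_zero he0)]

/-- The diagonal matrices, as units. -/
def diagHom (F : Type*) [Field F] : Fˣ × Fˣ →* GL (Fin 2) F :=
  MonoidHom.mk' (fun p => ⟨!![(p.1 : F), 0; 0, (p.2 : F)], !![((p.1⁻¹ : Fˣ) : F), 0; 0, ((p.2⁻¹ : Fˣ) : F)],
    by simp [Matrix.one_fin_two], by simp [Matrix.one_fin_two]⟩)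
    fun p q => Units.ext (by simp)

omit [Finite F] in
theorem diagHom_val (a b : Fˣ) :
    ((diagHom F (a, b)) : Matrix (Fin 2) (Fin 2) F) = !![(a : F), 0; 0, (b : F)] := rfl

theorem diagHom_injective : Function.Injective (diagHom F) := by
  rintro ⟨a, b⟩ ⟨a', b'⟩ h
  have h' : ((diagHom F (a, b)) : Matrix (Fin 2) (Fin 2) F) = diagHom F (a', b') := by rw [h]
  rw [diagHom_val, diagHom_val] at h'
  exact Prod.ext (Units.ext (by simpa using congrFun (congrFun h' 0) 0))
    (Units.ext (by simpa using congrFun (congrFun h' 1) 1))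

/-- The swap matrix. -/
def swapGL (F : Type*) [Field F] : GL (Fin 2) F :=
  ⟨!![0, 1; 1, 0], !![0, 1; 1, 0], by simp [Matrix.one_fin_two], by simp [Matrix.one_fin_two]⟩

theorem swap_conj (a b : Fˣ) :
    swapGL F * diagHom F (a, b) * (swapGL F)⁻¹ = diagHom F (b, a) := by
  rw [mul_inv_eq_iff_eq_mul]
  refine Units.ext ?_
  simp only [Units.val_mul, diagHom_val, swapGL]
  simp

theorem orderOf_swap : orderOf (swapGL F) = 2 := by
  refine orderOf_eq_prime ?_ ?_
  · refine Units.ext ?_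
    simp [swapGL, sq, Matrix.one_fin_two]
  · intro h
    have h' : (swapGL F : Matrix (Fin 2) (Fin 2) F) = (1 : Matrix (Fin 2) (Fin 2) F) := by
      rw [h]; rfl
    have := congrFun (congrFun h' 0) 0
    simp [swapGL] at this

/-- A wreathed Sylow subgroup from two diagonal elements and the swap. -/
theorem isWreathed_of_diag (H : Subgroup (GL (Fin 2) F)) {a : Fˣ} {n m : ℕ} (hn : 2 ≤ n)
    (ha : orderOf a = 2 ^ n) (h1 : diagHom F (a, 1) ∈ H) (h2 : diagHom F (1, a) ∈ H)
    (hs : swapGL F ∈ H) (hcard : Nat.card H = 2 ^ (2 * n + 1) * m) (hm : Odd m)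
    (P : Sylow 2 H) : Cfsg.IsWreathed (P : Subgroup H) := by
  have hord : ∀ p : Fˣ × Fˣ, orderOf (diagHom F p) = orderOf p :=
    orderOf_injective _ diagHom_injective
  refine isWreathed_sylow (x := ⟨_, h1⟩) (y := ⟨_, h2⟩) (z := ⟨_, hs⟩) hn ?_ ?_ ?_ ?_ ?_ ?_ ?_
    hcard hm P
  · rw [Subgroup.orderOf_mk, hord, Prod.orderOf, ha, orderOf_one, Nat.lcm_one_right]
  · rw [Subgroup.orderOf_mk, hord, Prod.orderOf, ha, orderOf_one, Nat.lcm_one_left]
  · refine Subtype.ext ?_
    show diagHom F (a, 1) * diagHom F (1, a) = diagHom F (1, a) * diagHom F (a, 1)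
    rw [← map_mul, ← map_mul, mul_comm]
  · rw [eq_bot_iff]
    rintro ⟨w, hw⟩ ⟨⟨i, hi⟩, ⟨j, hj⟩⟩
    have hi' : diagHom F (a, 1) ^ i = w := congrArg Subtype.val hi
    have hj' : diagHom F (1, a) ^ j = w := congrArg Subtype.val hj
    rw [mem_bot]
    refine Subtype.ext ?_
    show w = 1
    rw [← hi', ← map_zpow] at *
    rw [← map_zpow] at hj'
    have := congrArg Prod.fst (diagHom_injective hj')
    rw [← map_one (diagHom F)]
    refine congrArg _ (Prod.ext ?_ ?_)
    · simpa using this.symm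
    · simp
  · rw [Subgroup.orderOf_mk, orderOf_swap]
  · exact Subtype.ext (swap_conj a 1)
  · intro h
    have h' := congrArg Prod.fst (diagHom_injective (congrArg Subtype.val h))
    simp only at h'
    rw [h', orderOf_one] at ha
    have : 1 < 2 ^ n := Nat.one_lt_two_pow (by omega)
    omega

theorem odd_split (k : ℕ) (hk : k ≠ 0) : ∃ n m, Odd m ∧ k = 2 ^ n * m := by
  obtain ⟨n, m, hm, h⟩ := Nat.exists_eq_pow_mul_and_not_dvd hk 2 (by norm_num)
  exact ⟨n, m, Nat.odd_iff.2 (Nat.two_dvd_ne_zero.1 hm), h⟩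

theorem qd_exp {n q m : ℕ} (hn : 1 ≤ n) (hq : q + 1 = 2 ^ (n - 1) * m) (hm : Odd m) :
    q % 2 ^ n = (2 ^ (n - 1) - 1) % 2 ^ n := by
  obtain ⟨j, rfl⟩ := hm
  obtain ⟨i, rfl⟩ : ∃ i, n = i + 1 := ⟨n - 1, by omega⟩
  simp only [Nat.add_sub_cancel] at hq ⊢
  have h1 : 1 ≤ 2 ^ i := Nat.one_le_two_pow
  have : q = (2 ^ i - 1) + 2 ^ (i + 1) * j := by
    rw [pow_succ, mul_add, mul_one] at *
    have : 2 ^ i * (2 * j) = 2 ^ i * 2 * j := by ring
    omega
  rw [this, Nat.add_mul_mod_self_left]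

/-- `GL(2, q)`, `q ≡ 1 (mod 4)`. -/
theorem isWreathed_sylow_GL (h : Nat.card F % 4 = 1) (P : Sylow 2 (GL (Fin 2) F)) :
    Cfsg.IsWreathed (P : Subgroup (GL (Fin 2) F)) := by
  set q := Nat.card F with hq
  have h2 : 2 ≤ q := Finite.one_lt_card
  obtain ⟨n, m, hm, hqm⟩ := odd_split (q - 1) (by omega)
  have hn : 2 ≤ n := by
    by_contra hn
    obtain ⟨j, rfl⟩ := hm
    interval_cases n <;> omega
  obtain ⟨a, ha⟩ := exists_units_order (F := F) (d := 2 ^ n)
    (by rw [Nat.card_units, ← hq, hqm]; exact dvd_mul_right _ _)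
  let e : (⊤ : Subgroup (GL (Fin 2) F)) ≃* GL (Fin 2) F := Subgroup.topEquiv
  obtain ⟨Q⟩ : Nonempty (Sylow 2 (⊤ : Subgroup (GL (Fin 2) F))) := inferInstance
  have hqd : Odd q := by rw [Nat.odd_iff]; omega
  have hcard : Nat.card (GL (Fin 2) F) = 2 ^ (2 * n + 1) * (m * m * q * ((q + 1) / 2)) := by
    rw [Classical.card_GL_two, ← hq, show q ^ 2 - 1 = (q + 1) * (q - 1) by
      rw [← Nat.sq_sub_sq, one_pow]]
    have h4 : q + 1 = 2 * ((q + 1) / 2) := by omega
    generalize (q + 1) / 2 = t at h4 ⊢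
    rw [h4, hqm]; ring
  have hw := isWreathed_of_diag ⊤ hn ha (mem_top _) (mem_top _) (mem_top _)
    (by rw [Nat.card_congr e.toEquiv, hcard])
    (((hm.mul hm).mul hqd).mul (by rw [Nat.odd_iff]; omega)) Q
  have hle : Nonempty ((Q : Subgroup (⊤ : Subgroup (GL (Fin 2) F))) ≃* (P : Subgroup (GL (Fin 2) F))) :=
    ⟨(((Q : Subgroup _).equivMapOfInjective e.toMonoidHom e.injective).trans
      (MulEquiv.subgroupCongr (Sylow.coe_mapSurjective (f := e.toMonoidHom) e.surjective Q).symm)).trans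
      (Sylow.equiv (Q.mapSurjective (f := e.toMonoidHom) e.surjective) P)⟩
  exact hle.elim fun f => isWreathed_of_equiv f hw

/-- `GL(2, q)`, `q ≡ 3 (mod 4)`. -/
theorem isQuasiDihedral_sylow_GL (h : Nat.card F % 4 = 3) (P : Sylow 2 (GL (Fin 2) F)) :
    Cfsg.IsQuasiDihedral (P : Subgroup (GL (Fin 2) F)) := by
  classical
  have := Fintype.ofFinite F
  set q := Nat.card F with hq
  haveI : Fact (∀ r : F, r ^ 2 ≠ (-1 : F) + 0 * r) := ⟨fun r hr => by
    have h1 : IsSquare (-1 : F) := ⟨r, by rw [← sq, hr]; ring⟩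
    rw [FiniteField.isSquare_neg_one_iff, ← Nat.card_eq_fintype_card] at h1
    exact h1 h⟩
  let K := QuadraticAlgebra F (-1) 0
  haveI : Finite K := Finite.of_equiv _ (QuadraticAlgebra.equivProd (-1 : F) 0).symm
  have hK : Nat.card K = q ^ 2 := by
    rw [Nat.card_congr (QuadraticAlgebra.equivProd (-1 : F) 0), Nat.card_prod, sq]
  obtain ⟨k, m, hm, hkm⟩ := odd_split (q + 1) (by omega)
  have hk : 2 ≤ k := by
    by_contra hk
    obtain ⟨j, rfl⟩ := hm
    interval_cases k <;> omega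
  have hq1 : q - 1 = 2 * ((q - 1) / 2) := by omega
  set t := (q - 1) / 2 with ht
  have hsq : q ^ 2 - 1 = 2 ^ (k + 1) * (m * t) := by
    rw [show q ^ 2 - 1 = (q + 1) * (q - 1) by rw [← Nat.sq_sub_sq, one_pow], hkm, hq1]; ring
  obtain ⟨u, hu⟩ := exists_units_order (F := K) (d := 2 ^ (k + 1))
    (by rw [Nat.card_units, hK, hsq]; exact dvd_mul_right _ _)
  let J : { J : Matrix (Fin 2) (Fin 2) F // J * J = (-1 : F) • 1 + (0 : F) • J } :=
    ⟨!![0, -1; 1, 0], by ext i j; fin_cases i <;> fin_cases j <;> simp⟩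
  let ψ : K →ₐ[F] Matrix (Fin 2) (Fin 2) F := QuadraticAlgebra.lift J
  have hψ : ∀ z : K, ψ z = !![z.re, -z.im; z.im, z.re] := fun z => by
    show z.re • (1 : Matrix (Fin 2) (Fin 2) F) + z.im • J.1 = _
    ext i j; fin_cases i <;> fin_cases j <;> simp [J]
  have hψi : Function.Injective ψ := fun a b hab => by
    rw [hψ, hψ] at hab
    exact QuadraticAlgebra.ext (by simpa using congrFun (congrFun hab 0) 0)
      (by simpa using congrFun (congrFun hab 1) 0)
  let D : GL (Fin 2) F :=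
    ⟨!![1, 0; 0, -1], !![1, 0; 0, -1], by simp [Matrix.one_fin_two], by simp [Matrix.one_fin_two]⟩
  have hfrob : ∀ z : K, z ^ q = ⟨z.re, -z.im⟩ := by
    obtain ⟨p, hp⟩ := CharP.exists F
    haveI : Fact p.Prime := ⟨CharP.char_is_prime F p⟩
    haveI : CharP K p := charP_of_injective_algebraMap (algebraMap F K).injective p
    obtain ⟨s, -, hs⟩ := FiniteField.card F p
    rw [← Nat.card_eq_fintype_card, ← hq] at hs
    intro z
    set w : K := ⟨0, 1⟩
    have hz : z = algebraMap F K z.re + algebraMap F K z.im * w := by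
      ext <;> simp [K, w, QuadraticAlgebra.algebraMap_eq]
    have hw : w * w = -1 := by
      ext <;> simp [K, w] <;> rfl
    obtain ⟨j, hj⟩ : ∃ j, q = 2 * (2 * j + 1) + 1 := ⟨q / 4, by omega⟩
    have hwq : w ^ q = -w := by
      rw [hj, pow_succ, pow_mul, sq, hw, Odd.neg_one_pow ⟨j, rfl⟩]; ring
    rw [hz, hs, add_pow_char_pow, mul_pow, ← map_pow, ← map_pow, ← hs, hwq, hq,
      Nat.card_eq_fintype_card, FiniteField.pow_card, FiniteField.pow_card]
    ext <;> simp [K, w, QuadraticAlgebra.algebraMap_eq]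
  set X := Units.map ψ.toMonoidHom u
  have hX : orderOf X = 2 ^ (k + 1) := by
    rw [orderOf_injective _ (Units.map_injective hψi) u, hu]
  refine isQuasiDihedral_sylow (x := X) (y := D) (n := k + 1) (m := t * t * m * q) (by omega) hX
    ?_ ?_ ?_ ?_ ?_ P
  · refine orderOf_eq_prime (Units.ext (by simp [D, sq, Matrix.one_fin_two])) fun hh => ?_
    have hh' : (D : Matrix (Fin 2) (Fin 2) F) = (1 : Matrix (Fin 2) (Fin 2) F) := by
      rw [hh]; rfl
    have := congrFun (congrFun hh' 1) 1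
    simp [D] at this
    have h2 : ringChar F ≠ 2 := fun h2 => by
      have := FiniteField.even_card_of_char_two h2
      rw [← Nat.card_eq_fintype_card, ← hq] at this
      omega
    exact Ring.neg_one_ne_one_of_char_ne_two h2 this
  · have hmod : q % 2 ^ (k + 1) = (2 ^ (k + 1 - 1) - 1) % 2 ^ (k + 1) :=
      qd_exp (by omega) (by rw [Nat.add_sub_cancel]; exact hkm) hm
    have h2 : X ^ (2 ^ (k + 1 - 1) - 1) = X ^ q := by
      rw [pow_eq_pow_iff_modEq, hX]; exact hmod.symm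
    rw [h2, mul_inv_eq_iff_eq_mul]
    refine Units.ext ?_
    simp only [X, ← map_pow, Units.val_mul, Units.coe_map]
    show !![(1 : F), 0; 0, -1] * ψ (u : K) = ψ ((u : K) ^ q) * !![(1 : F), 0; 0, -1]
    rw [hfrob, hψ, hψ]
    simp
  · rintro ⟨i, hi⟩
    have hi' : Units.map ψ.toMonoidHom (u ^ i) = D := (map_zpow _ u i).trans hi
    have := congrArg Units.val hi'
    rw [Units.coe_map] at this
    change ψ ((u ^ i : Kˣ) : K) = !![(1 : F), 0; 0, -1] at this
    rw [hψ] at this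
    have e1 : ((u ^ i : Kˣ) : K).re = 1 := by simpa using congrFun (congrFun this 0) 0
    have e2 : ((u ^ i : Kˣ) : K).re = -1 := by simpa using congrFun (congrFun this 1) 1
    have h2 : ringChar F ≠ 2 := fun h2 => by
      have := FiniteField.even_card_of_char_two h2
      rw [← Nat.card_eq_fintype_card, ← hq] at this
      omega
    exact Ring.neg_one_ne_one_of_char_ne_two h2 (e2.symm.trans e1)
  · rw [Classical.card_GL_two, ← hq, hsq, hq1]; ring
  · refine ((?_ : Odd t).mul (?_ : Odd t)).mul hm |>.mul ?_ <;> rw [Nat.odd_iff] <;> omega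

end CfsgLib.Involutions
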