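import Cfsg.Agent.Lib.Involutions.QuasiDihedralSub
import Cfsg.Agent.Lib.PGroups.Basic
import Cfsg.Agent.Lib.PGroups.UniqueOrderP
import Cfsg.Agent.Lib.Classical.Dihedral

/-!
# Maximal subgroups of a quasi-dihedral group
-/

set_option autoImplicit false

namespace CfsgLib.Involutions.QD

open Subgroup

variable {S : Type*} [Group S] (d : QD S)

theorem refl_mul_zpow (i j : ℤ) :
    d.x ^ i * d.y * d.x ^ j = d.x ^ (i - j + d.half * j) * d.y := by
  rw [mul_assoc, y_mul_zpow, ← d.zpow_x_half, ← mul_assoc, ← mul_assoc, ← zpow_add, ← zpow_add,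
    sub_eq_add_neg]

theorem refl_mul_refl (i j : ℤ) :
    d.x ^ i * d.y * (d.x ^ j * d.y) = d.x ^ (i - j + d.half * j) := by
  rw [← mul_assoc, refl_mul_zpow, mul_assoc, invol_mul_self d.orderOf_y, mul_one]

theorem inv_refl (i : ℤ) : (d.x ^ i * d.y)⁻¹ = d.x ^ (i + d.half * i) * d.y := by
  rw [inv_eq_iff_mul_eq_one, refl_mul_refl, zpow_x_eq_one]
  obtain ⟨c, hc⟩ := d.four_dvd_half
  exact ⟨2 * c * i, by rw [hc]; ring⟩

theorem parity_zpow {i j : ℤ} (h : d.x ^ i = d.x ^ j) : (Even i ↔ Even j) := by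
  rw [zpow_x_inj] at h
  exact Int.even_sub.1 (even_iff_two_dvd.2 ((Dvd.intro d.half rfl).trans h))

theorem even_half : Even d.half := ⟨2 ^ (d.n - 2), by rw [half_eq, two_mul]⟩

/-- The subgroup `⟨x ^ 2, y⟩` (for `e = false`) or `⟨x ^ 2, x * y⟩` (for `e = true`). -/
def maxSub [Finite S] (e : Bool) : Subgroup S where
  carrier := {g | (∃ i : ℤ, Even i ∧ g = d.x ^ i) ∨
    ∃ i : ℤ, (Even i ↔ e = false) ∧ g = d.x ^ i * d.y}
  mul_mem' := by
    rintro _ _ (⟨i, hi, rfl⟩ | ⟨i, hi, rfl⟩) (⟨j, hj, rfl⟩ | ⟨j, hj, rfl⟩)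
    · exact Or.inl ⟨i + j, hi.add hj, (zpow_add _ _ _).symm⟩
    · refine Or.inr ⟨i + j, ?_, by rw [zpow_add, mul_assoc]⟩
      rw [Int.even_add, iff_true_intro hi, true_iff]
      exact hj
    · refine Or.inr ⟨_, ?_, d.refl_mul_zpow i j⟩
      rw [Int.even_add, iff_true_intro (d.even_half.mul_right j), iff_true, Int.even_sub,
        iff_true_intro hj, iff_true]
      exact hi
    · refine Or.inl ⟨_, ?_, d.refl_mul_refl i j⟩
      rw [Int.even_add, iff_true_intro (d.even_half.mul_right j), iff_true, Int.even_sub]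
      exact hi.trans hj.symm
  one_mem' := Or.inl ⟨0, by simp, by simp⟩
  inv_mem' := by
    rintro _ (⟨i, hi, rfl⟩ | ⟨i, hi, rfl⟩)
    · exact Or.inl ⟨-i, hi.neg, (zpow_neg _ _).symm⟩
    · refine Or.inr ⟨_, ?_, d.inv_refl i⟩
      rw [Int.even_add, iff_true_intro (d.even_half.mul_right i), iff_true]
      exact hi

variable [Finite S]

theorem zpow_mem_maxSub {e : Bool} {i : ℤ} : d.x ^ i ∈ d.maxSub e ↔ Even i := by
  refine ⟨?_, fun h => Or.inl ⟨i, h, rfl⟩⟩
  rintro (⟨j, hj, h⟩ | ⟨j, -, h⟩)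
  · exact (d.parity_zpow h).2 hj
  · exact absurd h (d.zpow_ne_refl i j)

theorem refl_mem_maxSub {e : Bool} {i : ℤ} :
    d.x ^ i * d.y ∈ d.maxSub e ↔ (Even i ↔ e = false) := by
  refine ⟨?_, fun h => Or.inr ⟨i, h, rfl⟩⟩
  rintro (⟨j, -, h⟩ | ⟨j, hj, h⟩)
  · exact absurd h.symm (d.zpow_ne_refl j i)
  · rw [d.parity_zpow (mul_right_cancel h)]
    exact hj

theorem x_not_mem_maxSub (e : Bool) : d.x ∉ d.maxSub e := by
  rw [← zpow_one d.x, zpow_mem_maxSub]
  simp

theorem index_maxSub (e : Bool) : (d.maxSub e).index = 2 := by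
  rw [index_eq_two_iff']
  refine ⟨d.x, fun b => ?_⟩
  rcases d.cover b with ⟨i, rfl⟩ | ⟨i, rfl⟩
  · rw [← zpow_one_add, zpow_mem_maxSub, zpow_mem_maxSub, Int.even_add]
    rcases Int.even_or_odd i with h | h
    · exact Or.inr ⟨h, by simp [h]⟩
    · rw [← Int.not_even_iff_odd] at h
      exact Or.inl ⟨by simp [h], h⟩
  · rw [← mul_assoc, ← zpow_one_add, refl_mem_maxSub, refl_mem_maxSub, Int.even_add]
    cases e <;> rcases Int.even_or_odd i with h | h
    · exact Or.inr ⟨by simp [h], by simp [h]⟩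
    · rw [← Int.not_even_iff_odd] at h
      exact Or.inl ⟨by simp [h], by simp [h]⟩
    · exact Or.inl ⟨by simp [h], by simp [h]⟩
    · rw [← Int.not_even_iff_odd] at h
      exact Or.inr ⟨by simp [h], by simp [h]⟩

theorem isPGroup (d : QD S) : IsPGroup 2 S := IsPGroup.of_card d.card_eq

theorem isCoatom_maxSub (e : Bool) : IsCoatom (d.maxSub e) :=
  CfsgLib.PGroups.isCoatom_of_index_eq_prime (p := 2) (d.index_maxSub e)

theorem isCoatom_zpowers : IsCoatom (zpowers d.x) :=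
  CfsgLib.PGroups.isCoatom_of_index_eq_prime (p := 2) d.index_zpowers

theorem coatom_cases {M : Subgroup S} (hM : IsCoatom M) :
    M = zpowers d.x ∨ M = d.maxSub true ∨ M = d.maxSub false := by
  have h2 := CfsgLib.PGroups.index_eq_of_isCoatom d.isPGroup hM
  by_cases hx : d.x ∈ M
  · exact Or.inl (((d.isCoatom_zpowers).le_iff_eq hM.1).1 (zpowers_le.2 hx))
  have hpar : ∀ i : ℤ, d.x ^ i ∈ M ↔ Even i := by
    intro i
    have hsq : ∀ k : ℤ, d.x ^ (2 * k) ∈ M := fun k => by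
      rw [zpow_mul, zpow_ofNat]
      exact zpow_mem (sq_mem_of_index_two h2 _) k
    rcases Int.even_or_odd' i with ⟨k, rfl | rfl⟩
    · simp [hsq k]
    · rw [zpow_add, zpow_one, mul_mem_cancel_left (hsq k)]
      simp [hx]
  right
  by_cases hy : d.y ∈ M
  · refine Or.inr (((d.isCoatom_maxSub false).le_iff_eq hM.1).1 ?_)
    rintro _ (⟨i, hi, rfl⟩ | ⟨i, hi, rfl⟩)
    · exact (hpar i).2 hi
    · exact mul_mem ((hpar i).2 (hi.2 rfl)) hy
  · refine Or.inl (((d.isCoatom_maxSub true).le_iff_eq hM.1).1 ?_)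
    rintro _ (⟨i, hi, rfl⟩ | ⟨i, hi, rfl⟩)
    · exact (hpar i).2 hi
    · refine (mul_mem_iff_of_index_two h2).2 (iff_of_false (fun h => ?_) hy)
      simpa using hi.1 ((hpar i).1 h)

theorem commutator_eq : commutator S = zpowers (d.x ^ 2) := by
  refine le_antisymm ?_ (zpowers_le.2 ?_)
  · intro g hg
    have h1 := CfsgLib.PGroups.commutator_le_of_isCoatom d.isPGroup d.isCoatom_zpowers
    obtain ⟨i, rfl⟩ := h1 hg
    have h2 := CfsgLib.PGroups.commutator_le_of_isCoatom d.isPGroup (d.isCoatom_maxSub false) hg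
    obtain ⟨k, hk⟩ := d.zpow_mem_maxSub.1 h2
    exact ⟨k, by
      show (d.x ^ 2) ^ k = d.x ^ i
      rw [← zpow_natCast, ← zpow_mul, hk]; push_cast; rw [two_mul]⟩
  · obtain ⟨u, v, huv⟩ := d.isCoprime_unit
    have h : d.x ^ (2 : ℕ) = (d.x * d.y * d.x⁻¹ * d.y⁻¹) ^ u := by
      have h1 := d.conj_refl 1 0
      simp only [zpow_zero, one_mul, zero_add, zpow_one] at h1
      rw [h1, mul_inv_cancel_right, ← zpow_mul, ← zpow_natCast, zpow_x_inj]
      exact ⟨v, by rw [d.half_eq] at huv ⊢; push_cast; linear_combination -2 * huv⟩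
    rw [h]
    exact zpow_mem (commutator_mem_commutator (mem_top _) (mem_top _)) u

theorem center_eq : center S = zpowers d.z := by
  refine le_antisymm (fun g hg => ?_) (zpowers_le.2 d.z_mem_center)
  rw [← d.centralizer_quat 0]
  exact center_le_centralizer _ hg

end CfsgLib.Involutions.QD

namespace CfsgLib.Involutions.QD

open Subgroup

variable {S : Type*} [Group S] [Finite S] (d : QD S)

theorem n_eq {m : ℕ} (hm : Nat.card S = 2 ^ (m + 1)) : d.n = m := by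
  have := Nat.pow_right_injective le_rfl (d.card_eq.symm.trans hm)
  omega

theorem orderOf_x_sq : orderOf (d.x ^ 2) = 2 ^ (d.n - 1) := by
  have h1 := d.three_le
  rw [orderOf_pow' _ two_ne_zero, d.orderOf_x, Nat.gcd_eq_right (dvd_pow_self 2 (by omega)),
    Nat.pow_div (by omega) two_pos |>.symm.trans (by rw [pow_one])]

theorem card_maxSub (e : Bool) : Nat.card (d.maxSub e) = 2 ^ d.n := by
  have h := card_mul_index (d.maxSub e)
  rw [d.index_maxSub, d.card_eq, pow_succ] at h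
  exact Nat.eq_of_mul_eq_mul_right two_pos h

theorem x_sq_mem (e : Bool) : d.x ^ 2 ∈ d.maxSub e := by
  rw [← zpow_natCast]
  exact d.zpow_mem_maxSub.2 (by simp)

theorem conj_refl_x_sq (i : ℤ) :
    d.x ^ i * d.y * d.x ^ 2 * (d.x ^ i * d.y)⁻¹ = (d.x ^ 2)⁻¹ := by
  rw [show d.x ^ i * d.y * d.x ^ 2 * (d.x ^ i * d.y)⁻¹
    = d.x ^ i * (d.y * d.x ^ (2 : ℤ) * d.y⁻¹) * (d.x ^ i)⁻¹ by group, conj_y_zpow,
    d.z_zpow_of_even even_two]
  group

theorem maxSub_false_equiv :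
    Nonempty (d.maxSub false ≃* DihedralGroup (2 ^ (d.n - 1))) := by
  have h1 := d.three_le
  have hy : d.x ^ (0 : ℤ) * d.y ∈ d.maxSub false := d.refl_mem_maxSub.2 (by simp)
  refine CfsgLib.Classical.nonempty_mulEquiv_dihedralGroup (x := ⟨_, d.x_sq_mem false⟩)
    (s := ⟨_, hy⟩) (pow_pos two_pos _) ?_ ?_ ?_ ?_ ?_
  · rw [← Subgroup.orderOf_coe]; exact d.orderOf_x_sq
  · exact Subtype.ext (invol_mul_self (d.orderOf_refl_even (by simp)))
  · exact Subtype.ext (d.conj_refl_x_sq 0)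
  · rintro ⟨k, hk⟩
    refine d.refl_not_mem 0 ?_
    have h : (d.x ^ 2) ^ k = d.x ^ (0 : ℤ) * d.y := congrArg Subtype.val hk
    rw [← h]
    exact zpow_mem (pow_mem (mem_zpowers _) 2) k
  · rw [d.card_maxSub, ← pow_succ']
    congr 1
    omega

theorem maxSub_true_equiv :
    Nonempty (d.maxSub true ≃* QuaternionGroup (2 ^ (d.n - 2))) := by
  have h1 := d.three_le
  have hy : d.x ^ (1 : ℤ) * d.y ∈ d.maxSub true := d.refl_mem_maxSub.2 (by simp)
  have : NeZero (2 ^ (d.n - 2)) := ⟨(pow_pos two_pos _).ne'⟩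
  refine CfsgLib.PGroups.nonempty_mulEquiv_quaternionGroup (x := ⟨_, d.x_sq_mem true⟩)
    (g := ⟨_, hy⟩) ?_ ?_ ?_ ?_ ?_
  · rw [← Subgroup.orderOf_coe, ← pow_succ']
    exact d.orderOf_x_sq.trans (congrArg _ (by omega))
  · exact Subtype.ext (d.conj_refl_x_sq 1)
  · refine Subtype.ext ?_
    show (d.x ^ (1 : ℤ) * d.y) ^ 2 = (d.x ^ 2) ^ 2 ^ (d.n - 2)
    rw [sq, sq_refl, zpow_one, ← pow_mul, ← zpow_natCast, z, d.half_eq]
    push_cast
    rfl
  · rintro ⟨g, ⟨i, hi, rfl⟩ | ⟨i, hi, rfl⟩⟩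
    · left
      obtain ⟨k, rfl⟩ := hi
      refine ⟨k, Subtype.ext ?_⟩
      show (d.x ^ 2) ^ k = d.x ^ (k + k)
      rw [← zpow_natCast, ← zpow_mul]; push_cast; rw [two_mul]
    · right
      obtain ⟨k, hk⟩ : Even (-(i - 1) + d.half * (i - 1)) := by
        refine Even.add (Even.neg ?_) (d.even_half.mul_right _)
        have : ¬ Even i := fun h => by simpa using hi.1 h
        exact (Int.not_even_iff_odd.1 this).sub_odd odd_one
      refine ⟨k, Subtype.ext ?_⟩
      show (d.x ^ 2) ^ k = (d.x ^ (1 : ℤ) * d.y)⁻¹ * (d.x ^ i * d.y)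
      rw [← zpow_natCast, ← zpow_mul, show ((2 : ℕ) : ℤ) * k = k + k by push_cast; ring, ← hk,
        mul_inv_rev, invol_inv d.orderOf_y, zpow_one,
        show d.y * d.x⁻¹ * (d.x ^ i * d.y) = d.y * d.x ^ (i - 1) * d.y by group, y_mul_zpow,
        mul_assoc _ d.y d.y, invol_mul_self d.orderOf_y, mul_one, ← d.zpow_x_half, ← zpow_add]
  · rintro ⟨k, hk⟩
    refine d.refl_not_mem 1 ?_
    have h : (d.x ^ 2) ^ k = d.x ^ (1 : ℤ) * d.y := congrArg Subtype.val hk
    rw [← h]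
    exact zpow_mem (pow_mem (mem_zpowers _) 2) k

theorem closure_invol : closure {g : S | orderOf g = 2} = d.maxSub false := by
  refine le_antisymm ((closure_le _).2 ?_) ?_
  · intro g hg
    rcases d.invol_cases hg with rfl | ⟨i, hi, rfl⟩
    · exact d.zpow_mem_maxSub.2 d.even_half
    · exact d.refl_mem_maxSub.2 (by simp [hi])
  · have hr : ∀ i : ℤ, Even i → d.x ^ i * d.y ∈ closure {g : S | orderOf g = 2} :=
      fun i hi => subset_closure (d.orderOf_refl_even hi)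
    rintro _ (⟨i, hi, rfl⟩ | ⟨i, hi, rfl⟩)
    · have := mul_mem (hr i hi) (hr 0 (by simp))
      rwa [zpow_zero, one_mul, mul_assoc, invol_mul_self d.orderOf_y, mul_one] at this
    · exact hr i (hi.2 rfl)

end CfsgLib.Involutions.QD
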