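import Mathlib

/-!
# The Baer–Suzuki theorem

The proof of Alperin and Lyons.
-/

set_option autoImplicit false

namespace CfsgLib.Involutions

open Subgroup
open scoped Pointwise

variable {G : Type*} [Group G] {p : ℕ}

/-- The conjugates of `X` lying in `K`. -/
def conjugatesIn (X K : Subgroup G) : Set (Subgroup G) :=
  {Y | (∃ g : G, X.map (MulAut.conj g).toMonoidHom = Y) ∧ Y ≤ K}

theorem conjugatesIn_smul (X K : Subgroup G) (g : G) :
    conjugatesIn X (K.map (MulAut.conj g).toMonoidHom)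
      = (fun Y => Y.map (MulAut.conj g).toMonoidHom) '' conjugatesIn X K := by
  have hcomp : ∀ (a b : G) (Y : Subgroup G),
      (Y.map (MulAut.conj a).toMonoidHom).map (MulAut.conj b).toMonoidHom
        = Y.map (MulAut.conj (b * a)).toMonoidHom := by
    intro a b Y
    rw [Subgroup.map_map]
    congr 1
    ext x
    simp [mul_assoc]
  ext Y
  constructor
  · rintro ⟨⟨a, rfl⟩, hle⟩
    refine ⟨X.map (MulAut.conj (g⁻¹ * a)).toMonoidHom, ⟨⟨_, rfl⟩, ?_⟩, ?_⟩
    · intro x hx
      obtain ⟨y, hy, rfl⟩ := hx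
      obtain ⟨k, hk, he⟩ := hle ⟨y, hy, rfl⟩
      simp only [MulEquiv.coe_toMonoidHom, MulAut.conj_apply] at he ⊢
      have e : g⁻¹ * a * y * (g⁻¹ * a)⁻¹ = k := by
       calc g⁻¹ * a * y * (g⁻¹ * a)⁻¹ = g⁻¹ * (a * y * a⁻¹) * g := by group
        _ = k := by rw [← he]; group
      rw [e]; exact hk
    · show (X.map _).map _ = _
      rw [hcomp, mul_inv_cancel_left]
  · rintro ⟨Y, ⟨⟨a, rfl⟩, hle⟩, rfl⟩
    exact ⟨⟨g * a, (hcomp a g X).symm⟩, map_mono hle⟩

theorem ncard_conjugatesIn_sylow [Finite G] [Fact p.Prime] (X : Subgroup G) (P Q : Sylow p G) :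
    (conjugatesIn X (Q : Subgroup G)).ncard = (conjugatesIn X (P : Subgroup G)).ncard := by
  obtain ⟨g, rfl⟩ := MulAction.exists_smul_eq G P Q
  rw [show ((g • P : Sylow p G) : Subgroup G) = (P : Subgroup G).map (MulAut.conj g).toMonoidHom
    from Sylow.pointwise_smul_def, conjugatesIn_smul]
  exact Set.ncard_image_of_injective _ (Subgroup.map_injective (MulAut.conj g).injective)

/-- If the common conjugates of `X` do not exhaust those in `P`, some further one normalises
their join. -/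
theorem exists_normalizing [Finite G] [Fact p.Prime] (X : Subgroup G) {P : Subgroup G}
    (hP : IsPGroup p P) {I : Set (Subgroup G)} (hI : I ⊂ conjugatesIn X P) :
    ∃ Y ∈ conjugatesIn X P, Y ∉ I ∧ Y ≤ normalizer ((sSup I : Subgroup G) : Set G) := by
  classical
  by_cases h0 : ∀ Y ∈ conjugatesIn X P, Y ≤ sSup I → Y ∈ I
  swap
  · push Not at h0
    obtain ⟨Y, hY, hle, hnI⟩ := h0
    exact ⟨Y, hY, hnI, hle.trans le_normalizer⟩
  -- a largest subgroup containing no further conjugates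
  obtain ⟨T, hT⟩ := Set.Finite.exists_maximal
    (Set.toFinite {T : Subgroup G | sSup I ≤ T ∧ T ≤ P ∧ ∀ Y ∈ conjugatesIn X P, Y ≤ T → Y ∈ I})
    ⟨sSup I, le_rfl, sSup_le fun Y hY => (hI.1 hY).2, h0⟩
  obtain ⟨hIT, hTP, hTI⟩ := hT.prop
  have hTne : T ≠ P := by
    rintro rfl
    exact hI.2 fun Y hY => hTI Y hY hY.2
  have hlt : T.subgroupOf P < ⊤ :=
    lt_top_iff_ne_top.2 fun h => hTne (le_antisymm hTP (subgroupOf_eq_top.1 h))
  have hgrow := Group.normalizerCondition_of_isNilpotent (h := hP.isNilpotent) _ hlt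
  rw [← subgroupOf_normalizer_eq hTP] at hgrow
  have hbig : ¬ (P ⊓ normalizer (T : Set G)) ≤ T := by
    intro hle
    exact hgrow.not_ge fun x hx => hle ⟨x.2, hx⟩
  have hTN : T ≤ P ⊓ normalizer (T : Set G) := le_inf hTP le_normalizer
  obtain ⟨Y, hY, hYN, hYI⟩ : ∃ Y ∈ conjugatesIn X P, Y ≤ P ⊓ normalizer (T : Set G) ∧ Y ∉ I := by
    by_contra hno
    push Not at hno
    exact hbig (hT.2 ⟨hIT.trans hTN, inf_le_left, hno⟩ hTN)
  refine ⟨Y, hY, hYI, fun y hy => ?_⟩
  have hyT := (hYN hy).2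
  have hyP : y ∈ P := (hYN hy).1
  rw [mem_normalizer_iff_map_conj_eq]
  refine Subgroup.eq_of_le_of_card_ge ?_
    (Nat.card_congr (Subgroup.equivMapOfInjective _ _ (MulAut.conj y).injective).toEquiv).le
  rw [Subgroup.map_le_iff_le_comap]
  refine sSup_le fun Z hZ => ?_
  rw [← Subgroup.map_le_iff_le_comap]
  refine le_sSup (hTI _ ?_ ?_)
  · have h := conjugatesIn_smul X P y
    have hPy : P.map (MulAut.conj y).toMonoidHom = P :=
      mem_normalizer_iff_map_conj_eq.1 (le_normalizer hyP)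
    rw [hPy] at h
    rw [h]
    exact ⟨Z, hI.1 hZ, rfl⟩
  · refine (map_mono ((le_sSup hZ).trans hIT)).trans_eq ?_
    exact mem_normalizer_iff_map_conj_eq.1 hyT

theorem baerSuzuki [Finite G] [Fact p.Prime] (X : Subgroup G)
    (h : ∀ g : G, IsPGroup p ↥(X ⊔ X.map (MulAut.conj g).toMonoidHom)) :
    ∃ N : Subgroup G, N.Normal ∧ IsPGroup p N ∧ X ≤ N := by
  classical
  have hX : IsPGroup p X := (h 1).to_le le_sup_left
  -- any two conjugates generate a `p`-group
  have hpair : ∀ a b : G, IsPGroup p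
      ↥(X.map (MulAut.conj a).toMonoidHom ⊔ X.map (MulAut.conj b).toMonoidHom) := by
    intro a b
    have hm := (h (a⁻¹ * b)).map (MulAut.conj a).toMonoidHom
    rw [Subgroup.map_sup, Subgroup.map_map] at hm
    have e : X.map (MulAut.conj b).toMonoidHom
        = X.map ((MulAut.conj a).toMonoidHom.comp (MulAut.conj (a⁻¹ * b)).toMonoidHom) := by
      congr 1
      ext x
      simp [mul_assoc]
    rw [e]
    exact hm
  -- all Sylow subgroups contain the same conjugates of `X`
  have hconst : ∀ P Q : Sylow p G,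
      conjugatesIn X (P : Subgroup G) = conjugatesIn X (Q : Subgroup G) := by
    by_contra hne
    push Not at hne
    obtain ⟨P₀, Q₀, hne₀⟩ := hne
    obtain ⟨⟨P, Q⟩, hPQne, hmax⟩ := Set.exists_max_image
      {R : Sylow p G × Sylow p G |
        conjugatesIn X (R.1 : Subgroup G) ≠ conjugatesIn X (R.2 : Subgroup G)}
      (fun R => (conjugatesIn X (R.1 : Subgroup G) ∩ conjugatesIn X (R.2 : Subgroup G)).ncard)
      (Set.toFinite _) ⟨(P₀, Q₀), hne₀⟩
    let I := conjugatesIn X (P : Subgroup G) ∩ conjugatesIn X (Q : Subgroup G)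
    have hP : I ⊂ conjugatesIn X (P : Subgroup G) := by
      refine Set.inter_subset_left.ssubset_of_ne fun he => hPQne ?_
      exact Set.eq_of_subset_of_ncard_le (Set.inter_eq_left.1 he)
        (ncard_conjugatesIn_sylow X P Q).le (Set.toFinite _)
    have hQ : I ⊂ conjugatesIn X (Q : Subgroup G) := by
      refine Set.inter_subset_right.ssubset_of_ne fun he => hPQne ?_
      exact (Set.eq_of_subset_of_ncard_le (Set.inter_eq_right.1 he)
        (ncard_conjugatesIn_sylow X Q P).le (Set.toFinite _)).symm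
    obtain ⟨Y, hY, hYI, hYN⟩ := exists_normalizing X P.isPGroup' hP
    obtain ⟨Z, hZ, hZI, hZN⟩ := exists_normalizing X Q.isPGroup' hQ
    obtain ⟨a, ha⟩ := hY.1
    obtain ⟨b, hb⟩ := hZ.1
    have hYZ : IsPGroup p ↥(Y ⊔ Z) := by rw [← ha, ← hb]; exact hpair a b
    have hIp : IsPGroup p ↥(sSup I) := P.isPGroup'.to_le (sSup_le fun W hW => hW.1.2)
    obtain ⟨R, hR⟩ :=
      (IsPGroup.to_sup_of_normal_left' hIp hYZ (sup_le hYN hZN)).exists_le_sylow
    have hIR : I ⊆ conjugatesIn X (R : Subgroup G) := fun W hW =>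
      ⟨hW.1.1, (le_sSup hW).trans (le_sup_left.trans hR)⟩
    have key : ∀ (S : Sylow p G) (W : Subgroup G), I ⊆ conjugatesIn X (S : Subgroup G) →
        W ∈ conjugatesIn X (S : Subgroup G) → W ∈ conjugatesIn X (R : Subgroup G) → W ∉ I →
        conjugatesIn X (S : Subgroup G) = conjugatesIn X (R : Subgroup G) := by
      intro S W hIS hWS hWR hWI
      by_contra hSR
      have h1 : (conjugatesIn X (S : Subgroup G) ∩ conjugatesIn X (R : Subgroup G)).ncard
          ≤ I.ncard := hmax (S, R) hSR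
      have h2 : (insert W I).ncard ≤
          (conjugatesIn X (S : Subgroup G) ∩ conjugatesIn X (R : Subgroup G)).ncard :=
        Set.ncard_le_ncard (Set.insert_subset ⟨hWS, hWR⟩ (Set.subset_inter hIS hIR))
      rw [Set.ncard_insert_of_notMem hWI] at h2
      omega
    exact hPQne ((key P Y Set.inter_subset_left hY
      ⟨hY.1, le_sup_left.trans (le_sup_right.trans hR)⟩ hYI).trans
      (key Q Z Set.inter_subset_right hZ
        ⟨hZ.1, le_sup_right.trans (le_sup_right.trans hR)⟩ hZI).symm)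
  obtain ⟨P, hP⟩ := hX.exists_le_sylow
  refine ⟨sSup (conjugatesIn X (P : Subgroup G)), ⟨fun n hn g => ?_⟩,
    P.isPGroup'.to_le (sSup_le fun W hW => hW.2), le_sSup ⟨⟨1, ?_⟩, hP⟩⟩
  · have hle : (sSup (conjugatesIn X (P : Subgroup G))).map (MulAut.conj g).toMonoidHom
        ≤ sSup (conjugatesIn X (P : Subgroup G)) := by
      rw [Subgroup.map_le_iff_le_comap]
      refine sSup_le fun W hW => ?_
      rw [← Subgroup.map_le_iff_le_comap]
      refine le_sSup ?_
      rw [hconst P (g • P), show ((g • P : Sylow p G) : Subgroup G) =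
        (P : Subgroup G).map (MulAut.conj g).toMonoidHom from Sylow.pointwise_smul_def,
        conjugatesIn_smul]
      exact ⟨W, hW, rfl⟩
    exact hle ⟨n, hn, rfl⟩
  · ext x; simp

end CfsgLib.Involutions
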