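import Cfsg.Agent.Lib.PGroups.UniqueOrderP
import Cfsg.Agent.Lib.Classical.Dihedral
import Cfsg.Agent.S0126
import Cfsg.Prelude.Def_CaseTheorems

/-!
# 2-groups all of whose abelian normal subgroups are cyclic
-/

set_option autoImplicit false

open Subgroup

namespace CfsgLib.Involutions

theorem two_pow_dvd_of_mul_sq {m : ℕ} {r : ℤ} (h : (2 : ℤ) ^ (m + 1) ∣ (r - 1) * (r + 1))
    (hr : (4 : ℤ) ∣ r - 1) : (2 : ℤ) ^ m ∣ r - 1 := by
  obtain ⟨c, hc⟩ := hr
  have hcop : IsCoprime ((2 : ℤ) ^ m) (2 * c + 1) :=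
    (Int.prime_two.coprime_iff_not_dvd.mpr (by omega)).pow_left
  refine hcop.dvd_of_dvd_mul_right ?_
  refine (mul_dvd_mul_iff_left (two_ne_zero (α := ℤ))).mp ?_
  rw [← pow_succ']
  refine h.trans (dvd_of_eq ?_)
  linear_combination (r - 1) * hc

variable {P : Type*} [Group P] [Finite P]

/-- A noncyclic group with an abelian noncyclic subgroup, all abelian normal subgroups cyclic, is
a generalized quaternion, dihedral of order at least 16, or quasidihedral 2-group. -/
theorem abelianNormalCyclic_classify (hP : IsPGroup 2 P)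
    (hn : ∀ A : Subgroup P, A.Normal → IsMulCommutative A → IsCyclic A)
    (hm : ∃ B : Subgroup P, IsMulCommutative B ∧ ¬ IsCyclic B) :
    (∃ n : ℕ, Nonempty (P ≃* QuaternionGroup n)) ∨
      (∃ n : ℕ, 8 ≤ n ∧ Nonempty (P ≃* DihedralGroup n)) ∨ Cfsg.IsQuasiDihedral P := by
  classical
  haveI : Fact (Nat.Prime 2) := ⟨Nat.prime_two⟩
  obtain ⟨A, hAn, hAab, -, hAC⟩ :=
    CfsgLib.PGroups.exists_selfCentralizing_normal hP ⊥ inferInstance
  haveI := hAn
  haveI hAcyc : IsCyclic A := hn A hAn hAab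
  obtain ⟨⟨x, hxA⟩, hxgen⟩ := IsCyclic.exists_generator (α := A)
  have hAeq : A = zpowers x := by
    refine le_antisymm (fun a ha => ?_) (zpowers_le.mpr hxA)
    obtain ⟨i, hi⟩ := Subgroup.mem_zpowers_iff.mp (hxgen ⟨a, ha⟩)
    exact Subgroup.mem_zpowers_iff.mpr ⟨i, by simpa using congrArg Subtype.val hi⟩
  obtain ⟨k, hk⟩ := IsPGroup.iff_orderOf.1 hP x
  have hcard : Nat.card A = 2 ^ k := by rw [hAeq, Nat.card_zpowers, hk]
  have hdvd : ∀ a : ℤ, x ^ a = 1 ↔ (2 : ℤ) ^ k ∣ a := fun a => by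
    rw [← orderOf_dvd_iff_zpow_eq_one, hk]; norm_num
  have hcen : ∀ y : P, Commute y x → y ∈ A := by
    intro y hy
    rw [← hAC]
    intro a ha
    rw [SetLike.mem_coe, hAeq, Subgroup.mem_zpowers_iff] at ha
    obtain ⟨i, rfl⟩ := ha
    exact (hy.symm.zpow_left i).eq
  have hconjx : ∀ y : P, ∃ r : ℤ, y * x * y⁻¹ = x ^ r := fun y => by
    have := hAn.conj_mem x hxA y
    rw [hAeq, Subgroup.mem_zpowers_iff] at this
    exact this.imp fun r hr => hr.symm
  have hAne : A ≠ ⊤ := by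
    intro h
    obtain ⟨B, -, hB⟩ := hm
    haveI : IsCyclic P := by
      subst h
      exact isCyclic_of_surjective (⊤ : Subgroup P).subtype (fun g => ⟨⟨g, mem_top g⟩, rfl⟩)
    exact hB inferInstance
  obtain ⟨g, hg⟩ : ∃ g, g ∉ A := by
    by_contra h
    push Not at h
    exact hAne (eq_top_iff.mpr fun y _ => h y)
  have hk2 : 2 ≤ k := by
    by_contra h
    have hxc : x ∈ center P := CfsgLib.PGroups.mem_center_of_pow_eq_one hP hxA (by
      rw [← orderOf_dvd_iff_pow_eq_one, hk]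
      exact (pow_dvd_pow 2 (by omega : k ≤ 1)).trans (by norm_num))
    exact hg (hcen g (mem_center_iff.mp hxc g))
  set z := x ^ ((2 : ℤ) ^ (k - 1)) with hz
  have h2k : (2 : ℤ) ^ k = 2 * 2 ^ (k - 1) := by rw [← pow_succ', Nat.sub_add_cancel (by omega)]
  have hz2 : z * z = 1 := by rw [hz, ← zpow_add, hdvd, ← two_mul, ← h2k]
  have hzc : z ∈ center P := CfsgLib.PGroups.mem_center_of_pow_eq_one hP
    (show z ∈ A from zpow_mem hxA _) (by rw [sq, hz2])
  have hzi : z⁻¹ = z := inv_eq_of_mul_eq_one_right hz2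
  have hzne : z ≠ 1 := by
    rw [hz, Ne, hdvd]
    intro h
    have h1 := Int.le_of_dvd (by positivity) h
    have h2 : (0 : ℤ) < 2 ^ (k - 1) := by positivity
    omega
  -- the four-group contradiction
  have hfour : ∀ s : P, s ∉ A → s * s = 1 →
      (∀ y : P, y * s * y⁻¹ = s ∨ y * s * y⁻¹ = s * z) → False := by
    intro s hsA hs2 hconj
    have hsz : Commute s z := mem_center_iff.mp hzc s
    set U := closure ({s, z} : Set P) with hU
    have hUn : U.Normal := by
      constructor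
      intro a ha y
      induction ha using closure_induction with
      | mem a ha =>
        rcases ha with rfl | ha
        · rcases hconj y with h | h <;> rw [h]
          · exact subset_closure (Set.mem_insert _ _)
          · exact mul_mem (subset_closure (Set.mem_insert _ _))
              (subset_closure (Set.mem_insert_of_mem _ rfl))
        · rw [Set.mem_singleton_iff] at ha; subst ha
          rw [mem_center_iff.mp hzc y, mul_inv_cancel_right]
          exact subset_closure (Set.mem_insert_of_mem _ rfl)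
      | one => simp [one_mem]
      | mul a b _ _ iha ihb =>
        rw [show y * (a * b) * y⁻¹ = (y * a * y⁻¹) * (y * b * y⁻¹) by group]
        exact mul_mem iha ihb
      | inv a _ iha =>
        rw [show y * a⁻¹ * y⁻¹ = (y * a * y⁻¹)⁻¹ by group]; exact inv_mem iha
    have hUc : ∀ a ∈ U, ∀ b ∈ U, a * b = b * a := by
      have h1 : U ≤ centralizer ({s, z} : Set P) := by
        rw [hU, closure_le]
        rintro a (rfl | rfl) <;> refine mem_centralizer_iff.mpr ?_ <;> rintro b (rfl | rfl)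
        · rfl
        · exact hsz.symm.eq
        · exact hsz.eq
        · rfl
      rw [← centralizer_closure] at h1
      exact fun a ha b hb => (mem_centralizer_iff.mp (h1 ha) b hb).symm
    haveI := hn U hUn ⟨⟨fun a b => Subtype.ext (hUc a a.2 b b.2)⟩⟩
    haveI : Fintype U := Fintype.ofFinite _
    have hle := IsCyclic.card_pow_eq_one_le (α := U) two_pos
    have hsU : s ∈ U := subset_closure (Set.mem_insert _ _)
    have hzU : z ∈ U := subset_closure (Set.mem_insert_of_mem _ rfl)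
    have h3 : ({1, ⟨s, hsU⟩, ⟨z, hzU⟩} : Finset U) ⊆ Finset.univ.filter fun a => a ^ 2 = 1 := by
      intro a ha
      rw [Finset.mem_filter]
      refine ⟨Finset.mem_univ _, ?_⟩
      simp only [Finset.mem_insert, Finset.mem_singleton] at ha
      rcases ha with rfl | rfl | rfl
      · exact one_pow 2
      · exact Subtype.ext (by rw [Subgroup.coe_pow, sq]; exact hs2)
      · exact Subtype.ext (by rw [Subgroup.coe_pow, sq]; exact hz2)
    have h4 := (Finset.card_le_card h3).trans hle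
    have e1 : (1 : U) ≠ ⟨s, hsU⟩ := fun h => hsA (by
      rw [show s = 1 from (congrArg Subtype.val h).symm]; exact one_mem A)
    have e2 : (1 : U) ≠ ⟨z, hzU⟩ := fun h => hzne (congrArg Subtype.val h).symm
    have e3 : (⟨s, hsU⟩ : U) ≠ ⟨z, hzU⟩ := fun h => hsA (by
      rw [show s = z from congrArg Subtype.val h]; exact zpow_mem hxA _)
    rw [Finset.card_insert_of_notMem, Finset.card_pair e3] at h4
    · omega
    · simp [e1, e2]
  -- no element moves `x` to `x z` if `k ≥ 3`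
  have hmod : 3 ≤ k → ∀ y : P, y * x * y⁻¹ ≠ x * z := by
    intro hk3 y hy
    have hyA : y ∉ A := fun h => hzne (by
      have hc : y * x * y⁻¹ = x := by
        obtain ⟨i, rfl⟩ := Subgroup.mem_zpowers_iff.mp (hAeq ▸ h)
        group
      rw [hc] at hy
      exact mul_eq_left.mp hy.symm)
    have hyz : ∀ i : ℤ, y * x ^ i * y⁻¹ = x ^ i * z ^ i := fun i => by
      rw [← conj_zpow, hy, (show Commute x z from mem_center_iff.mp hzc x).mul_zpow]
    have hy2 : y * y ∈ A := hcen _ (by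
      show y * y * x = x * (y * y)
      rw [← mul_inv_eq_iff_eq_mul]
      calc y * y * x * (y * y)⁻¹ = y * (y * x * y⁻¹) * y⁻¹ := by group
        _ = y * (x * z) * y⁻¹ := by rw [hy]
        _ = (y * x * y⁻¹) * (y * z * y⁻¹) := by group
        _ = x := by rw [hy, mem_center_iff.mp hzc y, mul_inv_cancel_right, mul_assoc, hz2, mul_one])
    obtain ⟨i, hi⟩ := Subgroup.mem_zpowers_iff.mp (hAeq ▸ hy2)
    have hieven : (2 : ℤ) ∣ i := by
      have h1 : x ^ i * z ^ i = x ^ i * 1 := by rw [← hyz, hi, mul_one]; group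
      have h2 := mul_left_cancel h1
      rw [hz, ← zpow_mul, hdvd, h2k, mul_comm (2 : ℤ)] at h2
      exact (mul_dvd_mul_iff_left (by positivity : (2 : ℤ) ^ (k - 1) ≠ 0)).mp h2
    obtain ⟨i', rfl⟩ := hieven
    have hzj : ∀ j : ℤ, z ^ j = x ^ (2 ^ (k - 1) * j) := fun j => by rw [hz, ← zpow_mul]
    have hsqj : ∀ j : ℤ, (y * x ^ j) * (y * x ^ j) = x ^ (j * (2 + 2 ^ (k - 1)) + 2 * i') := by
      intro j
      calc (y * x ^ j) * (y * x ^ j) = (y * x ^ j * y⁻¹) * (y * y) * x ^ j := by group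
        _ = x ^ j * x ^ (2 ^ (k - 1) * j) * x ^ (2 * i') * x ^ j := by rw [hyz, hzj, hi]
        _ = _ := by rw [← zpow_add, ← zpow_add, ← zpow_add]; congr 1; ring
    have h4k : (2 : ℤ) ^ (k - 1) = 2 * 2 ^ (k - 2) := by
      rw [← pow_succ', show k - 2 + 1 = k - 1 by omega]
    set j := -i' * (1 - 2 ^ (k - 2)) with hj
    set s := y * x ^ j with hs
    have hs2 : s * s = 1 := by
      rw [hs, hsqj, hdvd, hj, h4k]
      obtain ⟨c, hc⟩ : (2 : ℤ) ^ k ∣ 2 * (2 ^ (k - 2) * 2 ^ (k - 2)) := by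
        rw [← pow_add, ← pow_succ']; exact pow_dvd_pow 2 (by omega)
      exact ⟨c * i', by linear_combination i' * hc⟩
    have hsA : s ∉ A := fun h => hyA ((mul_mem_cancel_right (zpow_mem hxA j)).mp h)
    have hsx : ∀ m : ℤ, s * x ^ m * s⁻¹ = x ^ m * z ^ m := fun m => by
      rw [← hyz, hs]; group
    refine hfour s hsA hs2 fun u => ?_
    obtain ⟨r, hr⟩ := hconjx u
    have hrodd : Odd r := by
      by_contra he
      obtain ⟨c, rfl⟩ := Int.not_odd_iff_even.mp he
      have h1 : (u * x * u⁻¹) ^ ((2 : ℤ) ^ (k - 1)) = 1 := by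
        rw [hr, ← zpow_mul, hdvd, h2k]; exact ⟨c, by ring⟩
      rw [conj_zpow, mul_inv_eq_one, mul_eq_left] at h1
      exact hzne h1
    set t := u * s * u⁻¹ with ht
    have htx : t * (x ^ r) * t⁻¹ = x ^ r * z := by
      rw [ht, ← hr]
      calc u * s * u⁻¹ * (u * x * u⁻¹) * (u * s * u⁻¹)⁻¹ = u * (s * x ^ (1 : ℤ) * s⁻¹) * u⁻¹ := by
            group
        _ = u * (x * z) * u⁻¹ := by rw [hsx, zpow_one, zpow_one]
        _ = (u * x * u⁻¹) * (u * z * u⁻¹) := by group
        _ = _ := by rw [mem_center_iff.mp hzc u, mul_inv_cancel_right]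
    have hzr : z ^ r = z := by
      obtain ⟨c, rfl⟩ := hrodd
      rw [zpow_add_one, zpow_mul, zpow_two, hz2, one_zpow, one_mul]
    have hst : s⁻¹ * t ∈ A := by
      refine hcen _ ?_
      have hc : Commute (s⁻¹ * t) (x ^ r) := by
        show s⁻¹ * t * x ^ r = x ^ r * (s⁻¹ * t)
        rw [← mul_inv_eq_iff_eq_mul]
        calc s⁻¹ * t * x ^ r * (s⁻¹ * t)⁻¹ = s⁻¹ * (t * x ^ r * t⁻¹) * s := by group
          _ = s⁻¹ * (s * x ^ r * s⁻¹) * s := by rw [htx, hsx, hzr]
          _ = x ^ r := by group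
      obtain ⟨a, b, hab⟩ : IsCoprime r ((2 : ℤ) ^ k) := by
        refine IsCoprime.pow_right (Int.prime_two.coprime_iff_not_dvd.mpr ?_).symm
        rw [← even_iff_two_dvd]; exact Int.not_even_iff_odd.mpr hrodd
      have hx' : x = (x ^ r) ^ a := by
        conv_lhs => rw [← zpow_one x, ← hab, zpow_add, (hdvd _).mpr (dvd_mul_left _ b), mul_one,
          mul_comm, zpow_mul]
      rw [hx']; exact hc.zpow_right a
    obtain ⟨m, hm'⟩ := Subgroup.mem_zpowers_iff.mp (hAeq ▸ hst)
    have htsm : t = s * x ^ m := by rw [hm']; group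
    have ht2 : t * t = 1 := by rw [ht]; calc u * s * u⁻¹ * (u * s * u⁻¹) = u * (s * s) * u⁻¹ := by group
                                            _ = 1 := by rw [hs2]; group
    have hm2 : (2 : ℤ) ^ (k - 1) ∣ m := by
      have h1 : x ^ (m * (2 + 2 ^ (k - 1))) = 1 := by
        calc x ^ (m * (2 + 2 ^ (k - 1))) = x ^ m * x ^ (2 ^ (k - 1) * m) * x ^ m := by
              rw [← zpow_add, ← zpow_add]; congr 1; ring
          _ = (s * x ^ m * s⁻¹) * (s * s) * x ^ m := by rw [hsx, hzj, hs2, mul_one]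
          _ = (s * x ^ m) * (s * x ^ m) := by group
          _ = 1 := by rw [← htsm, ht2]
      rw [hdvd, h2k, h4k, show m * (2 + 2 * 2 ^ (k - 2)) = 2 * (m * (1 + 2 ^ (k - 2))) by ring,
        mul_dvd_mul_iff_left (two_ne_zero (α := ℤ))] at h1
      rw [h4k]
      refine IsCoprime.dvd_of_dvd_mul_right ?_ h1
      rw [← h4k]
      refine (Int.prime_two.coprime_iff_not_dvd.mpr ?_).pow_left
      have : (2 : ℤ) ∣ 2 ^ (k - 2) := dvd_pow_self 2 (by omega)
      omega
    obtain ⟨c, rfl⟩ := hm2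
    rw [← hzj] at htsm
    rcases Int.even_or_odd c with ⟨d, rfl⟩ | ⟨d, rfl⟩
    · left; rw [htsm, ← two_mul, zpow_mul, zpow_two, hz2, one_zpow, mul_one]
    · right; rw [htsm, zpow_add_one, zpow_mul, zpow_two, hz2, one_zpow, one_mul]
  -- elements acting as `1 mod 4` lie in `A`
  have hone : ∀ (d : ℕ) (y : P) (r : ℤ), y * x * y⁻¹ = x ^ r →
      (2 : ℤ) ^ (k - d) ∣ r - 1 → (4 : ℤ) ∣ r - 1 → y ∈ A := by
    intro d
    induction d with
    | zero =>
      intro y r hr h _
      rw [Nat.sub_zero, ← hdvd, zpow_sub_one, mul_inv_eq_one] at h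
      rw [h] at hr
      exact hcen y (mul_inv_eq_iff_eq_mul.mp hr)
    | succ d ih =>
      intro y r hr h h4
      by_cases hd : (2 : ℤ) ^ (k - d) ∣ r - 1
      · exact ih y r hr hd h4
      exfalso
      have hy2r : y * y * x * (y * y)⁻¹ = x ^ (r * r) := by
        calc y * y * x * (y * y)⁻¹ = y * (y * x * y⁻¹) * y⁻¹ := by group
          _ = _ := by rw [hr, ← conj_zpow, hr, zpow_mul]
      have hy2 : y * y ∈ A := by
        refine ih _ (r * r) hy2r ?_ ?_
        · rw [show r * r - 1 = (r - 1) * (r + 1) by ring]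
          refine dvd_trans (pow_dvd_pow 2 (show k - d ≤ k - (d + 1) + 1 by omega)) ?_
          rw [pow_succ]
          refine mul_dvd_mul h ?_
          omega
        · rw [show r * r - 1 = (r - 1) * (r + 1) by ring]; exact h4.mul_right _
      have hfix : x ^ (r * r) = x := by
        obtain ⟨i, hi⟩ := Subgroup.mem_zpowers_iff.mp (hAeq ▸ hy2)
        rw [← hy2r, ← hi]; group
      have h2 : (2 : ℤ) ^ (k - 1 + 1) ∣ (r - 1) * (r + 1) := by
        rw [Nat.sub_add_cancel (by omega), show (r - 1) * (r + 1) = r * r - 1 by ring, ← hdvd,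
          zpow_sub_one, hfix, mul_inv_cancel]
      obtain ⟨c, hc⟩ := two_pow_dvd_of_mul_sq h2 h4
      have hcodd : Odd c := by
        rw [← Int.not_even_iff_odd]
        rintro ⟨e, rfl⟩
        exact hd (dvd_trans (pow_dvd_pow 2 (Nat.sub_le k d)) ⟨e, by rw [h2k, hc]; ring⟩)
      have hk3 : 3 ≤ k := by
        by_contra hk'
        obtain rfl : k = 2 := by omega
        exact hd (dvd_trans (pow_dvd_pow 2 (Nat.sub_le 2 d)) (by norm_num; exact h4))
      refine hmod hk3 y ?_
      obtain ⟨e, rfl⟩ := hcodd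
      rw [hr, show r = 1 + (2 ^ (k - 1) + 2 ^ k * e) by rw [h2k]; linear_combination hc, zpow_add,
        zpow_one, zpow_add, (hdvd _).mpr (dvd_mul_right _ e), mul_one]
  have hthree : ∀ (y : P) (r : ℤ), y ∉ A → y * x * y⁻¹ = x ^ r → (4 : ℤ) ∣ r + 1 := by
    intro y r hy hr
    have hrodd : ¬ (2 : ℤ) ∣ r := by
      rintro ⟨c, rfl⟩
      have h1 : (y * x * y⁻¹) ^ ((2 : ℤ) ^ (k - 1)) = 1 := by
        rw [hr, ← zpow_mul, hdvd, h2k]; exact ⟨c, by ring⟩
      rw [conj_zpow, mul_inv_eq_one, mul_eq_left] at h1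
      exact hzne h1
    by_contra h
    have h4 : (4 : ℤ) ∣ r - 1 := by omega
    refine hy (hone (k - 2) y r hr ?_ h4)
    rw [show k - (k - 2) = 2 by omega]
    simpa using h4
  have hprod : ∀ y w : P, y ∉ A → w ∉ A → y * w ∈ A := by
    intro y w hy hw
    obtain ⟨r, hr⟩ := hconjx y
    obtain ⟨r', hr'⟩ := hconjx w
    obtain ⟨a, ha⟩ := hthree y r hy hr
    obtain ⟨b, hb⟩ := hthree w r' hw hr'
    have e : y * w * x * (y * w)⁻¹ = x ^ (r * r') := by
      calc y * w * x * (y * w)⁻¹ = y * (w * x * w⁻¹) * y⁻¹ := by group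
        _ = _ := by rw [hr', ← conj_zpow, hr, zpow_mul]
    have h4 : (4 : ℤ) ∣ r * r' - 1 := by
      refine ⟨4 * a * b - a - b, ?_⟩
      rw [show r = 4 * a - 1 by omega, show r' = 4 * b - 1 by omega]; ring
    refine hone (k - 2) _ _ e ?_ h4
    rw [show k - (k - 2) = 2 by omega]
    simpa using h4
  have hidx : A.index = 2 := by
    rw [Subgroup.index_eq_two_iff]
    refine ⟨g, fun b => ?_⟩
    by_cases hb : b ∈ A
    · exact Or.inr ⟨hb, fun h => hg ((mul_mem_cancel_left hb).mp h)⟩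
    · exact Or.inl ⟨hprod b g hb hg, hb⟩
  have hPcard : Nat.card P = 2 ^ (k + 1) := by
    rw [← A.card_mul_index, hcard, hidx, pow_succ]
  obtain ⟨r, hr⟩ := hconjx g
  obtain ⟨a, ha⟩ := hthree g r hg hr
  have hg2 : g * g ∈ A := hprod g g hg hg
  obtain ⟨i, hi⟩ := Subgroup.mem_zpowers_iff.mp (hAeq ▸ hg2)
  have hr1 : (2 : ℤ) ^ (k - 1) ∣ r + 1 := by
    have hfix : x ^ (r * r) = x := by
      have e : g * g * x * (g * g)⁻¹ = x ^ (r * r) := by
        calc g * g * x * (g * g)⁻¹ = g * (g * x * g⁻¹) * g⁻¹ := by group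
          _ = _ := by rw [hr, ← conj_zpow, hr, zpow_mul]
      rw [← e, ← hi]; group
    have h2 : (2 : ℤ) ^ (k - 1 + 1) ∣ (-r - 1) * (-r + 1) := by
      rw [Nat.sub_add_cancel (by omega), show (-r - 1) * (-r + 1) = r * r - 1 by ring, ← hdvd,
        zpow_sub_one, hfix, mul_inv_cancel]
    have := (two_pow_dvd_of_mul_sq h2 ⟨-a, by omega⟩).neg_right
    rwa [show -(-r - 1) = r + 1 by ring] at this
  have hi2 : (2 : ℤ) ^ (k - 1) ∣ i := by
    have h1 : (g * x * g⁻¹) ^ i = x ^ i := by rw [conj_zpow, hi]; group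
    rw [hr, ← zpow_mul] at h1
    have h2 : (2 : ℤ) ^ k ∣ r * i - i := by rw [← hdvd, zpow_sub, h1, mul_inv_cancel]
    rw [h2k, show r * i - i = 2 * (i * (2 * a - 1)) by
      rw [show r = 4 * a - 1 by omega]; ring, mul_dvd_mul_iff_left (two_ne_zero (α := ℤ))] at h2
    refine IsCoprime.dvd_of_dvd_mul_right ?_ h2
    exact (Int.prime_two.coprime_iff_not_dvd.mpr (by omega)).pow_left
  have hgg : g * g = 1 ∨ g * g = z := by
    obtain ⟨c, hc⟩ := hi2
    rw [← hi, hc, zpow_mul, ← hz]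
    rcases Int.even_or_odd c with ⟨d, rfl⟩ | ⟨d, rfl⟩
    · left; rw [← two_mul, zpow_mul, zpow_two, hz2, one_zpow]
    · right; rw [zpow_add_one, zpow_mul, zpow_two, hz2, one_zpow, one_mul]
  have hgz : g ∉ zpowers x := hAeq ▸ hg
  have hdec : ∀ y : P, y ∈ zpowers x ∨ g⁻¹ * y ∈ zpowers x := by
    intro y
    rw [← hAeq]
    refine or_iff_not_imp_left.mpr fun hy => hprod _ _ ?_ hy
    exact fun h => hg (by simpa using inv_mem h)
  obtain ⟨c, hc⟩ := hr1
  rcases Int.even_or_odd c with ⟨d, rfl⟩ | ⟨d, rfl⟩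
  · -- inversion
    have hinv : g * x * g⁻¹ = x⁻¹ := by
      rw [hr, show r = 2 ^ k * d + (-1) by rw [h2k]; linear_combination hc, zpow_add,
        (hdvd _).mpr (dvd_mul_right _ d), one_mul, zpow_neg_one]
    rcases hgg with h1 | h1
    · right; left
      by_cases hk3 : 3 ≤ k
      · refine ⟨2 ^ k, (by norm_num : 8 ≤ 2 ^ 3).trans (Nat.pow_le_pow_right (by norm_num) hk3), ?_⟩
        exact CfsgLib.Classical.nonempty_mulEquiv_dihedralGroup (Nat.two_pow_pos k) hk h1 hinv hgz
          (by rw [hPcard, pow_succ']; )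
      · exfalso
        obtain rfl : k = 2 := by omega
        refine hfour g hg h1 fun y => ?_
        have hsx : ∀ m : ℤ, g * x ^ m * g⁻¹ = x ^ (-m) := fun m => by
          rw [← conj_zpow, hinv, inv_zpow, zpow_neg]
        have key : ∀ m : ℤ, x ^ m * g * (x ^ m)⁻¹ = g ∨ x ^ m * g * (x ^ m)⁻¹ = g * z := by
          intro m
          have e : x ^ m * g * (x ^ m)⁻¹ = g * x ^ (-(2 * m)) := by
            calc x ^ m * g * (x ^ m)⁻¹ = g * ((g⁻¹ * x ^ m * g) * (x ^ m)⁻¹) := by group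
              _ = g * ((g * x ^ m * g⁻¹) * (x ^ m)⁻¹) := by rw [inv_eq_of_mul_eq_one_right h1]
              _ = _ := by rw [hsx, ← zpow_neg, ← zpow_add]; congr 2; ring
          rw [e, show -(2 * m) = (2 : ℤ) ^ (2 - 1) * (-m) by norm_num, zpow_mul, ← hz]
          rcases Int.even_or_odd (-m) with ⟨d, hd⟩ | ⟨d, hd⟩
          · left; rw [hd, ← two_mul, zpow_mul, zpow_two, hz2, one_zpow, mul_one]
          · right; rw [hd, zpow_add_one, zpow_mul, zpow_two, hz2, one_zpow, one_mul]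
        rcases hdec y with hy | hy <;> obtain ⟨m, hm'⟩ := Subgroup.mem_zpowers_iff.mp hy
        · rw [← hm']; exact key m
        · obtain rfl : y = g * x ^ m := by rw [hm']; group
          rcases key m with h | h
          · left
            rw [show g * x ^ m * g * (g * x ^ m)⁻¹ = g * (x ^ m * g * (x ^ m)⁻¹) * g⁻¹ by group, h,
              mul_inv_cancel_right]
          · right
            rw [show g * x ^ m * g * (g * x ^ m)⁻¹ = g * (x ^ m * g * (x ^ m)⁻¹) * g⁻¹ by group, h,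
              show g * (g * z) * g⁻¹ = g * (g * z * g⁻¹) by group, mem_center_iff.mp hzc g,
              mul_inv_cancel_right]; exact mem_center_iff.mp hzc g
    · left
      refine ⟨2 ^ (k - 1), ?_⟩
      haveI : NeZero (2 ^ (k - 1)) := ⟨pow_ne_zero _ two_ne_zero⟩
      refine CfsgLib.PGroups.nonempty_mulEquiv_quaternionGroup (x := x) (g := g) ?_ hinv ?_ hdec hgz
      · rw [hk, ← pow_succ']; congr 1; omega
      · rw [sq, h1, hz, ← zpow_natCast]; norm_num
  · -- quasidihedral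
    right; right
    have hact : g * x * g⁻¹ = x ^ (-1 : ℤ) * z := by
      rw [hr, show r = 2 ^ k * d + (-1) + 2 ^ (k - 1) by rw [h2k]; linear_combination hc, zpow_add,
        zpow_add, (hdvd _).mpr (dvd_mul_right _ d), one_mul, ← hz]
    have hk3 : 3 ≤ k := by
      by_contra hk'
      obtain rfl : k = 2 := by omega
      have h2 : (4 : ℤ) ∣ r + 1 := ⟨a, ha⟩
      norm_num at hc
      omega
    obtain ⟨s, hs2, hsact, hsA⟩ : ∃ s, s * s = 1 ∧ s * x * s⁻¹ = x ^ (-1 : ℤ) * z ∧ s ∉ A := by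
      rcases hgg with h1 | h1
      · exact ⟨g, h1, hact, hg⟩
      refine ⟨g * x, ?_, ?_, fun h => hg ((mul_mem_cancel_right hxA).mp h)⟩
      · calc g * x * (g * x) = (g * x * g⁻¹) * (g * g) * x := by group
          _ = x ^ (-1 : ℤ) * (z * z) * x := by rw [hact, h1, mul_assoc _ z z]
          _ = 1 := by rw [hz2, zpow_neg_one, mul_one, inv_mul_cancel]
      · rw [← hact]; group
    refine ⟨k, hk3, hPcard, x, s, hk, orderOf_eq_prime (by rw [sq, hs2]) (fun h => hsA (h ▸ one_mem A)),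
      ?_⟩
    rw [hsact, hz, ← zpow_add, ← zpow_natCast, Nat.cast_sub Nat.one_le_two_pow]
    congr 1

theorem abelianNormalCyclic_main {p : ℕ} [hp : Fact p.Prime] (hP : IsPGroup p P)
    (hn : ∀ A : Subgroup P, A.Normal → IsMulCommutative A → IsCyclic A)
    (hm : ∃ B : Subgroup P, IsMulCommutative B ∧ ¬ IsCyclic B) :
    p = 2 ∧ ((∃ n : ℕ, Nonempty (P ≃* QuaternionGroup n)) ∨
      (∃ n : ℕ, 8 ≤ n ∧ Nonempty (P ≃* DihedralGroup n)) ∨ Cfsg.IsQuasiDihedral P) := by
  by_cases hp2 : p = 2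
  · subst hp2
    exact ⟨rfl, abelianNormalCyclic_classify hP hn hm⟩
  exfalso
  obtain ⟨B, -, hB⟩ := hm
  obtain ⟨A, hA, ⟨hAab, hAe⟩, hAc⟩ := Cfsg.Agent.S0126.result hp2 hP (fun h => hB inferInstance)
  haveI := hn A hA hAab
  obtain ⟨a, ha⟩ := IsCyclic.exists_generator (α := A)
  have h1 : orderOf a = p ^ 2 := (orderOf_eq_card_of_forall_mem_zpowers ha).trans hAc
  have h2 : orderOf a ∣ p := orderOf_dvd_of_pow_eq_one (Subtype.ext (hAe a a.2))
  have h3 := Nat.le_of_dvd hp.out.pos (h1 ▸ h2)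
  have := hp.out.two_le
  nlinarith

end CfsgLib.Involutions
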