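import Cfsg.Agent.Lib.Involutions.Dihedral

/-!
# Four-groups generated by two commuting involutions
-/

set_option autoImplicit false

namespace CfsgLib.Involutions

variable {G : Type*} [Group G]

theorem mem_closure_commute_pair [Finite G] {x y g : G} (hx : orderOf x = 2) (hy : orderOf y = 2)
    (hc : Commute x y) : g ∈ Subgroup.closure ({x, y} : Set G) ↔
      g = 1 ∨ g = x ∨ g = y ∨ g = x * y := by
  have hxy : x * y * (x * y) = 1 := by
    rw [← hc.mul_mul_mul_comm, invol_mul_self hx, invol_mul_self hy, one_mul]
  constructor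
  · intro hg
    obtain ⟨k, rfl | rfl⟩ := (mem_closure_pair_iff hx hy).1 hg <;>
      rcases Int.even_or_odd' k with ⟨m, rfl | rfl⟩ <;>
      simp only [zpow_add, zpow_mul, zpow_two, hxy, one_zpow, one_mul, mul_one, zpow_one, true_or, or_true]
    exact Or.inr (Or.inr (Or.inl (by rw [← mul_assoc, invol_mul_self hx, one_mul])))
  · have h1 : x ∈ Subgroup.closure ({x, y} : Set G) := Subgroup.subset_closure (by simp)
    have h2 : y ∈ Subgroup.closure ({x, y} : Set G) := Subgroup.subset_closure (by simp)
    rintro (rfl | rfl | rfl | rfl)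
    · exact one_mem _
    · exact h1
    · exact h2
    · exact mul_mem h1 h2

theorem isKleinFour_closure_pair [Finite G] {x y : G} (hx : orderOf x = 2) (hy : orderOf y = 2)
    (hc : Commute x y) (hne : x ≠ y) : IsKleinFour (Subgroup.closure ({x, y} : Set G)) := by
  classical
  have hset : (Subgroup.closure ({x, y} : Set G) : Set G) = ↑({1, x, y, x * y} : Finset G) := by
    ext g
    simp [mem_closure_commute_pair hx hy hc]
  have h1 := invol_ne_one hx
  have h2 := invol_ne_one hy
  have h3 : x * y ≠ 1 := fun h => hne ((eq_inv_of_mul_eq_one_left h).trans (invol_inv hy))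
  have hcard : Nat.card (Subgroup.closure ({x, y} : Set G)) = 4 := by
    show Nat.card (Subgroup.closure ({x, y} : Set G) : Set G) = 4
    rw [Nat.card_coe_set_eq, hset, Set.ncard_coe_finset]
    rw [Finset.card_insert_of_notMem, Finset.card_insert_of_notMem, Finset.card_insert_of_notMem,
      Finset.card_singleton]
    · simp only [Finset.mem_singleton]
      exact fun h => h1 (mul_eq_right.1 h.symm)
    · simp only [Finset.mem_insert, Finset.mem_singleton, not_or]
      exact ⟨hne, fun h => h2 (mul_eq_left.1 h.symm)⟩
    · simp only [Finset.mem_insert, Finset.mem_singleton, not_or]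
      exact ⟨h1.symm, h2.symm, h3.symm⟩
  refine ⟨hcard, Nat.dvd_antisymm (Monoid.exponent_dvd_of_forall_pow_eq_one fun g => ?_) ?_⟩
  · refine Subtype.ext ?_
    show (g : G) ^ 2 = 1
    rcases (mem_closure_commute_pair hx hy hc).1 g.2 with h | h | h | h <;> rw [h, sq]
    · exact one_mul 1
    · exact invol_mul_self hx
    · exact invol_mul_self hy
    · rw [← hc.mul_mul_mul_comm, invol_mul_self hx, invol_mul_self hy, one_mul]
  · have h : orderOf (⟨x, Subgroup.subset_closure (by simp)⟩ :
        Subgroup.closure ({x, y} : Set G)) = 2 := by rw [← Subgroup.orderOf_coe]; exact hx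
    rw [← h]
    exact Monoid.order_dvd_exponent _

end CfsgLib.Involutions
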