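import Cfsg.Agent.Lib.Involutions.CentricFusion
import Cfsg.Agent.Lib.Involutions.KleinPair

/-!
# Groups acting on a four-section

`N` normalizes `W` and the group generated by `W` and the elements `a`, `b`, which is a
four-group modulo `W`.
-/

set_option autoImplicit false

namespace CfsgLib.Involutions

open Subgroup

universe u

variable {G : Type u} [Group G]

theorem card_mulAut_of_isKleinFour {E : Type*} [Group E] [IsKleinFour E] :
    Nat.card (MulAut E) = 6 := by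
  classical
  haveI : Finite E := Nat.finite_of_card_ne_zero (by rw [IsKleinFour.card_four]; norm_num)
  have : Fintype E := Fintype.ofFinite E
  let e : MulAut E ≃ {f : Equiv.Perm E // ∀ a, ¬ (a ≠ 1) → f a = a} :=
    { toFun := fun φ => ⟨φ.toEquiv, fun a ha => by
        rw [not_not] at ha
        subst ha
        exact map_one φ⟩
      invFun := fun f => IsKleinFour.mulEquiv' f.1 (f.2 1 (fun h => h rfl)) IsKleinFour.exponent_two
      left_inv := fun φ => MulEquiv.ext fun _ => rfl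
      right_inv := fun f => Subtype.ext (Equiv.ext fun _ => rfl) }
  rw [Nat.card_congr (e.trans (Equiv.Perm.subtypeEquivSubtypePerm (fun a : E => a ≠ 1)).symm),
    Nat.card_perm]
  have h : Nat.card {a : E // a ≠ 1} = 3 := by
    rw [Nat.card_eq_fintype_card, Fintype.card_subtype_compl, Fintype.card_subtype_eq,
      ← Nat.card_eq_fintype_card, IsKleinFour.card_four]
  rw [h]
  rfl

/-- In a four-group the cycle `a ↦ b ↦ a * b ↦ a` is an automorphism of odd order. -/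
theorem exists_cycle_aut {E : Type*} [Group E] [IsKleinFour E] {a b : E} (ha : a ≠ 1) (hb : b ≠ 1)
    (hab : a ≠ b) : ∃ ψ : MulAut E, ψ a = b ∧ ψ b = a * b ∧ ψ ^ 3 = 1 := by
  classical
  have hne : a * b ≠ 1 := fun h => hab (by
    rw [eq_inv_of_mul_eq_one_left h, IsKleinFour.inv_eq_self])
  have h1 : a ≠ a * b := fun h => hb (mul_eq_left.1 h.symm)
  have h2 : b ≠ a * b := fun h => ha (mul_eq_right.1 h.symm)
  set f : Equiv.Perm E := Equiv.swap a (a * b) * Equiv.swap a b with hf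
  have f1 : f 1 = 1 := by
    rw [hf, Equiv.Perm.mul_apply, Equiv.swap_apply_of_ne_of_ne ha.symm hb.symm,
      Equiv.swap_apply_of_ne_of_ne ha.symm hne.symm]
  have fa : f a = b := by
    rw [hf, Equiv.Perm.mul_apply, Equiv.swap_apply_left, Equiv.swap_apply_of_ne_of_ne hab.symm h2]
  have fb : f b = a * b := by
    rw [hf, Equiv.Perm.mul_apply, Equiv.swap_apply_right, Equiv.swap_apply_left]
  set ψ : MulAut E := IsKleinFour.mulEquiv' f f1 IsKleinFour.exponent_two with hψ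
  have pa : ψ a = b := fa
  have pb : ψ b = a * b := fb
  have pab : ψ (a * b) = a := by
    rw [map_mul, pa, pb, ← mul_assoc, IsKleinFour.inv_eq_self a |>.symm]
    have hc : b * a⁻¹ = a⁻¹ * b := by
      rw [IsKleinFour.inv_eq_self a]
      exact mul_comm_of_exponent_two IsKleinFour.exponent_two b a
    rw [hc, mul_assoc, IsKleinFour.mul_self, mul_one]
  refine ⟨ψ, pa, pb, MulEquiv.ext fun g => ?_⟩
  rw [pow_succ, pow_two, MulAut.mul_apply, MulAut.mul_apply, MulAut.one_apply]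
  by_cases h : g = 1
  · subst h; simp
  by_cases h' : g = a
  · rw [h', pa, pb, pab]
  by_cases h'' : g = b
  · rw [h'', pb, pab, pa]
  · rw [IsKleinFour.eq_mul_of_ne_all ha hb hab h h' h'', pab, pa, pb]

/-- `W ⊆ ⟨W, a, b⟩` is a four-section normalized by `N`. -/
structure Tri (N W : Subgroup G) (a b : G) : Prop where
  W_le : W ≤ N
  normW : ∀ n ∈ N, ∀ w ∈ W, n * w * n⁻¹ ∈ W
  memA : a ∈ N
  memB : b ∈ N
  sqA : a * a ∈ W
  sqB : b * b ∈ W
  comm : a * b * a⁻¹ * b⁻¹ ∈ W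
  notA : a ∉ W
  notB : b ∉ W
  notAB : a * b ∉ W
  invA : ∀ n ∈ N, n * a * n⁻¹ * a⁻¹ ∈ W ∨ n * a * n⁻¹ * b⁻¹ ∈ W ∨ n * a * n⁻¹ * (a * b)⁻¹ ∈ W
  invB : ∀ n ∈ N, n * b * n⁻¹ * a⁻¹ ∈ W ∨ n * b * n⁻¹ * b⁻¹ ∈ W ∨ n * b * n⁻¹ * (a * b)⁻¹ ∈ W

namespace Tri

variable {N W : Subgroup G} {a b : G}

theorem exists_hom [Finite G] (t : Tri N W a b) :
    ∃ (H : Type u) (_ : Group H) (_ : Finite H) (φ : N →* H), Nat.card H = 6 ∧
      (∀ n : N, φ n = 1 ↔ ((n : G) * a * (n : G)⁻¹ * a⁻¹ ∈ W ∧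
        (n : G) * b * (n : G)⁻¹ * b⁻¹ ∈ W)) ∧
      ∃ ψ : H, ψ ^ 3 = 1 ∧ ∀ n : N, φ n = ψ →
        (n : G) * a * (n : G)⁻¹ * b⁻¹ ∈ W ∧ (n : G) * b * (n : G)⁻¹ * (a * b)⁻¹ ∈ W := by
  haveI hn : (W.subgroupOf N).Normal := ⟨fun w hw n => by
    rw [mem_subgroupOf] at hw ⊢
    exact t.normW n n.2 w hw⟩
  set π := QuotientGroup.mk' (W.subgroupOf N) with hπ
  have heq : ∀ g h : N, π g = π h ↔ (g : G) * (h : G)⁻¹ ∈ W := by
    intro g h
    rw [← mul_inv_eq_one, ← map_inv, ← map_mul, hπ, QuotientGroup.mk'_apply,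
      QuotientGroup.eq_one_iff, mem_subgroupOf]
    rfl
  set A : N := ⟨a, t.memA⟩
  set B : N := ⟨b, t.memB⟩
  have h1 : ∀ g : N, π g = 1 ↔ (g : G) ∈ W := fun g => by
    rw [hπ, QuotientGroup.mk'_apply, QuotientGroup.eq_one_iff, mem_subgroupOf]
  have hA : orderOf (π A) = 2 := invol_iff.2 ⟨by rw [← map_mul, h1]; exact t.sqA,
    fun h => t.notA ((h1 A).1 h)⟩
  have hB : orderOf (π B) = 2 := invol_iff.2 ⟨by rw [← map_mul, h1]; exact t.sqB,
    fun h => t.notB ((h1 B).1 h)⟩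
  have hc : Commute (π A) (π B) := by
    rw [Commute, SemiconjBy, ← map_mul, ← map_mul, heq]
    show a * b * (b * a)⁻¹ ∈ W
    rw [mul_inv_rev, ← mul_assoc]
    exact t.comm
  have hne : π A ≠ π B := fun h => t.notAB <| (h1 (A * B)).1 <| by
    rw [map_mul, h]
    exact invol_mul_self hB
  set E := closure ({π A, π B} : Set (↥N ⧸ W.subgroupOf N)) with hE
  haveI : IsKleinFour E := isKleinFour_closure_pair hA hB hc hne
  have hA' : π A ∈ E := subset_closure (by simp)
  have hB' : π B ∈ E := subset_closure (by simp)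
  haveI : E.Normal := by
    refine ⟨fun x hx q => ?_⟩
    obtain ⟨n, rfl⟩ := QuotientGroup.mk'_surjective (W.subgroupOf N) q
    have hv : ∀ v : N, v = A ∨ v = B → π n * π v * (π n)⁻¹ ∈ E := by
      intro v hv
      rw [← map_inv, ← map_mul, ← map_mul]
      have h : ((n * v * n⁻¹ : N) : G) * (A : G)⁻¹ ∈ W ∨ ((n * v * n⁻¹ : N) : G) * (B : G)⁻¹ ∈ W ∨
          ((n * v * n⁻¹ : N) : G) * ((A * B : N) : G)⁻¹ ∈ W := by
        rcases hv with rfl | rfl
        · exact t.invA n n.2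
        · exact t.invB n n.2
      rcases h with h | h | h <;> rw [(heq _ _).2 h]
      · exact hA'
      · exact hB'
      · rw [map_mul]; exact mul_mem hA' hB'
    have hle : E.map (MulAut.conj (π n)).toMonoidHom ≤ E := by
      rw [hE, MonoidHom.map_closure, closure_le]
      rintro _ ⟨v, hv', rfl⟩
      rcases hv' with rfl | rfl
      · exact hv A (Or.inl rfl)
      · exact hv B (Or.inr rfl)
    exact hle ⟨x, hx, rfl⟩
  set φ : N →* MulAut E := (MulAut.conjNormal (H := E)).comp π with hφ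
  have hval : ∀ (n : N) (e : E), (φ n e : ↥N ⧸ W.subgroupOf N) = π n * e * (π n)⁻¹ := fun n e =>
    MulAut.conjNormal_apply _ _
  refine ⟨MulAut E, inferInstance, inferInstance, φ, card_mulAut_of_isKleinFour, fun n => ?_, ?_⟩
  · constructor
    · intro h
      refine ⟨(heq (n * A * n⁻¹) A).1 ?_, (heq (n * B * n⁻¹) B).1 ?_⟩
      · have := hval n ⟨π A, hA'⟩
        rw [h, MulAut.one_apply] at this
        rw [map_mul, map_mul, map_inv]
        exact this.symm
      · have := hval n ⟨π B, hB'⟩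
        rw [h, MulAut.one_apply] at this
        rw [map_mul, map_mul, map_inv]
        exact this.symm
    · rintro ⟨hna, hnb⟩
      refine MulEquiv.ext fun e => Subtype.ext ?_
      rw [hval, MulAut.one_apply]
      have e1 : π n * π A * (π n)⁻¹ = π A := by
        rw [← map_inv, ← map_mul, ← map_mul]; exact (heq _ _).2 hna
      have e2 : π n * π B * (π n)⁻¹ = π B := by
        rw [← map_inv, ← map_mul, ← map_mul]; exact (heq _ _).2 hnb
      rcases (mem_closure_commute_pair hA hB hc).1 e.2 with h | h | h | h <;> rw [h]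
      · group
      · exact e1
      · exact e2
      · rw [← conj_mul, e1, e2]
  · obtain ⟨ψ, pa, pb, p3⟩ := exists_cycle_aut (E := E) (a := ⟨π A, hA'⟩) (b := ⟨π B, hB'⟩)
      (fun h => invol_ne_one hA (congrArg Subtype.val h))
      (fun h => invol_ne_one hB (congrArg Subtype.val h))
      (fun h => hne (congrArg Subtype.val h))
    refine ⟨ψ, p3, fun n hn => ⟨(heq (n * A * n⁻¹) B).1 ?_, (heq (n * B * n⁻¹) (A * B)).1 ?_⟩⟩
    · rw [map_mul, map_mul, map_inv, ← hval n ⟨π A, hA'⟩, hn, pa]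
    · rw [map_mul, map_mul, map_inv, ← hval n ⟨π B, hB'⟩, hn, pb, map_mul]
      rfl

/-- The index of the kernel is 2 or 6. -/
theorem two_or_six [Finite G] (t : Tri N W a b) {M : Subgroup G}
    (hM : ∀ n ∈ N, n ∈ M ↔ (n * a * n⁻¹ * a⁻¹ ∈ W ∧ n * b * n⁻¹ * b⁻¹ ∈ W))
    {x : G} (hxN : x ∈ N) {k : ℕ} (hx : x ^ 2 ^ k = 1) (hxM : x ∉ M) :
    M.relIndex N = 2 ∨ M.relIndex N = 6 := by
  obtain ⟨H, _, _, φ, hH, hker, -⟩ := t.exists_hom
  refine relIndex_eq_two_or_six hH φ ?_ (x := ⟨x, hxN⟩) (k := k) (Subtype.ext hx)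
    fun h => hxM ((hM x hxN).2 ((hker _).1 h))
  ext n
  rw [MonoidHom.mem_ker, hker, mem_subgroupOf, hM n n.2]

/-- If the index of the kernel is 6 some element of odd order cycles `a ↦ b ↦ a b`. -/
theorem exists_cycle [Finite G] (t : Tri N W a b) {M : Subgroup G}
    (hM : ∀ n ∈ N, n ∈ M ↔ (n * a * n⁻¹ * a⁻¹ ∈ W ∧ n * b * n⁻¹ * b⁻¹ ∈ W))
    (h6 : M.relIndex N = 6) :
    ∃ c ∈ N, Odd (orderOf c) ∧ c * a * c⁻¹ * b⁻¹ ∈ W ∧ c * b * c⁻¹ * (a * b)⁻¹ ∈ W := by
  obtain ⟨H, _, _, φ, hH, hker, ψ, h3, hcyc⟩ := t.exists_hom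
  have hk : φ.ker = M.subgroupOf N := by
    ext n
    rw [MonoidHom.mem_ker, hker, mem_subgroupOf, hM n n.2]
  have htop : φ.range = ⊤ :=
    eq_top_of_card_eq _ (by rw [← index_ker, hk, ← relIndex, h6, hH])
  obtain ⟨n, hn⟩ := MonoidHom.range_eq_top.1 htop ψ
  obtain ⟨u, hu, v, hv, huv, ⟨k, hk2⟩, hvp⟩ := Transfer.exists_pPart_mul (p := 2) n
  have hu1 : φ u = 1 := by
    obtain ⟨i, rfl⟩ := hu
    refine orderOf_eq_one_iff.1 (Nat.eq_one_of_dvd_coprimes
      (Nat.Coprime.pow_left k (by norm_num : Nat.Coprime 2 3))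
      ((orderOf_map_dvd φ _).trans hk2) (orderOf_dvd_of_pow_eq_one ?_))
    rw [map_zpow, hn, ← zpow_natCast (ψ ^ i), ← zpow_mul, mul_comm, zpow_mul, zpow_natCast, h3,
      one_zpow]
  have hv1 : φ v = ψ := by rw [← hn, ← huv, map_mul, hu1, one_mul]
  exact ⟨v, v.2, by rw [Subgroup.orderOf_coe, ← Nat.coprime_two_right]; exact hvp, hcyc v hv1⟩

end Tri

/-- An element of odd order lies in every subgroup of relative index 2. -/
theorem mem_of_relIndex_two {M N : Subgroup G} (h : M.relIndex N = 2) {c : G} (hc : c ∈ N)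
    (hodd : Odd (orderOf c)) : c ∈ M := by
  obtain ⟨m, hm⟩ := hodd
  have h1 := mul_self_mem_of_index_two (H := M.subgroupOf N) h ((⟨c, hc⟩ : N) ^ (m + 1))
  rw [mem_subgroupOf] at h1
  push_cast at h1
  rwa [← pow_add, show m + 1 + (m + 1) = orderOf c + 1 by omega, pow_succ, pow_orderOf_eq_one,
    one_mul] at h1

/-- An element normalizing `⟨a, b⟩` modulo inner ones: if `x` fixes `a` and `b` up to the central
involution `z = [a, b]`, then it is the product of an element of `⟨a, b⟩` and a centralizing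
element. -/
theorem exists_centralizing_of_commutator {a b z x : G} (hab : a * b = b * a * z) (hz2 : z * z = 1)
    (hza : Commute z a) (hzb : Commute z b) (hxa : x * a * x⁻¹ = a ∨ x * a * x⁻¹ = a * z)
    (hxb : x * b * x⁻¹ = b ∨ x * b * x⁻¹ = b * z) :
    ∃ v ∈ closure ({a, b} : Set G), Commute (v⁻¹ * x) a ∧ Commute (v⁻¹ * x) b := by
  have hA : a ∈ closure ({a, b} : Set G) := subset_closure (by simp)
  have hB : b ∈ closure ({a, b} : Set G) := subset_closure (by simp)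
  have hba : b * a * b⁻¹ = a * z := by
    calc b * a * b⁻¹ = b * a * (z * z) * b⁻¹ := by rw [hz2, mul_one]
      _ = b * a * z * (z * b⁻¹) := by group
      _ = a * b * (b⁻¹ * z) := by rw [← hab, hzb.inv_right.eq]
      _ = a * z := by group
  have hab' : a * b * a⁻¹ = b * z := by
    rw [hab, mul_assoc (b * a), (hza.inv_right).eq]
    group
  have key : ∀ v : G, v * a * v⁻¹ = x * a * x⁻¹ → v * b * v⁻¹ = x * b * x⁻¹ →
      Commute (v⁻¹ * x) a ∧ Commute (v⁻¹ * x) b := by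
    intro v h1 h2
    constructor
    · rw [Commute, SemiconjBy, ← mul_inv_eq_iff_eq_mul]
      calc v⁻¹ * x * a * (v⁻¹ * x)⁻¹ = v⁻¹ * (x * a * x⁻¹) * v := by group
        _ = a := by rw [← h1]; group
    · rw [Commute, SemiconjBy, ← mul_inv_eq_iff_eq_mul]
      calc v⁻¹ * x * b * (v⁻¹ * x)⁻¹ = v⁻¹ * (x * b * x⁻¹) * v := by group
        _ = b := by rw [← h2]; group
  rcases hxa with h1 | h1 <;> rcases hxb with h2 | h2
  · exact ⟨1, one_mem _, key 1 (by rw [h1]; group) (by rw [h2]; group)⟩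
  · exact ⟨a, hA, key a (by rw [h1]; group) (by rw [h2, hab'])⟩
  · exact ⟨b, hB, key b (by rw [h1, hba]) (by rw [h2]; group)⟩
  · refine ⟨a * b, mul_mem hA hB, key _ ?_ ?_⟩
    · rw [h1, show a * b * a * (a * b)⁻¹ = a * (b * a * b⁻¹) * a⁻¹ by group, hba,
        show a * (a * z) * a⁻¹ = a * (a * z * a⁻¹) by group, hza.symm.eq, mul_inv_cancel_right]
      exact hza.symm.eq
    · rw [h2, show a * b * b * (a * b)⁻¹ = a * b * a⁻¹ by group, hab']

end CfsgLib.Involutions
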