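import Cfsg.Agent.Lib.Involutions.CentricFusion

/-!
# Counting classes of 2-elements and subgroups of index two, from a Sylow 2-subgroup
-/

set_option autoImplicit false

namespace CfsgLib.Involutions

open Subgroup

variable {G : Type*} [Group G] [Finite G]

theorem exists_conj_mem_of_pow (P : Sylow 2 G) {t : G} {k : ℕ} (ht : orderOf t = 2 ^ k) :
    ∃ g : G, g * t * g⁻¹ ∈ (P : Subgroup G) := by
  obtain ⟨Q, hQ⟩ := (IsPGroup.of_card (n := k) (by rw [Nat.card_zpowers, ht]) :
    IsPGroup 2 (zpowers t)).exists_le_sylow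
  obtain ⟨g, rfl⟩ := MulAction.exists_smul_eq G P Q
  refine ⟨g⁻¹, ?_⟩
  rw [inv_inv]
  exact (Transfer.mem_coe_smul_sylow_iff).1 (hQ (mem_zpowers t))

/-- One class of elements of order `m`. -/
theorem card_classes_eq_one {m k : ℕ} (hm : m = 2 ^ k) (P : Sylow 2 G) {a : G} (ha : orderOf a = m)
    (h : ∀ t ∈ (P : Subgroup G), orderOf t = m → IsConj a t) :
    Nat.card {C : ConjClasses G // ∃ t : G, orderOf t = m ∧ ConjClasses.mk t = C} = 1 := by
  show ({C : ConjClasses G | ∃ t : G, orderOf t = m ∧ ConjClasses.mk t = C}).ncard = 1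
  rw [Set.ncard_eq_one]
  refine ⟨ConjClasses.mk a, ?_⟩
  ext C
  constructor
  · rintro ⟨t, ht, rfl⟩
    obtain ⟨g, hg⟩ := exists_conj_mem_of_pow P (ht.trans hm)
    refine ConjClasses.mk_eq_mk_iff_isConj.2 ?_
    exact ((h _ hg (by rw [orderOf_conj_eq, ht])).trans (isConj_iff.2 ⟨g, rfl⟩).symm).symm
  · rintro rfl
    exact ⟨a, ha, rfl⟩

/-- Two classes of elements of order `m`. -/
theorem card_classes_eq_two {m k : ℕ} (hm : m = 2 ^ k) (P : Sylow 2 G) {a b : G}
    (ha : orderOf a = m) (hb : orderOf b = m) (hab : ¬ IsConj a b)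
    (h : ∀ t ∈ (P : Subgroup G), orderOf t = m → IsConj a t ∨ IsConj b t) :
    Nat.card {C : ConjClasses G // ∃ t : G, orderOf t = m ∧ ConjClasses.mk t = C} = 2 := by
  show ({C : ConjClasses G | ∃ t : G, orderOf t = m ∧ ConjClasses.mk t = C}).ncard = 2
  rw [Set.ncard_eq_two]
  refine ⟨ConjClasses.mk a, ConjClasses.mk b, fun e => hab (ConjClasses.mk_eq_mk_iff_isConj.1 e), ?_⟩
  ext C
  constructor
  · rintro ⟨t, ht, rfl⟩
    obtain ⟨g, hg⟩ := exists_conj_mem_of_pow P (ht.trans hm)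
    have hc : IsConj t (g * t * g⁻¹) := isConj_iff.2 ⟨g, rfl⟩
    rcases h _ hg (by rw [orderOf_conj_eq, ht]) with h1 | h1
    · exact Or.inl (ConjClasses.mk_eq_mk_iff_isConj.2 (hc.trans h1.symm))
    · exact Or.inr (ConjClasses.mk_eq_mk_iff_isConj.2 (hc.trans h1.symm))
  · rintro (rfl | rfl)
    · exact ⟨a, ha, rfl⟩
    · exact ⟨b, hb, rfl⟩

/-- A normal subgroup of index two contains `a` and `b` if it is invariant under an element
cycling `a ↦ b ↦ a b` modulo a part it contains. -/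
theorem mem_of_cycle {H W : Subgroup G} {a b c : G}
    (hconj : ∀ g, g ∈ H ↔ c * g * c⁻¹ ∈ H) (hmul : a * b ∈ H ↔ (a ∈ H ↔ b ∈ H)) (hW : W ≤ H)
    (h1 : c * a * c⁻¹ * b⁻¹ ∈ W) (h2 : c * b * c⁻¹ * (a * b)⁻¹ ∈ W) : a ∈ H ∧ b ∈ H := by
  have e : ∀ u v : G, c * u * c⁻¹ * v⁻¹ ∈ W → (u ∈ H ↔ v ∈ H) := fun u v h => by
    rw [hconj u, show c * u * c⁻¹ = c * u * c⁻¹ * v⁻¹ * v by group, mul_mem_cancel_left (hW h)]
  have ea := e a b h1
  have eb := (e b (a * b) h2).trans hmul
  tauto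

/-- A normal subgroup `K` with `K ∩ P ≤ H` for a subgroup `H` of `K`: the index of `H` in `K` is
not 2. -/
theorem index_ne_two_of_sylow_le (P : Sylow 2 G) {K : Subgroup G} [K.Normal] {H : Subgroup K}
    (h : ∀ g : K, (g : G) ∈ (P : Subgroup G) → g ∈ H) : H.index ≠ 2 := fun h2 =>
  Transfer.not_dvd_index_subgroupOf_of_normal P K (by
    have := index_dvd_of_le (H := (P : Subgroup G).subgroupOf K) (K := H) fun g hg => h g hg
    rwa [h2] at this)

theorem index_ne_two_of_sylow_le' (P : Sylow 2 G) {H : Subgroup G}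
    (h : (P : Subgroup G) ≤ H) : H.index ≠ 2 := fun h2 =>
  P.not_dvd_index (by
    have := index_dvd_of_le h
    rwa [h2] at this)

/-- Elements of odd order lie in the 2-residual, so in each normal subgroup of 2-power index. -/
theorem mem_of_odd_order {K : Subgroup G} (hK : Cfsg.pResidual 2 G ≤ K) {c : G}
    (hc : Odd (orderOf c)) : c ∈ K :=
  hK (Transfer.mem_pResidual_of_coprime (Nat.coprime_two_right.2 hc))

/-- The Sylow 2-subgroups of a normal subgroup are isomorphic to its intersection with `P`. -/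
theorem nonempty_sylow_mulEquiv (P : Sylow 2 G) {K M : Subgroup G} [K.Normal]
    (h : K ⊓ (P : Subgroup G) = M) (R : Sylow 2 K) : Nonempty ((R : Subgroup K) ≃* M) := by
  let T : Sylow 2 K := (P.isPGroup'.comap_subtype (K := K)).toSylow
    (Transfer.not_dvd_index_subgroupOf_of_normal P K)
  refine ⟨(Sylow.equiv R T).trans ?_⟩
  refine ((T : Subgroup K).equivMapOfInjective K.subtype K.subtype_injective).trans
    (MulEquiv.subgroupCongr ?_)
  show ((P : Subgroup G).subgroupOf K).map K.subtype = M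
  rw [subgroupOf_map_subtype, inf_comm, h]

end CfsgLib.Involutions
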