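import Cfsg.Agent.Lib.Involutions.QuasiDihedralLocal
import Cfsg.Agent.Lib.Involutions.SylowClasses

/-!
# Fusion in groups with quasi-dihedral Sylow 2-subgroups

`T2`, `T6`: the automizer of a four-group has order 2 resp. 6; `Q2`, `Q6`: the same for the outer
automizer of a quaternion subgroup of order 8.
-/

set_option autoImplicit false

namespace CfsgLib.Involutions.QD

open Subgroup

universe u

variable {G : Type u} [Group G] [Finite G] {P : Sylow 2 G} (d : QD (P : Subgroup G))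

/-- No element of odd order acts nontrivially on a four-group. -/
def T2 : Prop :=
  ∀ i : ℤ, Even i → ∀ y ∈ normalizer (d.TG i : Set G), Odd (orderOf y) → ∀ a ∈ d.TG i, Commute y a

/-- Every four-group has an automorphism of order 3 induced by `G`. -/
def T6 : Prop :=
  ∀ i : ℤ, Even i → ∃ c : G, Odd (orderOf c) ∧
    c * ((d.z : (P : Subgroup G)) : G) * c⁻¹ = ((d.x ^ i * d.y : (P : Subgroup G)) : G) ∧
    c * ((d.x ^ i * d.y : (P : Subgroup G)) : G) * c⁻¹
      = ((d.z : (P : Subgroup G)) : G) * ((d.x ^ i * d.y : (P : Subgroup G)) : G)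

/-- No element of odd order acts nontrivially on a quaternion subgroup. -/
def Q2 : Prop :=
  ∀ i : ℤ, Odd i → ∀ y ∈ normalizer (d.QG i : Set G), Odd (orderOf y) → ∀ a ∈ d.QG i, Commute y a

/-- Every quaternion subgroup has an outer automorphism of order 3 induced by `G`. -/
def Q6 : Prop :=
  ∀ i : ℤ, Odd i → ∃ c : G, Odd (orderOf c) ∧
    c * ((d.q : (P : Subgroup G)) : G) * c⁻¹ * ((d.x ^ i * d.y : (P : Subgroup G)) : G)⁻¹
      ∈ zpowers ((d.z : (P : Subgroup G)) : G) ∧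
    c * ((d.x ^ i * d.y : (P : Subgroup G)) : G) * c⁻¹ *
      (((d.q : (P : Subgroup G)) : G) * ((d.x ^ i * d.y : (P : Subgroup G)) : G))⁻¹
      ∈ zpowers ((d.z : (P : Subgroup G)) : G)

theorem commute_of_conj {H H' : Subgroup G} {s : G} (hs : H.map (MulAut.conj s).toMonoidHom = H')
    (h : ∀ y ∈ normalizer (H : Set G), Odd (orderOf y) → ∀ a ∈ H, Commute y a) :
    ∀ y ∈ normalizer (H' : Set G), Odd (orderOf y) → ∀ a ∈ H', Commute y a := by
  intro y hy hodd a ha
  have hmem : ∀ b, b ∈ H ↔ s * b * s⁻¹ ∈ H' := fun b => by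
    rw [← hs]
    refine ⟨fun hb => ⟨b, hb, rfl⟩, ?_⟩
    rintro ⟨c, hc, hcb⟩
    rwa [← (MulAut.conj s).injective (hcb : MulAut.conj s c = MulAut.conj s b)]
  have hy' : s⁻¹ * y * s ∈ normalizer (H : Set G) := by
    rw [mem_normalizer_iff]
    intro b
    rw [hmem, hmem (s⁻¹ * y * s * b * (s⁻¹ * y * s)⁻¹), mem_normalizer_iff.1 hy (s * b * s⁻¹)]
    group
  have ha' : s⁻¹ * a * s ∈ H := by rw [hmem]; simpa [mul_assoc] using ha
  have := (h _ hy' (by
    rw [show s⁻¹ * y * s = MulAut.conj s⁻¹ y by simp [mul_assoc], MulEquiv.orderOf_eq]; exact hodd)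
      _ ha').map (MulAut.conj s).toMonoidHom
  simpa [mul_assoc] using this

theorem commute_TG_of_relIndex {i : ℤ}
    (h : (centralizer (d.TG i : Set G)).relIndex (normalizer (d.TG i : Set G)) = 2) :
    ∀ y ∈ normalizer (d.TG i : Set G), Odd (orderOf y) → ∀ a ∈ d.TG i, Commute y a :=
  fun _ hy hodd a ha => (mem_centralizer_iff.1 (mem_of_relIndex_two h hy hodd) a ha).symm

theorem t2_of_relIndex {i : ℤ} (hi : Even i)
    (h : (centralizer (d.TG i : Set G)).relIndex (normalizer (d.TG i : Set G)) = 2) : d.T2 := by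
  intro k hk
  obtain ⟨s, hs⟩ := d.exists_conj_TG hi hk
  exact commute_of_conj hs (d.commute_TG_of_relIndex h)

theorem t6_of_relIndex {i : ℤ} (hi : Even i)
    (h : (centralizer (d.TG i : Set G)).relIndex (normalizer (d.TG i : Set G)) = 6) : d.T6 := by
  intro k hk
  rcases d.relIndex_TG hk with h2 | h6
  · exfalso
    obtain ⟨c, hcN, hco, hc, -⟩ :=
      (d.tri_TG hi).exists_cycle (fun n _ => d.mem_centralizer_TG) h
    have h3 := d.t2_of_relIndex hk h2 i hi c hcN hco _ (subset_closure (by simp) :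
      ((d.z : (P : Subgroup G)) : G) ∈ d.TG i)
    rw [mem_bot, h3.eq, mul_inv_cancel_right, mul_inv_eq_one] at hc
    exact d.refl_not_mem i (Subtype.ext hc ▸ zpow_mem (mem_zpowers _) _)
  · obtain ⟨c, -, hco, h1, h2⟩ := (d.tri_TG hk).exists_cycle (fun n _ => d.mem_centralizer_TG) h6
    rw [mem_bot, mul_inv_eq_one] at h1 h2
    exact ⟨c, hco, h1, h2⟩

theorem commute_QG_of_relIndex {i : ℤ} (hi : Odd i)
    (h : (d.QG i ⊔ centralizer (d.QG i : Set G)).relIndex (normalizer (d.QG i : Set G)) = 2) :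
    ∀ y ∈ normalizer (d.QG i : Set G), Odd (orderOf y) → ∀ a ∈ d.QG i, Commute y a :=
  fun _ hy hodd a ha => d.commute_QG hi hy hodd (mem_of_relIndex_two h hy hodd) a ha

theorem q2_of_relIndex {i : ℤ} (hi : Odd i)
    (h : (d.QG i ⊔ centralizer (d.QG i : Set G)).relIndex (normalizer (d.QG i : Set G)) = 2) :
    d.Q2 := by
  intro k hk
  obtain ⟨s, hs⟩ := d.exists_conj_QG hi hk
  exact commute_of_conj hs (d.commute_QG_of_relIndex hi h)

theorem q6_of_relIndex {i : ℤ} (hi : Odd i)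
    (h : (d.QG i ⊔ centralizer (d.QG i : Set G)).relIndex (normalizer (d.QG i : Set G)) = 6) :
    d.Q6 := by
  intro k hk
  rcases d.relIndex_QG hk with h2 | h6
  · exfalso
    obtain ⟨c, hcN, hco, hc, -⟩ :=
      (d.tri_QG hi).exists_cycle (fun n hn => d.mem_QG_sup_centralizer hi hn) h
    have h3 := d.q2_of_relIndex hk h2 i hi c hcN hco _ (subset_closure (by simp) :
      ((d.q : (P : Subgroup G)) : G) ∈ d.QG i)
    rw [h3.eq, mul_inv_cancel_right] at hc
    have h4 : d.q * (d.x ^ i * d.y)⁻¹ ∈ zpowers d.x := by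
      rcases (mem_zpowers_invol d.orderOf_coe_z).1 hc with h5 | h5
      · rw [show d.q * (d.x ^ i * d.y)⁻¹ = 1 from Subtype.ext (by push_cast; exact h5)]
        exact one_mem _
      · rw [show d.q * (d.x ^ i * d.y)⁻¹ = d.z from Subtype.ext (by push_cast; exact h5)]
        exact zpow_mem (mem_zpowers _) _
    exact d.refl_not_mem i ((Subgroup.inv_mem_iff _).1
      ((mul_mem_cancel_left (zpow_mem (mem_zpowers _) _ : d.q ∈ zpowers d.x)).1 h4))
  · obtain ⟨c, -, hco, h1, h2⟩ :=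
      (d.tri_QG hk).exists_cycle (fun n hn => d.mem_QG_sup_centralizer hk hn) h6
    exact ⟨c, hco, h1, h2⟩

/-- Fusion invariants: only four-groups and quaternion groups matter. -/
theorem invariant {Φ : G → Prop}
    (hP : ∀ k ∈ (P : Subgroup G), ∀ a ∈ (P : Subgroup G), Φ a → Φ (k * a * k⁻¹))
    (hT : ∀ i : ℤ, Even i → ∀ y ∈ normalizer (d.TG i : Set G), Odd (orderOf y) →
      ∀ a ∈ d.TG i, Φ a → Φ (y * a * y⁻¹))
    (hQ : ∀ i : ℤ, Odd i → ∀ y ∈ normalizer (d.QG i : Set G), Odd (orderOf y) →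
      ∀ a ∈ d.QG i, Φ a → Φ (y * a * y⁻¹))
    {a : G} (ha : a ∈ (P : Subgroup G)) {g : G} (hg : g * a * g⁻¹ ∈ (P : Subgroup G))
    (h : Φ a) : Φ (g * a * g⁻¹) := by
  refine fusion_invariant P hP (fun D hD y hy hyp a ha hΦ => ?_) ha hg h
  have hodd : Odd (orderOf y) := Nat.coprime_two_right.1 hyp
  rcases d.centric_cases hD hy hodd with h | ⟨i, hi, rfl⟩ | ⟨i, hi, rfl⟩
  · rwa [(h a ha).eq, mul_inv_cancel_right]
  · exact hT i hi y hy hodd a ha hΦ
  · exact hQ i hi y hy hodd a ha hΦ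

theorem conj_z (k : (P : Subgroup G)) :
    (k : G) * ((d.z : (P : Subgroup G)) : G) * (k : G)⁻¹ = ((d.z : (P : Subgroup G)) : G) :=
  congrArg Subtype.val (show k * d.z * k⁻¹ = d.z by rw [(d.commute_z k).eq, mul_inv_cancel_right])

/-- If `T2`, the involution of the centre is weakly closed. -/
theorem weaklyClosed_z (hT : d.T2) {g : G}
    (hg : g * ((d.z : (P : Subgroup G)) : G) * g⁻¹ ∈ (P : Subgroup G)) :
    g * ((d.z : (P : Subgroup G)) : G) * g⁻¹ = ((d.z : (P : Subgroup G)) : G) :=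
  d.invariant (Φ := fun a => a = ((d.z : (P : Subgroup G)) : G))
    (fun k hk a _ h => h ▸ d.conj_z ⟨k, hk⟩)
    (fun i hi y hy ho a ha h => by rw [(hT i hi y hy ho a ha).eq, mul_inv_cancel_right]; exact h)
    (fun i hi y hy _ a _ h => h ▸ d.conj_z_of_normalizer hi hy) (SetLike.coe_mem _) hg rfl

theorem isConj_refl {i k : ℤ} (h : Even (k - i)) :
    IsConj ((d.x ^ i * d.y : (P : Subgroup G)) : G) ((d.x ^ k * d.y : (P : Subgroup G)) : G) := by
  obtain ⟨j, hj⟩ := d.exists_conj_refl h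
  exact isConj_iff.2 ⟨((d.x ^ j : (P : Subgroup G)) : G), congrArg Subtype.val hj⟩

theorem card_invol_classes_one (hT : d.T6) :
    Nat.card {C : ConjClasses G // ∃ t : G, orderOf t = 2 ∧ ConjClasses.mk t = C} = 1 := by
  refine card_classes_eq_one (k := 1) (by norm_num) P d.orderOf_coe_z fun t htP ht => ?_
  have ht' : orderOf (⟨t, htP⟩ : (P : Subgroup G)) = 2 := by rwa [Subgroup.orderOf_mk]
  rcases d.invol_cases ht' with h | ⟨i, hi, h⟩ <;>
    replace h := congrArg Subtype.val h <;> simp only at h <;> rw [h]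
  · obtain ⟨c, -, hc, -⟩ := hT i hi
    exact isConj_iff.2 ⟨c, hc⟩

theorem card_invol_classes_two (hT : d.T2) :
    Nat.card {C : ConjClasses G // ∃ t : G, orderOf t = 2 ∧ ConjClasses.mk t = C} = 2 := by
  refine card_classes_eq_two (k := 1) (by norm_num) P d.orderOf_coe_z
    (b := ((d.x ^ (0 : ℤ) * d.y : (P : Subgroup G)) : G))
    (by rw [Subgroup.orderOf_coe, d.orderOf_refl_even Even.zero]) ?_ fun t htP ht => ?_
  · rintro h
    obtain ⟨g, hg⟩ := isConj_iff.1 h
    have := d.weaklyClosed_z hT (g := g) (hg ▸ SetLike.coe_mem _)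
    rw [hg] at this
    exact d.refl_not_mem 0 (Subtype.ext this ▸ zpow_mem (mem_zpowers _) _)
  have ht' : orderOf (⟨t, htP⟩ : (P : Subgroup G)) = 2 := by rwa [Subgroup.orderOf_mk]
  rcases d.invol_cases ht' with h | ⟨i, hi, h⟩ <;>
    replace h := congrArg Subtype.val h <;> simp only at h <;> rw [h]
  · exact Or.inl (IsConj.refl _)
  · exact Or.inr (d.isConj_refl (by simpa using hi))

theorem conj_q_cases (k : (P : Subgroup G)) :
    (k : G) * ((d.q : (P : Subgroup G)) : G) * (k : G)⁻¹ = ((d.q : (P : Subgroup G)) : G) ∨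
      (k : G) * ((d.q : (P : Subgroup G)) : G) * (k : G)⁻¹
        = ((d.q : (P : Subgroup G)) : G)⁻¹ := by
  rcases d.cover k with ⟨i, rfl⟩ | ⟨i, rfl⟩
  · exact Or.inl (congrArg Subtype.val (show d.x ^ i * d.q * (d.x ^ i)⁻¹ = d.q by
      rw [(d.commute_q_zpow i).eq, mul_inv_cancel_right]))
  · exact Or.inr (congrArg Subtype.val (show d.x ^ i * d.y * d.q * (d.x ^ i * d.y)⁻¹ = d.q⁻¹ by
      rw [d.conj_q_refl, d.q_eq_inv]))

theorem isConj_q_inv :
    IsConj ((d.q : (P : Subgroup G)) : G) ((d.q : (P : Subgroup G)) : G)⁻¹ := by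
  refine isConj_iff.2 ⟨((d.x ^ (0 : ℤ) * d.y : (P : Subgroup G)) : G), ?_⟩
  exact congrArg Subtype.val
    (show d.x ^ (0 : ℤ) * d.y * d.q * (d.x ^ (0 : ℤ) * d.y)⁻¹ = d.q⁻¹ by
      rw [d.conj_q_refl, d.q_eq_inv])

theorem card_four_classes_one (hQ : d.Q6) :
    Nat.card {C : ConjClasses G // ∃ t : G, orderOf t = 4 ∧ ConjClasses.mk t = C} = 1 := by
  have hq : orderOf ((d.q : (P : Subgroup G)) : G) = 4 := by rw [Subgroup.orderOf_coe, d.orderOf_q]
  refine card_classes_eq_one (k := 2) (by norm_num) P hq fun t htP ht => ?_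
  have ht' : orderOf (⟨t, htP⟩ : (P : Subgroup G)) = 4 := by rwa [Subgroup.orderOf_mk]
  rcases d.four_cases ht' with h | h | ⟨i, hi, h⟩ <;>
    replace h := congrArg Subtype.val h <;> simp only at h <;> rw [h]
  · rw [← d.q_eq_inv]; exact d.isConj_q_inv
  · obtain ⟨c, -, hc, -⟩ := hQ i hi
    rcases (mem_zpowers_invol d.orderOf_coe_z).1 hc with h1 | h1
    · exact isConj_iff.2 ⟨c, mul_inv_eq_one.1 h1⟩
    · rw [mul_inv_eq_iff_eq_mul] at h1
      refine (isConj_iff.2 ⟨c, h1⟩).trans ?_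
      refine isConj_iff.2 ⟨((d.q : (P : Subgroup G)) : G), ?_⟩
      refine congrArg Subtype.val
        (show d.q * (d.z * (d.x ^ i * d.y)) * d.q⁻¹ = d.x ^ i * d.y from ?_)
      have hr : d.q * (d.x ^ i * d.y) * d.q⁻¹ = d.x ^ i * d.y * d.z :=
        (d.conj_refl_mem_quat (i := i) (subset_closure (by simp))).resolve_left fun h =>
          d.not_commute_q_refl i (mul_inv_eq_iff_eq_mul.1 h).symm
      rw [← conj_mul, hr, (d.commute_z d.q).eq, mul_inv_cancel_right, ← mul_assoc,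
        ← (d.commute_z (d.x ^ i * d.y)).eq, mul_assoc, invol_mul_self d.orderOf_z, mul_one]

theorem card_four_classes_two (hQ : d.Q2) :
    Nat.card {C : ConjClasses G // ∃ t : G, orderOf t = 4 ∧ ConjClasses.mk t = C} = 2 := by
  have hq : orderOf ((d.q : (P : Subgroup G)) : G) = 4 := by rw [Subgroup.orderOf_coe, d.orderOf_q]
  have hr : orderOf ((d.x ^ (1 : ℤ) * d.y : (P : Subgroup G)) : G) = 4 := by
    rw [Subgroup.orderOf_coe, d.orderOf_refl_odd odd_one]
  refine card_classes_eq_two (k := 2) (by norm_num) P hq hr ?_ fun t htP ht => ?_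
  · intro h
    obtain ⟨g, hg⟩ := isConj_iff.1 h
    have := d.invariant (Φ := fun a => a = ((d.q : (P : Subgroup G)) : G) ∨
        a = ((d.q : (P : Subgroup G)) : G)⁻¹) ?_ ?_ ?_ (SetLike.coe_mem d.q)
      (g := g) (hg ▸ SetLike.coe_mem _) (Or.inl rfl)
    · rw [hg] at this
      refine d.refl_not_mem 1 ?_
      rcases this with h1 | h1
      · exact (Subtype.ext h1 : d.x ^ (1 : ℤ) * d.y = d.q) ▸ zpow_mem (mem_zpowers _) _
      · exact (Subtype.ext h1 : d.x ^ (1 : ℤ) * d.y = d.q⁻¹) ▸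
          inv_mem (zpow_mem (mem_zpowers _) _)
    · rintro k hk a - (rfl | rfl)
      · exact d.conj_q_cases ⟨k, hk⟩
      · rw [← conj_inv]
        rcases d.conj_q_cases ⟨k, hk⟩ with h | h <;> rw [show k * _ * k⁻¹ = _ from h]
        · exact Or.inr rfl
        · exact Or.inl (inv_inv _)
    · intro i hi y hy ho a ha h
      exfalso
      have h2 : a * a = 1 := by
        rcases (d.mem_TG hi).1 ha with rfl | rfl | rfl | rfl
        · exact one_mul 1
        · exact invol_mul_self d.orderOf_coe_z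
        · exact invol_mul_self (by rw [Subgroup.orderOf_coe, d.orderOf_refl_even hi])
        · rw [← Subgroup.coe_mul, (d.commute_z _).mul_mul_mul_comm, invol_mul_self d.orderOf_z,
            invol_mul_self (d.orderOf_refl_even hi), one_mul]
          rfl
      have h4 : orderOf a = 4 := by
        rcases h with rfl | rfl
        · exact hq
        · rw [orderOf_inv, hq]
      have := orderOf_dvd_of_pow_eq_one (G := G) (x := a) (n := 2) (by rw [sq]; exact h2)
      rw [h4] at this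
      norm_num at this
    · intro i hi y hy ho a ha h
      rwa [(hQ i hi y hy ho a ha).eq, mul_inv_cancel_right]
  have ht' : orderOf (⟨t, htP⟩ : (P : Subgroup G)) = 4 := by rwa [Subgroup.orderOf_mk]
  rcases d.four_cases ht' with h | h | ⟨i, hi, h⟩ <;>
    replace h := congrArg Subtype.val h <;> simp only at h <;> rw [h]
  · exact Or.inl (IsConj.refl _)
  · rw [← d.q_eq_inv]; exact Or.inl d.isConj_q_inv
  · exact Or.inr (d.isConj_refl (Odd.sub_odd hi odd_one))

theorem hasNormalPComplement (hT : d.T2) (hQ : d.Q2) : Cfsg.HasNormalPComplement 2 G := by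
  refine hasNormalPComplement_of_centric P fun D hD y hy hyp a ha => ?_
  have hodd : Odd (orderOf y) := Nat.coprime_two_right.1 hyp
  rcases d.centric_cases hD hy hodd with h | ⟨i, hi, rfl⟩ | ⟨i, hi, rfl⟩
  · exact h a ha
  · exact hT i hi y hy hodd a ha
  · exact hQ i hi y hy hodd a ha

theorem TG_le_maxSub {i : ℤ} (hi : Even i) :
    d.TG i ≤ (d.maxSub false).map (P : Subgroup G).subtype := by
  rw [TG, closure_le]
  rintro a (rfl | rfl)
  · exact ⟨d.z, d.zpow_mem_maxSub.2 d.even_half, rfl⟩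
  · exact ⟨_, d.refl_mem_maxSub.2 (by simp [hi]), rfl⟩

theorem QG_le_maxSub {i : ℤ} (hi : Odd i) :
    d.QG i ≤ (d.maxSub true).map (P : Subgroup G).subtype := by
  rw [QG, closure_le]
  rintro a (rfl | rfl)
  · exact ⟨d.q, d.zpow_mem_maxSub.2 (even_iff_two_dvd.2
      (dvd_pow_self 2 (by have := d.three_le; omega))), rfl⟩
  · exact ⟨_, d.refl_mem_maxSub.2 (by simp [hi]), rfl⟩

/-- The normal subgroup of index two cutting `P` in the maximal subgroup of the same type as the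
fused subgroup. -/
theorem exists_normal_index_two (e : Bool) (hT : e = true → d.T2) (hQ : e = false → d.Q2) :
    ∃ K : Subgroup G, K.Normal ∧ K.index = 2 ∧
      K ⊓ (P : Subgroup G) = (d.maxSub e).map (P : Subgroup G).subtype ∧
      Cfsg.pResidual 2 G ≤ K := by
  set M := (d.maxSub e).map (P : Subgroup G).subtype with hM
  have hMn := normal_of_index_eq_two (d.index_maxSub e)
  obtain ⟨K, hKn, hinf, hidx, hres⟩ := exists_normal_inf_eq P M (map_subtype_le _)
    (by
      rintro k hk _ ⟨m, hm, rfl⟩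
      exact ⟨⟨k, hk⟩ * m * ⟨k, hk⟩⁻¹, hMn.conj_mem m hm _, rfl⟩)
    (by
      intro a ha b hb
      refine ⟨(⟨a, ha⟩ : (P : Subgroup G))⁻¹ * (⟨b, hb⟩ * ⟨a, ha⟩ * ⟨b, hb⟩⁻¹), ?_, rfl⟩
      simp only [SetLike.mem_coe, mul_mem_iff_of_index_two (d.index_maxSub e),
        Subgroup.inv_mem_iff]
      by_cases h1 : (⟨a, ha⟩ : (P : Subgroup G)) ∈ d.maxSub e <;>
        by_cases h2 : (⟨b, hb⟩ : (P : Subgroup G)) ∈ d.maxSub e <;> simp [h1, h2])
    (by
      intro D hD y hy hyp a ha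
      have hodd : Odd (orderOf y) := Nat.coprime_two_right.1 hyp
      have htriv : Commute y a → a⁻¹ * (y * a * y⁻¹) ∈ M := fun h => by
        rw [h.eq, mul_inv_cancel_right, inv_mul_cancel]; exact one_mem _
      rcases d.centric_cases hD hy hodd with h | ⟨i, hi, rfl⟩ | ⟨i, hi, rfl⟩
      · exact htriv (h a ha)
      · cases e with
        | false =>
          exact d.TG_le_maxSub hi (mul_mem (inv_mem ha) ((mem_normalizer_iff.1 hy a).1 ha))
        | true => exact htriv (hT rfl i hi y hy hodd a ha)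
      · cases e with
        | false => exact htriv (hQ rfl i hi y hy hodd a ha)
        | true =>
          exact d.QG_le_maxSub hi (mul_mem (inv_mem ha) ((mem_normalizer_iff.1 hy a).1 ha)))
  refine ⟨K, hKn, ?_, hinf, hres⟩
  rw [hidx, relIndex, hM, subgroupOf, comap_map_eq_self_of_injective (P : Subgroup G).subtype_injective,
    d.index_maxSub]

/-- A subgroup that is invariant under the local elements of order three and under multiplication
rules of a subgroup of index two contains the involutions. -/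
theorem TG_subset {H : Subgroup G} {i : ℤ}
    {c : G} (h1 : c * ((d.z : (P : Subgroup G)) : G) * c⁻¹
      = ((d.x ^ i * d.y : (P : Subgroup G)) : G))
    (h2 : c * ((d.x ^ i * d.y : (P : Subgroup G)) : G) * c⁻¹
      = ((d.z : (P : Subgroup G)) : G) * ((d.x ^ i * d.y : (P : Subgroup G)) : G))
    (hconj : ∀ g, g ∈ H ↔ c * g * c⁻¹ ∈ H)
    (hmul : ∀ a b : (P : Subgroup G), a ∈ ({d.z} : Set _) → b = d.x ^ i * d.y →
      ((a : G) * (b : G) ∈ H ↔ ((a : G) ∈ H ↔ (b : G) ∈ H))) :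
    ((d.z : (P : Subgroup G)) : G) ∈ H ∧ ((d.x ^ i * d.y : (P : Subgroup G)) : G) ∈ H :=
  mem_of_cycle hconj (hmul d.z _ rfl rfl) bot_le (mem_bot.2 (by rw [h1, mul_inv_cancel]))
    (mem_bot.2 (by rw [h2, mul_inv_cancel]))

/-- No subgroup of index two when both automizers have order 6. -/
theorem index_ne_two (hT : d.T6) (hQ : d.Q6) (H : Subgroup G) : H.index ≠ 2 := fun h2 => by
  refine index_ne_two_of_sylow_le' P ?_ h2
  have hconj : ∀ c g : G, g ∈ H ↔ c * g * c⁻¹ ∈ H := fun c g => by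
    rw [mul_mem_iff_of_index_two h2, mul_mem_iff_of_index_two h2, inv_mem_iff]; tauto
  have hmul : ∀ a b : G, a * b ∈ H ↔ (a ∈ H ↔ b ∈ H) := fun a b => mul_mem_iff_of_index_two h2
  have hTm : ∀ i : ℤ, Even i → ((d.z : (P : Subgroup G)) : G) ∈ H ∧
      ((d.x ^ i * d.y : (P : Subgroup G)) : G) ∈ H := fun i hi => by
    obtain ⟨c, -, h1, h2'⟩ := hT i hi
    exact d.TG_subset h1 h2' (hconj c) fun a b _ _ => hmul _ _
  obtain ⟨hz, hy0⟩ := hTm 0 Even.zero
  obtain ⟨c, -, h1, h2'⟩ := hQ 1 odd_one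
  obtain ⟨-, hr⟩ := mem_of_cycle (hconj c) (hmul _ _) (zpowers_le.2 hz) h1 h2'
  have hx : ((d.x : (P : Subgroup G)) : G) ∈ H := by
    have := mul_mem hr (inv_mem hy0)
    rw [← Subgroup.coe_inv, ← Subgroup.coe_mul] at this
    simpa using this
  have hy : ((d.y : (P : Subgroup G)) : G) ∈ H := by simpa using hy0
  intro a ha
  rcases d.cover ⟨a, ha⟩ with ⟨i, h⟩ | ⟨i, h⟩ <;>
    replace h := congrArg Subtype.val h <;> simp only at h <;> rw [h]
  · rw [Subgroup.coe_zpow]; exact zpow_mem hx i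
  · rw [Subgroup.coe_mul, Subgroup.coe_zpow]; exact mul_mem (zpow_mem hx i) hy

/-- The subgroup of index two has no subgroup of index two. -/
theorem index_ne_two_of_inf (e : Bool) (hT : e = false → d.T6) (hQ : e = true → d.Q6)
    {K : Subgroup G} [K.Normal]
    (hinf : K ⊓ (P : Subgroup G) = (d.maxSub e).map (P : Subgroup G).subtype)
    (hres : Cfsg.pResidual 2 G ≤ K) (H : Subgroup K) : H.index ≠ 2 := fun h2 => by
  refine index_ne_two_of_sylow_le P (fun g hg => ?_) h2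
  set H' := H.map K.subtype with hH'
  have hmem : ∀ g : K, (g : G) ∈ H' ↔ g ∈ H := fun g =>
    ⟨fun ⟨k, hk, h⟩ => Subtype.ext h ▸ hk, fun h => ⟨g, h, rfl⟩⟩
  have hH'K : H' ≤ K := map_subtype_le H
  have hconj : ∀ c ∈ K, ∀ g : G, g ∈ H' ↔ c * g * c⁻¹ ∈ H' := by
    intro c hc g
    have hKn : K.Normal := inferInstance
    by_cases hgK : g ∈ K
    · rw [hmem ⟨g, hgK⟩, hmem ⟨c * g * c⁻¹, hKn.conj_mem g hgK c⟩,
        show (⟨c * g * c⁻¹, hKn.conj_mem g hgK c⟩ : K) = ⟨c, hc⟩ * ⟨g, hgK⟩ * ⟨c, hc⟩⁻¹ from rfl,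
        mul_mem_iff_of_index_two h2, mul_mem_iff_of_index_two h2, inv_mem_iff]
      tauto
    · refine iff_of_false (fun h => hgK (hH'K h)) fun h => hgK ?_
      simpa [mul_assoc] using hKn.conj_mem _ (hH'K h) c⁻¹
  have hmul : ∀ a ∈ K, ∀ b ∈ K, (a * b ∈ H' ↔ (a ∈ H' ↔ b ∈ H')) := fun a ha b hb => by
    rw [hmem ⟨a, ha⟩, hmem ⟨b, hb⟩, hmem ⟨a * b, mul_mem ha hb⟩]
    exact mul_mem_iff_of_index_two h2 (a := (⟨a, ha⟩ : K)) (b := ⟨b, hb⟩)
  have hK : ∀ a : (P : Subgroup G), a ∈ d.maxSub e → (a : G) ∈ K := fun a ha =>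
    (hinf.ge ⟨a, ha, rfl⟩).1
  have hzK : ((d.z : (P : Subgroup G)) : G) ∈ K := hK _ (d.zpow_mem_maxSub.2 d.even_half)
  -- `H'` contains the generators of the maximal subgroup
  have hgen : ((d.z : (P : Subgroup G)) : G) ∈ H' ∧
      ∀ i : ℤ, (Even i ↔ e = false) → ((d.x ^ i * d.y : (P : Subgroup G)) : G) ∈ H' := by
    cases e with
    | false =>
      have key : ∀ i : ℤ, Even i → ((d.z : (P : Subgroup G)) : G) ∈ H' ∧
          ((d.x ^ i * d.y : (P : Subgroup G)) : G) ∈ H' := fun i hi => by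
        obtain ⟨c, hco, h1, h2'⟩ := hT rfl i hi
        refine d.TG_subset h1 h2' (hconj c (mem_of_odd_order hres hco)) fun a b ha hb => ?_
        rw [Set.mem_singleton_iff.1 ha, hb]
        exact hmul _ hzK _ (hK _ (d.refl_mem_maxSub.2 (by simp [hi])))
      exact ⟨(key 0 Even.zero).1, fun i hi => (key i (hi.2 rfl)).2⟩
    | true =>
      have hqK : ((d.q : (P : Subgroup G)) : G) ∈ K := hK _ (d.zpow_mem_maxSub.2
        (even_iff_two_dvd.2 (dvd_pow_self 2 (by have := d.three_le; omega))))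
      have hzH : ((d.z : (P : Subgroup G)) : G) ∈ H' := by
        rw [← d.q_mul_q, Subgroup.coe_mul, hmul _ hqK _ hqK]
      refine ⟨hzH, fun i hi => ?_⟩
      have hi' : Odd i := Int.not_even_iff_odd.1 (by simp at hi; simp [hi])
      obtain ⟨c, hco, h1, h2'⟩ := hQ rfl i hi'
      exact (mem_of_cycle (hconj c (mem_of_odd_order hres hco))
        (hmul _ hqK _ (hK _ (d.refl_mem_maxSub.2 hi))) (zpowers_le.2 hzH) h1 h2').2
  obtain ⟨hz, hr⟩ := hgen
  set k : ℤ := if e then 1 else 0 with hk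
  have hk0 : Even k ↔ e = false := by cases e <;> simp [hk]
  have hk2 : Even (k + 2) ↔ e = false := by rw [Int.even_add]; simpa using hk0
  have hx2 : ((d.x ^ (2 : ℤ) : (P : Subgroup G)) : G) ∈ H' := by
    have h := mul_mem (hr _ hk2) (inv_mem (hr _ hk0))
    rw [← Subgroup.coe_inv, ← Subgroup.coe_mul,
      show d.x ^ (k + 2) * d.y * (d.x ^ k * d.y)⁻¹ = d.x ^ (2 : ℤ) by group] at h
    exact h
  have hgM : (⟨g, hg⟩ : (P : Subgroup G)) ∈ d.maxSub e := by
    obtain ⟨a, ha, hag⟩ := hinf.le (show (g : G) ∈ K ⊓ (P : Subgroup G) from ⟨g.2, hg⟩)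
    rwa [show (⟨g, hg⟩ : (P : Subgroup G)) = a from Subtype.ext hag.symm]
  rw [← hmem g]
  rcases hgM with ⟨i, ⟨j, rfl⟩, h⟩ | ⟨i, hi, h⟩ <;>
    replace h := congrArg Subtype.val h <;> simp only at h <;> rw [h]
  · rw [← two_mul, zpow_mul, Subgroup.coe_zpow]
    exact zpow_mem hx2 j
  · exact hr i hi

end CfsgLib.Involutions.QD
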