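import Cfsg.Agent.Lib.Involutions.CentricFusionSet
import Cfsg.Agent.Lib.Involutions.FourSection
import Cfsg.Agent.Lib.Involutions.SylowClasses
import Cfsg.Agent.Lib.Involutions.QuasiDihedralFusion
import Cfsg.Agent.Lib.Involutions.KleinSylow

/-!
# Fusion in groups with dihedral Sylow 2-subgroups
-/

set_option autoImplicit false
set_option linter.style.haveILetI false

namespace CfsgLib.Involutions

open Subgroup

universe u

/-- A dihedral 2-subgroup of order `2 ^ (n + 1)` with its generators, the four-groups `TG i`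
being generated by the central involution `z` and the reflections `r i`. -/
structure DP {G : Type u} [Group G] (P : Subgroup G) where
  n : ℕ
  x : G
  y : G
  one_le : 1 ≤ n
  x_mem : x ∈ P
  y_mem : y ∈ P
  orderOf_x : orderOf x = 2 ^ n
  orderOf_y : orderOf y = 2
  conj_y : y * x * y⁻¹ = x⁻¹
  y_not : y ∉ zpowers x
  cover : ∀ g ∈ P, (∃ i : ℤ, g = x ^ i) ∨ ∃ i : ℤ, g = x ^ i * y

theorem nonempty_dp {G : Type u} [Group G] [Finite G] {P : Subgroup G} (hP : IsPGroup 2 P) {m : ℕ}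
    (hm : 2 ≤ m) (e : P ≃* DihedralGroup m) : Nonempty (DP P) := by
  haveI : NeZero m := ⟨by omega⟩
  haveI : Fact (Nat.Prime 2) := ⟨Nat.prime_two⟩
  set ι := P.subtype.comp e.symm.toMonoidHom
  have hι : Function.Injective ι := P.subtype_injective.comp e.symm.injective
  obtain ⟨k, hk⟩ := IsPGroup.iff_card.1 hP
  rw [Nat.card_congr e.toEquiv, DihedralGroup.nat_card] at hk
  have hk2 : 2 ≤ k := by
    by_contra h
    interval_cases k <;> omega
  have hm2 : m = 2 ^ (k - 1) := by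
    obtain ⟨j, rfl⟩ : ∃ j, k = j + 1 := ⟨k - 1, by omega⟩
    rw [pow_succ'] at hk
    simpa using hk
  refine ⟨⟨k - 1, ι (.r 1), ι (.sr 0), by omega, SetLike.coe_mem _, SetLike.coe_mem _, ?_, ?_, ?_,
    ?_, ?_⟩⟩
  · rw [orderOf_injective ι hι, DihedralGroup.orderOf_r_one, hm2]
  · rw [orderOf_injective ι hι, DihedralGroup.orderOf_sr]
  · rw [← map_inv, ← map_mul, ← map_mul, ← map_inv]
    congr 1
    simp
  · rintro ⟨i, hi⟩
    have h : DihedralGroup.r (1 : ZMod m) ^ i = .sr 0 := hι ((map_zpow ι _ i).trans hi)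
    simp at h
  · intro g hg
    obtain ⟨a, ha⟩ := e.symm.surjective ⟨g, hg⟩
    have hga : g = ι a := (congrArg Subtype.val ha).symm
    rcases a with i | i
    · refine Or.inl ⟨i.val, ?_⟩
      rw [hga, ← map_zpow, DihedralGroup.r_one_zpow]
      simp
    · refine Or.inr ⟨-(i.val : ℤ), ?_⟩
      rw [hga, ← map_zpow, ← map_mul, DihedralGroup.r_one_zpow]
      simp

namespace DP

variable {G : Type u} [Group G] {P : Subgroup G} (d : DP P)

/-- Half the order of `x`. -/
def half : ℤ := 2 ^ (d.n - 1)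

/-- The central involution. -/
def z : G := d.x ^ d.half

/-- The reflections. -/
def r (i : ℤ) : G := d.x ^ i * d.y

/-- The four-groups. -/
def TG (i : ℤ) : Subgroup G := closure {d.z, d.r i}

theorem order_eq : ((orderOf d.x : ℕ) : ℤ) = 2 * d.half := by
  have := d.one_le
  rw [d.orderOf_x, half, ← pow_succ', show d.n - 1 + 1 = d.n by omega]
  push_cast
  rfl

theorem half_pos : 0 < d.half := pow_pos two_pos _

theorem zpow_eq_one {i : ℤ} : d.x ^ i = 1 ↔ 2 * d.half ∣ i := by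
  rw [← d.order_eq, orderOf_dvd_iff_zpow_eq_one]

theorem zpow_inj {i j : ℤ} : d.x ^ i = d.x ^ j ↔ 2 * d.half ∣ i - j := by
  rw [← d.zpow_eq_one, zpow_sub, mul_inv_eq_one]

theorem orderOf_z : orderOf d.z = 2 := by
  refine invol_iff.2 ⟨?_, ?_⟩
  · rw [z, ← zpow_add, d.zpow_eq_one, two_mul]
  · rw [z, Ne, d.zpow_eq_one]
    intro h
    have := Int.le_of_dvd d.half_pos h
    have := d.half_pos
    omega

theorem z_mem : d.z ∈ P := zpow_mem d.x_mem _

theorem r_mem (i : ℤ) : d.r i ∈ P := mul_mem (zpow_mem d.x_mem _) d.y_mem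

theorem y_mul_zpow (i : ℤ) : d.y * d.x ^ i = d.x ^ (-i) * d.y := by
  rw [← mul_inv_eq_iff_eq_mul, ← conj_zpow, d.conj_y, inv_zpow, zpow_neg]

theorem r_mul_zpow (i j : ℤ) : d.r i * d.x ^ j = d.r (i - j) := by
  rw [r, r, mul_assoc, y_mul_zpow, ← mul_assoc, ← zpow_add, sub_eq_add_neg]

theorem zpow_mul_r (i j : ℤ) : d.x ^ j * d.r i = d.r (j + i) := by
  rw [r, r, ← mul_assoc, ← zpow_add]

theorem r_mul_r (i j : ℤ) : d.r i * d.r j = d.x ^ (i - j) := by
  rw [show d.r i * d.r j = d.r i * d.x ^ j * d.y by rw [r, r, ← mul_assoc], r_mul_zpow, r, mul_assoc,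
    invol_mul_self d.orderOf_y, mul_one]

theorem r_not_mem (i : ℤ) : d.r i ∉ zpowers d.x := fun h =>
  d.y_not ((mul_mem_cancel_left (zpow_mem (mem_zpowers _) i)).1 h)

theorem orderOf_r (i : ℤ) : orderOf (d.r i) = 2 :=
  invol_iff.2 ⟨by rw [r_mul_r, sub_self, zpow_zero], fun h => d.r_not_mem i (h ▸ one_mem _)⟩

theorem r_inv (i : ℤ) : (d.r i)⁻¹ = d.r i := invol_inv (d.orderOf_r i)

theorem r_inj {i j : ℤ} : d.r i = d.r j ↔ 2 * d.half ∣ i - j := by
  rw [r, r, mul_left_inj, zpow_inj]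

theorem conj_r (j i : ℤ) : d.x ^ j * d.r i * (d.x ^ j)⁻¹ = d.r (i + 2 * j) := by
  rw [← zpow_neg, zpow_mul_r, r_mul_zpow]
  congr 1; ring

theorem z_eq_neg : d.x ^ (-d.half) = d.z := by
  rw [zpow_neg]; exact invol_inv d.orderOf_z

theorem commute_z {g : G} (hg : g ∈ P) : Commute d.z g := by
  rcases d.cover g hg with ⟨i, rfl⟩ | ⟨i, rfl⟩
  · exact (Commute.refl d.x).zpow_zpow _ _
  · refine Commute.mul_right ((Commute.refl d.x).zpow_zpow _ _) ?_
    show d.z * d.y = d.y * d.z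
    rw [show d.y * d.z = d.y * d.x ^ d.half from rfl, y_mul_zpow, z_eq_neg]

theorem z_mul_r (i : ℤ) : d.z * d.r i = d.r (d.half + i) := d.zpow_mul_r i d.half

theorem commute_zpow_r {i j : ℤ} (h : Commute (d.x ^ j) (d.r i)) : d.half ∣ j := by
  rw [Commute, SemiconjBy, zpow_mul_r, r_mul_zpow, r_inj,
    show j + i - (i - j) = 2 * j by ring] at h
  exact (Int.mul_dvd_mul_iff_left two_ne_zero).1 h

theorem zpow_of_half_dvd {j : ℤ} (h : d.half ∣ j) : d.x ^ j = 1 ∨ d.x ^ j = d.z := by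
  obtain ⟨m, rfl⟩ := h
  rw [zpow_mul]
  exact (mem_zpowers_invol d.orderOf_z).1 ⟨m, rfl⟩

variable [Finite G]

theorem mem_TG {i : ℤ} {g : G} :
    g ∈ d.TG i ↔ g = 1 ∨ g = d.z ∨ g = d.r i ∨ g = d.z * d.r i :=
  mem_closure_commute_pair d.orderOf_z (d.orderOf_r i) (d.commute_z (d.r_mem i))

theorem z_mem_TG (i : ℤ) : d.z ∈ d.TG i := subset_closure (by simp)

theorem r_mem_TG (i : ℤ) : d.r i ∈ d.TG i := subset_closure (by simp)

omit [Finite G] in
theorem z_ne_r (i : ℤ) : d.z ≠ d.r i := fun h => d.r_not_mem i (h ▸ zpow_mem (mem_zpowers _) _)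

theorem isKleinFour_TG (i : ℤ) : IsKleinFour (d.TG i) :=
  isKleinFour_closure_pair d.orderOf_z (d.orderOf_r i) (d.commute_z (d.r_mem i)) (d.z_ne_r i)

omit [Finite G] in
theorem TG_le (i : ℤ) : d.TG i ≤ P := by
  rw [TG, closure_le]
  rintro a (rfl | rfl)
  · exact d.z_mem
  · exact d.r_mem i

theorem mem_TG_of_commute {i : ℤ} {g : G} (hg : g ∈ P) (h : Commute g (d.r i)) : g ∈ d.TG i := by
  rcases d.cover g hg with ⟨j, rfl⟩ | ⟨j, rfl⟩
  · rcases d.zpow_of_half_dvd (d.commute_zpow_r h) with h' | h' <;> rw [h']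
    · exact one_mem _
    · exact d.z_mem_TG i
  · have h1 : Commute (d.x ^ (j - i)) (d.r i) := by
      rw [← d.r_mul_r]; exact h.mul_left (Commute.refl _)
    rw [show d.x ^ j * d.y = d.x ^ (j - i) * d.r i by rw [zpow_mul_r, sub_add_cancel]; rfl]
    refine mul_mem ?_ (d.r_mem_TG i)
    rcases d.zpow_of_half_dvd (d.commute_zpow_r h1) with h' | h' <;> rw [h']
    · exact one_mem _
    · exact d.z_mem_TG i

theorem klein_eq {T : Subgroup G} (hTP : T ≤ P) (hT : IsKleinFour T) : ∃ i : ℤ, T = d.TG i := by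
  obtain ⟨i, hi⟩ : ∃ i : ℤ, d.r i ∈ T := by
    by_contra h
    push Not at h
    have hle : ∀ g ∈ T, g ∈ zpowers d.z := fun g hg => by
      rcases d.cover g (hTP hg) with ⟨j, rfl⟩ | ⟨j, rfl⟩
      · have h2 := klein_sq hT hg
        rw [← zpow_add, d.zpow_eq_one, ← two_mul] at h2
        obtain ⟨m, hm⟩ := (Int.mul_dvd_mul_iff_left two_ne_zero).1 h2
        exact ⟨m, by simp only [z]; rw [← zpow_mul, ← hm]⟩
      · exact absurd hg (h j)
    have := card_dvd_of_le (show T ≤ zpowers d.z from hle)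
    rw [IsKleinFour.card_four, Nat.card_zpowers, d.orderOf_z] at this
    norm_num at this
  refine ⟨i, eq_of_le_of_card_ge (fun g hg => d.mem_TG_of_commute (hTP hg) (klein_comm hT hg hi)) ?_⟩
  rw [(d.isKleinFour_TG i).card_four, IsKleinFour.card_four]

/-- Same class under `P` for four-groups. -/
def Sim (i k : ℤ) : Prop := Even (i - k) ∨ d.n = 1

theorem TG_eq_of_one (h : d.n = 1) (i k : ℤ) : d.TG i = d.TG k := by
  have hz : d.x = d.z := by rw [z, half, h]; simp
  have hr : ∀ j, d.r j ∈ d.TG k := fun j => by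
    rw [show d.r j = d.x ^ (j - k) * d.r k by rw [zpow_mul_r, sub_add_cancel]]
    exact mul_mem (zpow_mem (hz.symm ▸ d.z_mem_TG k) _) (d.r_mem_TG k)
  refine eq_of_le_of_card_ge ((closure_le _).2 ?_) ?_
  · rintro a (rfl | rfl)
    · exact d.z_mem_TG k
    · exact hr i
  · rw [(d.isKleinFour_TG i).card_four, (d.isKleinFour_TG k).card_four]

theorem exists_conj_TG {i k : ℤ} (h : d.Sim i k) :
    ∃ s ∈ P, (d.TG i).map (MulAut.conj s).toMonoidHom = d.TG k := by
  rcases h with ⟨j, hj⟩ | h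
  · refine ⟨d.x ^ (-j), zpow_mem d.x_mem _, ?_⟩
    rw [TG, TG, MonoidHom.map_closure, Set.image_pair]
    have h1 : (MulAut.conj (d.x ^ (-j))).toMonoidHom d.z = d.z := by
      show d.x ^ (-j) * d.z * (d.x ^ (-j))⁻¹ = d.z
      rw [← (d.commute_z (zpow_mem d.x_mem _)).eq, mul_inv_cancel_right]
    have h2 : (MulAut.conj (d.x ^ (-j))).toMonoidHom (d.r i) = d.r k := by
      show d.x ^ (-j) * d.r i * (d.x ^ (-j))⁻¹ = d.r k
      rw [conj_r]; congr 1; omega
    rw [h1, h2]
  · exact ⟨1, one_mem _, by rw [d.TG_eq_of_one h i k, map_one]; exact map_id _⟩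

/-- The self-centralizing subgroups with an automorphism of odd order are the four-groups. -/
theorem centric_cases {D : Subgroup G} (hD : CentricIn D P) (hp : IsPGroup 2 P) {y : G}
    (hy : y ∈ normalizer (D : Set G)) (hodd : Odd (orderOf y)) :
    (∀ a ∈ D, Commute y a) ∨ ∃ i : ℤ, D = d.TG i := by
  obtain ⟨hDP, hcen⟩ := hD
  have hconj : ∀ a ∈ D, y * a * y⁻¹ ∈ D := fun a ha => (mem_normalizer_iff.1 hy a).1 ha
  set C := zpowers d.x with hC
  have hCP : C ≤ P := zpowers_le.2 d.x_mem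
  by_cases hDC : D ≤ C
  · haveI : IsCyclic D := isCyclic_of_le hDC
    exact Or.inl (commute_of_cyclic (hp.to_le hDP) hodd hconj)
  obtain ⟨g, hgD, hgC⟩ := SetLike.not_le_iff_exists.1 hDC
  obtain ⟨i, rfl⟩ : ∃ i, g = d.r i := by
    rcases d.cover g (hDP hgD) with ⟨j, rfl⟩ | h
    · exact absurd (zpow_mem (mem_zpowers _) j) hgC
    · exact h
  have hzD : d.z ∈ D := hcen _ d.z_mem
    (mem_centralizer_iff.2 fun a ha => (d.commute_z (hDP ha)).eq.symm)
  by_cases hA : ∀ a ∈ D, a ∈ C → a * a = 1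
  · refine Or.inr ⟨i, le_antisymm (fun a ha => ?_) ((closure_le _).2 ?_)⟩
    · have key : ∀ b ∈ D, b ∈ C → b ∈ d.TG i := fun b hb hbC => by
        obtain ⟨j, rfl⟩ := hbC
        have h2 := hA _ hb ⟨j, rfl⟩
        simp only [← zpow_add, d.zpow_eq_one, ← two_mul] at h2
        rcases d.zpow_of_half_dvd ((Int.mul_dvd_mul_iff_left two_ne_zero).1 h2) with h' | h' <;>
          simp only [h']
        · exact one_mem _
        · exact d.z_mem_TG i
      by_cases haC : a ∈ C
      · exact key a ha haC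
      · rcases d.cover a (hDP ha) with ⟨j, rfl⟩ | ⟨j, rfl⟩
        · exact absurd (zpow_mem (mem_zpowers _) j) haC
        · have := key _ (mul_mem ha hgD) (show d.r j * d.r i ∈ C by
            rw [r_mul_r]; exact zpow_mem (mem_zpowers _) _)
          exact (mul_mem_cancel_right (d.r_mem_TG i)).1 this
    · rintro a (rfl | rfl)
      · exact hzD
      · exact hgD
  left
  push Not at hA
  obtain ⟨c, hcD, hcC, hc⟩ := hA
  set A := D ⊓ C with hA'
  have hout : ∀ a ∈ D, a * a ≠ 1 → a ∈ C := fun a ha h => by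
    rcases d.cover a (hDP ha) with ⟨j, rfl⟩ | ⟨j, rfl⟩
    · exact zpow_mem (mem_zpowers _) j
    · exact absurd (invol_mul_self (d.orderOf_r j)) h
  have hAn : ∀ a ∈ A, y * a * y⁻¹ ∈ A := fun a ha => by
    refine ⟨hconj a ha.1, ?_⟩
    by_cases h2 : a * a = 1
    · -- then `a` is a power of `c`
      by_cases ha1 : a = 1
      · rw [ha1, mul_one, mul_inv_cancel]; exact one_mem _
      have hzc : a ∈ zpowers c := by
        obtain ⟨j, rfl⟩ := ha.2
        obtain ⟨m, hm⟩ := hcC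
        have hz : ∀ w : G, w ∈ C → orderOf w = 2 → w = d.z := by
          rintro w ⟨l, rfl⟩ hw
          have h3 := invol_mul_self hw
          simp only [← zpow_add, d.zpow_eq_one, ← two_mul] at h3
          exact (d.zpow_of_half_dvd ((Int.mul_dvd_mul_iff_left two_ne_zero).1 h3)).resolve_left
            (invol_ne_one hw)
        obtain ⟨w, hw⟩ := exists_prime_orderOf_dvd_card' 2 (G := zpowers c) (by
          obtain ⟨k, hk⟩ := IsPGroup.iff_card.1 (hp.to_le (zpowers_le.2 (hDP hcD)))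
          rw [hk]
          rcases Nat.eq_zero_or_pos k with rfl | hk0
          · rw [pow_zero, Nat.card_zpowers, orderOf_eq_one_iff] at hk
            exact absurd (by rw [hk, one_mul] : c * c = 1) hc
          · exact dvd_pow_self 2 hk0.ne')
        rw [← Subgroup.orderOf_coe] at hw
        rw [hz _ ⟨j, rfl⟩ (invol_iff.2 ⟨h2, ha1⟩),
          ← hz _ ((zpowers_le.2 (⟨m, hm⟩ : c ∈ C)) w.2) hw]
        exact w.2
      obtain ⟨k, rfl⟩ := hzc
      simp only [← conj_zpow]
      exact zpow_mem (hout _ (hconj c hcD) fun h => hc (conj_eq_one_iff.1 (conj_mul.symm.trans h))) k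
    · exact hout _ (hconj a ha.1) fun h => h2 (conj_eq_one_iff.1 (conj_mul.symm.trans h))
  have hAiff : ∀ a ∈ D, (a ∈ A ↔ y * a * y⁻¹ ∈ A) := by
    haveI : IsCyclic A := isCyclic_of_le (inf_le_right : A ≤ C)
    have hfix := commute_of_cyclic (hp.to_le (inf_le_left.trans hDP : A ≤ P)) hodd hAn
    intro a ha
    refine ⟨hAn a, fun h => ?_⟩
    have h1 : a = y * a * y⁻¹ := by
      calc a = y⁻¹ * (y * a * y⁻¹) * y := by group
        _ = _ := by rw [(hfix _ h).inv_left.eq, inv_mul_cancel_right]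
    rwa [h1]
  haveI : IsCyclic A := isCyclic_of_le (inf_le_right : A ≤ C)
  have hfix := commute_of_cyclic (hp.to_le (inf_le_left.trans hDP : A ≤ P)) hodd hAn
  intro a ha
  refine commute_of_stab (hp.to_le (inf_le_left.trans hDP : A ≤ P)) hodd hfix ?_
  by_cases haA : a ∈ A
  · exact A.mul_mem ((hAiff a ha).1 haA) (A.inv_mem haA)
  · have hr : ∀ b ∈ D, b ∉ A → ∃ j, b = d.r j := fun b hb hbA => by
      rcases d.cover b (hDP hb) with ⟨j, rfl⟩ | h
      · exact absurd ⟨hb, zpow_mem (mem_zpowers _) j⟩ hbA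
      · exact h
    obtain ⟨j, hj⟩ := hr a ha haA
    obtain ⟨k, hk⟩ := hr _ (hconj a ha) fun h => haA ((hAiff a ha).2 h)
    refine ⟨D.mul_mem (hconj a ha) (D.inv_mem ha), ?_⟩
    rw [hk, hj, d.r_inv, r_mul_r]
    exact zpow_mem (mem_zpowers _) _

/-- No element of odd order acts nontrivially on `TG i`. -/
def F2 (i : ℤ) : Prop :=
  ∀ y ∈ normalizer (d.TG i : Set G), Odd (orderOf y) → ∀ a ∈ d.TG i, Commute y a

theorem F2.sim {i k : ℤ} (h : d.F2 i) (hik : d.Sim i k) : d.F2 k := by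
  obtain ⟨s, -, hs⟩ := d.exists_conj_TG hik
  exact QD.commute_of_conj hs h

/-- Otherwise an element of odd order permutes its involutions cyclically. -/
theorem exists_cycle {i : ℤ} (h : ¬ d.F2 i) :
    ∃ c ∈ normalizer (d.TG i : Set G), Odd (orderOf c) ∧
      c * d.z * c⁻¹ = d.r i ∧ c * d.r i * c⁻¹ = d.z * d.r i := by
  simp only [F2, not_forall] at h
  obtain ⟨y, hy, hodd, a, ha, hne⟩ := h
  have hconj : ∀ b ∈ d.TG i, y * b * y⁻¹ ∈ d.TG i := fun b hb => (mem_normalizer_iff.1 hy b).1 hb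
  have hK := d.isKleinFour_TG i
  -- an element fixing one involution fixes all
  have hfix : ∀ v ∈ d.TG i, v ≠ 1 → y * v * y⁻¹ ≠ v := by
    intro v hv hv1 hfixv
    apply hne
    have hvo : orderOf v = 2 := invol_iff.2 ⟨klein_sq hK hv, hv1⟩
    by_cases hav : a = v
    · rw [hav]; exact mul_inv_eq_iff_eq_mul.1 hfixv
    by_cases ha1 : a = 1
    · rw [ha1]; exact Commute.one_right y
    refine commute_of_stab (W := zpowers v)
      (IsPGroup.of_card (n := 1) (by rw [Nat.card_zpowers, hvo, pow_one])) hodd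
      (fun w ⟨k, hk⟩ => hk ▸ Commute.zpow_right (mul_inv_eq_iff_eq_mul.1 hfixv : Commute y v) k) ?_
    have hb := hconj a ha
    have hbv : y * a * y⁻¹ ≠ v := fun e => hav (by
      calc a = y⁻¹ * (y * a * y⁻¹) * y := by group
        _ = v := by nth_rw 1 [e, ← hfixv]; group)
    have hb1 : y * a * y⁻¹ ≠ 1 := fun e => ha1 (conj_eq_one_iff.1 e)
    by_cases hba : y * a * y⁻¹ = a
    · rw [hba, mul_inv_cancel]; exact one_mem _
    · rw [klein_eq_mul hK hv ha hb hv1 ha1 (Ne.symm hav) hb1 hbv hba, mul_inv_cancel_right]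
      exact mem_zpowers _
  have hz := hfix _ (d.z_mem_TG i) (invol_ne_one d.orderOf_z)
  have hr := hfix _ (d.r_mem_TG i) (invol_ne_one (d.orderOf_r i))
  have hzr1 : d.z * d.r i ≠ 1 := fun e => d.z_ne_r i
    (by rw [eq_inv_of_mul_eq_one_left e, d.r_inv])
  have hzr := hfix _ (mul_mem (d.z_mem_TG i) (d.r_mem_TG i)) hzr1
  have ne1 : d.r i ≠ d.z * d.r i := fun e => invol_ne_one d.orderOf_z (mul_eq_right.1 e.symm)
  have ne2 : d.z ≠ d.z * d.r i := fun e => invol_ne_one (d.orderOf_r i) (mul_eq_left.1 e.symm)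
  rcases d.mem_TG.1 (hconj _ (d.z_mem_TG i)) with h | h | h | h
  · exact absurd (conj_eq_one_iff.1 h) (invol_ne_one d.orderOf_z)
  · exact absurd h hz
  · refine ⟨y, hy, hodd, h, ?_⟩
    rcases d.mem_TG.1 (hconj _ (d.r_mem_TG i)) with h' | h' | h' | h'
    · exact absurd (conj_eq_one_iff.1 h') (invol_ne_one (d.orderOf_r i))
    · refine absurd ?_ hzr
      rw [← conj_mul, h, h', (d.commute_z (d.r_mem i)).eq]
    · exact absurd h' hr
    · exact h'
  · have h' : y * d.r i * y⁻¹ = d.z := by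
      rcases d.mem_TG.1 (hconj _ (d.r_mem_TG i)) with h' | h' | h' | h'
      · exact absurd (conj_eq_one_iff.1 h') (invol_ne_one (d.orderOf_r i))
      · exact h'
      · exact absurd h' hr
      · exact absurd (conj_injective (h'.trans h.symm)) (d.z_ne_r i).symm
    have h'' : y * (d.z * d.r i) * y⁻¹ = d.r i := by
      rw [← conj_mul, h, h', mul_assoc, ← (d.commute_z (d.r_mem i)).eq, ← mul_assoc,
        invol_mul_self d.orderOf_z, one_mul]
    refine ⟨y⁻¹, inv_mem hy, by rwa [orderOf_inv], ?_, ?_⟩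
    · calc y⁻¹ * d.z * y⁻¹⁻¹ = y⁻¹ * (y * d.r i * y⁻¹) * y⁻¹⁻¹ := by rw [h']
        _ = _ := by group
    · calc y⁻¹ * d.r i * y⁻¹⁻¹ = y⁻¹ * (y * (d.z * d.r i) * y⁻¹) * y⁻¹⁻¹ := by rw [h'']
        _ = _ := by group

end DP

end CfsgLib.Involutions
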