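import Cfsg.Agent.Lib.Involutions.DihedralFusion

/-!
# Classes and subgroups of index two with dihedral Sylow 2-subgroups
-/

set_option autoImplicit false
set_option linter.style.haveILetI false

namespace CfsgLib.Involutions.DP

open Subgroup

universe u

variable {G : Type u} [Group G] [Finite G]

section

variable {P : Subgroup G} (d : DP P)

theorem card_eq : Nat.card P = 2 * 2 ^ d.n := by
  have h : (zpowers d.x).relIndex P = 2 := by
    refine relIndex_eq_two_iff.2 ⟨d.y, d.y_mem, fun b hb => ?_⟩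
    rcases d.cover b hb with ⟨i, rfl⟩ | ⟨i, rfl⟩
    · exact Or.inr ⟨zpow_mem (mem_zpowers _) _, d.r_not_mem i⟩
    · refine Or.inl ⟨?_, d.r_not_mem i⟩
      rw [mul_assoc, invol_mul_self d.orderOf_y, mul_one]
      exact zpow_mem (mem_zpowers _) _
  have h2 := ((zpowers d.x).subgroupOf P).card_mul_index
  rw [Nat.card_congr (subgroupOfEquivOfLe (zpowers_le.2 d.x_mem)).toEquiv, Nat.card_zpowers,
    d.orderOf_x, ← relIndex, h, mul_comm] at h2
  exact h2.symm

theorem card_eq_four_iff : Nat.card P = 4 ↔ d.n = 1 := by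
  rw [d.card_eq]
  constructor
  · intro h
    have h2 : 2 ^ d.n = 2 ^ 1 := by omega
    exact Nat.pow_right_injective le_rfl h2
  · intro h; rw [h]; rfl

theorem even_half (h : d.n ≠ 1) : Even d.half := by
  have := d.one_le
  exact even_iff_two_dvd.2 (dvd_pow_self 2 (by omega))

theorem even_of_r_mem_TG (h : d.n ≠ 1) {i j : ℤ} (hj : d.r j ∈ d.TG i) : Even (j - i) := by
  have hh := d.even_half h
  rcases d.mem_TG.1 hj with e | e | e | e
  · exact absurd e (invol_ne_one (d.orderOf_r j))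
  · exact absurd e.symm (d.z_ne_r j)
  · exact even_iff_two_dvd.2 ((dvd_mul_right 2 _).trans (d.r_inj.1 e))
  · rw [z_mul_r, r_inj] at e
    have := (even_iff_two_dvd.2 ((dvd_mul_right 2 _).trans e)).add hh
    rwa [show j - (d.half + i) + d.half = j - i by ring] at this

theorem commute_TG {i : ℤ} {y : G} (hz : Commute y d.z) (hr : Commute y (d.r i)) :
    y ∈ centralizer (d.TG i : Set G) := by
  rw [TG, centralizer_closure, mem_centralizer_iff]
  rintro a (rfl | rfl)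
  · exact hz.eq.symm
  · exact hr.eq.symm

theorem mem_centralizer_TG {i : ℤ} {n : G} :
    n ∈ centralizer (d.TG i : Set G) ↔
      n * d.z * n⁻¹ * d.z⁻¹ ∈ (⊥ : Subgroup G) ∧
        n * d.r i * n⁻¹ * (d.r i)⁻¹ ∈ (⊥ : Subgroup G) := by
  simp only [mem_bot, mul_inv_eq_one]
  refine ⟨fun h => ⟨?_, ?_⟩, fun h => d.commute_TG (mul_inv_eq_iff_eq_mul.1 h.1)
    (mul_inv_eq_iff_eq_mul.1 h.2)⟩
  · exact mul_inv_eq_iff_eq_mul.2 (mem_centralizer_iff.1 h _ (d.z_mem_TG i)).symm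
  · exact mul_inv_eq_iff_eq_mul.2 (mem_centralizer_iff.1 h _ (d.r_mem_TG i)).symm

theorem tri_TG (i : ℤ) : Tri (normalizer (d.TG i : Set G)) ⊥ d.z (d.r i) := by
  have hzr1 : d.z * d.r i ≠ 1 := fun e => d.z_ne_r i
    (by rw [eq_inv_of_mul_eq_one_left e, d.r_inv])
  have hinv : ∀ n ∈ normalizer (d.TG i : Set G), ∀ v ∈ d.TG i, v ≠ 1 →
      (n * v * n⁻¹ * d.z⁻¹ ∈ (⊥ : Subgroup G) ∨ n * v * n⁻¹ * (d.r i)⁻¹ ∈ (⊥ : Subgroup G) ∨
        n * v * n⁻¹ * (d.z * d.r i)⁻¹ ∈ (⊥ : Subgroup G)) := by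
    intro n hn v hv hv1
    simp only [mem_bot, mul_inv_eq_one]
    exact (d.mem_TG.1 ((mem_normalizer_iff.1 hn v).1 hv)).resolve_left
      fun h => hv1 (conj_eq_one_iff.1 h)
  refine ⟨bot_le, fun n _ w hw => by rw [mem_bot.1 hw, mul_one, mul_inv_cancel]; exact one_mem _,
    le_normalizer (d.z_mem_TG i), le_normalizer (d.r_mem_TG i),
    mem_bot.2 (invol_mul_self d.orderOf_z), mem_bot.2 (invol_mul_self (d.orderOf_r i)), ?_,
    fun h => invol_ne_one d.orderOf_z (mem_bot.1 h),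
    fun h => invol_ne_one (d.orderOf_r i) (mem_bot.1 h), fun h => hzr1 (mem_bot.1 h),
    fun n hn => hinv n hn _ (d.z_mem_TG i) (invol_ne_one d.orderOf_z),
    fun n hn => hinv n hn _ (d.r_mem_TG i) (invol_ne_one (d.orderOf_r i))⟩
  rw [mem_bot, (d.commute_z (d.r_mem i)).eq, mul_inv_cancel_right, mul_inv_cancel]

theorem isPGroup_quotient {i : ℤ} (h : d.F2 i) :
    ∃ j : ℕ, (centralizer (d.TG i : Set G)).relIndex (normalizer (d.TG i : Set G)) = 2 ^ j := by
  set N := normalizer (d.TG i : Set G)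
  set C := centralizer (d.TG i : Set G)
  haveI : (C.subgroupOf N).Normal := by
    rw [← normalizerMonoidHom_ker]; infer_instance
  have hp : IsPGroup 2 (↥N ⧸ C.subgroupOf N) := by
    intro q
    obtain ⟨⟨y, hy⟩, rfl⟩ := QuotientGroup.mk'_surjective (C.subgroupOf N) q
    obtain ⟨k, m, hm2, hk⟩ :=
      Nat.exists_eq_pow_mul_and_not_dvd (orderOf_pos y).ne' 2 (by norm_num)
    refine ⟨k, ?_⟩
    rw [← map_pow, QuotientGroup.mk'_apply, QuotientGroup.eq_one_iff, mem_subgroupOf]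
    have hodd : Odd (orderOf (y ^ 2 ^ k)) :=
      Odd.of_dvd_nat (Nat.odd_iff.2 (Nat.two_dvd_ne_zero.1 hm2))
        (orderOf_dvd_of_pow_eq_one (by rw [← pow_mul, ← hk, pow_orderOf_eq_one]))
    exact mem_centralizer_iff.2 fun a ha => (h _ (pow_mem hy _) hodd a ha).eq.symm
  obtain ⟨j, hj⟩ := IsPGroup.iff_card.1 hp
  exact ⟨j, hj ▸ rfl⟩

theorem not_F2_of_relIndex {i : ℤ} {v : ℕ} (hv : 3 ∣ v)
    (h : (centralizer (d.TG i : Set G)).relIndex (normalizer (d.TG i : Set G)) = v) : ¬ d.F2 i := by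
  intro hF
  obtain ⟨j, hj⟩ := d.isPGroup_quotient hF
  rw [h] at hj
  have := Nat.Prime.dvd_of_dvd_pow Nat.prime_three (hj ▸ hv)
  omega

end

variable {P : Sylow 2 G} (d : DP (P : Subgroup G))

theorem relIndex_eq {i : ℤ} (h : ¬ d.F2 i) :
    (centralizer (d.TG i : Set G)).relIndex (normalizer (d.TG i : Set G))
      = if d.n = 1 then 3 else 6 := by
  obtain ⟨c, hcN, hco, hc1, -⟩ := d.exists_cycle h
  have hcC : c ∉ centralizer (d.TG i : Set G) := fun hcC => d.z_ne_r i <| by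
    rw [← hc1, ← mem_centralizer_iff.1 hcC _ (d.z_mem_TG i), mul_inv_cancel_right]
  split_ifs with hn
  · obtain ⟨H, _, _, φ, hH, hker, -⟩ := (d.tri_TG i).exists_hom
    have hk : φ.ker = (centralizer (d.TG i : Set G)).subgroupOf (normalizer (d.TG i : Set G)) := by
      ext n
      rw [MonoidHom.mem_ker, hker, mem_subgroupOf, d.mem_centralizer_TG]
    have hdvd : (centralizer (d.TG i : Set G)).relIndex (normalizer (d.TG i : Set G)) ∣ 6 := by
      rw [relIndex, ← hk, index_ker, ← hH]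
      exact card_subgroup_dvd_card _
    have hPT : d.TG i = (P : Subgroup G) := eq_of_le_of_card_ge (d.TG_le i) (by
      rw [(d.isKleinFour_TG i).card_four, (d.card_eq_four_iff).2 hn])
    have hodd : ¬ 2 ∣ (centralizer (d.TG i : Set G)).relIndex (normalizer (d.TG i : Set G)) :=
      fun h2 => P.not_dvd_index ((h2.trans (relIndex_dvd_index_of_le
        (centralizer_le_normalizer _))).trans (index_dvd_of_le fun a ha => by
          rw [← hPT] at ha
          exact mem_centralizer_iff.2 fun b hb => klein_comm (d.isKleinFour_TG i) hb ha))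
    have hne : (centralizer (d.TG i : Set G)).relIndex (normalizer (d.TG i : Set G)) ≠ 1 :=
      fun h1 => hcC (relIndex_eq_one.1 h1 hcN)
    have := Nat.le_of_dvd (by norm_num) hdvd
    interval_cases (centralizer (d.TG i : Set G)).relIndex (normalizer (d.TG i : Set G)) <;> omega
  · obtain ⟨q, hq⟩ := d.even_half hn
    have hr : d.x ^ q * d.r i * (d.x ^ q)⁻¹ = d.z * d.r i := by
      rw [conj_r, z_mul_r]; congr 1; omega
    have hN : d.x ^ q ∈ normalizer (d.TG i : Set G) := by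
      refine mem_normalizer_closure ?_
      rintro a (rfl | rfl)
      · rw [← (d.commute_z (zpow_mem d.x_mem q)).eq, mul_inv_cancel_right]
        exact d.z_mem_TG i
      · rw [hr]; exact mul_mem (d.z_mem_TG i) (d.r_mem_TG i)
    obtain ⟨k, hk⟩ := P.isPGroup' ⟨d.x ^ q, zpow_mem d.x_mem q⟩
    rcases (d.tri_TG i).two_or_six (fun n _ => d.mem_centralizer_TG) hN (congrArg Subtype.val hk)
      (fun hC => by
        rw [← (mem_centralizer_iff.1 hC _ (d.r_mem_TG i)), mul_inv_cancel_right] at hr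
        exact invol_ne_one d.orderOf_z (mul_eq_right.1 hr.symm)) with h2 | h6
    · exact absurd (mem_of_relIndex_two h2 hcN hco) hcC
    · exact h6

theorem isConj_z {t : G} (hT : ∀ i, ¬ d.F2 i) (ht : orderOf t = 2) : IsConj d.z t := by
  obtain ⟨g, hg⟩ := exists_conj_mem_sylow_one P ht
  refine IsConj.trans ?_ (isConj_iff.2 ⟨g, rfl⟩ : IsConj t (g * t * g⁻¹)).symm
  have ht' := conj_invol g ht
  rcases d.cover _ hg with ⟨i, hi⟩ | ⟨i, hi⟩
  · rw [hi] at ht' ⊢
    have h2 := invol_mul_self ht'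
    rw [← zpow_add, d.zpow_eq_one, ← two_mul] at h2
    rw [(d.zpow_of_half_dvd ((Int.mul_dvd_mul_iff_left two_ne_zero).1 h2)).resolve_left
      (invol_ne_one ht')]
  · obtain ⟨c, -, -, hc, -⟩ := d.exists_cycle (hT i)
    exact hi ▸ isConj_iff.2 ⟨c, hc⟩

include d in
theorem not_isolated (h : ∀ a b : G, orderOf a = 2 → orderOf b = 2 → IsConj a b) (t : G) :
    ¬ Cfsg.IsIsolatedInvolution t := by
  rintro ⟨ht, hiso⟩
  obtain ⟨g, hg⟩ := isConj_iff.1 (h _ _ d.orderOf_z ht)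
  obtain ⟨c, hc⟩ := isConj_iff.1 (h _ _ d.orderOf_z (d.orderOf_r 0))
  refine d.z_ne_r 0 ?_
  have hcomm : Commute t ((g * c * g⁻¹) * t * (g * c * g⁻¹)⁻¹) := by
    rw [show (g * c * g⁻¹) * t * (g * c * g⁻¹)⁻¹ = g * d.r 0 * g⁻¹ by rw [← hc, ← hg]; group, ← hg]
    exact (d.commute_z (d.r_mem 0)).map (MulAut.conj g).toMonoidHom
  have := hiso _ hcomm
  rw [show (g * c * g⁻¹) * t * (g * c * g⁻¹)⁻¹ = g * d.r 0 * g⁻¹ by rw [← hc, ← hg]; group,
    ← hg] at this
  exact (conj_injective this).symm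

theorem r_not_isConj_z {k : ℤ} (h : d.F2 k) : ¬ IsConj (d.r k) d.z := by
  rintro hc
  obtain ⟨g, hg⟩ := isConj_iff.1 hc
  have key := fusion_invariant P (Φ := fun a => ∃ j, d.Sim j k ∧ a = d.r j) ?_ ?_ (d.r_mem k)
    (g := g) (hg ▸ d.z_mem) ⟨k, Or.inl (by simp), rfl⟩
  · obtain ⟨j, -, hj⟩ := key
    exact d.z_ne_r j (hg ▸ hj)
  · rintro s hs _ - ⟨j, hj, rfl⟩
    rcases d.cover s hs with ⟨l, rfl⟩ | ⟨l, rfl⟩
    · refine ⟨j + 2 * l, hj.imp_left (fun h => ?_), d.conj_r l j⟩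
      rw [show j + 2 * l - k = j - k + 2 * l by ring]
      exact h.add (even_two_mul l)
    · refine ⟨l - (j - l), hj.imp_left (fun h => ?_), ?_⟩
      · rw [show l - (j - l) - k = 2 * l - 2 * j + (j - k) by ring]
        exact ((even_two_mul l).sub (even_two_mul j)).add h
      · show d.r l * d.r j * (d.r l)⁻¹ = _
        rw [r_inv, r_mul_r, zpow_mul_r]
        congr 1; ring
  · intro D hD y hy hyp a ha hΦ
    have hodd : Odd (orderOf y) := Nat.coprime_two_right.1 hyp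
    rcases d.centric_cases hD P.isPGroup' hy hodd with hc | ⟨i, rfl⟩
    · rwa [(hc a ha).eq, mul_inv_cancel_right]
    obtain ⟨j, hj, rfl⟩ := hΦ
    have hi : d.F2 i := h.sim d (by
      by_cases hn : d.n = 1
      · exact Or.inr hn
      refine Or.inl ?_
      have := (hj.resolve_right hn).sub (d.even_of_r_mem_TG hn ha)
      rw [show j - k - (j - i) = i - k by ring] at this
      rw [← neg_sub]; exact this.neg)
    rw [(hi y hy hodd _ ha).eq, mul_inv_cancel_right]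
    exact ⟨j, hj, rfl⟩

theorem index_ne_two (hT : ∀ i, ¬ d.F2 i) (H : Subgroup G) : H.index ≠ 2 := fun h2 => by
  refine index_ne_two_of_sylow_le' P (fun a ha => ?_) h2
  have hconj : ∀ c g : G, g ∈ H ↔ c * g * c⁻¹ ∈ H := fun c g => by
    rw [mul_mem_iff_of_index_two h2, mul_mem_iff_of_index_two h2, inv_mem_iff]; tauto
  have key : ∀ i, d.z ∈ H ∧ d.r i ∈ H := fun i => by
    obtain ⟨c, -, -, h1, h2'⟩ := d.exists_cycle (hT i)
    exact mem_of_cycle (hconj c) (mul_mem_iff_of_index_two h2) bot_le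
      (mem_bot.2 (by rw [h1, mul_inv_cancel])) (mem_bot.2 (by rw [h2', mul_inv_cancel]))
  rcases d.cover a ha with ⟨i, rfl⟩ | ⟨i, rfl⟩
  · have := mul_mem (key i).2 (key 0).2
    rwa [r_mul_r, sub_zero] at this
  · exact (key i).2

/-- The maximal subgroup `⟨x ^ 2, r k⟩`. -/
def Mk (d : DP (P : Subgroup G)) (k : ℤ) : Subgroup G where
  carrier := {g | (∃ j : ℤ, Even j ∧ g = d.x ^ j) ∨ ∃ j : ℤ, Even (j - k) ∧ g = d.r j}
  mul_mem' := by
    rintro _ _ (⟨i, hi, rfl⟩ | ⟨i, hi, rfl⟩) (⟨j, hj, rfl⟩ | ⟨j, hj, rfl⟩)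
    · exact Or.inl ⟨i + j, hi.add hj, (zpow_add _ _ _).symm⟩
    · exact Or.inr ⟨i + j, by rw [add_sub_assoc]; exact hi.add hj, d.zpow_mul_r j i⟩
    · refine Or.inr ⟨i - j, ?_, d.r_mul_zpow i j⟩
      rw [show i - j - k = i - k - j by ring]; exact hi.sub hj
    · refine Or.inl ⟨i - j, ?_, d.r_mul_r i j⟩
      rw [show i - j = i - k - (j - k) by ring]; exact hi.sub hj
  one_mem' := Or.inl ⟨0, Even.zero, (zpow_zero _).symm⟩
  inv_mem' := by
    rintro _ (⟨i, hi, rfl⟩ | ⟨i, hi, rfl⟩)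
    · exact Or.inl ⟨-i, hi.neg, (zpow_neg _ _).symm⟩
    · exact Or.inr ⟨i, hi, d.r_inv i⟩

theorem r_mem_Mk {i k : ℤ} : d.r i ∈ d.Mk k ↔ Even (i - k) := by
  refine ⟨?_, fun h => Or.inr ⟨i, h, rfl⟩⟩
  rintro (⟨j, -, h⟩ | ⟨j, hj, h⟩)
  · exact absurd (h ▸ zpow_mem (mem_zpowers _) j) (d.r_not_mem i)
  · have := (even_iff_two_dvd.2 ((dvd_mul_right 2 _).trans (d.r_inj.1 h))).add hj
    rwa [sub_add_sub_cancel] at this

theorem zpow_mem_Mk {i k : ℤ} : d.x ^ i ∈ d.Mk k ↔ Even i := by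
  refine ⟨?_, fun h => Or.inl ⟨i, h, rfl⟩⟩
  rintro (⟨j, hj, h⟩ | ⟨j, -, h⟩)
  · have := (even_iff_two_dvd.2 ((dvd_mul_right 2 _).trans (d.zpow_inj.1 h))).add hj
    rwa [sub_add_cancel] at this
  · exact absurd (h ▸ zpow_mem (mem_zpowers _) i) (d.r_not_mem j)

theorem exists_index_two {k : ℤ} (h : d.F2 k) : ∃ H : Subgroup G, H.index = 2 := by
  set M := d.Mk (k + 1) with hM
  have hMP : M ≤ (P : Subgroup G) := by
    rintro _ (⟨j, -, rfl⟩ | ⟨j, -, rfl⟩)
    · exact zpow_mem d.x_mem j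
    · exact d.r_mem j
  have hrel : M.relIndex (P : Subgroup G) = 2 := by
    refine relIndex_eq_two_iff.2 ⟨d.r k, d.r_mem k, fun b hb => ?_⟩
    rcases d.cover b hb with ⟨i, rfl⟩ | ⟨i, rfl⟩
    · rw [zpow_mul_r, hM, zpow_mem_Mk, r_mem_Mk]
      rcases Int.even_or_odd i with he | ho
      · refine Or.inr ⟨he, ?_⟩
        rw [show i + k - (k + 1) = i - 1 by ring, Int.even_sub]
        simp [he]
      · refine Or.inl ⟨?_, Int.not_even_iff_odd.2 ho⟩
        rw [show i + k - (k + 1) = i - 1 by ring]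
        exact ho.sub_odd odd_one
    · change Xor _ (d.r i ∈ M)
      rw [show d.x ^ i * d.y = d.r i from rfl, r_mul_r, hM, zpow_mem_Mk, r_mem_Mk,
        show i - (k + 1) = i - k - 1 by ring]
      rcases Int.even_or_odd (i - k) with he | ho
      · refine Or.inl ⟨he, ?_⟩
        rw [Int.even_sub]; simp [he]
      · exact Or.inr ⟨ho.sub_odd odd_one, Int.not_even_iff_odd.2 ho⟩
  have hidx2 : (M.subgroupOf (P : Subgroup G)).index = 2 := hrel
  have hmul : ∀ a ∈ (P : Subgroup G), ∀ b ∈ (P : Subgroup G),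
      (a * b ∈ M ↔ (a ∈ M ↔ b ∈ M)) := fun a ha b hb => by
    simpa only [mem_subgroupOf, Subgroup.coe_mul] using
      mul_mem_iff_of_index_two hidx2 (a := (⟨a, ha⟩ : (P : Subgroup G))) (b := ⟨b, hb⟩)
  have hconjM : ∀ a ∈ (P : Subgroup G), ∀ b ∈ (P : Subgroup G), (b * a * b⁻¹ ∈ M ↔ a ∈ M) :=
    fun a ha b hb => by
      rw [hmul _ (mul_mem hb ha) _ (inv_mem hb), hmul _ hb _ ha, inv_mem_iff]
      have hiff : ∀ p q : Prop, (((p ↔ q) ↔ p) ↔ q) := fun p q => by by_cases p <;> simp [*]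
      exact hiff _ _
  obtain ⟨K, -, -, hidx, -⟩ := exists_normal_inf_eq P M hMP
    (fun s hs m hm => (hconjM m (hMP hm) s hs).2 hm)
    (fun a ha b hb => by
      rw [hmul _ (inv_mem ha) _ (mul_mem (mul_mem hb ha) (inv_mem hb)), inv_mem_iff,
        hconjM a ha b hb])
    (fun D hD y hy hyp a ha => by
      have hodd : Odd (orderOf y) := Nat.coprime_two_right.1 hyp
      have htriv : Commute y a → a⁻¹ * (y * a * y⁻¹) ∈ M := fun h => by
        rw [h.eq, mul_inv_cancel_right, inv_mul_cancel]; exact one_mem _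
      rcases d.centric_cases hD P.isPGroup' hy hodd with hc | ⟨i, rfl⟩
      · exact htriv (hc a ha)
      by_cases hs : d.Sim k i
      · exact htriv (h.sim d hs y hy hodd a ha)
      rw [Sim, not_or] at hs
      have hle : d.TG i ≤ M := by
        rw [TG, closure_le]
        rintro b (rfl | rfl)
        · exact d.zpow_mem_Mk.2 (d.even_half hs.2)
        · refine d.r_mem_Mk.2 ?_
          rw [show i - (k + 1) = -(k - i) - 1 by ring]
          exact (Int.not_even_iff_odd.1 hs.1).neg.sub_odd odd_one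
      exact hle (mul_mem (inv_mem ha) ((mem_normalizer_iff.1 hy a).1 ha)))
  exact ⟨K, hidx.trans hrel⟩

theorem not_conj_TG (hn : d.n ≠ 1) (g : G) :
    (d.TG 0).map (MulAut.conj g).toMonoidHom ≠ d.TG 1 := by
  intro hg
  have himg : ((fun a => g * a * g⁻¹) '' (d.TG 0 : Set G)) = (d.TG 1 : Set G) := by
    rw [← hg]; rfl
  have key := fusion_invariant_set P (Φ := fun A => ∃ i : ℤ, Even i ∧ A = (d.TG i : Set G)) ?_ ?_
    (SetLike.coe_subset_coe.2 (d.TG_le 0)) (g := g)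
    (fun a ha => d.TG_le 1 (himg.le ⟨a, ha, rfl⟩)) ⟨0, Even.zero, rfl⟩
  · obtain ⟨i, hi, h⟩ := key
    rw [himg] at h
    have h1 := d.even_of_r_mem_TG hn (h.le (d.r_mem_TG 1) : d.r 1 ∈ d.TG i)
    rw [Int.even_sub] at h1
    exact Int.not_even_one (h1.2 hi)
  · rintro s hs _ - ⟨i, hi, rfl⟩
    obtain ⟨j, hj, hmap⟩ : ∃ j, Even j ∧ (d.TG i).map (MulAut.conj s).toMonoidHom = d.TG j := by
      have hzc : MulAut.conj s d.z = d.z := by
        show s * d.z * s⁻¹ = d.z
        rw [← (d.commute_z hs).eq, mul_inv_cancel_right]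
      obtain ⟨j, hj, hr⟩ : ∃ j, Even j ∧ MulAut.conj s (d.r i) = d.r j := by
        rcases d.cover s hs with ⟨l, rfl⟩ | ⟨l, rfl⟩
        · exact ⟨i + 2 * l, hi.add (even_two_mul l), d.conj_r l i⟩
        · refine ⟨l - (i - l), ?_, ?_⟩
          · rw [show l - (i - l) = 2 * l - i by ring]; exact (even_two_mul l).sub hi
          · show d.r l * d.r i * (d.r l)⁻¹ = _
            rw [r_inv, r_mul_r, zpow_mul_r]
            congr 1; ring
      refine ⟨j, hj, ?_⟩
      rw [TG, MonoidHom.map_closure, Set.image_pair]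
      exact congrArg Subgroup.closure (by
        show ({MulAut.conj s d.z, MulAut.conj s (d.r i)} : Set G) = _
        rw [hzc, hr])
    exact ⟨j, hj, by rw [← hmap]; rfl⟩
  · intro D hD y hy hyp A hA hΦ
    have hodd : Odd (orderOf y) := Nat.coprime_two_right.1 hyp
    rcases d.centric_cases hD P.isPGroup' hy hodd with hc | ⟨j, rfl⟩
    · rw [Set.image_congr (g := id) fun a ha => by
        rw [(hc a (hA ha)).eq, mul_inv_cancel_right]; rfl, Set.image_id]
      exact hΦ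
    obtain ⟨i, hi, rfl⟩ := hΦ
    have e : d.TG i = d.TG j := eq_of_le_of_card_ge (SetLike.coe_subset_coe.1 hA) (by
      rw [(d.isKleinFour_TG i).card_four, (d.isKleinFour_TG j).card_four])
    refine ⟨i, hi, ?_⟩
    rw [mem_normalizer_iff_map_conj_eq, ← e] at hy
    exact congrArg SetLike.coe hy

end CfsgLib.Involutions.DP
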