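import Cfsg.Agent.Lib.Involutions.WreathedSylow

/-!
# Fusion in groups with wreathed Sylow 2-subgroups

`U2`, `U6`: the automizer of the base group `U` has order 2 resp. 6; `V2`, `V6`: the same for the
outer automizer of `V = Q Z(S)`.
-/

set_option autoImplicit false

namespace CfsgLib.Involutions.WR

open Subgroup

universe u

/-- Conjugation changes `u i j` only into elements with the same exponent sum. -/
theorem conj_u_sum {S : Type*} [Group S] [Finite S] (d : WR S) (b : S) (i j : ℤ) :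
    ∃ i' j', d.N ∣ i' + j' - (i + j) ∧ b * d.u i j * b⁻¹ = d.u i' j' := by
  rcases d.cover b with ⟨p, q, rfl⟩ | ⟨p, q, rfl⟩
  · refine ⟨i, j, by simp, ?_⟩
    rw [d.u_mul, u_inv, u_mul]
    congr 1 <;> ring
  · exact ⟨j, i, by rw [add_comm j, sub_self]; exact dvd_zero _, d.conj_refl_u⟩

/-- Conjugation changes `u i j * z` only into elements with the same exponent sum. -/
theorem conj_refl_sum {S : Type*} [Group S] [Finite S] (d : WR S) (b : S) (i j : ℤ) :
    ∃ i' j', d.N ∣ i' + j' - (i + j) ∧ b * (d.u i j * d.z) * b⁻¹ = d.u i' j' * d.z := by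
  have hU : ∀ p q : ℤ, d.u p q * (d.u i j * d.z) * (d.u p q)⁻¹ =
      d.u (i + p - q) (j + q - p) * d.z := fun p q => by
    rw [← mul_assoc, u_mul, u_inv, mul_assoc, z_mul_u, ← mul_assoc, u_mul]
    congr 2 <;> ring
  rcases d.cover b with ⟨p, q, rfl⟩ | ⟨p, q, rfl⟩
  · exact ⟨_, _, ⟨0, by ring⟩, hU p q⟩
  · have hz : d.z * (d.u i j * d.z) * d.z⁻¹ = d.u j i * d.z := by
      rw [← mul_assoc, z_mul_u, invol_inv d.orderOf_z, mul_assoc (d.u j i * d.z),
        invol_mul_self d.orderOf_z, mul_one]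
    refine ⟨j + p - q, i + q - p, ⟨0, by ring⟩, ?_⟩
    calc d.u p q * d.z * (d.u i j * d.z) * (d.u p q * d.z)⁻¹
        = d.u p q * (d.z * (d.u i j * d.z) * d.z⁻¹) * (d.u p q)⁻¹ := by group
      _ = _ := by
        rw [hz, ← mul_assoc, u_mul, u_inv, mul_assoc, z_mul_u, ← mul_assoc, u_mul]
        congr 2 <;> ring

theorem u_mem_Y0 {S : Type*} [Group S] (d : WR S) [Finite S] {i j : ℤ} (h : d.N ∣ i + j) :
    d.u i j ∈ d.Y0 := Or.inl ⟨i, j, h, rfl⟩

theorem refl_mem_Y0 {S : Type*} [Group S] (d : WR S) [Finite S] {i j : ℤ}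
    (h : d.N ∣ i + j - d.half) : d.u i j * d.z ∈ d.Y0 := Or.inr ⟨i, j, h, rfl⟩

/-- `Y0` contains every `a⁻¹ * a ^ b`. -/
theorem conj_sub_mem_Y0 {S : Type*} [Group S] [Finite S] (d : WR S) (a b : S) :
    a⁻¹ * (b * a * b⁻¹) ∈ d.Y0 := by
  rcases d.cover a with ⟨i, j, rfl⟩ | ⟨i, j, rfl⟩
  · obtain ⟨i', j', h, e⟩ := d.conj_u_sum b i j
    rw [e, u_inv, u_mul]
    exact d.u_mem_Y0 (h.trans (dvd_of_eq (by ring)))
  · obtain ⟨i', j', h, e⟩ := d.conj_refl_sum b i j
    rw [e, mul_inv_rev, u_inv, invol_inv d.orderOf_z, mul_assoc d.z, ← mul_assoc (d.u _ _), u_mul,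
      ← mul_assoc, z_mul_u, mul_assoc, invol_mul_self d.orderOf_z, mul_one]
    exact d.u_mem_Y0 (h.trans (dvd_of_eq (by ring)))

theorem Y0_normal {S : Type*} [Group S] [Finite S] (d : WR S) : d.Y0.Normal := by
  refine ⟨fun a ha b => ?_⟩
  rw [← mul_inv_cancel_left a (b * a * b⁻¹)]
  exact mul_mem ha (d.conj_sub_mem_Y0 a b)

variable {G : Type u} [Group G] [Finite G] {P : Sylow 2 G} (d : WR (P : Subgroup G))

/-- No element of odd order acts nontrivially on the base group. -/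
def U2 : Prop :=
  ∀ y ∈ normalizer (d.UG : Set G), Odd (orderOf y) → ∀ a ∈ d.UG, Commute y a

/-- An element of order 3 of `N(U)` permutes the involutions of `U`. -/
def U6 : Prop :=
  ∃ c ∈ normalizer (d.UG : Set G), Odd (orderOf c) ∧
    c * d.uG d.half 0 * c⁻¹ = d.uG 0 d.half ∧ c * d.uG 0 d.half * c⁻¹ = d.uG d.half d.half

/-- No element of odd order acts nontrivially on a subgroup `Q Z(S)`. -/
def V2 : Prop :=
  ∀ k : ℤ, ∀ y ∈ normalizer (d.VG k : Set G), Odd (orderOf y) → ∀ a ∈ d.VG k, Commute y a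

/-- Every `Q Z(S)` has an outer automorphism of order 3 induced by `G`. -/
def V6 : Prop :=
  ∀ k : ℤ, ∃ c ∈ normalizer (d.VG k : Set G), Odd (orderOf c) ∧
    c * d.uG d.half 0 * c⁻¹ * (d.rG k)⁻¹ ∈ d.ZG ∧
    c * d.rG k * c⁻¹ * (d.uG d.half 0 * d.rG k)⁻¹ ∈ d.ZG

theorem u6_of_relIndex
    (h : (centralizer (d.UG : Set G)).relIndex (normalizer (d.UG : Set G)) = 6) : d.U6 := by
  obtain ⟨c, hcN, hco, h1, h2⟩ := d.tri_UG.exists_cycle (fun n hn => d.mem_centralizer_UG hn) h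
  rw [mem_bot, mul_inv_eq_one] at h1 h2
  rw [uG_mul, add_zero, zero_add] at h2
  exact ⟨c, hcN, hco, h1, h2⟩

theorem commute_of_conj {H H' : Subgroup G} {s : G} (hs : H.map (MulAut.conj s).toMonoidHom = H')
    (h : ∀ y ∈ normalizer (H : Set G), Odd (orderOf y) → ∀ a ∈ H, Commute y a) :
    ∀ y ∈ normalizer (H' : Set G), Odd (orderOf y) → ∀ a ∈ H', Commute y a := by
  intro y hy hodd a ha
  have hmem : ∀ b, b ∈ H ↔ s * b * s⁻¹ ∈ H' := fun b => by
    rw [← hs]
    refine ⟨fun hb => ⟨b, hb, rfl⟩, ?_⟩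
    rintro ⟨c, hc, hcb⟩
    rwa [← (MulAut.conj s).injective (hcb : MulAut.conj s c = MulAut.conj s b)]
  have hy' : s⁻¹ * y * s ∈ normalizer (H : Set G) := by
    rw [mem_normalizer_iff]
    intro b
    rw [hmem, hmem (s⁻¹ * y * s * b * (s⁻¹ * y * s)⁻¹), mem_normalizer_iff.1 hy (s * b * s⁻¹)]
    group
  have ha' : s⁻¹ * a * s ∈ H := by rw [hmem]; simpa [mul_assoc] using ha
  have := (h _ hy' (by
    rw [show s⁻¹ * y * s = MulAut.conj s⁻¹ y by simp [mul_assoc], MulEquiv.orderOf_eq]; exact hodd)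
      _ ha').map (MulAut.conj s).toMonoidHom
  simpa [mul_assoc] using this

theorem v2_of_relIndex {k : ℤ}
    (h : (d.VG k ⊔ centralizer (d.VG k : Set G)).relIndex (normalizer (d.VG k : Set G)) = 2) :
    d.V2 := by
  intro l
  obtain ⟨s, hs⟩ := d.exists_conj_VG k l
  exact commute_of_conj hs (d.commute_VG_of_relIndex h)

theorem v6_of_relIndex {k : ℤ}
    (h : (d.VG k ⊔ centralizer (d.VG k : Set G)).relIndex (normalizer (d.VG k : Set G)) = 6) :
    d.V6 := by
  intro l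
  rcases d.relIndex_VG l with h2 | h6
  · exfalso
    obtain ⟨c, hcN, hco, hc, -⟩ :=
      (d.tri_VG k).exists_cycle (fun n hn => d.mem_VG_sup_centralizer hn) h
    have haV : d.uG d.half 0 ∈ d.VG k := d.uG_mem_VG.2 (by simp)
    rw [(d.v2_of_relIndex h2 k c hcN hco _ haV).eq, mul_inv_cancel_right,
      invol_inv (d.orderOf_rG k)] at hc
    exact d.aG_mul_rG_not_mem_ZG k hc
  · exact (d.tri_VG l).exists_cycle (fun n hn => d.mem_VG_sup_centralizer hn) h6

/-- Fusion invariants: only the base group and the `Q Z(S)` matter. -/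
theorem invariant {Φ : G → Prop}
    (hP : ∀ k ∈ (P : Subgroup G), ∀ a ∈ (P : Subgroup G), Φ a → Φ (k * a * k⁻¹))
    (hU : ∀ y ∈ normalizer (d.UG : Set G), Odd (orderOf y) →
      ∀ a ∈ d.UG, Φ a → Φ (y * a * y⁻¹))
    (hV : ∀ k : ℤ, ∀ y ∈ normalizer (d.VG k : Set G), Odd (orderOf y) →
      ∀ a ∈ d.VG k, Φ a → Φ (y * a * y⁻¹))
    {a : G} (ha : a ∈ (P : Subgroup G)) {g : G} (hg : g * a * g⁻¹ ∈ (P : Subgroup G))
    (h : Φ a) : Φ (g * a * g⁻¹) := by
  refine fusion_invariant P hP (fun D hD y hy hyp a ha hΦ => ?_) ha hg h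
  have hodd : Odd (orderOf y) := Nat.coprime_two_right.1 hyp
  rcases d.centric_cases hD hy hodd with h | rfl | ⟨k, rfl⟩
  · rwa [(h a ha).eq, mul_inv_cancel_right]
  · exact hU y hy hodd a ha hΦ
  · exact hV k y hy hodd a ha hΦ

theorem hasNormalPComplement (hU : d.U2) (hV : d.V2) : Cfsg.HasNormalPComplement 2 G := by
  refine hasNormalPComplement_of_centric P fun D hD y hy hyp a ha => ?_
  have hodd : Odd (orderOf y) := Nat.coprime_two_right.1 hyp
  rcases d.centric_cases hD hy hodd with h | rfl | ⟨k, rfl⟩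
  · exact h a ha
  · exact hU y hy hodd a ha
  · exact hV k y hy hodd a ha

/-- If `U2`, the elements of `Z(S)` are weakly closed. -/
theorem weaklyClosed_ZG (hU : d.U2) {w : G} (hw : w ∈ d.ZG) {g : G}
    (hg : g * w * g⁻¹ ∈ (P : Subgroup G)) : g * w * g⁻¹ = w := by
  refine d.invariant (Φ := fun v => v = w) ?_ ?_ ?_ (d.ZG_le hw) hg rfl
  · rintro k hk v - rfl
    rw [← (d.commute_ZG hw hk).eq, mul_inv_cancel_right]
  · rintro y hy ho v hv rfl
    rw [(hU y hy ho _ hv).eq, mul_inv_cancel_right]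
  · rintro k y hy - v hv rfl
    rw [(d.commute_ZG_normalizer hy _ hw).eq, mul_inv_cancel_right]

/-- If `V2`, involutions of the base group are fused into the base group only. -/
theorem mem_UG_of_conj (hV : d.V2) {a g : G} (ha : a ∈ d.UG)
    (hg : g * a * g⁻¹ ∈ (P : Subgroup G)) : g * a * g⁻¹ ∈ d.UG := by
  refine d.invariant (Φ := fun v => v ∈ d.UG) ?_ ?_ ?_ (d.UG_le ha) hg ha
  · rintro k hk v - hv
    obtain ⟨i, j, rfl⟩ := d.mem_UG.1 hv
    obtain ⟨i', j', -, e⟩ := d.conj_u_sum ⟨k, hk⟩ i j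
    exact d.mem_UG.2 ⟨i', j', congrArg Subtype.val e⟩
  · exact fun y hy _ v hv _ => (mem_normalizer_iff.1 hy v).1 hv
  · intro k y hy ho v hv h
    rwa [(hV k y hy ho v hv).eq, mul_inv_cancel_right]

theorem invol_P_cases {t : G} (htP : t ∈ (P : Subgroup G)) (ht : orderOf t = 2) :
    t = d.uG d.half d.half ∨ IsConj (d.uG d.half 0) t ∨ IsConj (d.rG 0) t := by
  rcases d.invol_cases (g := ⟨t, htP⟩) (by rwa [Subgroup.orderOf_mk]) with h | h | h | ⟨i, j, hij, h⟩ <;>
    replace h := congrArg Subtype.val h <;> simp only at h <;> subst h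
  · exact Or.inl rfl
  · exact Or.inr (Or.inl (IsConj.refl _))
  · exact Or.inr (Or.inl (isConj_iff.2
      ⟨((d.z : (P : Subgroup G)) : G), congrArg Subtype.val (d.conj_u d.half 0)⟩))
  · obtain ⟨g, hg⟩ := d.exists_conj_refl (i := (0 : ℤ)) (j := -0) (a := i) (b := j)
      (by simpa using hij)
    exact Or.inr (Or.inr (isConj_iff.2 ⟨(g : G), congrArg Subtype.val hg⟩))

theorem isConj_aG_z0 (hU : d.U6) : IsConj (d.uG d.half d.half) (d.uG d.half 0) := by
  obtain ⟨c, -, -, h1, h2⟩ := hU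
  have h : IsConj (d.uG d.half 0) (d.uG d.half d.half) :=
    (isConj_iff.2 ⟨c, h1⟩).trans (isConj_iff.2 ⟨c, h2⟩)
  exact h.symm

theorem isConj_aG_rG (hV : d.V6) : IsConj (d.uG d.half 0) (d.rG 0) := by
  obtain ⟨c, -, -, h1, -⟩ := hV 0
  set w := c * d.uG d.half 0 * c⁻¹ * (d.rG 0)⁻¹ with hw
  have e : c * d.uG d.half 0 * c⁻¹ = w * d.rG 0 := by rw [hw]; group
  refine (isConj_iff.2 ⟨c, e⟩ : IsConj (d.uG d.half 0) (w * d.rG 0)).trans ?_
  have hwr : Commute w (d.rG 0) := d.commute_ZG h1 (SetLike.coe_mem _)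
  have hsq : w * w = 1 := by
    have := invol_mul_self (conj_invol c d.orderOf_aG)
    rwa [e, hwr.symm.mul_mul_mul_comm, invol_mul_self (d.orderOf_rG 0), mul_one] at this
  by_cases hw1 : w = 1
  · rw [hw1, one_mul]
  · rw [d.eq_z0_of_mem_ZG h1 (invol_iff.2 ⟨hsq, hw1⟩)]
    refine isConj_iff.2 ⟨d.uG d.half 0, ?_⟩
    rw [← conj_mul, (d.uG_comm d.half 0 d.half d.half).eq, mul_inv_cancel_right,
      mul_inv_eq_iff_eq_mul.1 (mul_inv_eq_iff_eq_mul.1 (d.aG_r_comm 0)) |> fun h => (by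
        rw [h, mul_inv_cancel_right, ← mul_assoc, invol_mul_self d.orderOf_z0G, one_mul] :
        d.uG d.half d.half * (d.uG d.half 0 * d.rG 0 * (d.uG d.half 0)⁻¹) = d.rG 0)]

theorem card_invol_classes_one (hU : d.U6) (hV : d.V6) :
    Nat.card {C : ConjClasses G // ∃ t : G, orderOf t = 2 ∧ ConjClasses.mk t = C} = 1 := by
  refine card_classes_eq_one (k := 1) (by norm_num) P d.orderOf_z0G fun t htP ht => ?_
  rcases d.invol_P_cases htP ht with rfl | h | h
  · exact IsConj.refl _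
  · exact (d.isConj_aG_z0 hU).trans h
  · exact ((d.isConj_aG_z0 hU).trans (d.isConj_aG_rG hV)).trans h

theorem not_isConj_z0_aG (hU : d.U2) : ¬ IsConj (d.uG d.half d.half) (d.uG d.half 0) := by
  intro h
  obtain ⟨g, hg⟩ := isConj_iff.1 h
  have := d.weaklyClosed_ZG hU d.z0_mem_ZG (g := g) (hg ▸ d.UG_le (d.uG_mem_UG _ _))
  rw [hg] at this
  exact d.aG_not_mem_ZG (this ▸ d.z0_mem_ZG)

theorem card_invol_classes_u2_v6 (hU : d.U2) (hV : d.V6) :
    Nat.card {C : ConjClasses G // ∃ t : G, orderOf t = 2 ∧ ConjClasses.mk t = C} = 2 := by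
  refine card_classes_eq_two (k := 1) (by norm_num) P d.orderOf_z0G d.orderOf_aG
    (d.not_isConj_z0_aG hU) fun t htP ht => ?_
  rcases d.invol_P_cases htP ht with rfl | h | h
  · exact Or.inl (IsConj.refl _)
  · exact Or.inr h
  · exact Or.inr ((d.isConj_aG_rG hV).trans h)

theorem not_isConj_UG_rG (hV : d.V2) {a : G} (ha : a ∈ d.UG) (k : ℤ) :
    ¬ IsConj a (d.rG k) := by
  intro h
  obtain ⟨g, hg⟩ := isConj_iff.1 h
  have := d.mem_UG_of_conj hV ha (g := g) (hg ▸ SetLike.coe_mem _)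
  rw [hg] at this
  obtain ⟨v, hv, e⟩ := this
  exact d.r_not_mem k ((Subtype.ext e : v = d.r k) ▸ hv)

theorem card_invol_classes_u6_v2 (hU : d.U6) (hV : d.V2) :
    Nat.card {C : ConjClasses G // ∃ t : G, orderOf t = 2 ∧ ConjClasses.mk t = C} = 2 := by
  refine card_classes_eq_two (k := 1) (by norm_num) P d.orderOf_z0G (d.orderOf_rG 0)
    (d.not_isConj_UG_rG hV (d.uG_mem_UG _ _) 0) fun t htP ht => ?_
  rcases d.invol_P_cases htP ht with rfl | h | h
  · exact Or.inl (IsConj.refl _)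
  · exact Or.inl ((d.isConj_aG_z0 hU).trans h)
  · exact Or.inr h

theorem card_invol_classes_three (hU : d.U2) (hV : d.V2) :
    Nat.card {C : ConjClasses G // ∃ t : G, orderOf t = 2 ∧ ConjClasses.mk t = C} = 3 := by
  show ({C : ConjClasses G | ∃ t : G, orderOf t = 2 ∧ ConjClasses.mk t = C}).ncard = 3
  rw [Set.ncard_eq_three]
  refine ⟨ConjClasses.mk (d.uG d.half d.half), ConjClasses.mk (d.uG d.half 0),
    ConjClasses.mk (d.rG 0),
    fun e => d.not_isConj_z0_aG hU (ConjClasses.mk_eq_mk_iff_isConj.1 e),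
    fun e => d.not_isConj_UG_rG hV (d.uG_mem_UG _ _) 0 (ConjClasses.mk_eq_mk_iff_isConj.1 e),
    fun e => d.not_isConj_UG_rG hV (d.uG_mem_UG _ _) 0 (ConjClasses.mk_eq_mk_iff_isConj.1 e), ?_⟩
  ext C
  constructor
  · rintro ⟨t, ht, rfl⟩
    obtain ⟨g, hg⟩ := exists_conj_mem_of_pow P (t := t) (k := 1) (by rw [ht]; norm_num)
    have hc : IsConj t (g * t * g⁻¹) := isConj_iff.2 ⟨g, rfl⟩
    rcases d.invol_P_cases hg (conj_invol g ht) with h | h | h
    · exact Or.inl (ConjClasses.mk_eq_mk_iff_isConj.2 (hc.trans (h ▸ IsConj.refl _)))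
    · exact Or.inr (Or.inl (ConjClasses.mk_eq_mk_iff_isConj.2 (hc.trans h.symm)))
    · exact Or.inr (Or.inr (ConjClasses.mk_eq_mk_iff_isConj.2 (hc.trans h.symm)))
  · rintro (rfl | rfl | rfl)
    · exact ⟨_, d.orderOf_z0G, rfl⟩
    · exact ⟨_, d.orderOf_aG, rfl⟩
    · exact ⟨_, d.orderOf_rG 0, rfl⟩

/-- A non-central involution of the base lies in the coset `u half 0 * Y0`. -/
theorem invol_mem_coset {t : (P : Subgroup G)} (ht : orderOf t = 2)
    (htz : t ≠ d.u d.half d.half) : (d.u d.half 0)⁻¹ * t ∈ d.Y0 := by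
  rcases d.invol_cases ht with h | rfl | rfl | ⟨i, j, hij, rfl⟩
  · exact absurd h htz
  · rw [inv_mul_cancel]; exact one_mem _
  · rw [u_inv, u_mul]
    exact d.u_mem_Y0 ⟨0, by ring⟩
  · rw [← mul_assoc, u_inv, u_mul]
    refine d.refl_mem_Y0 (((dvd_sub hij (show d.N ∣ 2 * d.half from dvd_of_eq d.N_eq))).trans
      (dvd_of_eq (by ring)))

/-- `Y0` as a normal subgroup of index `2 ^ n` cut out by a normal subgroup of `G`. -/
theorem exists_normal_Y0 (hU : d.U2) :
    ∃ K : Subgroup G, K.Normal ∧ K.index = 2 ^ d.n ∧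
      K ⊓ (P : Subgroup G) = d.Y0.map (P : Subgroup G).subtype ∧
      Cfsg.pResidual 2 G ≤ K := by
  set M := d.Y0.map (P : Subgroup G).subtype with hM
  have hn := d.Y0_normal
  obtain ⟨K, hKn, hinf, hidx, hres⟩ := exists_normal_inf_eq P M (map_subtype_le _)
    (by
      rintro k hk _ ⟨m, hm, rfl⟩
      exact ⟨⟨k, hk⟩ * m * ⟨k, hk⟩⁻¹, hn.conj_mem m hm _, rfl⟩)
    (fun a ha b hb => ⟨_, d.conj_sub_mem_Y0 ⟨a, ha⟩ ⟨b, hb⟩, rfl⟩)
    (by
      intro D hD y hy hyp a ha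
      have hodd : Odd (orderOf y) := Nat.coprime_two_right.1 hyp
      have htriv : ∀ v : G, Commute y v → v⁻¹ * (y * v * y⁻¹) ∈ M := fun v h => by
        rw [h.eq, mul_inv_cancel_right, inv_mul_cancel]; exact one_mem _
      rcases d.centric_cases hD hy hodd with h | rfl | ⟨k, rfl⟩
      · exact htriv a (h a ha)
      · exact htriv a (hU y hy hodd a ha)
      · have hgen : ∀ t : G, t ∈ d.VG k → orderOf t = 2 → t ∉ d.ZG →
            t⁻¹ * (y * t * y⁻¹) ∈ M := by
          intro t htV ht htZ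
          have hmem := (mem_normalizer_iff.1 hy t).1 htV
          have hne : y * t * y⁻¹ ∉ d.ZG := fun h => htZ <| by
            have := d.conj_mem_ZG (inv_mem hy) h
            simpa [mul_assoc] using this
          obtain ⟨a1, ha1, rfl⟩ := htV
          obtain ⟨a2, ha2, e2⟩ := hmem
          rw [← e2] at hne ⊢
          have h1 := d.invol_mem_coset (t := a1) (by rw [← Subgroup.orderOf_coe]; exact ht)
            (fun h => htZ (h ▸ d.z0_mem_ZG))
          have h2 := d.invol_mem_coset (t := a2)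
            (by rw [← Subgroup.orderOf_coe]; exact (congrArg orderOf e2).trans (conj_invol y ht))
            (fun h => hne (h ▸ d.z0_mem_ZG))
          refine ⟨a1⁻¹ * a2, ?_, rfl⟩
          rw [show a1⁻¹ * a2 = ((d.u d.half 0)⁻¹ * a1)⁻¹ * ((d.u d.half 0)⁻¹ * a2) by group]
          exact mul_mem (inv_mem h1) h2
        have hmul : ∀ u v : G, u ∈ (P : Subgroup G) → v ∈ (P : Subgroup G) →
            u⁻¹ * (y * u * y⁻¹) ∈ M → v⁻¹ * (y * v * y⁻¹) ∈ M →
            (u * v)⁻¹ * (y * (u * v) * y⁻¹) ∈ M := by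
          intro u v hu hv h1 h2
          rw [show (u * v)⁻¹ * (y * (u * v) * y⁻¹) = (v⁻¹ * (u⁻¹ * (y * u * y⁻¹)) * v) *
            (v⁻¹ * (y * v * y⁻¹)) by group]
          refine mul_mem ?_ h2
          obtain ⟨m, hm, e⟩ := h1
          exact ⟨(⟨v, hv⟩ : (P : Subgroup G))⁻¹ * m * ⟨v, hv⟩, hn.conj_mem' m hm _, by
            show v⁻¹ * (m : G) * v = _
            rw [show (m : G) = _ from e]⟩
        have hZ : ∀ w ∈ d.ZG, w⁻¹ * (y * w * y⁻¹) ∈ M := fun w hw =>
          htriv w (d.commute_ZG_normalizer hy w hw)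
        have hA := hgen _ (d.uG_mem_VG.2 (by simp : d.half ∣ d.half - 0)) d.orderOf_aG d.aG_not_mem_ZG
        have hR := hgen _ (d.rG_mem_VG k) (d.orderOf_rG k) (d.rG_not_mem_ZG k)
        have haP : d.uG d.half 0 ∈ (P : Subgroup G) := d.UG_le (d.uG_mem_UG _ _)
        have hrP : d.rG k ∈ (P : Subgroup G) := SetLike.coe_mem _
        rcases d.VG_mem_cases ha with h | h | h | h
        · exact hZ a h
        · have := hmul _ _ (d.ZG_le h) haP (hZ _ h) hA
          rwa [inv_mul_cancel_right] at this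
        · have := hmul _ _ (d.ZG_le h) hrP (hZ _ h) hR
          rwa [inv_mul_cancel_right] at this
        · have := hmul _ _ (d.ZG_le h) (mul_mem haP hrP) (hZ _ h) (hmul _ _ haP hrP hA hR)
          rwa [inv_mul_cancel_right] at this)
  refine ⟨K, hKn, ?_, hinf, hres⟩
  rw [hidx, relIndex, hM, subgroupOf,
    comap_map_eq_self_of_injective (P : Subgroup G).subtype_injective]
  have h1 := d.Y0.card_mul_index
  rw [d.card_eq, Nat.card_congr d.Y0_quat.some.toEquiv, d.card_quat,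
    show 2 * d.n + 1 = (d.n + 1) + d.n by omega, pow_add 2 (d.n + 1) d.n] at h1
  exact Nat.eq_of_mul_eq_mul_left (pow_pos two_pos _) h1

/-- The base group cut out by a normal subgroup of index two. -/
theorem exists_normal_UG (hV : d.V2) :
    ∃ K : Subgroup G, K.Normal ∧ K.index = 2 ∧ K ⊓ (P : Subgroup G) = d.UG ∧
      Cfsg.pResidual 2 G ≤ K := by
  have hn := normal_of_index_eq_two d.index_U
  obtain ⟨K, hKn, hinf, hidx, hres⟩ := exists_normal_inf_eq P d.UG d.UG_le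
    (by
      rintro k hk _ ⟨m, hm, rfl⟩
      exact ⟨⟨k, hk⟩ * m * ⟨k, hk⟩⁻¹, hn.conj_mem m hm _, rfl⟩)
    (by
      intro a ha b hb
      refine ⟨(⟨a, ha⟩ : (P : Subgroup G))⁻¹ * (⟨b, hb⟩ * ⟨a, ha⟩ * ⟨b, hb⟩⁻¹), ?_, rfl⟩
      simp only [SetLike.mem_coe, mul_mem_iff_of_index_two d.index_U, Subgroup.inv_mem_iff]
      by_cases h1 : (⟨a, ha⟩ : (P : Subgroup G)) ∈ d.U <;>
        by_cases h2 : (⟨b, hb⟩ : (P : Subgroup G)) ∈ d.U <;> simp [h1, h2])
    (by
      intro D hD y hy hyp a ha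
      have hodd : Odd (orderOf y) := Nat.coprime_two_right.1 hyp
      have htriv : Commute y a → a⁻¹ * (y * a * y⁻¹) ∈ d.UG := fun h => by
        rw [h.eq, mul_inv_cancel_right, inv_mul_cancel]; exact one_mem _
      rcases d.centric_cases hD hy hodd with h | rfl | ⟨k, rfl⟩
      · exact htriv (h a ha)
      · exact mul_mem (inv_mem ha) ((mem_normalizer_iff.1 hy a).1 ha)
      · exact htriv (hV k y hy hodd a ha))
  refine ⟨K, hKn, ?_, hinf, hres⟩
  rw [hidx, relIndex, UG, subgroupOf,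
    comap_map_eq_self_of_injective (P : Subgroup G).subtype_injective, d.index_U]

/-- A subgroup with the multiplication rule of a subgroup of index two on the base group and
invariant under the element of order 3 contains the base group. -/
theorem UG_le_of_cycle {H : Subgroup G} (hU : d.U6)
    (hconj : ∀ c : G, c ∈ normalizer (d.UG : Set G) → Odd (orderOf c) →
      ∀ g, g ∈ H ↔ c * g * c⁻¹ ∈ H)
    (hmul : ∀ a ∈ d.UG, ∀ b ∈ d.UG, (a * b ∈ H ↔ (a ∈ H ↔ b ∈ H))) : d.UG ≤ H := by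
  obtain ⟨c, hcN, hco, h1, h2⟩ := hU
  set X := d.uG 1 0 with hX
  set Y := d.uG 0 1 with hY
  -- membership of `u i j` depends on the parities only
  have hsq : ∀ a ∈ d.UG, a * a ∈ H := fun a ha => (hmul a ha a ha).2 Iff.rfl
  have hpar : ∀ i j : ℤ, d.uG i j ∈ H ↔ ((Odd i → X ∈ H) ↔ (Odd j → Y ∈ H)) := by
    intro i j
    have hi : ∀ (i : ℤ), d.uG i 0 ∈ H ↔ (Odd i → X ∈ H) := fun i => by
      rcases Int.even_or_odd' i with ⟨m, rfl | rfl⟩
      · have : d.uG (2 * m) 0 = d.uG m 0 * d.uG m 0 := by rw [uG_mul, two_mul, add_zero]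
        rw [this]
        simp [hsq _ (d.uG_mem_UG m 0)]
      · have : d.uG (2 * m + 1) 0 = d.uG m 0 * d.uG m 0 * X := by
          rw [hX, uG_mul, uG_mul, two_mul, add_zero, add_zero]
        rw [this, mul_mem_cancel_left (hsq _ (d.uG_mem_UG m 0))]
        simp
    have hj : ∀ (j : ℤ), d.uG 0 j ∈ H ↔ (Odd j → Y ∈ H) := fun j => by
      rcases Int.even_or_odd' j with ⟨m, rfl | rfl⟩
      · have : d.uG 0 (2 * m) = d.uG 0 m * d.uG 0 m := by rw [uG_mul, two_mul, add_zero]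
        rw [this]
        simp [hsq _ (d.uG_mem_UG 0 m)]
      · have : d.uG 0 (2 * m + 1) = d.uG 0 m * d.uG 0 m * Y := by
          rw [hY, uG_mul, uG_mul, two_mul, add_zero, add_zero]
        rw [this, mul_mem_cancel_left (hsq _ (d.uG_mem_UG 0 m))]
        simp
    rw [← hi i, ← hj j, ← hmul _ (d.uG_mem_UG i 0) _ (d.uG_mem_UG 0 j), uG_mul, add_zero, zero_add]
  have himg : ∀ v ∈ d.UG, ∃ s t : ℤ, c * v * c⁻¹ = d.uG s t := fun v hv =>
    d.mem_UG.1 ((mem_normalizer_iff.1 hcN v).1 hv)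
  -- parity of the exponents of the images of `X` and `Y`
  have hpow : ∀ (i j s t i' j' : ℤ), c * d.uG i j * c⁻¹ = d.uG s t →
      c * d.uG (i * d.half) (j * d.half) * c⁻¹ = d.uG (i' * d.half) (j' * d.half) →
      (Odd s ↔ Odd i') ∧ (Odd t ↔ Odd j') := by
    intro i j s t i' j' hst hh
    have e : d.uG (s * d.half) (t * d.half) = d.uG (i' * d.half) (j' * d.half) := by
      rw [← hh]
      have := congrArg (fun g => g ^ d.half) hst
      simp only [conj_zpow] at this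
      simp only [uG, ← Subgroup.coe_zpow, d.u_zpow] at this
      exact this.symm
    have key : ∀ a b : ℤ, d.N ∣ a * d.half - b * d.half → (Odd a ↔ Odd b) := fun a b h => by
      rw [← sub_mul, N_eq] at h
      have h' : Even (a - b) :=
        even_iff_two_dvd.2 ((Int.mul_dvd_mul_iff_right d.half_pos.ne').1 h)
      rw [← Int.not_even_iff_odd, ← Int.not_even_iff_odd, Int.even_sub.1 h']
    exact ⟨key _ _ (d.uG_inj.1 e).1, key _ _ (d.uG_inj.1 e).2⟩
  obtain ⟨s, t, hst⟩ := himg X (d.uG_mem_UG _ _)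
  obtain ⟨s', t', hst'⟩ := himg Y (d.uG_mem_UG _ _)
  obtain ⟨hs, ht⟩ := hpow 1 0 s t 0 1 hst (by simpa using h1)
  obtain ⟨hs', ht'⟩ := hpow 0 1 s' t' 1 1 hst' (by simpa using h2)
  have e1 := (hconj c hcN hco X).trans (hst ▸ hpar s t)
  have e2 := (hconj c hcN hco Y).trans (hst' ▸ hpar s' t')
  simp only [hs, ht, hs', ht', odd_one, Int.not_odd_zero, IsEmpty.forall_iff, forall_const] at e1 e2
  have hXY : X ∈ H ∧ Y ∈ H := by tauto
  intro a ha
  obtain ⟨i, j, rfl⟩ := d.mem_UG.1 ha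
  rw [hpar]
  simp [hXY.1, hXY.2]

/-- No subgroup of index two when both automizers have order 6. -/
theorem index_ne_two (hU : d.U6) (hV : d.V6) (H : Subgroup G) : H.index ≠ 2 := fun h2 => by
  refine index_ne_two_of_sylow_le' P ?_ h2
  have hconj : ∀ c g : G, g ∈ H ↔ c * g * c⁻¹ ∈ H := fun c g => by
    rw [mul_mem_iff_of_index_two h2, mul_mem_iff_of_index_two h2, inv_mem_iff]; tauto
  have hUG := d.UG_le_of_cycle hU (fun c _ _ => hconj c)
    fun _ _ _ _ => mul_mem_iff_of_index_two h2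
  have hZ : d.ZG ≤ H := fun w hw => by
    obtain ⟨c, hc, rfl⟩ := hw
    rw [d.center_eq] at hc
    exact hUG ⟨c, (zpowers_le.2 (d.u_mem 1 1)) hc, rfl⟩
  obtain ⟨c, -, -, h1, -⟩ := hV 0
  have hr : d.rG 0 ∈ H := by
    have := mul_mem (inv_mem (hZ h1)) ((hconj c _).1 (hUG (d.uG_mem_UG d.half 0)))
    rwa [mul_inv_rev, inv_inv, inv_mul_cancel_right] at this
  intro a ha
  rcases d.cover ⟨a, ha⟩ with ⟨i, j, h⟩ | ⟨i, j, h⟩
  · rw [show a = d.uG i j from congrArg Subtype.val h]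
    exact hUG (d.uG_mem_UG i j)
  · rw [show a = d.uG i j * d.rG 0 from ?_]
    · exact mul_mem (hUG (d.uG_mem_UG i j)) hr
    · refine (congrArg Subtype.val h).trans (congrArg Subtype.val
        (show d.u i j * d.z = d.u i j * d.r 0 from ?_))
      rw [r, neg_zero, u_zero, one_mul]

theorem conj_iff_of_index_two {K : Subgroup G} [K.Normal] {H : Subgroup K} (h2 : H.index = 2)
    {c : G} (hc : c ∈ K) (g : G) :
    g ∈ H.map K.subtype ↔ c * g * c⁻¹ ∈ H.map K.subtype := by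
  have hKn : K.Normal := inferInstance
  have hmem : ∀ g : K, (g : G) ∈ H.map K.subtype ↔ g ∈ H := fun g =>
    ⟨fun ⟨k, hk, h⟩ => Subtype.ext h ▸ hk, fun h => ⟨g, h, rfl⟩⟩
  by_cases hgK : g ∈ K
  · rw [hmem ⟨g, hgK⟩, hmem ⟨c * g * c⁻¹, hKn.conj_mem g hgK c⟩,
      show (⟨c * g * c⁻¹, hKn.conj_mem g hgK c⟩ : K) = ⟨c, hc⟩ * ⟨g, hgK⟩ * ⟨c, hc⟩⁻¹ from rfl,
      mul_mem_iff_of_index_two h2, mul_mem_iff_of_index_two h2, inv_mem_iff]
    tauto
  · refine iff_of_false (fun h => hgK (map_subtype_le H h)) fun h => hgK ?_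
    simpa [mul_assoc] using hKn.conj_mem _ (map_subtype_le H h) c⁻¹

theorem mul_mem_iff_of_index_two' {K : Subgroup G} {H : Subgroup K} (h2 : H.index = 2)
    {a b : G} (ha : a ∈ K) (hb : b ∈ K) :
    a * b ∈ H.map K.subtype ↔ (a ∈ H.map K.subtype ↔ b ∈ H.map K.subtype) := by
  have hmem : ∀ g : K, (g : G) ∈ H.map K.subtype ↔ g ∈ H := fun g =>
    ⟨fun ⟨k, hk, h⟩ => Subtype.ext h ▸ hk, fun h => ⟨g, h, rfl⟩⟩
  rw [hmem ⟨a, ha⟩, hmem ⟨b, hb⟩, hmem ⟨a * b, mul_mem ha hb⟩]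
  exact mul_mem_iff_of_index_two h2 (a := (⟨a, ha⟩ : K)) (b := ⟨b, hb⟩)

/-- The subgroup of index two over the base group has no subgroup of index two. -/
theorem index_ne_two_of_inf_UG (hU : d.U6) {K : Subgroup G} [K.Normal]
    (hinf : K ⊓ (P : Subgroup G) = d.UG) (hres : Cfsg.pResidual 2 G ≤ K) (H : Subgroup K) :
    H.index ≠ 2 := fun h2 => by
  refine index_ne_two_of_sylow_le P (fun g hg => ?_) h2
  have hUK : ∀ a ∈ d.UG, a ∈ K := fun a ha => (hinf.ge ha).1
  obtain ⟨k, hk, e⟩ := d.UG_le_of_cycle hU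
    (fun c _ hco => conj_iff_of_index_two h2 (mem_of_odd_order hres hco))
    (fun a ha b hb => mul_mem_iff_of_index_two' h2 (hUK a ha) (hUK b hb))
    (hinf.le (show (g : G) ∈ K ⊓ (P : Subgroup G) from ⟨g.2, hg⟩))
  exact Subtype.ext e ▸ hk

/-- The subgroup of index `2 ^ n` over `Y0` has no subgroup of index two. -/
theorem index_ne_two_of_inf_Y0 (hV : d.V6) {K : Subgroup G} [hKn : K.Normal]
    (hinf : K ⊓ (P : Subgroup G) = d.Y0.map (P : Subgroup G).subtype)
    (hres : Cfsg.pResidual 2 G ≤ K) (H : Subgroup K) : H.index ≠ 2 := fun h2 => by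
  refine index_ne_two_of_sylow_le P (fun g hg => ?_) h2
  set H' := H.map K.subtype with hH'
  have hK : ∀ a : (P : Subgroup G), a ∈ d.Y0 → (a : G) ∈ K := fun a ha => (hinf.ge ⟨a, ha, rfl⟩).1
  have hhN : d.N = 2 * d.half := d.N_eq
  have hqe : d.half = 2 * d.quarter := d.half_eq
  -- generators of a quaternion group in `Y0`
  set q := d.u d.quarter (-d.quarter) with hq
  have hqY : q ∈ d.Y0 := d.u_mem_Y0 (by simp)
  have hqK : (q : G) ∈ K := hK q hqY
  have hz0 : d.uG d.half d.half ∈ H' := by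
    have : d.uG d.half d.half = (q : G) * (q : G) := by
      show d.uG d.half d.half = d.uG d.quarter (-d.quarter) * d.uG d.quarter (-d.quarter)
      rw [uG_mul, uG_inj]
      exact ⟨⟨0, by rw [hqe]; ring⟩, ⟨1, by rw [hhN, hqe]; ring⟩⟩
    rw [this]
    exact (mul_mem_iff_of_index_two' h2 hqK hqK).2 Iff.rfl
  have hrefl : ∀ i j : ℤ, d.N ∣ i + j - d.half → ((d.u i j * d.z : (P : Subgroup G)) : G) ∈ H' := by
    intro i j hij
    set k := i - d.quarter with hk
    set s := d.u i j * d.z with hs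
    have hsY : s ∈ d.Y0 := d.refl_mem_Y0 hij
    have hsK : (s : G) ∈ K := hK s hsY
    obtain ⟨c, hcN, hco, h1, h2'⟩ := hV k
    have hcK := mem_of_odd_order hres hco
    -- `q` and `s` differ from `a` and `r` by central elements
    set w := d.uG (-d.quarter) (-d.quarter) with hw
    set w' := d.uG d.quarter d.quarter with hw'
    have hwZ : w ∈ d.ZG := d.uG_mem_ZG.2 (by simp)
    have hwZ' : w' ∈ d.ZG := d.uG_mem_ZG.2 (by simp)
    have eq1 : (q : G) = w * d.uG d.half 0 := by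
      show d.uG d.quarter (-d.quarter) = _
      rw [hw, uG_mul, hqe, uG_inj]
      exact ⟨⟨0, by ring⟩, ⟨0, by ring⟩⟩
    have es : (s : G) = w' * d.rG k := by
      refine congrArg Subtype.val (show s = d.u d.quarter d.quarter * d.r k from ?_)
      rw [hs, r, ← mul_assoc, u_mul]
      congr 1
      rw [u_inj]
      refine ⟨⟨0, by rw [hk]; ring⟩, hij.trans (dvd_of_eq ?_)⟩
      rw [hk, hqe]; ring
    have hcw := d.commute_ZG_normalizer hcN
    have hmemK : ∀ v : G, v ∈ K → v ∈ d.ZG → v ∈ zpowers (d.uG d.half d.half) := by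
      intro v hvK hvZ
      obtain ⟨m, hm, e⟩ := hinf.le (show v ∈ K ⊓ (P : Subgroup G) from ⟨hvK, d.ZG_le hvZ⟩)
      obtain ⟨x, hx, ex⟩ := hvZ
      obtain rfl : m = x := Subtype.ext (e.trans ex.symm)
      rw [d.center_eq] at hx
      obtain ⟨l, hl⟩ := hx
      change d.u 1 1 ^ l = m at hl
      rw [u_zpow, one_mul] at hl
      subst hl
      rcases hm with ⟨a, b, hab, heq⟩ | ⟨a, b, -, heq⟩
      · rw [u_inj] at heq
        have h3 : d.N ∣ l + l := (dvd_add (dvd_add heq.1 heq.2) hab).trans (dvd_of_eq (by ring))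
        rw [hhN, ← two_mul, Int.mul_dvd_mul_iff_left two_ne_zero] at h3
        obtain ⟨p, rfl⟩ := h3
        refine ⟨p, ?_⟩
        show d.uG d.half d.half ^ p = v
        rw [← e]
        exact (congrArg Subtype.val (d.u_zpow d.half d.half p))
      · exact absurd (heq ▸ d.u_mem l l) (d.refl_not_mem a b)
    have hW : zpowers (d.uG d.half d.half) ≤ H' := zpowers_le.2 hz0
    have hqs1 : c * (q : G) * c⁻¹ * (s : G)⁻¹ ∈ zpowers (d.uG d.half d.half) := by
      refine hmemK _ (mul_mem (hKn.conj_mem _ hqK c) (inv_mem hsK)) ?_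
      rw [eq1, es, ← conj_mul, mul_inv_eq_iff_eq_mul.2 (hcw w hwZ).eq, mul_inv_rev,
        show w * (c * d.uG d.half 0 * c⁻¹) * ((d.rG k)⁻¹ * w'⁻¹)
          = w * (c * d.uG d.half 0 * c⁻¹ * (d.rG k)⁻¹) * w'⁻¹ by group]
      exact mul_mem (mul_mem hwZ h1) (inv_mem hwZ')
    have hqs2 : c * (s : G) * c⁻¹ * ((q : G) * (s : G))⁻¹ ∈ zpowers (d.uG d.half d.half) := by
      refine hmemK _ (mul_mem (hKn.conj_mem _ hsK c) (inv_mem (mul_mem hqK hsK))) ?_
      have e2 : (q : G) * (s : G) = w * w' * (d.uG d.half 0 * d.rG k) := by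
        rw [eq1, es]
        calc w * d.uG d.half 0 * (w' * d.rG k) = w * (d.uG d.half 0 * w') * d.rG k := by group
          _ = w * (w' * d.uG d.half 0) * d.rG k := by
            rw [(d.commute_ZG hwZ' (d.UG_le (d.uG_mem_UG _ _))).eq]
          _ = _ := by group
      rw [e2, es, ← conj_mul, mul_inv_eq_iff_eq_mul.2 (hcw w' hwZ').eq, mul_inv_rev,
        show w' * (c * d.rG k * c⁻¹) * ((d.uG d.half 0 * d.rG k)⁻¹ * (w * w')⁻¹)
          = w' * (c * d.rG k * c⁻¹ * (d.uG d.half 0 * d.rG k)⁻¹) * (w * w')⁻¹ by group]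
      exact mul_mem (mul_mem hwZ' h2') (inv_mem (mul_mem hwZ hwZ'))
    exact (mem_of_cycle (conj_iff_of_index_two h2 hcK) (mul_mem_iff_of_index_two' h2 hqK hsK)
      hW hqs1 hqs2).2
  obtain ⟨m, hm, e⟩ := hinf.le (show (g : G) ∈ K ⊓ (P : Subgroup G) from ⟨g.2, hg⟩)
  have hgH : (g : G) ∈ H' := by
    rw [← e]
    rcases hm with ⟨i, j, hij, rfl⟩ | ⟨i, j, hij, rfl⟩
    · have e' : d.u i j = d.u (i + d.half) j * d.z * (d.u 0 d.half * d.z) := by
        rw [mul_assoc, ← mul_assoc d.z, z_mul_u, mul_assoc, invol_mul_self d.orderOf_z, mul_one,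
          u_mul, u_inj]
        exact ⟨⟨-1, by rw [hhN]; ring⟩, ⟨0, by ring⟩⟩
      rw [e', map_mul]
      exact mul_mem
        (hrefl (i + d.half) j (hij.trans (dvd_of_eq (by ring))))
        (hrefl 0 d.half (by simp))
    · exact hrefl i j hij
  obtain ⟨k, hk, e'⟩ := hgH
  exact Subtype.ext e' ▸ hk

end CfsgLib.Involutions.WR
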