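import Cfsg.Agent.Lib.Involutions.QuasiDihedralFusion
import Cfsg.Agent.Lib.Involutions.WreathedFusion
import Cfsg.Prelude.Def_Transfer

/-!
# Groups with quasi-dihedral or wreathed Sylow 2-subgroups and no subgroup of index two

All involutions are conjugate, and the centralizer of an involution has the fusion pattern with
a generalized quaternion normal subgroup of 2-power index.
-/

set_option autoImplicit false

namespace CfsgLib.Involutions

open Subgroup Cfsg

universe u

theorem isWeaklyClosed_of_fixed {G : Type*} [Group G] {Z P : Subgroup G} (hle : Z ≤ P)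
    (h : ∀ g : G, ∀ w ∈ Z, g * w * g⁻¹ ∈ P → g * w * g⁻¹ = w) : IsWeaklyClosed Z P := by
  refine ⟨hle, fun g hg => ?_⟩
  have key : ∀ w ∈ Z, g * w * g⁻¹ = w := fun w hw => h g w hw (hg ⟨w, hw, rfl⟩)
  refine le_antisymm ?_ fun w hw => ⟨w, hw, key w hw⟩
  rintro _ ⟨w, hw, rfl⟩
  show g * w * g⁻¹ ∈ Z
  rwa [key w hw]

/-- Transport of quasi-dihedral generators along an isomorphism. -/
def QD.map {S T : Type*} [Group S] [Group T] (d : QD S) (e : S ≃* T) : QD T where
  n := d.n
  x := e d.x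
  y := e d.y
  three_le := d.three_le
  card_eq := (Nat.card_congr e.toEquiv).symm.trans d.card_eq
  orderOf_x := (MulEquiv.orderOf_eq e d.x).trans d.orderOf_x
  orderOf_y := (MulEquiv.orderOf_eq e d.y).trans d.orderOf_y
  rel := by rw [← map_inv, ← map_mul, ← map_mul, d.rel, map_pow]

variable {G : Type u} [Group G] [Finite G]

/-- `S` as a Sylow subgroup of a subgroup containing it. -/
theorem exists_sylow_map {C : Subgroup G} (S : Sylow 2 G) (h : (S : Subgroup G) ≤ C) :
    ∃ (R : Sylow 2 C) (e : (S : Subgroup G) ≃* (R : Subgroup C)),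
      ∀ a, ((e a : C) : G) = (a : G) :=
  ⟨S.subtype h, (subgroupOfEquivOfLe h).symm, fun _ => rfl⟩

/-- The centralizer of the central involution of a quasi-dihedral Sylow 2-subgroup. -/
theorem QD.centralizer_z (S : Sylow 2 G) (d : QD (S : Subgroup G)) (hQ : d.Q6) {x : G}
    (hx : x = ((d.z : (S : Subgroup G)) : G)) :
    ∃ R : Sylow 2 ↥(centralizer ({x} : Set G)), Nat.card R = Nat.card S ∧
      (∃ K : Subgroup ↥(centralizer ({x} : Set G)), K.Normal ∧ (∃ a : ℕ, K.index = 2 ^ a) ∧
        (∀ H : Subgroup ↥K, H.index ≠ 2) ∧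
        ∀ P : Sylow 2 ↥K, ∃ m : ℕ, 1 ≤ m ∧
          Nonempty ((P : Subgroup ↥K) ≃* QuaternionGroup (2 ^ m))) ∧
      ∀ Z₀ : Subgroup ↥(centralizer ({x} : Set G)),
        Z₀ ≤ (center (R : Subgroup ↥(centralizer ({x} : Set G)))).map
          (R : Subgroup ↥(centralizer ({x} : Set G))).subtype →
        IsWeaklyClosed Z₀ (R : Subgroup ↥(centralizer ({x} : Set G))) := by
  set C := centralizer ({x} : Set G) with hC
  have hSC : (S : Subgroup G) ≤ C := fun s hs => mem_centralizer_singleton_iff.2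
    (hx ▸ congrArg Subtype.val (d.commute_z ⟨s, hs⟩).eq)
  obtain ⟨R, e, he⟩ := exists_sylow_map S hSC
  set dR := d.map e
  have hcz : ∀ a b : C, ((a * b : C) : G) = a * b := fun a b => rfl
  have hz : ((dR.z : (R : Subgroup C)) : C) = ⟨x, mem_centralizer_singleton_iff.2 rfl⟩ :=
    Subtype.ext <| by
      show ((((e d.x) ^ d.half : (R : Subgroup C)) : C) : G) = x
      rw [← map_zpow, he, hx]; rfl
  have hzx : ((((dR.z : (R : Subgroup C)) : C)) : G) = ((d.z : (S : Subgroup G)) : G) := by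
    rw [hz]; exact hx
  have hzC : ∀ g : C, Commute g ((dR.z : (R : Subgroup C)) : C) := fun g => Subtype.ext <| by
    rw [hz]; exact mem_centralizer_singleton_iff.1 g.2
  have hmem : ∀ v : C, (v : G) ∈ zpowers ((d.z : (S : Subgroup G)) : G) →
      v ∈ zpowers ((dR.z : (R : Subgroup C)) : C) := by
    intro v hv
    obtain ⟨k, hk⟩ := hv
    exact ⟨k, Subtype.ext (by push_cast; rw [hzx]; exact hk)⟩
  have hr : ∀ i : ℤ, (((dR.x ^ i * dR.y : (R : Subgroup C)) : C) : G)
      = ((d.x ^ i * d.y : (S : Subgroup G)) : G) := fun i => by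
    show (((e d.x ^ i * e d.y : (R : Subgroup C)) : C) : G) = _
    rw [← map_zpow, ← map_mul, he]
  have hq : (((dR.q : (R : Subgroup C)) : C) : G) = ((d.q : (S : Subgroup G)) : G) := by
    show ((((e d.x) ^ (2 ^ (d.n - 2) : ℤ) : (R : Subgroup C)) : C) : G) = _
    rw [← map_zpow, he]; rfl
  have hT : dR.T2 := by
    intro i hi y hy hodd a ha
    have hW : IsPGroup 2 (zpowers ((dR.z : (R : Subgroup C)) : C)) :=
      IsPGroup.of_card (n := 1) (by rw [Nat.card_zpowers, dR.orderOf_coe_z, pow_one])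
    have hfix : ∀ w ∈ zpowers ((dR.z : (R : Subgroup C)) : C), Commute y w := by
      rintro w ⟨k, rfl⟩
      exact (hzC y).zpow_right k
    set z := ((dR.z : (R : Subgroup C)) : C) with hzdef
    set r := ((dR.x ^ i * dR.y : (R : Subgroup C)) : C) with hrdef
    have hr2 : orderOf r = 2 := by rw [hrdef, Subgroup.orderOf_coe, dR.orderOf_refl_even hi]
    have hrz : r ≠ z := fun h1 => dR.refl_not_mem i (by
      rw [show dR.x ^ i * dR.y = dR.z from Subtype.ext h1]
      exact zpow_mem (mem_zpowers _) _)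
    have hrT : r ∈ dR.TG i := subset_closure (by simp [hrdef])
    have hyr : Commute y r := by
      refine commute_of_stab hW hodd hfix ?_
      rcases (dR.mem_TG hi).1 ((mem_normalizer_iff.1 hy r).1 hrT) with h | h | h | h <;> rw [h]
      · exact absurd (conj_eq_one_iff.1 h) (invol_ne_one hr2)
      · refine absurd ?_ hrz
        calc r = y⁻¹ * (y * r * y⁻¹) * y := by group
          _ = y⁻¹ * z * y := by rw [h]
          _ = z := by rw [(hzC y).inv_left.eq, inv_mul_cancel_right]
      · rw [mul_inv_cancel]; exact one_mem _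
      · rw [Subgroup.coe_mul, mul_inv_cancel_right]; exact mem_zpowers _
    have hle : dR.TG i ≤ centralizer ({y} : Set C) := by
      rw [QD.TG, closure_le]
      rintro v (rfl | rfl)
      · exact mem_centralizer_singleton_iff.2 (hzC y).eq.symm
      · exact mem_centralizer_singleton_iff.2 hyr.eq.symm
    exact (mem_centralizer_singleton_iff.1 (hle ha)).symm
  have hQR : dR.Q6 := by
    intro i hi
    obtain ⟨c, hco, h1, h2⟩ := hQ i hi
    have hcC : c ∈ C := by
      set z := ((d.z : (S : Subgroup G)) : G) with hzdef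
      set r := ((d.x ^ i * d.y : (S : Subgroup G)) : G) with hrdef
      set w := c * ((d.q : (S : Subgroup G)) : G) * c⁻¹ * r⁻¹ with hw
      have e1 : c * ((d.q : (S : Subgroup G)) : G) * c⁻¹ = w * r := by rw [hw]; group
      have hqq : ((d.q : (S : Subgroup G)) : G) * ((d.q : (S : Subgroup G)) : G) = z :=
        congrArg Subtype.val d.q_mul_q
      have hrr : r * r = z := congrArg Subtype.val (d.sq_gen hi (Or.inr (Or.inl rfl)))
      have hwr : Commute w r := by
        obtain ⟨k, hk⟩ := h1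
        rw [← hk]
        have hzr : Commute z r := congrArg Subtype.val (d.commute_z (d.x ^ i * d.y)).eq.symm
        exact hzr.zpow_left k
      have hww : w * w = 1 := by
        rcases (mem_zpowers_invol d.orderOf_coe_z).1 h1 with h | h
        · rw [h, one_mul]
        · rw [h]; exact invol_mul_self d.orderOf_coe_z
      have hcz : c * z * c⁻¹ = z := by
        rw [← hqq, ← conj_mul, e1, hwr.symm.mul_mul_mul_comm, hww, hrr, one_mul, hqq]
      rw [hC, mem_centralizer_singleton_iff, hx]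
      exact mul_inv_eq_iff_eq_mul.1 hcz
    refine ⟨⟨c, hcC⟩, by rwa [Subgroup.orderOf_mk], hmem _ ?_, hmem _ ?_⟩
    · simp only [Subgroup.coe_mul _ (⟨c, hcC⟩ : C), Subgroup.coe_mul, Subgroup.coe_inv]
      show c * _ * c⁻¹ * _⁻¹ ∈ _
      rw [hq]
      convert h1 using 3
      exact hr i
    · show c * _ * c⁻¹ * (_ * _)⁻¹ ∈ _
      rw [hq, hr]
      exact h2
  obtain ⟨K, hKn, hidx, hinf, hres⟩ :=
    dR.exists_normal_index_two true (fun _ => hT) (fun h => absurd h (by simp))
  haveI := hKn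
  obtain ⟨em⟩ := dR.maxSub_true_equiv
  refine ⟨R, (Nat.card_congr e.toEquiv).symm, ⟨K, hKn, ⟨1, by rw [hidx, pow_one]⟩,
    dR.index_ne_two_of_inf true (fun h => absurd h (by simp)) (fun _ => hQR) hinf hres,
    fun P => ?_⟩, fun Z₀ hZ => ?_⟩
  · obtain ⟨f⟩ := nonempty_sylow_mulEquiv R hinf P
    exact ⟨dR.n - 2, by have := dR.three_le; omega,
      ⟨f.trans (((dR.maxSub true).equivMapOfInjective _
        (R : Subgroup C).subtype_injective).symm.trans em)⟩⟩
  · refine isWeaklyClosed_of_fixed (hZ.trans (map_subtype_le _)) fun g w hw hg => ?_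
    have := hZ hw
    rw [dR.center_eq, MonoidHom.map_zpowers] at this
    rcases (mem_zpowers_invol dR.orderOf_coe_z).1 this with rfl | rfl
    · group
    · exact dR.weaklyClosed_z hT hg

/-- The centralizer of the central involution of a wreathed Sylow 2-subgroup. -/
theorem WR.centralizer_z0 (S : Sylow 2 G) (d : WR (S : Subgroup G)) (hV : d.V6) {x : G}
    (hx : x = d.uG d.half d.half) :
    ∃ R : Sylow 2 ↥(centralizer ({x} : Set G)), Nat.card R = Nat.card S ∧
      (∃ K : Subgroup ↥(centralizer ({x} : Set G)), K.Normal ∧ (∃ a : ℕ, K.index = 2 ^ a) ∧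
        (∀ H : Subgroup ↥K, H.index ≠ 2) ∧
        ∀ P : Sylow 2 ↥K, ∃ m : ℕ, 1 ≤ m ∧
          Nonempty ((P : Subgroup ↥K) ≃* QuaternionGroup (2 ^ m))) ∧
      ∀ Z₀ : Subgroup ↥(centralizer ({x} : Set G)),
        Z₀ ≤ (center (R : Subgroup ↥(centralizer ({x} : Set G)))).map
          (R : Subgroup ↥(centralizer ({x} : Set G))).subtype →
        IsWeaklyClosed Z₀ (R : Subgroup ↥(centralizer ({x} : Set G))) := by
  set C := centralizer ({x} : Set G) with hC
  have hSC : (S : Subgroup G) ≤ C := fun s hs => mem_centralizer_singleton_iff.2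
    (hx ▸ (d.commute_ZG d.z0_mem_ZG hs).eq.symm)
  obtain ⟨R, e, he⟩ := exists_sylow_map S hSC
  set dR := d.map e
  have hu : ∀ i j : ℤ, ((dR.uG i j : C) : G) = d.uG i j := fun i j => by
    show (((e d.x ^ i * e d.y ^ j : (R : Subgroup C)) : C) : G) = _
    rw [← map_zpow, ← map_zpow, ← map_mul, he]; rfl
  have hr : ∀ k : ℤ, ((dR.rG k : C) : G) = d.rG k := fun k => by
    show (((e d.x ^ k * e d.y ^ (-k) * e d.z : (R : Subgroup C)) : C) : G) = _
    rw [← map_zpow, ← map_zpow, ← map_mul, ← map_mul, he]; rfl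
  have hmemR : ∀ v : C, (v : G) ∈ d.ZG → v ∈ dR.ZG := by
    intro v hv
    obtain ⟨a, ha, hav⟩ := hv
    rw [d.center_eq] at ha
    obtain ⟨k, rfl⟩ := ha
    have : v = dR.uG (1 * k) (1 * k) := Subtype.ext <| by
      rw [hu, ← hav]
      exact congrArg Subtype.val (d.u_zpow 1 1 k)
    rw [this, dR.uG_mem_ZG]
    simp
  have hz0 : ∀ g : C, Commute g (dR.uG dR.half dR.half) := fun g => Subtype.ext <| by
    push_cast
    rw [hu]
    exact (hx ▸ mem_centralizer_singleton_iff.1 g.2 : (g : G) * d.uG d.half d.half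
      = d.uG d.half d.half * g)
  have hU : dR.U2 := fun y hy hodd =>
    dR.commute_abelian le_rfl hodd (fun a ha => (mem_normalizer_iff.1 hy a).1 ha) (hz0 y)
  have hVR : dR.V6 := by
    intro k
    obtain ⟨c, hcN, hco, h1, h2⟩ := hV k
    have hcC : c ∈ C := by
      rw [hC, mem_centralizer_singleton_iff, hx]
      exact (d.commute_ZG_normalizer hcN _ d.z0_mem_ZG).eq
    have hVmap : (dR.VG k).map C.subtype = d.VG k := by
      rw [VG_eq_closure, VG_eq_closure, MonoidHom.map_closure, Set.image_insert_eq, Set.image_pair]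
      exact congrArg Subgroup.closure (by
        show ({((dR.uG 1 1 : C) : G), ((dR.uG dR.half 0 : C) : G), ((dR.rG k : C) : G)} : Set G) = _
        rw [hu, hu, hr]
        rfl)
    refine ⟨⟨c, hcC⟩, ?_, by rwa [Subgroup.orderOf_mk], hmemR _ ?_, hmemR _ ?_⟩
    · rw [mem_normalizer_iff]
      intro v
      have := mem_normalizer_iff.1 hcN (v : G)
      rw [← hVmap] at this
      exact ((mem_map_iff_mem C.subtype_injective).symm.trans this).trans
        (mem_map_iff_mem (x := (⟨c, hcC⟩ : C) * v * ⟨c, hcC⟩⁻¹) C.subtype_injective)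
    · push_cast
      rw [hu, hr]
      exact h1
    · push_cast
      rw [hu, hr]
      exact h2
  obtain ⟨K, hKn, hidx, hinf, hres⟩ := dR.exists_normal_Y0 hU
  haveI := hKn
  obtain ⟨ey⟩ := dR.Y0_quat
  refine ⟨R, (Nat.card_congr e.toEquiv).symm, ⟨K, hKn, ⟨_, hidx⟩,
    dR.index_ne_two_of_inf_Y0 hVR hinf hres, fun P => ?_⟩, fun Z₀ hZ => ?_⟩
  · obtain ⟨f⟩ := nonempty_sylow_mulEquiv R hinf P
    exact ⟨dR.n - 1, by have := dR.two_le; omega,
      ⟨f.trans ((dR.Y0.equivMapOfInjective _ (R : Subgroup C).subtype_injective).symm.trans ey)⟩⟩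
  · exact isWeaklyClosed_of_fixed (hZ.trans dR.ZG_le) fun g w hw hg =>
      dR.weaklyClosed_ZG hU (hZ hw) hg

theorem exists_index_two_of_pow {K : Subgroup G} [K.Normal] {n : ℕ} (hn : 1 ≤ n)
    (h : K.index = 2 ^ n) : ∃ H : Subgroup G, H.index = 2 := by
  rw [index_eq_card] at h
  obtain ⟨M, hM⟩ := Sylow.exists_subgroup_card_pow_prime 2 (G := G ⧸ K) (n := n - 1)
    (h ▸ pow_dvd_pow 2 (Nat.sub_le n 1))
  refine ⟨M.comap (QuotientGroup.mk' K), ?_⟩
  rw [index_comap_of_surjective _ (QuotientGroup.mk'_surjective K)]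
  have := M.index_mul_card
  rw [h, hM, show (2:ℕ) ^ n = 2 * 2 ^ (n - 1) by rw [← pow_succ']; congr 1; omega] at this
  exact Nat.eq_of_mul_eq_mul_right (by positivity) this

theorem QD.pattern_of_no_index_two {S : Sylow 2 G} (d : QD (S : Subgroup G))
    (hG : ∀ H : Subgroup G, H.index ≠ 2) : d.T6 ∧ d.Q6 := by
  have hT0 : Even (0 : ℤ) := Even.zero
  rcases d.relIndex_TG hT0 with hT | hT
  · obtain ⟨K, -, hK, -, -⟩ := d.exists_normal_index_two true
      (fun _ => d.t2_of_relIndex hT0 hT) (fun h => absurd h (by simp))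
    exact absurd hK (hG K)
  rcases d.relIndex_QG odd_one with hQ | hQ
  · obtain ⟨K, -, hK, -, -⟩ := d.exists_normal_index_two false
      (fun h => absurd h (by simp)) (fun _ => d.q2_of_relIndex odd_one hQ)
    exact absurd hK (hG K)
  exact ⟨d.t6_of_relIndex hT0 hT, d.q6_of_relIndex odd_one hQ⟩

theorem WR.pattern_of_no_index_two {S : Sylow 2 G} (d : WR (S : Subgroup G))
    (hG : ∀ H : Subgroup G, H.index ≠ 2) : d.U6 ∧ d.V6 := by
  rcases d.relIndex_UG with hU | hU
  · obtain ⟨K, hKn, hK, -, -⟩ := d.exists_normal_Y0 (d.commute_UG_of_relIndex hU)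
    haveI := hKn
    obtain ⟨H, hH⟩ := exists_index_two_of_pow (by have := d.two_le; omega) hK
    exact absurd hH (hG H)
  rcases d.relIndex_VG 0 with hV | hV
  · obtain ⟨K, -, hK, -, -⟩ := d.exists_normal_UG (d.v2_of_relIndex hV)
    exact absurd hK (hG K)
  exact ⟨d.u6_of_relIndex hU, d.v6_of_relIndex hV⟩

/-- Every involution is the central involution of some Sylow 2-subgroup. -/
theorem exists_sylow_central {S : Sylow 2 G} {z x : G} (hz : z ∈ (S : Subgroup G))
    (hcz : ∀ s ∈ (S : Subgroup G), Commute z s) (hconj : IsConj z x) :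
    ∃ S' : Sylow 2 G, x ∈ (S' : Subgroup G) ∧ ∀ s ∈ (S' : Subgroup G), Commute x s := by
  obtain ⟨g, rfl⟩ := isConj_iff.1 hconj
  refine ⟨g • S, ?_, fun s hs => ?_⟩
  · rw [Transfer.mem_coe_smul_sylow_iff]
    rwa [show g⁻¹ * (g * z * g⁻¹) * g = z by group]
  · have := (hcz _ (Transfer.mem_coe_smul_sylow_iff.1 hs)).map (MulAut.conj g).toMonoidHom
    simpa [mul_assoc] using this

theorem centralizer_involution (S : Sylow 2 G)
    (hS : IsQuasiDihedral (S : Subgroup G) ∨ IsWreathed (S : Subgroup G))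
    (hG : ∀ H : Subgroup G, H.index ≠ 2) (x : G) (hx : orderOf x = 2) :
    ∃ R : Sylow 2 ↥(centralizer ({x} : Set G)), Nat.card R = Nat.card S ∧
      (∃ K : Subgroup ↥(centralizer ({x} : Set G)), K.Normal ∧ (∃ a : ℕ, K.index = 2 ^ a) ∧
        (∀ H : Subgroup ↥K, H.index ≠ 2) ∧
        ∀ P : Sylow 2 ↥K, ∃ m : ℕ, 1 ≤ m ∧
          Nonempty ((P : Subgroup ↥K) ≃* QuaternionGroup (2 ^ m))) ∧
      ∀ Z₀ : Subgroup ↥(centralizer ({x} : Set G)),
        Z₀ ≤ (center (R : Subgroup ↥(centralizer ({x} : Set G)))).map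
          (R : Subgroup ↥(centralizer ({x} : Set G))).subtype →
        IsWeaklyClosed Z₀ (R : Subgroup ↥(centralizer ({x} : Set G))) := by
  rcases hS with h | h
  · obtain ⟨d⟩ := nonempty_qd h
    obtain ⟨hT, -⟩ := d.pattern_of_no_index_two hG
    obtain ⟨g, hg⟩ := exists_conj_mem_sylow_one S hx
    have hxz : IsConj ((d.z : (S : Subgroup G)) : G) x := by
      rcases d.invol_cases (g := ⟨_, hg⟩) (by rw [Subgroup.orderOf_mk]; exact conj_invol g hx)
        with e | ⟨i, hi, e⟩
      · exact (isConj_iff.2 ⟨g, congrArg Subtype.val e⟩ : IsConj x _).symm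
      · obtain ⟨c, -, hc, -⟩ := hT i hi
        exact (isConj_iff.2 ⟨c, hc⟩ : IsConj ((d.z : (S : Subgroup G)) : G) _).trans
          (isConj_iff.2 ⟨g, congrArg Subtype.val e⟩ : IsConj x _).symm
    obtain ⟨S', hxS', hxc⟩ := exists_sylow_central (SetLike.coe_mem d.z)
      (fun s hs => congrArg Subtype.val (d.commute_z ⟨s, hs⟩).eq.symm) hxz
    set d' := d.map (Sylow.equiv S S')
    have hxd : x = ((d'.z : (S' : Subgroup G)) : G) := by
      have hcen : (⟨x, hxS'⟩ : (S' : Subgroup G)) ∈ center (S' : Subgroup G) :=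
        mem_center_iff.2 fun s => Subtype.ext (hxc s s.2).eq.symm
      rw [d'.center_eq, mem_zpowers_invol d'.orderOf_z] at hcen
      exact congrArg Subtype.val (hcen.resolve_left
        fun h => invol_ne_one hx (congrArg Subtype.val h))
    obtain ⟨R, hR, rest⟩ := d'.centralizer_z S' (d'.pattern_of_no_index_two hG).2 hxd
    exact ⟨R, hR.trans (Nat.card_congr (Sylow.equiv S S').toEquiv).symm, rest⟩
  · obtain ⟨d⟩ := nonempty_wr h
    obtain ⟨hU, hV⟩ := d.pattern_of_no_index_two hG
    obtain ⟨g, hg⟩ := exists_conj_mem_sylow_one S hx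
    have hxz : IsConj (d.uG d.half d.half) x := by
      have hgx : IsConj (g * x * g⁻¹) x := (isConj_iff.2 ⟨g, rfl⟩ : IsConj x (g * x * g⁻¹)).symm
      rcases d.invol_P_cases hg (conj_invol g hx) with e | e | e
      · rwa [e] at hgx
      · exact ((d.isConj_aG_z0 hU).trans e).trans hgx
      · exact (((d.isConj_aG_z0 hU).trans (d.isConj_aG_rG hV)).trans e).trans hgx
    obtain ⟨S', hxS', hxc⟩ := exists_sylow_central (d.ZG_le d.z0_mem_ZG)
      (fun s hs => d.commute_ZG d.z0_mem_ZG hs) hxz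
    set d' := d.map (Sylow.equiv S S')
    have hxd : x = d'.uG d'.half d'.half := by
      refine d'.eq_z0_of_mem_ZG ⟨⟨x, hxS'⟩, ?_, rfl⟩ hx
      exact mem_center_iff.2 fun s => Subtype.ext (hxc s s.2).eq.symm
    obtain ⟨R, hR, rest⟩ := d'.centralizer_z0 S' (d'.pattern_of_no_index_two hG).2 hxd
    exact ⟨R, hR.trans (Nat.card_congr (Sylow.equiv S S').toEquiv).symm, rest⟩

end CfsgLib.Involutions
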