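import Cfsg.Prelude.Def_Transfer
import Cfsg.Agent.Lib.Transfer.TransferFixed
import Cfsg.Agent.Lib.PGroups.Basic
import Cfsg.Agent.Lib.Base.Cores

/-!
Thompson transfer with an extremal conjugate, and the extraspecial normal subgroup of an involution
centralizer in a group without quotient of order two.
-/

set_option autoImplicit false

namespace CfsgLib.Involutions.ExtraTransfer

open Subgroup

variable {G : Type*} [Group G] [Finite G]

/-- Thompson transfer with an extremal conjugate. -/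
theorem exists_extremal_ker (hres : Cfsg.pResidual 2 G = ⊤) (T : Sylow 2 G) (χ : ↥(T : Subgroup G) →* ℤˣ)
    {x : G} (hx : orderOf x = 2) (R : Subgroup G) (hR : IsPGroup 2 R) (hRx : R ≤ centralizer ({x} : Set G)) :
    ∃ (g : G) (h : g⁻¹ * x * g ∈ (T : Subgroup G)), χ ⟨_, h⟩ = 1 ∧ ∀ r ∈ R, g⁻¹ * r * g ∈ (T : Subgroup G) := by
  classical
  have := Fintype.ofFinite (G ⧸ (T : Subgroup G))
  have hV : MonoidHom.transfer χ x = 1 := by
    have hle : Cfsg.pResidual 2 G ≤ (MonoidHom.transfer χ).ker := by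
      refine (closure_le _).2 fun y hy => ?_
      have hy' : Nat.Coprime (orderOf y) 2 := hy
      have h1 := orderOf_map_dvd (MonoidHom.transfer χ) y
      have h2 : orderOf (MonoidHom.transfer χ y) ∣ 2 :=
        orderOf_dvd_of_pow_eq_one (by rw [sq, Int.units_mul_self])
      have := Nat.dvd_gcd h1 h2
      rw [hy', Nat.dvd_one, orderOf_eq_one_iff] at this
      exact this
    exact hle (hres ▸ mem_top x)
  rw [CfsgLib.Transfer.transfer_eq_prod_fixedVal χ x] at hV
  swap
  · intro k hk hkd g h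
    rw [hx] at hkd
    obtain rfl : k = 2 := by have := Nat.le_of_dvd two_pos hkd; omega
    refine (congrArg χ (show (⟨_, h⟩ : ↥(T : Subgroup G)) = 1 from Subtype.ext ?_)).trans (map_one χ)
    show g⁻¹ * x ^ 2 * g = 1
    rw [← hx, pow_orderOf_eq_one]; group
  set Fx := Finset.univ.filter fun q : G ⧸ (T : Subgroup G) => x • q = q with hFx
  set Fp := Fx.filter fun q => CfsgLib.Transfer.fixedVal χ x q = 1 with hFp
  -- the number of fixed points is odd
  have hFodd : Odd Fx.card := by
    have hxx : x * x = 1 := by rw [← sq, ← hx, pow_orderOf_eq_one]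
    have h0 : ∏ q : G ⧸ (T : Subgroup G), (if x • q = q then (1 : ℤˣ) else -1) =
        (-1) ^ (Finset.univ \ Fx).card := by
      rw [Finset.prod_ite, Finset.prod_const_one, one_mul, Finset.prod_const, Finset.sdiff_eq_filter]
      congr 2
      ext q; simp [Fx]
    have h1 : ∏ q : G ⧸ (T : Subgroup G), (if x • q = q then (1 : ℤˣ) else -1) = 1 := by
      refine Finset.prod_involution (fun q _ => x • q) (fun q _ => ?_) (fun q _ hq => ?_)
        (fun q _ => Finset.mem_univ _) (fun q _ => by rw [smul_smul, hxx, one_smul])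
      · have e : x • x • q = x • q ↔ x • q = q := by rw [smul_left_cancel_iff]
        by_cases h : x • q = q <;> simp [h, e]
      · intro h; simp [h] at hq
    rw [h0, neg_one_pow_eq_one_iff_even (by decide)] at h1
    have hcard : Fx.card + (Finset.univ \ Fx).card = Nat.card (G ⧸ (T : Subgroup G)) := by
      rw [add_comm, Finset.card_sdiff_add_card_eq_card (Finset.subset_univ _), Finset.card_univ,
        Nat.card_eq_fintype_card]
    have hodd : Odd (Nat.card (G ⧸ (T : Subgroup G))) := by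
      rw [← index_eq_card, ← Nat.not_even_iff_odd, even_iff_two_dvd]
      exact T.not_dvd_index
    rw [← hcard] at hodd
    exact (Nat.odd_add.1 hodd).2 h1
  have hFpodd : Odd Fp.card := by
    have h1 : ∏ q : G ⧸ (T : Subgroup G), CfsgLib.Transfer.fixedVal χ x q = (-1) ^ (Fx \ Fp).card := by
      rw [← Finset.prod_subset (Finset.subset_univ Fx) fun q _ hq =>
        CfsgLib.Transfer.fixedVal_of_ne χ x (by simpa [Fx] using hq),
        ← Finset.prod_sdiff (show Fp ⊆ Fx from Finset.filter_subset _ _),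
        Finset.prod_eq_one (s := Fp) (fun q hq => (Finset.mem_filter.1 hq).2), mul_one,
        ← Finset.prod_const]
      refine Finset.prod_congr rfl fun q hq => ?_
      obtain ⟨hq1, hq2⟩ := Finset.mem_sdiff.1 hq
      exact (Int.units_eq_one_or _).resolve_left fun h => hq2 (Finset.mem_filter.2 ⟨hq1, h⟩)
    rw [h1, neg_one_pow_eq_one_iff_even (by decide)] at hV
    have hcard := Finset.card_sdiff_add_card_eq_card (show Fp ⊆ Fx from Finset.filter_subset _ _)
    rw [← hcard] at hFodd
    exact (Nat.odd_add'.1 hFodd).2 hV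
  -- the centralising `2`-group has a fixed point among them
  have hcomm : ∀ r ∈ R, r * x = x * r := fun r hr => mem_centralizer_singleton_iff.1 (hRx hr)
  have hstab : ∀ (r : R) (q : G ⧸ (T : Subgroup G)), q ∈ Fp → (r : G) • q ∈ Fp := by
    intro r q hq
    obtain ⟨hq1, hq2⟩ := Finset.mem_filter.1 hq
    have hq1' : x • q = q := (Finset.mem_filter.1 hq1).2
    obtain ⟨a, rfl⟩ := QuotientGroup.mk_surjective q
    have ha := (CfsgLib.Transfer.mem_iff_smul_eq x a).2 hq1'
    have hr : (r : G)⁻¹ * x * r = x := by rw [mul_assoc, ← hcomm r r.2, inv_mul_cancel_left]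
    have e : ((r : G) * a)⁻¹ * x * ((r : G) * a) = a⁻¹ * x * a := by
      calc ((r : G) * a)⁻¹ * x * ((r : G) * a) = a⁻¹ * ((r : G)⁻¹ * x * r) * a := by group
        _ = _ := by rw [hr]
    show (((r : G) * a : G) : G ⧸ (T : Subgroup G)) ∈ Fp
    refine Finset.mem_filter.2 ⟨Finset.mem_filter.2 ⟨Finset.mem_univ _, ?_⟩, ?_⟩
    · exact (CfsgLib.Transfer.mem_iff_smul_eq x _).1 (e ▸ ha)
    · rw [CfsgLib.Transfer.fixedVal_of_mem χ x (e ▸ ha)]
      rw [CfsgLib.Transfer.fixedVal_of_mem χ x ha] at hq2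
      exact (congrArg χ (Subtype.ext e)).trans hq2
  letI act : MulAction R {q : G ⧸ (T : Subgroup G) // q ∈ Fp} :=
    { smul := fun r q => ⟨(r : G) • q.1, hstab r q.1 q.2⟩
      one_smul := fun q => Subtype.ext (one_smul G q.1)
      mul_smul := fun r s q => Subtype.ext (mul_smul (r : G) (s : G) q.1) }
  obtain ⟨⟨q, hq⟩, hfix⟩ := hR.nonempty_fixed_point_of_prime_not_dvd_card {q : G ⧸ (T : Subgroup G) // q ∈ Fp}
    (by rw [Nat.card_eq_fintype_card, Fintype.card_coe, ← even_iff_two_dvd]; exact Nat.not_even_iff_odd.2 hFpodd)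
  obtain ⟨g, rfl⟩ := QuotientGroup.mk_surjective q
  obtain ⟨hq1, hq2⟩ := Finset.mem_filter.1 hq
  have hg := (CfsgLib.Transfer.mem_iff_smul_eq x g).2 (Finset.mem_filter.1 hq1).2
  refine ⟨g, hg, ?_, fun r hr => ?_⟩
  · rwa [CfsgLib.Transfer.fixedVal_of_mem χ x hg] at hq2
  · exact (CfsgLib.Transfer.mem_iff_smul_eq r g).2 (congrArg Subtype.val (hfix ⟨r, hr⟩))

/-- A `2`-subgroup whose normaliser meets a containing `2`-subgroup in itself is equal to it. -/
theorem eq_of_normalizer_inf {P R : Subgroup G} (hR : IsPGroup 2 R) (hPR : P ≤ R)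
    (h : ∀ r ∈ R, r ∈ normalizer (P : Set G) → r ∈ P) : R = P := by
  refine le_antisymm ?_ hPR
  by_contra hne
  have : Group.IsNilpotent R := hR.isNilpotent
  have hlt : P.subgroupOf R < ⊤ := lt_top_iff_ne_top.2 fun ht => hne (subgroupOf_eq_top.1 ht)
  obtain ⟨r, hr, hrn⟩ := SetLike.exists_of_lt (Group.normalizerCondition_of_isNilpotent _ hlt)
  refine hrn (h r r.2 ?_)
  rw [mem_normalizer_iff] at hr ⊢
  intro y
  constructor
  · exact fun hy => (hr ⟨y, hPR hy⟩).1 hy
  · intro hy
    have hyR : y ∈ R := by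
      have h1 := R.mul_mem (R.mul_mem (R.inv_mem r.2) (hPR hy)) r.2
      simpa [mul_assoc] using h1
    exact (hr ⟨y, hyR⟩).2 hy

/-- A `2`-subgroup lies in a Sylow subgroup of the group. -/
theorem exists_sylow_subgroup {K : Subgroup G} {A : Subgroup G} (hA : IsPGroup 2 A) (hAK : A ≤ K) :
    ∃ P : Subgroup G, A ≤ P ∧ P ≤ K ∧ IsPGroup 2 P ∧ ∀ R : Subgroup G, IsPGroup 2 R → P ≤ R → R ≤ K → R = P := by
  obtain ⟨Q, hQ⟩ := (hA.comap_subtype (K := K)).exists_le_sylow
  refine ⟨(Q : Subgroup K).map K.subtype, fun a ha => ⟨⟨a, hAK ha⟩, hQ ha, rfl⟩, map_subtype_le _, Q.2.map _,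
    fun R hR hPR hRK => le_antisymm ?_ hPR⟩
  have h1 : R.subgroupOf K = (Q : Subgroup K) :=
    Q.3 (hR.comap_subtype (K := K)) fun y hy => hPR ⟨y, hy, rfl⟩
  exact fun r hr => ⟨⟨r, hRK hr⟩, h1 ▸ hr, rfl⟩

/-! ### The extraspecial subgroup -/

/-- An extraspecial subgroup with its distinguished involution, inside the centralizer. -/
structure Setup (z : G) (E : Subgroup G) : Prop where
  hz : orderOf z = 2
  le : E ≤ centralizer ({z} : Set G)
  nor : ∀ h ∈ centralizer ({z} : Set G), ∀ e ∈ E, h * e * h⁻¹ ∈ E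
  two : IsPGroup 2 E
  mem : z ∈ E
  cen : ∀ e ∈ E, (∀ f ∈ E, e * f = f * e) → e = 1 ∨ e = z
  comm : ∀ e ∈ E, ∀ f ∈ E, e * f = f * e ∨ e * f = f * e * z
  sq : ∀ e ∈ E, e * e = 1 ∨ e * e = z
  self : centralizer (E : Set G) ≤ E

namespace Setup

variable {z : G} {E : Subgroup G} (D : Setup z E)

include D

theorem zz : z * z = 1 := by rw [← pow_two, ← D.hz, pow_orderOf_eq_one]

theorem zc {h : G} (hh : h ∈ centralizer ({z} : Set G)) : z * h = h * z :=
  (mem_centralizer_singleton_iff.1 hh).symm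

omit [Finite G] D in
theorem commute_z {e : G} (he : e ∈ centralizer ({z} : Set G)) : Commute e z :=
  mem_centralizer_singleton_iff.1 he

/-- The centre of a Sylow subgroup of the centralizer is the distinguished subgroup. -/
theorem center_sylow {T : Subgroup G} (hET : E ≤ T) {c : G} (hc : c ∈ T) (hcc : ∀ t ∈ T, c * t = t * c) :
    c = 1 ∨ c = z :=
  D.cen c (D.self (mem_centralizer_iff.2 fun e he => (hcc e (hET he)).symm)) fun f hf => hcc f (hET hf)

/-- A Sylow subgroup of the centralizer is one of the group. -/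
theorem sylow_eq {T R : Subgroup G} (hET : E ≤ T) (hTH : T ≤ centralizer ({z} : Set G))
    (hTmax : ∀ R : Subgroup G, IsPGroup 2 R → T ≤ R → R ≤ centralizer ({z} : Set G) → R = T)
    (hR : IsPGroup 2 R) (hTR : T ≤ R) : R = T := by
  have hzT : z ∈ T := hET D.mem
  have key : ∀ r ∈ R, r ∈ normalizer (T : Set G) → r ∈ centralizer ({z} : Set G) := by
    intro r _ hr
    have hrz : r * z * r⁻¹ ∈ T := (mem_normalizer_iff.1 hr z).1 hzT
    rcases D.center_sylow hET hrz (fun t ht => by
      have h1 := mem_normalizer_iff.1 (inv_mem hr) t |>.1 ht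
      rw [inv_inv] at h1
      have h2 := D.zc (hTH h1)
      calc r * z * r⁻¹ * t = r * (z * (r⁻¹ * t * r)) * r⁻¹ := by group
        _ = r * ((r⁻¹ * t * r) * z) * r⁻¹ := by rw [h2]
        _ = t * (r * z * r⁻¹) := by group) with h | h
    · have : z = 1 := by
        calc z = r⁻¹ * (r * z * r⁻¹) * r := by group
          _ = 1 := by rw [h]; group
      have h2 := D.hz
      rw [this, orderOf_one] at h2
      omega
    · exact mem_centralizer_singleton_iff.2 (mul_inv_eq_iff_eq_mul.1 h)
  refine eq_of_normalizer_inf hR hTR fun r hr hrn => ?_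
  have h1 : T ⊔ zpowers r ≤ R := sup_le hTR (zpowers_le.2 hr)
  have h2 := hTmax _ (hR.to_le h1) le_sup_left (sup_le hTH (zpowers_le.2 (key r hr hrn)))
  exact h2 ▸ mem_sup_right (mem_zpowers r)

/-- An abelian set cut out by a non-central element is small. -/
theorem small_of_abelian {A : Subgroup G} (hAE : A ≤ E) (hidx : ∀ e ∈ E, e ∉ A → ∀ e' ∈ E, e' ∉ A → e⁻¹ * e' ∈ A)
    (habel : ∀ a ∈ A, ∀ b ∈ A, a * b = b * a) {f : G} (hf : f ∈ E) (hfA : f ∉ A) :
    Nat.card A ≤ 4 := by
  classical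
  have hall : ∀ a ∈ A, a * f = f * a → a = 1 ∨ a = z := fun a ha haf =>
    D.cen a (hAE ha) fun e he => by
      by_cases heA : e ∈ A
      · exact habel a ha e heA
      · have h1 := habel a ha _ (hidx f hf hfA e he heA)
        calc a * e = (a * f) * (f⁻¹ * e) := by group
          _ = f * (a * (f⁻¹ * e)) := by rw [haf]; group
          _ = f * ((f⁻¹ * e) * a) := by rw [h1]
          _ = e * a := by group
  by_cases hb : ∃ b ∈ A, b * f ≠ f * b
  · obtain ⟨b, hb, hbf⟩ := hb
    have hsub : (A : Set G) ⊆ ↑({1, z, b, z * b} : Finset G) := by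
      intro a ha
      by_cases haf : a * f = f * a
      · rcases hall a ha haf with rfl | rfl <;> simp
      · have e1 := (D.comm a (hAE ha) f hf).resolve_left haf
        have e2 := (D.comm b (hAE hb) f hf).resolve_left hbf
        rcases hall (a * b⁻¹) (A.mul_mem ha (A.inv_mem hb)) (by
          have hzb : z * b = b * z := D.zc (D.le (hAE hb))
          have e3 : b⁻¹ * f = z * (f * b⁻¹) := by
            have : f * b⁻¹ = b⁻¹ * f * z := by
              calc f * b⁻¹ = b⁻¹ * (b * f) * b⁻¹ := by group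
                _ = b⁻¹ * (f * b * z) * b⁻¹ := by rw [e2]
                _ = b⁻¹ * f * z := by rw [mul_assoc f b z, ← hzb]; group
            rw [this, ← mul_assoc, D.zc (D.le (E.mul_mem (E.inv_mem (hAE hb)) hf)), mul_assoc, D.zz, mul_one]
          have hzf : z * f = f * z := D.zc (D.le hf)
          have hza : a * z = z * a := (D.zc (D.le (hAE ha))).symm
          calc a * b⁻¹ * f = (a * z) * (f * b⁻¹) := by rw [mul_assoc, e3, mul_assoc]
            _ = z * (a * f) * b⁻¹ := by rw [hza]; group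
            _ = z * (f * (a * z)) * b⁻¹ := by rw [e1, mul_assoc f a z]
            _ = (z * f) * (z * a) * b⁻¹ := by rw [hza]; group
            _ = f * (z * z) * a * b⁻¹ := by rw [hzf]; group
            _ = f * (a * b⁻¹) := by rw [D.zz]; group) with h | h
        · rw [mul_inv_eq_one.1 h]; simp
        · rw [mul_inv_eq_iff_eq_mul.1 h]; simp
    calc Nat.card A = (A : Set G).ncard := Nat.card_coe_set_eq _
      _ ≤ ({1, z, b, z * b} : Finset G).card := by
        rw [← Set.ncard_coe_finset]; exact Set.ncard_le_ncard hsub (Finset.finite_toSet _)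
      _ ≤ 4 := Finset.card_le_four
  · push Not at hb
    have hsub : (A : Set G) ⊆ ↑({1, z} : Finset G) := by
      intro a ha
      rcases hall a ha (hb a ha) with rfl | rfl <;> simp
    calc Nat.card A = (A : Set G).ncard := Nat.card_coe_set_eq _
      _ ≤ ({1, z} : Finset G).card := by
        rw [← Set.ncard_coe_finset]; exact Set.ncard_le_ncard hsub (Finset.finite_toSet _)
      _ ≤ 4 := le_trans Finset.card_le_two (by norm_num)

theorem card_le_two_mul {A : Subgroup G} (hAE : A ≤ E)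
    (hidx : ∀ e ∈ E, e ∉ A → ∀ e' ∈ E, e' ∉ A → e⁻¹ * e' ∈ A) : Nat.card E ≤ 2 * Nat.card A := by
  classical
  by_cases h : ∃ f ∈ E, f ∉ A
  · obtain ⟨f, hf, hfA⟩ := h
    have hsub : (E : Set G) ⊆ (A : Set G) ∪ (fun a => f * a) '' (A : Set G) := by
      intro e he
      by_cases heA : e ∈ A
      · exact Or.inl heA
      · exact Or.inr ⟨f⁻¹ * e, hidx f hf hfA e he heA, mul_inv_cancel_left f e⟩
    calc Nat.card E = (E : Set G).ncard := Nat.card_coe_set_eq _
      _ ≤ ((A : Set G) ∪ (fun a => f * a) '' (A : Set G)).ncard := Set.ncard_le_ncard hsub (Set.toFinite _)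
      _ ≤ (A : Set G).ncard + ((fun a => f * a) '' (A : Set G)).ncard := Set.ncard_union_le _ _
      _ = 2 * Nat.card A := by
        rw [Set.ncard_image_of_injective _ (mul_right_injective f), ← Nat.card_coe_set_eq, two_mul]; rfl
  · push Not at h
    have := Subgroup.card_le_of_le (show E ≤ A from h)
    omega

/-- The extraspecial subgroup lies in every subgroup of index two of the centralizer. -/
theorem le_of_index_two (hres : Cfsg.pResidual 2 G = ⊤) (hE : 32 ≤ Nat.card E) (K : Subgroup G)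
    (hK : K.relIndex (centralizer ({z} : Set G)) = 2) : E ≤ K := by
  classical
  set H := centralizer ({z} : Set G) with hH
  by_contra hEK
  obtain ⟨f₀, hf₀, hf₀K⟩ := SetLike.not_le_iff_exists.1 hEK
  have hK' : (K.subgroupOf H).index = 2 := hK
  have hKiff : ∀ {a b : G}, a ∈ H → b ∈ H → (a * b ∈ K ↔ (a ∈ K ↔ b ∈ K)) := fun {a b} ha hb =>
    mul_mem_iff_of_index_two hK' (a := ⟨a, ha⟩) (b := ⟨b, hb⟩)
  have hKinv : ∀ {a : G}, a ∈ H → (a⁻¹ ∈ K ↔ a ∈ K) := fun _ => K.inv_mem_iff
  have hconjK : ∀ {h a : G}, h ∈ H → a ∈ H → (h * a * h⁻¹ ∈ K ↔ a ∈ K) := by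
    intro h a hh ha
    rw [hKiff (H.mul_mem hh ha) (H.inv_mem hh), hKiff hh ha, hKinv hh]
    tauto
  have hcommK : ∀ {a b : G}, a ∈ H → b ∈ H → a * b * a⁻¹ * b⁻¹ ∈ K := by
    intro a b ha hb
    rw [hKiff (H.mul_mem (H.mul_mem ha hb) (H.inv_mem ha)) (H.inv_mem hb), hKiff (H.mul_mem ha hb) (H.inv_mem ha),
      hKiff ha hb, hKinv ha, hKinv hb]
    tauto
  have hzH : z ∈ H := D.le D.mem
  have hz1 : z ≠ 1 := fun h => by have := D.hz; rw [h, orderOf_one] at this; omega
  -- `z` is a commutator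
  have hzK : z ∈ K := by
    by_contra hzK
    have : ∀ e ∈ E, ∀ f ∈ E, e * f = f * e := fun e he f hf =>
      (D.comm e he f hf).resolve_right fun h => hzK (by
        have := hcommK (D.le he) (D.le hf)
        rwa [show e * f * e⁻¹ * f⁻¹ = z by
          rw [h, mul_assoc f e z, ← D.zc (D.le he), ← mul_assoc, ← D.zc (D.le hf)]; group] at this)
    have hle : Nat.card E ≤ 2 := by
      calc Nat.card E = (E : Set G).ncard := Nat.card_coe_set_eq _
        _ ≤ ({1, z} : Finset G).card := by
          rw [← Set.ncard_coe_finset]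
          refine Set.ncard_le_ncard (fun e he => ?_) (Finset.finite_toSet _)
          rcases D.cen e he (this e he) with rfl | rfl <;> simp
        _ ≤ 2 := Finset.card_le_two
    omega
  -- an involution outside `K`
  obtain ⟨x, hxE, hxK, hxx⟩ : ∃ x ∈ E, x ∉ K ∧ x * x = 1 := by
    by_contra hall
    push Not at hall
    have hsqz : ∀ e ∈ E, e ∉ K → e * e = z := fun e he heK => (D.sq e he).resolve_left (hall e he heK)
    have hidx : ∀ e ∈ E, e ∉ E ⊓ K → ∀ e' ∈ E, e' ∉ E ⊓ K → e⁻¹ * e' ∈ E ⊓ K := by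
      intro e he h1 e' he' h2
      refine ⟨E.mul_mem (E.inv_mem he) he', (hKiff (H.inv_mem (D.le he)) (D.le he')).2 ?_⟩
      rw [hKinv (D.le he)]
      exact iff_of_false (fun h => h1 ⟨he, h⟩) fun h => h2 ⟨he', h⟩
    have habel : ∀ a ∈ E ⊓ K, ∀ b ∈ E ⊓ K, a * b = b * a := by
      have hout : ∀ a ∈ E ⊓ K, ∀ e ∈ E, e ∉ K → e * a ∈ E ∧ e * a ∉ K := fun a ha e he heK =>
        ⟨E.mul_mem he ha.1, fun h => heK ((K.mul_mem_cancel_right ha.2).1 h)⟩
      -- conjugation by `e` inverts
      have hinv : ∀ a ∈ E ⊓ K, ∀ e ∈ E, e ∉ K → e * a * e⁻¹ = a⁻¹ := by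
        intro a ha e he heK
        obtain ⟨h1, h2⟩ := hout a ha e he heK
        have e1 := hsqz _ h1 h2
        rw [← hsqz e he heK] at e1
        have e2 : a * (e * a) = e := mul_left_cancel (a := e) (by rw [← mul_assoc, e1])
        calc e * a * e⁻¹ = a⁻¹ * (a * (e * a)) * e⁻¹ := by group
          _ = a⁻¹ := by rw [e2]; group
      intro a ha b hb
      have e1 := hinv a ha f₀ hf₀ hf₀K
      have e2 := hinv b hb f₀ hf₀ hf₀K
      have e3 := hinv (a * b) ((E ⊓ K).mul_mem ha hb) f₀ hf₀ hf₀K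
      rw [show f₀ * (a * b) * f₀⁻¹ = f₀ * a * f₀⁻¹ * (f₀ * b * f₀⁻¹) by group, e1, e2] at e3
      have := congrArg (·⁻¹) e3
      simp only [_root_.mul_inv_rev, inv_inv] at this
      exact this.symm
    have h4 := D.small_of_abelian (inf_le_left : E ⊓ K ≤ E) hidx habel hf₀ fun h => hf₀K h.2
    have h5 := D.card_le_two_mul (inf_le_left : E ⊓ K ≤ E) hidx
    omega
  have hxH : x ∈ H := D.le hxE
  have hx1 : x ≠ 1 := fun h => hxK (h ▸ K.one_mem)
  have hxz : x ≠ z := fun h => hxK (h ▸ hzK)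
  have hx2 : orderOf x = 2 := orderOf_eq_prime (by rw [pow_two, hxx]) hx1
  obtain ⟨A, hA⟩ : ∃ A, A = E ⊓ centralizer ({x} : Set G) := ⟨_, rfl⟩
  have hAx : ∀ {a : G}, a ∈ A ↔ a ∈ E ∧ a * x = x * a := by
    intro a; rw [hA, mem_inf, mem_centralizer_singleton_iff]
  obtain ⟨f, hf, hfA⟩ : ∃ f ∈ E, f * x ≠ x * f := by
    by_contra h
    push Not at h
    rcases D.cen x hxE fun e he => (h e he).symm with h' | h'
    · exact hx1 h'
    · exact hxz h'
  have hidxA : ∀ e ∈ E, e ∉ A → ∀ e' ∈ E, e' ∉ A → e⁻¹ * e' ∈ A := by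
    intro e he h1 e' he' h2
    have k1 := (D.comm e he x hxE).resolve_left fun h => h1 (hAx.2 ⟨he, h⟩)
    have k2 := (D.comm e' he' x hxE).resolve_left fun h => h2 (hAx.2 ⟨he', h⟩)
    refine hAx.2 ⟨E.mul_mem (E.inv_mem he) he', ?_⟩
    have k1' : e⁻¹ * x = x * e⁻¹ * z := by
      have := congrArg (fun t => e⁻¹ * t * e⁻¹) k1
      calc e⁻¹ * x = e⁻¹ * (x * e * z) * e⁻¹ * z := by
            rw [mul_assoc x e z, ← D.zc (D.le he)]
            calc e⁻¹ * x = e⁻¹ * x * (z * z) := by rw [D.zz, mul_one]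
              _ = _ := by group
        _ = _ := by rw [← k1]; group
    calc e⁻¹ * e' * x = e⁻¹ * (x * e' * z) := by rw [mul_assoc, k2]
      _ = e⁻¹ * x * (e' * z) := by group
      _ = x * e⁻¹ * z * (z * e') := by rw [k1', ← D.zc (D.le he')]
      _ = x * e⁻¹ * (z * z) * e' := by group
      _ = x * (e⁻¹ * e') := by rw [D.zz]; group
  have hzA : z ∈ A := hAx.2 ⟨D.mem, D.zc hxH⟩
  -- the centralizer of the hyperplane
  have hcent : ∀ h ∈ H, (∀ a ∈ A, h * a = a * h) → h = 1 ∨ h = z ∨ h = x ∨ h = x * z := by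
    intro h hh hha
    have hzh := D.zc hh
    obtain ⟨d, hd⟩ : ∃ d, d = f⁻¹ * (h * f * h⁻¹) := ⟨_, rfl⟩
    have hdE : d ∈ E := hd ▸ E.mul_mem (E.inv_mem hf) (D.nor h hh f hf)
    have hdA : ∀ a ∈ A, d * a = a * d := by
      intro a ha
      have hfa : f * a * f⁻¹ ∈ A := by
        refine hAx.2 ⟨E.mul_mem (E.mul_mem hf (hAx.1 ha).1) (E.inv_mem hf), ?_⟩
        rcases D.comm f hf a (hAx.1 ha).1 with e | e
        · rw [e, mul_inv_cancel_right]; exact (hAx.1 ha).2
        · have : f * a * f⁻¹ = a * z := by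
            rw [e, mul_assoc a f z, ← D.zc (D.le hf)]; group
          rw [this, mul_assoc, D.zc hxH, ← mul_assoc, (hAx.1 ha).2, mul_assoc]
      have e1 : h * (f * a * f⁻¹) * h⁻¹ = f * a * f⁻¹ := by rw [hha _ hfa, mul_inv_cancel_right]
      have e2 : h⁻¹ * a * h = a := by rw [mul_assoc, ← hha a ha, inv_mul_cancel_left]
      calc d * a = f⁻¹ * (h * (f * (h⁻¹ * a * h) * f⁻¹) * h⁻¹) * (h * f * h⁻¹) := by rw [hd]; group
        _ = f⁻¹ * (h * (f * a * f⁻¹) * h⁻¹) * (h * f * h⁻¹) := by rw [e2]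
        _ = f⁻¹ * (f * a * f⁻¹) * (h * f * h⁻¹) := by rw [e1]
        _ = a * d := by rw [hd]; group
    -- what centralises `A` inside `E`
    have hCA : ∀ c ∈ E, (∀ a ∈ A, c * a = a * c) → c * f = f * c → c = 1 ∨ c = z := by
      intro c hc hca hcf
      refine D.cen c hc fun e he => ?_
      by_cases heA : e ∈ A
      · exact hca e heA
      · have h1 := hca _ (hidxA f hf (fun hm => hfA (hAx.1 hm).2) e he heA)
        calc c * e = (c * f) * (f⁻¹ * e) := by group
          _ = f * (c * (f⁻¹ * e)) := by rw [hcf]; group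
          _ = f * ((f⁻¹ * e) * c) := by rw [h1]
          _ = e * c := by group
    have hfx := (D.comm f hf x hxE).resolve_left hfA
    have hff : h * (f * f) * h⁻¹ = f * f := by
      rcases D.sq f hf with e | e <;> rw [e]
      · group
      · rw [← hzh, mul_inv_cancel_right]
    have hdf : d * f = f * d := by
      refine (D.comm d hdE f hf).resolve_right fun e => ?_
      have e1 : (h * f * h⁻¹) * (h * f * h⁻¹) = f * f := by
        calc _ = h * (f * f) * h⁻¹ := by group
          _ = _ := hff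
      have e2 : h * f * h⁻¹ = f * d := by rw [hd, mul_inv_cancel_left]
      rw [e2] at e1
      rcases D.sq d hdE with e3 | e3
      · have e4 : f * d * (f * d) = f * f * z := by
          calc f * d * (f * d) = f * (d * f) * d := by group
            _ = f * (f * d * z) * d := by rw [e]
            _ = f * f * (d * (z * d)) := by group
            _ = f * f * (d * d) * z := by rw [D.zc (D.le hdE)]; group
            _ = f * f * z := by rw [e3, mul_one]
        rw [e4, mul_eq_left] at e1
        exact hz1 e1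
      · -- `d` would commute with `f`
        have hdx : d * x ∈ E := E.mul_mem hdE hxE
        rcases hCA (d * x) hdx (fun a ha => by
            rw [mul_assoc, ← (hAx.1 ha).2, ← mul_assoc, hdA a ha, mul_assoc]) (by
            have hxf : x * f = f * x * z := by
              have : f * x * z = x * f * (z * z) := by rw [hfx]; group
              rw [this, D.zz, mul_one]
            calc d * x * f = d * (f * x * z) := by rw [mul_assoc, hxf]
              _ = d * f * x * z := by group
              _ = f * d * (z * x) * z := by rw [e]; group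
              _ = f * d * x * (z * z) := by rw [D.zc hxH]; group
              _ = f * (d * x) := by rw [D.zz]; group) with h' | h'
        · have : d = x := by
            rw [mul_eq_one_iff_eq_inv.1 h', inv_eq_of_mul_eq_one_right hxx]
          rw [this, hxx] at e3; exact hz1 e3.symm
        · have hd' : d = z * x := by
            calc d = d * (x * x) := by rw [hxx, mul_one]
              _ = z * x := by rw [← mul_assoc, h']
          have : d * d = 1 := by
            rw [hd']
            calc z * x * (z * x) = z * (x * z) * x := by group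
              _ = (z * z) * (x * x) := by rw [← D.zc hxH]; group
              _ = 1 := by rw [D.zz, hxx, mul_one]
          rw [this] at e3; exact hz1 e3.symm
    have hmain : ∀ h' ∈ H, (∀ a ∈ A, h' * a = a * h') → h' * f = f * h' → h' = 1 ∨ h' = z := by
      intro h' hh' hha' hhf
      have hall : ∀ e ∈ E, h' * e = e * h' := by
        intro e he
        by_cases heA : e ∈ A
        · exact hha' e heA
        · have h1 := hha' _ (hidxA f hf (fun hm => hfA (hAx.1 hm).2) e he heA)
          calc h' * e = (h' * f) * (f⁻¹ * e) := by group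
            _ = f * (h' * (f⁻¹ * e)) := by rw [hhf]; group
            _ = f * ((f⁻¹ * e) * h') := by rw [h1]
            _ = e * h' := by group
      have hh'E : h' ∈ E := D.self (mem_centralizer_iff.2 fun e he => (hall e he).symm)
      exact D.cen h' hh'E hall
    rcases hCA d hdE hdA hdf with e | e
    · have : h * f = f * h := by
        rw [hd, inv_mul_eq_one] at e
        calc h * f = h * f * h⁻¹ * h := by group
          _ = f * h := by rw [← e]
      rcases hmain h hh hha this with h' | h'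
      · exact Or.inl h'
      · exact Or.inr (Or.inl h')
    · have hhf : h * f = f * z * h := by
        calc h * f = f * (f⁻¹ * (h * f * h⁻¹)) * h := by group
          _ = f * z * h := by rw [← hd, e]
      rcases hmain (x * h) (H.mul_mem hxH hh) (fun a ha => by
          rw [mul_assoc, hha a ha, ← mul_assoc, ← (hAx.1 ha).2, mul_assoc]) (by
          calc x * h * f = x * (f * z * h) := by rw [mul_assoc, hhf]
            _ = x * f * z * h := by group
            _ = f * x * h := by rw [← hfx]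
            _ = f * (x * h) := mul_assoc _ _ _) with h' | h'
      · exact Or.inr (Or.inr (Or.inl (by
          rw [eq_inv_of_mul_eq_one_right h', inv_eq_of_mul_eq_one_right hxx])))
      · exact Or.inr (Or.inr (Or.inr (by
          calc h = (x * x) * h := by rw [hxx, one_mul]
            _ = x * z := by rw [mul_assoc, h'])))
  -- a Sylow subgroup of the centralizer of `x`
  obtain ⟨P, hAP, hPle, hP2, hPmax⟩ := exists_sylow_subgroup (K := H ⊓ centralizer ({x} : Set G)) (A := A)
    (D.two.to_le (hA ▸ inf_le_left)) (hA ▸ inf_le_inf_right _ D.le)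
  obtain ⟨a₀, ha₀, b₀, hb₀, hab₀⟩ : ∃ a ∈ A, ∃ b ∈ A, a * b ≠ b * a := by
    by_contra h
    push Not at h
    have h4 := D.small_of_abelian (hA ▸ inf_le_left) hidxA h hf fun hm => hfA (hAx.1 hm).2
    have h5 := D.card_le_two_mul (hA ▸ inf_le_left) hidxA
    omega
  have hcenP : ∀ c ∈ P, (∀ p ∈ P, c * p = p * c) → c = 1 ∨ c = z ∨ c = x ∨ c = x * z := fun c hc hcc =>
    hcent c (hPle hc).1 fun a ha => hcc a (hAP ha)
  have hab : a₀ * b₀ * a₀⁻¹ * b₀⁻¹ = z := by
    have h := (D.comm a₀ (hAx.1 ha₀).1 b₀ (hAx.1 hb₀).1).resolve_left hab₀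
    rw [h, mul_assoc b₀ a₀ z, ← D.zc (D.le (hAx.1 ha₀).1), ← mul_assoc, ← D.zc (D.le (hAx.1 hb₀).1)]
    group
  have hPR : ∀ R : Subgroup G, IsPGroup 2 R → P ≤ R → R ≤ centralizer ({x} : Set G) → R = P := by
    intro R hR hPR hRx
    refine eq_of_normalizer_inf hR hPR fun r hr hrn => ?_
    have hrc : ∀ p ∈ P, r * p * r⁻¹ ∈ P := fun p hp => (mem_normalizer_iff.1 hrn p).1 hp
    have hrz : r * z * r⁻¹ = z := by
      have hmemK : r * z * r⁻¹ ∈ K := by
        rw [← hab, show r * (a₀ * b₀ * a₀⁻¹ * b₀⁻¹) * r⁻¹ = (r * a₀ * r⁻¹) * (r * b₀ * r⁻¹) * (r * a₀ * r⁻¹)⁻¹ *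
          (r * b₀ * r⁻¹)⁻¹ by group]
        exact hcommK (hPle (hrc _ (hAP ha₀))).1 (hPle (hrc _ (hAP hb₀))).1
      rcases hcenP _ (hrc z (hAP hzA)) (fun p hp => by
        have h1 : r⁻¹ * p * r ∈ P := by simpa using (mem_normalizer_iff.1 (inv_mem hrn) p).1 hp
        have h2 := D.zc (hPle h1).1
        calc r * z * r⁻¹ * p = r * (z * (r⁻¹ * p * r)) * r⁻¹ := by group
          _ = r * ((r⁻¹ * p * r) * z) * r⁻¹ := by rw [h2]
          _ = p * (r * z * r⁻¹) := by group) with h | h | h | h
      · exact absurd (by simpa using h) hz1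
      · exact h
      · exact absurd (h ▸ hmemK) hxK
      · exact absurd ((K.mul_mem_cancel_right hzK).1 (h ▸ hmemK)) hxK
    have h1 := hPmax _ (hR.to_le (sup_le hPR (zpowers_le.2 hr))) le_sup_left
      (sup_le hPle (zpowers_le.2 ⟨mem_centralizer_singleton_iff.2 (mul_inv_eq_iff_eq_mul.1 hrz), hRx hr⟩))
    exact h1 ▸ mem_sup_right (mem_zpowers r)
  -- a Sylow subgroup containing it
  obtain ⟨T, hPET, hTH, hT2, hTmax⟩ := exists_sylow_subgroup (K := H) (A := P ⊔ E)
    (hP2.to_sup_of_normal_right' D.two ((le_inf_iff.1 hPle).1.trans fun h hh => mem_normalizer_fintype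
      fun e he => D.nor h hh e he)) (sup_le (le_inf_iff.1 hPle).1 D.le)
  have hET : E ≤ T := le_sup_right.trans hPET
  obtain ⟨S, hS⟩ := hT2.exists_le_sylow
  have hST : (S : Subgroup G) = T := D.sylow_eq hET hTH hTmax S.2 hS
  -- the transfer
  let χ₀ : H →* ℤˣ := MonoidHom.mk' (fun a => if (a : G) ∈ K then 1 else -1) fun a b => by
    have := hKiff a.2 b.2
    by_cases ha : (a : G) ∈ K <;> by_cases hb : (b : G) ∈ K <;> simp [ha, hb] at this <;> simp [ha, hb, this]
  obtain ⟨g, hgm, hχ, hgP⟩ := exists_extremal_ker hres S (χ₀.comp (Subgroup.inclusion (hST ▸ hTH))) hx2 P hP2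
    (le_inf_iff.1 hPle).2
  have hvK : g⁻¹ * x * g ∈ K := by
    by_contra h
    have hχ' : (if g⁻¹ * x * g ∈ K then (1 : ℤˣ) else -1) = 1 := hχ
    rw [if_neg h] at hχ'
    exact absurd hχ' (by decide)
  -- the centre of the conjugate
  have hnot : ∀ k : G, k⁻¹ * x * k ≠ z := by
    intro k hk
    have hTx : ∀ t ∈ T, k * t * k⁻¹ * x = x * (k * t * k⁻¹) := by
      intro t ht
      have h2 := D.zc (hTH ht)
      rw [← hk] at h2
      calc k * t * k⁻¹ * x = k * (t * (k⁻¹ * x * k)) * k⁻¹ := by group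
        _ = k * ((k⁻¹ * x * k) * t) * k⁻¹ := by rw [h2]
        _ = x * (k * t * k⁻¹) := by group
    obtain ⟨Q, hPQ, hQx, hQ2, hQmax⟩ := exists_sylow_subgroup (K := centralizer ({x} : Set G)) (A := P) hP2
      (le_inf_iff.1 hPle).2
    have hQP : Q = P := hPR Q hQ2 hPQ hQx
    -- the conjugate of `T` is a `2`-subgroup of the centralizer of `x`
    let T' := T.map (MulAut.conj k).toMonoidHom
    have hT'x : T' ≤ centralizer ({x} : Set G) := by
      rintro _ ⟨t, ht, rfl⟩
      exact mem_centralizer_singleton_iff.2 (hTx t ht)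
    obtain ⟨Q', hTQ', hQ'x, hQ'2, hQ'max⟩ := exists_sylow_subgroup (K := centralizer ({x} : Set G)) (A := T')
      (hT2.map _) hT'x
    have hcard : Nat.card Q' = Nat.card Q := by
      have hsyl : ∀ {Q : Subgroup G}, Q ≤ centralizer ({x} : Set G) → IsPGroup 2 Q →
          (∀ R : Subgroup G, IsPGroup 2 R → Q ≤ R → R ≤ centralizer ({x} : Set G) → R = Q) →
          ∃ s : Sylow 2 ↥(centralizer ({x} : Set G)), Nat.card s = Nat.card Q := by
        intro Q hQx hQ hmax
        obtain ⟨s, hs⟩ := (hQ.comap_subtype (K := centralizer ({x} : Set G))).exists_le_sylow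
        refine ⟨s, ?_⟩
        rw [← hmax _ (s.2.map _) (fun q hq => ⟨⟨q, hQx hq⟩, hs hq, rfl⟩) (map_subtype_le _)]
        exact (card_map_of_injective (Subgroup.subtype_injective _)).symm
      obtain ⟨s, hs⟩ := hsyl hQx hQ2 hQmax
      obtain ⟨s', hs'⟩ := hsyl hQ'x hQ'2 hQ'max
      rw [← hs, ← hs']
      exact (Nat.card_congr (Sylow.equiv s' s).toEquiv)
    have h1 : Nat.card T ≤ Nat.card P := by
      rw [← hQP, ← hcard, ← card_map_of_injective (f := (MulAut.conj k).toMonoidHom) (MulAut.conj k).injective]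
      exact card_le_of_le hTQ'
    have hPT : P = T := eq_of_le_of_card_ge (le_sup_left.trans hPET) h1
    rcases D.center_sylow hET (hET hxE) (fun t ht => by
      exact (mem_centralizer_singleton_iff.1 (hPle (hPT ▸ ht)).2).symm) with h | h
    · exact hx1 h
    · exact hxz h
  have hzP : g * z * g⁻¹ ∈ P := by
    have hQx : zpowers (g * z * g⁻¹) ⊔ P ≤ centralizer ({x} : Set G) := by
      refine sup_le (zpowers_le.2 (mem_centralizer_singleton_iff.2 ?_)) (le_inf_iff.1 hPle).2
      have h2 := D.zc (hTH (hST ▸ hgm))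
      calc g * z * g⁻¹ * x = g * (z * (g⁻¹ * x * g)) * g⁻¹ := by group
        _ = g * ((g⁻¹ * x * g) * z) * g⁻¹ := by rw [h2]
        _ = x * (g * z * g⁻¹) := by group
    have hQ2 : IsPGroup 2 ↥(zpowers (g * z * g⁻¹) ⊔ P) := by
      refine (hT2.map (MulAut.conj g).toMonoidHom).to_le (sup_le (zpowers_le.2 ⟨z, hET D.mem, rfl⟩) fun p hp => ?_)
      exact ⟨g⁻¹ * p * g, hST ▸ hgP p hp, by simp [mul_assoc]⟩
    exact hPR _ hQ2 le_sup_right hQx ▸ mem_sup_left (mem_zpowers _)
  rcases hcenP _ hzP (fun p hp => by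
    have h2 := D.zc (hTH (hST ▸ hgP p hp))
    calc g * z * g⁻¹ * p = g * (z * (g⁻¹ * p * g)) * g⁻¹ := by group
      _ = g * ((g⁻¹ * p * g) * z) * g⁻¹ := by rw [h2]
      _ = p * (g * z * g⁻¹) := by group) with h | h | h | h
  · exact absurd (by simpa using h) hz1
  · have hgH : g ∈ H := mem_centralizer_singleton_iff.2 (mul_inv_eq_iff_eq_mul.1 h)
    have := (hconjK (H.inv_mem hgH) hxH).1 (by rwa [inv_inv])
    exact hxK this
  · exact hnot g (by rw [← h]; group)
  · have hfx := (D.comm f hf x hxE).resolve_left hfA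
    refine hnot (f⁻¹ * g) ?_
    calc (f⁻¹ * g)⁻¹ * x * (f⁻¹ * g) = g⁻¹ * (f * x * f⁻¹) * g := by group
      _ = g⁻¹ * (x * z) * g := by rw [hfx, mul_assoc x f z, ← D.zc (D.le hf)]; group
      _ = z := by rw [← h]; group

end Setup

open scoped commutatorElement in
/-- The setup from the hypotheses on the core of the centralizer. -/
theorem setup_of (z : G) (hz : orderOf z = 2) (E : Subgroup G)
    (hE : E = (Cfsg.pCore 2 ↥(centralizer ({z} : Set G))).map (centralizer ({z} : Set G)).subtype)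
    (hext : Cfsg.IsExtraspecial 2 ↥E) (hcent : centralizer (E : Set G) ≤ E) : Setup z E := by
  obtain ⟨⟨hE2, hfr, hco⟩, hcard⟩ := hext
  have hle : E ≤ centralizer ({z} : Set G) := hE ▸ map_subtype_le _
  obtain ⟨w, hw⟩ : ∃ w : ↥(centralizer ({z} : Set G)), (w : G) = z :=
    ⟨⟨z, mem_centralizer_singleton_iff.2 rfl⟩, rfl⟩
  have hwc : w ∈ center ↥(centralizer ({z} : Set G)) := mem_center_iff.2 fun h => Subtype.ext (by
    push_cast; rw [hw]; exact mem_centralizer_singleton_iff.1 h.2)
  have hzE : z ∈ E := by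
    have : (zpowers w).Normal := ⟨fun y hy g => by rw [mem_center_iff.1 (zpowers_le.2 hwc hy) g, mul_inv_cancel_right]; exact hy⟩
    have hwp : IsPGroup 2 (zpowers w) := IsPGroup.of_card (n := 1) (by
      rw [Nat.card_zpowers, ← Subgroup.orderOf_coe, hw, hz, pow_one])
    rw [hE]
    exact ⟨w, CfsgLib.Base.le_pCore hwp (mem_zpowers w), hw⟩
  have hzc : (⟨z, hzE⟩ : E) ∈ center E := mem_center_iff.2 fun e => Subtype.ext (by
    push_cast; exact mem_centralizer_singleton_iff.1 (hle e.2))
  have hcz : zpowers (⟨z, hzE⟩ : E) = center E := eq_of_le_of_card_ge (zpowers_le.2 hzc) (by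
    rw [hcard, Nat.card_zpowers, Subgroup.orderOf_mk, hz])
  have hmem : ∀ e : E, e ∈ center E → (e : G) = 1 ∨ (e : G) = z := by
    intro e he
    rw [← hcz] at he
    obtain ⟨k, rfl⟩ := mem_zpowers_iff.1 he
    rw [SubgroupClass.coe_zpow, ← zpow_mod_orderOf, hz]
    rcases Int.emod_two_eq_zero_or_one k with h | h <;> simp [h]
  refine ⟨hz, hle, ?_, hE2, hzE, fun e he hc => hmem ⟨e, he⟩ (mem_center_iff.2 fun f =>
    Subtype.ext (hc f f.2).symm), fun e he f hf => ?_, fun e he => ?_, hcent⟩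
  · intro h hh e he
    rw [hE] at he ⊢
    obtain ⟨y, hy, rfl⟩ := he
    exact ⟨⟨h, hh⟩ * y * ⟨h, hh⟩⁻¹, Normal.conj_mem inferInstance y hy _, by simp⟩
  · have hc : ⁅(⟨e, he⟩ : E), (⟨f, hf⟩ : E)⁆ ∈ center E := by
      rw [← hco, _root_.commutator_def]
      exact commutator_mem_commutator (mem_top _) (mem_top _)
    have e0 : e * f = (⁅(⟨e, he⟩ : E), (⟨f, hf⟩ : E)⁆ : E) * (f * e) := by
      simp [commutatorElement_def, mul_assoc]
    rcases hmem _ hc with h | h <;> rw [h] at e0
    · left; rwa [one_mul] at e0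
    · right
      rw [e0]
      exact (mem_centralizer_singleton_iff.1 (hle (E.mul_mem hf he))).symm
  · have h := CfsgLib.PGroups.pow_mem_frattini hE2 (⟨e, he⟩ : E)
    rw [hfr] at h
    have := hmem _ h
    rwa [SubgroupClass.coe_pow, pow_two] at this

end CfsgLib.Involutions.ExtraTransfer
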