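import Mathlib
import Cfsg.Agent.Lib.GLTwo.Classes
import Cfsg.Agent.Lib.KnownB.SL2Sizes

/-!
The maximal tori of `SL₂` over a finite field of odd characteristic and their normalisers.
-/

set_option autoImplicit false
set_option linter.unusedSectionVars false

namespace CfsgLib.Involutions.SLTwoTori

open Matrix CfsgLib.GLTwo CfsgLib.KnownB.SL2Sizes

variable {F : Type*} [Field F] [Fintype F]

local notation "SL2" => Matrix.SpecialLinearGroup (Fin 2) F
local notation "M2" => Matrix (Fin 2) (Fin 2) F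

theorem two_ne_zero_of_odd (hodd : Odd (Fintype.card F)) : (2 : F) ≠ 0 :=
  Ring.two_ne_zero (fun h => by
    have := FiniteField.even_card_iff_char_two.1 h
    rw [Nat.odd_iff] at hodd
    omega)

theorem ringChar_ne_two (hodd : Odd (Fintype.card F)) : ringChar F ≠ 2 := fun h => by
  have := FiniteField.even_card_iff_char_two.1 h
  rw [Nat.odd_iff] at hodd
  omega

theorem not_scalar_of_trace_sq {g : SL2} (ht : (g : M2).trace ^ 2 ≠ 4) : ¬ IsScalar2 (g : M2) := by
  intro h
  apply ht
  rw [Matrix.trace_fin_two, ← h.2.2]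
  rcases scalar_sl h with e | e <;> rw [e] <;> ring

theorem scalar_of_sq_eq_one (hodd : Odd (Fintype.card F)) {g : SL2} (h : g * g = 1) :
    IsScalar2 (g : M2) := by
  have h1 : (g : M2) * (g : M2) = 1 := congrArg Subtype.val h
  rw [sq_eq, g.2, one_smul, sub_eq_iff_eq_add] at h1
  have ht : (g : M2).trace ≠ 0 := fun h0 => by
    rw [h0, zero_smul] at h1
    have := congrFun (congrFun h1 0) 0
    simp at this
    exact two_ne_zero_of_odd hodd (by linear_combination -this)
  have e01 := congrFun (congrFun h1 0) 1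
  have e10 := congrFun (congrFun h1 1) 0
  have e00 := congrFun (congrFun h1 0) 0
  have e11 := congrFun (congrFun h1 1) 1
  simp [ht] at e01 e10 e00 e11
  exact ⟨e01, e10, mul_left_cancel₀ ht (by rw [e00, e11])⟩

theorem sq_eq_one_iff (hodd : Odd (Fintype.card F)) (g : SL2) : g * g = 1 ↔ g = 1 ∨ g = -1 := by
  constructor
  · intro h
    have hs := scalar_of_sq_eq_one hodd h
    rcases scalar_sl hs with e | e
    · exact Or.inl (Subtype.ext (by rw [(isScalar2_iff _).1 hs, e, one_smul]; rfl))
    · exact Or.inr (Subtype.ext (by rw [(isScalar2_iff _).1 hs, e]; simp))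
  · rintro (rfl | rfl) <;> simp

theorem one_ne_neg_one (hodd : Odd (Fintype.card F)) : (1 : SL2) ≠ -1 := fun h => by
  have := congrArg (fun x : SL2 => (x : M2) 0 0) h
  simp at this
  exact two_ne_zero_of_odd hodd (by linear_combination this)

theorem scalar_eq {g : SL2} (h : IsScalar2 (g : M2)) : g = 1 ∨ g = -1 := by
  rcases scalar_sl h with e | e
  · exact Or.inl (Subtype.ext (by rw [(isScalar2_iff _).1 h, e, one_smul]; rfl))
  · exact Or.inr (Subtype.ext (by rw [(isScalar2_iff _).1 h, e]; simp))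

theorem coe_inv_eq (g : SL2) : ((g⁻¹ : SL2) : M2) = (g : M2).trace • (1 : M2) + (-1 : F) • (g : M2) := by
  rw [Matrix.SpecialLinearGroup.coe_inv, Matrix.adjugate_fin_two, Matrix.trace_fin_two]
  ext i j
  fin_cases i <;> fin_cases j <;> simp

/-- Coordinates of a centraliser element. -/
theorem exists_coord {g z : SL2} (hg : ¬ IsScalar2 (g : M2))
    (hz : z ∈ Subgroup.centralizer ({g} : Set SL2)) :
    ∃ a b : F, (z : M2) = a • (1 : M2) + b • (g : M2) ∧ a ^ 2 + a * b * (g : M2).trace + b ^ 2 = 1 := by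
  rw [Subgroup.mem_centralizer_singleton_iff] at hz
  obtain ⟨a, b, hab⟩ := eq_add_smul_of_comm hg (congrArg Subtype.val hz)
  refine ⟨a, b, hab, ?_⟩
  have := det_add_smul (g : M2) a b
  rw [← hab, z.2, g.2, mul_one] at this
  exact this.symm

theorem centralizer_comm {g z z' : SL2} (hg : ¬ IsScalar2 (g : M2))
    (hz : z ∈ Subgroup.centralizer ({g} : Set SL2)) (hz' : z' ∈ Subgroup.centralizer ({g} : Set SL2)) :
    z * z' = z' * z := by
  obtain ⟨a, b, e, -⟩ := exists_coord hg hz
  obtain ⟨a', b', e', -⟩ := exists_coord hg hz'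
  apply Subtype.ext
  rw [Matrix.SpecialLinearGroup.coe_mul, Matrix.SpecialLinearGroup.coe_mul, e, e']
  simp only [add_mul, mul_add, smul_mul_assoc, mul_smul_comm, one_mul, mul_one, smul_smul, smul_add]
  rw [mul_comm b b', mul_comm a a', mul_comm a b', mul_comm b a']
  abel

theorem centralizer_eq_of_mem {g z : SL2} (hg : ¬ IsScalar2 (g : M2))
    (hz : z ∈ Subgroup.centralizer ({g} : Set SL2)) (hzn : ¬ IsScalar2 (z : M2)) :
    Subgroup.centralizer ({z} : Set SL2) = Subgroup.centralizer ({g} : Set SL2) := by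
  have hgz : g ∈ Subgroup.centralizer ({z} : Set SL2) := by
    rw [Subgroup.mem_centralizer_singleton_iff] at hz ⊢
    exact hz.symm
  ext x
  constructor
  · intro hx
    rw [Subgroup.mem_centralizer_singleton_iff]
    exact centralizer_comm hzn hx hgz
  · intro hx
    rw [Subgroup.mem_centralizer_singleton_iff]
    exact centralizer_comm hg hx hz

theorem card_pm (hodd : Odd (Fintype.card F)) :
    Nat.card {e : F // e ^ 2 = 1} = 2 := by
  have h2 := two_ne_zero_of_odd hodd
  rw [← Nat.card_congr (Equiv.subtypeEquivRight (p := fun e : F => e ∈ ({1, -1} : Set F)) (q := fun e : F => e ^ 2 = 1)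
    (fun e => by simp only [Set.mem_insert_iff, Set.mem_singleton_iff, _root_.sq_eq_one_iff]))]
  rw [Nat.card_coe_set_eq, Set.ncard_pair]
  intro h
  exact h2 (by linear_combination h)

open scoped _root_.Classical in
theorem card_centralizer {g : SL2} (hg : ¬ IsScalar2 (g : M2)) (hodd : Odd (Fintype.card F)) :
    Nat.card (Subgroup.centralizer ({g} : Set SL2)) =
      if (g : M2).trace ^ 2 = 4 then 2 * Fintype.card F
      else if Split (g : M2).trace then Fintype.card F - 1 else Fintype.card F + 1 := by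
  classical
  rw [sl_card_centralizer hg]
  change Nat.card (NormOne (g : M2).trace) = _
  have h2 := two_ne_zero_of_odd hodd
  split_ifs with h4 hs
  · set t := (g : M2).trace
    have hs1 : (t / 2) * (t / 2) = 1 := by field_simp; linear_combination h4
    rw [card_double hs1 (by field_simp), card_pm hodd, Nat.card_eq_fintype_card, mul_comm]
  · rw [card_split hs h4, Nat.card_units, Nat.card_eq_fintype_card]
  · rw [card_nonsplit hs, Nat.card_eq_fintype_card]

theorem card_centralizer_nonsplit {g : SL2} (hodd : Odd (Fintype.card F)) (hs : ¬ Split (g : M2).trace) :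
    Nat.card (Subgroup.centralizer ({g} : Set SL2)) = Fintype.card F + 1 := by
  have h2 := two_ne_zero_of_odd hodd
  have h4 : (g : M2).trace ^ 2 ≠ 4 := fun h => hs ⟨(g : M2).trace / 2, by field_simp; linear_combination -h⟩
  rw [card_centralizer (not_scalar_of_trace_sq h4) hodd, if_neg h4, if_neg hs]

theorem trace_sq_ne_four (hodd : Odd (Fintype.card F)) {g : SL2} (hs : ¬ Split (g : M2).trace) :
    (g : M2).trace ^ 2 ≠ 4 := fun h => hs ⟨(g : M2).trace / 2, by
  have h2 := two_ne_zero_of_odd hodd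
  field_simp; linear_combination -h⟩

theorem exists_nonsplit_trace : ∃ t : F, ¬ Split t := by
  classical
  by_contra! h
  choose z hz using h
  have hz0 : ∀ t, z t ≠ 0 := fun t h0 => by have := hz t; rw [h0] at this; simp at this
  have hinj : Function.Injective fun t => Units.mk0 (z t) (hz0 t) := fun s t hst => by
    have e : z s = z t := congrArg Units.val hst
    have := hz s
    rw [e] at this
    exact mul_right_cancel₀ (hz0 t) (by linear_combination hz t - this)
  have := Fintype.card_le_of_injective _ hinj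
  rw [Fintype.card_units] at this
  have := Fintype.card_pos (α := F)
  omega

theorem exists_trace (t : F) : ∃ g : SL2, (g : M2).trace = t ∧ ¬ IsScalar2 (g : M2) :=
  ⟨mkSL (companion t 1) (det_companion t 1), trace_companion t 1, companion_not_scalar t 1⟩

theorem isCyclic_torus {g : SL2} (ht : (g : M2).trace ^ 2 ≠ 4) :
    IsCyclic (Subgroup.centralizer ({g} : Set SL2)) := by
  classical
  have hg := not_scalar_of_trace_sq ht
  set t := (g : M2).trace with htdef
  obtain ⟨ζ, hζ⟩ := IsAlgClosed.exists_root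
    (Polynomial.X ^ 2 - Polynomial.C (algebraMap F (AlgebraicClosure F) t) * Polynomial.X + 1)
    (by
      have : (Polynomial.X ^ 2 - Polynomial.C (algebraMap F (AlgebraicClosure F) t) * Polynomial.X + 1 :
          Polynomial (AlgebraicClosure F)).degree = 2 := by compute_degree!
      rw [this]; norm_num)
  simp [Polynomial.IsRoot] at hζ
  set φ := algebraMap F (AlgebraicClosure F) with hφ
  choose a b hab hn using fun z : Subgroup.centralizer ({g} : Set SL2) => exists_coord hg z.2
  have hco : ∀ (z : Subgroup.centralizer ({g} : Set SL2)) (a' b' : F),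
      ((z : SL2) : M2) = a' • (1 : M2) + b' • (g : M2) → a z = a' ∧ b z = b' := fun z a' b' h =>
    add_smul_injective hg ((hab z).symm.trans h)
  let f : Subgroup.centralizer ({g} : Set SL2) →* AlgebraicClosure F :=
    { toFun := fun z => φ (a z) + φ (b z) * ζ
      map_one' := by
        obtain ⟨h1, h2⟩ := hco 1 1 0 (by simp)
        simp [h1, h2]
      map_mul' := fun z w => by
        obtain ⟨h1, h2⟩ := hco (z * w) (a z * a w - b z * b w) (a z * b w + b z * a w + b z * b w * t) (by
          rw [Subgroup.coe_mul, Matrix.SpecialLinearGroup.coe_mul, hab z, hab w]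
          simp only [add_mul, mul_add, smul_mul_assoc, mul_smul_comm, one_mul, mul_one, smul_smul, smul_add]
          rw [sq_eq (g : M2), g.2, ← htdef]
          module)
        simp only [h1, h2, map_sub, map_add, map_mul]
        linear_combination (-(φ (b z) * φ (b w))) * hζ }
  refine isCyclic_of_subgroup_isDomain f ?_
  intro z w hzw
  change φ (a z) + φ (b z) * ζ = φ (a w) + φ (b w) * ζ at hzw
  have hnorm : ∀ z, (φ (a z) + φ (b z) * ζ) * (φ (a z) + φ (b z) * (φ t - ζ)) = 1 := fun z => by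
    have h1 := congrArg φ (hn z)
    rw [← htdef] at h1
    simp only [map_add, map_mul, map_pow, map_one] at h1
    linear_combination h1 - φ (b z) ^ 2 * hζ
  have hne : φ (a w) + φ (b w) * ζ ≠ 0 := fun h => by
    have := hnorm w
    rw [h, zero_mul] at this
    exact zero_ne_one this
  have h' : φ (a z) + φ (b z) * (φ t - ζ) = φ (a w) + φ (b w) * (φ t - ζ) := by
    refine mul_left_cancel₀ hne ?_
    rw [hnorm w]
    rw [← hzw, hnorm z]
  have hd : φ t - ζ - ζ ≠ 0 := fun h => ht (φ.injective (by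
    rw [map_pow, map_ofNat]
    linear_combination (φ t - 2 * ζ) * h - 4 * hζ))
  have hb : φ (b z) = φ (b w) := mul_right_cancel₀ hd (by linear_combination h' - hzw)
  have ha : φ (a z) = φ (a w) := by linear_combination hzw - ζ * hb
  exact Subtype.ext (Subtype.ext (by rw [hab z, hab w, φ.injective ha, φ.injective hb]))

theorem eq_or_eq_inv_of_trace (hodd : Odd (Fintype.card F)) {g z : SL2} (ht : (g : M2).trace ^ 2 ≠ 4)
    (hz : z ∈ Subgroup.centralizer ({g} : Set SL2)) (htr : (z : M2).trace = (g : M2).trace) :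
    z = g ∨ z = g⁻¹ := by
  obtain ⟨a, b, e, hn⟩ := exists_coord (not_scalar_of_trace_sq ht) hz
  have h2 := two_ne_zero_of_odd hodd
  set t := (g : M2).trace with htdef
  have htr' : 2 * a + b * t = t := by
    have h := congrArg Matrix.trace e
    rw [htr, Matrix.trace_add, Matrix.trace_smul, Matrix.trace_smul, Matrix.trace_one, ← htdef,
      Fintype.card_fin, smul_eq_mul, smul_eq_mul, Nat.cast_ofNat] at h
    linear_combination -h
  have hb : (b - 1) * (b + 1) = 0 := by
    have : (b - 1) * (b + 1) * (4 - t ^ 2) = 0 := by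
      linear_combination 4 * hn - (2 * a + b * t + t) * htr'
    exact (mul_eq_zero.1 this).resolve_right (sub_ne_zero.2 (Ne.symm ht))
  rcases mul_eq_zero.1 hb with hb | hb
  · left
    have hb' : b = 1 := sub_eq_zero.1 hb
    have ha : a = 0 := mul_left_cancel₀ h2 (by rw [mul_zero]; linear_combination htr' - t * hb)
    exact Subtype.ext (by rw [e, ha, hb', zero_smul, one_smul, zero_add])
  · right
    have hb' : b = -1 := eq_neg_of_add_eq_zero_left hb
    have ha : a = t := mul_left_cancel₀ h2 (by linear_combination htr' - t * hb)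
    exact Subtype.ext (by rw [e, ha, hb', coe_inv_eq])

/-- A normalising element centralises or inverts. -/
theorem conj_cases (hodd : Odd (Fintype.card F)) {g x : SL2} (ht : (g : M2).trace ^ 2 ≠ 4)
    (hx : x ∈ Subgroup.normalizer ((Subgroup.centralizer ({g} : Set SL2)) : Set SL2)) :
    x * g * x⁻¹ = g ∨ x * g * x⁻¹ = g⁻¹ :=
  eq_or_eq_inv_of_trace hodd ht
    ((Subgroup.mem_normalizer_iff.1 hx g).1 (Subgroup.mem_centralizer_singleton_iff.2 rfl))
    (trace_eq_of_isConj_sl (isConj_iff.2 ⟨x, rfl⟩)).symm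

theorem mem_centralizer_iff_conj {g x : SL2} :
    x ∈ Subgroup.centralizer ({g} : Set SL2) ↔ x * g * x⁻¹ = g := by
  rw [Subgroup.mem_centralizer_singleton_iff, mul_inv_eq_iff_eq_mul]

/-- An element inverting `g` inverts its whole centraliser. -/
theorem conj_eq_inv {g x : SL2} (hg : ¬ IsScalar2 (g : M2)) (hx : x * g * x⁻¹ = g⁻¹) {z : SL2}
    (hz : z ∈ Subgroup.centralizer ({g} : Set SL2)) : x * z * x⁻¹ = z⁻¹ := by
  obtain ⟨a, b, e, -⟩ := exists_coord hg hz
  have h1 : (x : M2) * (g : M2) = ((g⁻¹ : SL2) : M2) * (x : M2) := by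
    rw [← Matrix.SpecialLinearGroup.coe_mul, ← Matrix.SpecialLinearGroup.coe_mul]
    exact congrArg Subtype.val (mul_inv_eq_iff_eq_mul.1 hx)
  refine mul_inv_eq_iff_eq_mul.2 (Subtype.ext ?_)
  rw [Matrix.SpecialLinearGroup.coe_mul, Matrix.SpecialLinearGroup.coe_mul, e, coe_inv_eq z, e,
    Matrix.trace_add, Matrix.trace_smul, Matrix.trace_smul, Matrix.trace_one]
  rw [mul_add, mul_smul_comm, mul_smul_comm, h1, coe_inv_eq g]
  simp only [add_mul, smul_mul_assoc, one_mul, mul_one, smul_add, smul_smul, Fintype.card_fin,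
    Nat.cast_ofNat, smul_eq_mul]
  module

theorem mem_normalizer_iff (hodd : Odd (Fintype.card F)) {g x : SL2} (ht : (g : M2).trace ^ 2 ≠ 4) :
    x ∈ Subgroup.normalizer ((Subgroup.centralizer ({g} : Set SL2)) : Set SL2) ↔
      x * g * x⁻¹ = g ∨ x * g * x⁻¹ = g⁻¹ := by
  refine ⟨conj_cases hodd ht, ?_⟩
  rintro (h | h)
  · exact Subgroup.le_normalizer (mem_centralizer_iff_conj.2 h)
  · have hinv : x⁻¹ * g * x⁻¹⁻¹ = g⁻¹ := by
      have h' : g = x⁻¹ * g⁻¹ * x := by rw [← h]; group
      calc x⁻¹ * g * x⁻¹⁻¹ = (x⁻¹ * g⁻¹ * x)⁻¹ := by group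
        _ = g⁻¹ := by rw [← h']
    rw [Subgroup.mem_normalizer_iff]
    intro z
    refine ⟨fun hz => by rw [conj_eq_inv (not_scalar_of_trace_sq ht) h hz]; exact inv_mem hz, fun hz => ?_⟩
    have := inv_mem hz
    rw [← conj_eq_inv (not_scalar_of_trace_sq ht) hinv hz] at this
    simpa [mul_assoc] using this

theorem exists_inverting (hodd : Odd (Fintype.card F)) {g : SL2} (ht : (g : M2).trace ^ 2 ≠ 4) :
    ∃ w : SL2, w * g * w⁻¹ = g⁻¹ := by
  have hg := not_scalar_of_trace_sq ht
  refine isConj_iff.1 (sl_isConj_of_norm_surj hg ?_ ?_ (norm_surj_odd (ringChar_ne_two hodd) ht))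
  · refine not_scalar_of_trace_sq ?_
    rwa [coe_inv_eq, Matrix.trace_add, Matrix.trace_smul, Matrix.trace_smul, Matrix.trace_one,
      Fintype.card_fin, Nat.cast_ofNat, smul_eq_mul, smul_eq_mul,
      show (g : M2).trace * 2 + -1 * (g : M2).trace = (g : M2).trace by ring]
  · rw [coe_inv_eq, Matrix.trace_add, Matrix.trace_smul, Matrix.trace_smul, Matrix.trace_one,
      Fintype.card_fin, Nat.cast_ofNat, smul_eq_mul, smul_eq_mul]
    ring

theorem inverting_not_mem (hodd : Odd (Fintype.card F)) {g w : SL2} (ht : (g : M2).trace ^ 2 ≠ 4)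
    (hw : w * g * w⁻¹ = g⁻¹) : w ∉ Subgroup.centralizer ({g} : Set SL2) := fun h => by
  rw [mem_centralizer_iff_conj] at h
  rw [h] at hw
  exact not_scalar_of_trace_sq ht (scalar_of_sq_eq_one hodd (by nth_rewrite 2 [hw]; rw [mul_inv_cancel]))

/-- An element inverting `g` squares to `-1`. -/
theorem inverting_sq (hodd : Odd (Fintype.card F)) {g w : SL2} (ht : (g : M2).trace ^ 2 ≠ 4)
    (hw : w * g * w⁻¹ = g⁻¹) : (w : M2).trace = 0 ∧ w * w = -1 := by
  have h0 : (w : M2).trace = 0 := by
    by_contra hne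
    apply inverting_not_mem hodd ht hw
    have h1 : (w * w) * g * (w * w)⁻¹ = g := by
      calc (w * w) * g * (w * w)⁻¹ = w * (w * g * w⁻¹) * w⁻¹ := by group
        _ = w * g⁻¹ * w⁻¹ := by rw [hw]
        _ = (w * g * w⁻¹)⁻¹ := by group
        _ = g := by rw [hw, inv_inv]
    rw [mul_inv_eq_iff_eq_mul] at h1
    have h2 : ((w : M2) * (w : M2)) * (g : M2) = (g : M2) * ((w : M2) * (w : M2)) := congrArg Subtype.val h1
    rw [sq_eq, w.2, one_smul, sub_mul, mul_sub, one_mul, mul_one, smul_mul_assoc, mul_smul_comm,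
      sub_left_inj] at h2
    rw [Subgroup.mem_centralizer_singleton_iff]
    exact Subtype.ext (smul_right_injective _ hne h2)
  refine ⟨h0, Subtype.ext ?_⟩
  rw [Matrix.SpecialLinearGroup.coe_mul, sq_eq, w.2, h0]
  simp

theorem torus_normalizer (hodd : Odd (Fintype.card F)) {g : SL2} (ht : (g : M2).trace ^ 2 ≠ 4) :
    Nat.card (Subgroup.normalizer ((Subgroup.centralizer ({g} : Set SL2)) : Set SL2)) =
        2 * Nat.card (Subgroup.centralizer ({g} : Set SL2)) ∧
      2 * Nat.card (ConjClasses (Subgroup.normalizer ((Subgroup.centralizer ({g} : Set SL2)) : Set SL2))) =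
        Nat.card (Subgroup.centralizer ({g} : Set SL2)) + 6 := by
  classical
  set T := Subgroup.centralizer ({g} : Set SL2)
  set N := Subgroup.normalizer (T : Set SL2)
  have hg := not_scalar_of_trace_sq ht
  obtain ⟨w, hw⟩ := exists_inverting hodd ht
  have hwN : w ∈ N := (mem_normalizer_iff hodd ht).2 (Or.inr hw)
  have hwT : w ∉ T := inverting_not_mem hodd ht hw
  have hwz : ∀ z ∈ T, w * z = z⁻¹ * w := fun z hz => mul_inv_eq_iff_eq_mul.1 (conj_eq_inv hg hw hz)
  let f : T ⊕ T → N := Sum.elim (fun z => ⟨z, Subgroup.le_normalizer z.2⟩)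
    (fun z => ⟨w * z, N.mul_mem hwN (Subgroup.le_normalizer z.2)⟩)
  have hf : Function.Bijective f := by
    constructor
    · rintro (z | z) (z' | z') h <;> have h' := congrArg Subtype.val h <;> simp [f] at h'
      · exact congrArg Sum.inl h'
      · exact absurd (by have := T.mul_mem z.2 (T.inv_mem z'.2); rwa [h', mul_inv_cancel_right] at this) hwT
      · exact absurd (by have := T.mul_mem z'.2 (T.inv_mem z.2); rwa [← h', mul_inv_cancel_right] at this) hwT
      · exact congrArg Sum.inr h'
    · rintro ⟨x, hx⟩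
      rcases conj_cases hodd ht hx with h | h
      · exact ⟨Sum.inl ⟨x, mem_centralizer_iff_conj.2 h⟩, rfl⟩
      · refine ⟨Sum.inr ⟨w⁻¹ * x, mem_centralizer_iff_conj.2 ?_⟩, Subtype.ext (mul_inv_cancel_left w x)⟩
        calc w⁻¹ * x * g * (w⁻¹ * x)⁻¹ = w⁻¹ * (x * g * x⁻¹) * w := by group
          _ = w⁻¹ * (w * g * w⁻¹) * w := by rw [h, hw]
          _ = g := by group
  have hN : Nat.card N = 2 * Nat.card T := by rw [← Nat.card_eq_of_bijective f hf, Nat.card_sum, two_mul]
  refine ⟨hN, ?_⟩
  have hpm : ∀ z : T, (z : SL2) * z = 1 ↔ z ∈ ({1, ⟨-1, Subgroup.mem_centralizer_singleton_iff.2 (by simp)⟩} : Finset T) := fun z => by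
    rw [sq_eq_one_iff hodd, Finset.mem_insert, Finset.mem_singleton]
    simp only [Subtype.ext_iff, OneMemClass.coe_one]
  have hTT : ∀ z z' : T, Commute (f (Sum.inl z)) (f (Sum.inl z')) := fun z z' =>
    Subtype.ext (centralizer_comm hg z.2 z'.2)
  have hTW : ∀ z z' : T, Commute (f (Sum.inl z)) (f (Sum.inr z')) ↔ (z : SL2) * z = 1 := fun z z' => by
    have e : (z : SL2) * (w * z') = w * z' * z ↔ (z : SL2) * z = 1 := by
      have h1 : w * (z' : SL2) * z = (z : SL2)⁻¹ * (w * z') := by
        rw [mul_assoc w, centralizer_comm hg z'.2 z.2, ← mul_assoc, hwz z z.2, mul_assoc]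
      rw [h1, mul_left_inj, eq_inv_iff_mul_eq_one]
    rw [← e]
    exact ⟨fun h => congrArg Subtype.val h.eq, fun h => Subtype.ext h⟩
  have hWT : ∀ z z' : T, Commute (f (Sum.inr z)) (f (Sum.inl z')) ↔ (z' : SL2) * z' = 1 := fun z z' =>
    ⟨fun h => (hTW z' z).1 h.symm, fun h => ((hTW z' z).2 h).symm⟩
  have hWW : ∀ z z' : T, Commute (f (Sum.inr z)) (f (Sum.inr z')) ↔ ((z * z'⁻¹ : T) : SL2) * (z * z'⁻¹ : T) = 1 := fun z z' => by
    have hexp : ∀ a b : T, w * (a : SL2) * (w * b) = (a : SL2)⁻¹ * b * (w * w) := fun a b => by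
      calc w * (a : SL2) * (w * b) = (a : SL2)⁻¹ * (w * (w * b)) := by rw [hwz a a.2, mul_assoc]
        _ = (a : SL2)⁻¹ * (w * ((b : SL2)⁻¹ * w)) := by rw [hwz b b.2]
        _ = (a : SL2)⁻¹ * ((b : SL2) * w * w) := by
            rw [← mul_assoc w, hwz _ (T.inv_mem b.2), inv_inv]
        _ = _ := by simp only [mul_assoc]
    have e : w * (z : SL2) * (w * z') = w * z' * (w * z) ↔ ((z * z'⁻¹ : T) : SL2) * (z * z'⁻¹ : T) = 1 := by
      rw [hexp, hexp, mul_left_inj, Subgroup.coe_mul, Subgroup.coe_inv, eq_comm,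
        centralizer_comm hg (T.inv_mem z'.2) z.2, ← mul_inv_eq_one]
      rw [_root_.mul_inv_rev, inv_inv, centralizer_comm hg (T.inv_mem z'.2) z.2]
    rw [← e]
    exact ⟨fun h => congrArg Subtype.val h.eq, fun h => Subtype.ext h⟩
  let ψ := Equiv.ofBijective f hf
  have h2 : ({1, ⟨-1, Subgroup.mem_centralizer_singleton_iff.2 (by simp)⟩} : Finset T).card = 2 :=
    Finset.card_pair (fun h => one_ne_neg_one hodd (congrArg Subtype.val h))
  have hcnt : Nat.card {p : N × N // Commute p.1 p.2} = Nat.card T * Nat.card T + 6 * Nat.card T := by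
    rw [← Nat.card_congr (Equiv.subtypeEquiv (Equiv.prodCongr ψ ψ) (p := fun p => Commute (f p.1) (f p.2)) (fun p => Iff.rfl))]
    rw [Nat.card_eq_fintype_card, Fintype.card_subtype, Finset.card_filter, ← Finset.univ_product_univ, Finset.sum_product, Fintype.sum_sum_type]
    simp only [Fintype.sum_sum_type, hTT, hTW, hWT, hWW, hpm, if_true]
    rw [Finset.sum_add_distrib, Finset.sum_add_distrib, Nat.card_eq_fintype_card]
    set U := ({1, ⟨-1, Subgroup.mem_centralizer_singleton_iff.2 (by simp)⟩} : Finset T)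
    have e1 : ∀ v : T, ∑ u : T, (if u ∈ U then 1 else 0) = 2 := fun _ => by
      simp only [Finset.sum_boole, Nat.cast_id, Finset.filter_univ_mem, h2]
    have e2 : ∀ u : T, ∑ v : T, (if u * v⁻¹ ∈ U then 1 else 0) = 2 := fun u => by
      rw [← Equiv.sum_comp ((Equiv.mulLeft u⁻¹).trans (Equiv.inv T)) _]
      simp only [Equiv.trans_apply, Equiv.inv_apply, Equiv.coe_mulLeft, inv_inv, mul_inv_cancel_left]
      exact e1 u
    rw [Finset.sum_congr rfl (fun u _ => e2 u), Finset.sum_comm (f := fun (u : T) (_ : T) => if u ∈ U then 1 else 0),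
      Finset.sum_congr rfl (fun v _ => e1 v)]
    simp only [Finset.sum_const, Finset.card_univ, smul_eq_mul, mul_one]
    ring
  have hkey := card_comm_eq_card_conjClasses_mul_card N
  rw [hcnt, hN] at hkey
  apply Nat.eq_of_mul_eq_mul_right (Nat.card_pos : 0 < Nat.card T)
  linarith [hkey]

theorem exists_mem_trace (hodd : Odd (Fintype.card F)) {g : SL2} {s : F} (ht : ¬ Split (g : M2).trace)
    (hs : ¬ Split s) :
    ∃ z ∈ Subgroup.centralizer ({g} : Set SL2), (z : M2).trace = s := by
  classical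
  have h2 := two_ne_zero_of_odd hodd
  have hns : ∀ u : F, ¬ Split u → ¬ IsSquare (u ^ 2 - 4) := by
    rintro u hu ⟨r, hr⟩
    exact hu ⟨(u + r) / 2, by field_simp; linear_combination -hr⟩
  set t := (g : M2).trace with htdef
  have hd := hns t ht
  have hd0 : t ^ 2 - 4 ≠ 0 := fun h => hd (by rw [h]; exact IsSquare.zero)
  have hs0 : s ^ 2 - 4 ≠ 0 := fun h => hns s hs (by rw [h]; exact IsSquare.zero)
  obtain ⟨b, hb⟩ : IsSquare ((s ^ 2 - 4) / (t ^ 2 - 4)) := by
    rw [← quadraticChar_one_iff_isSquare (div_ne_zero hs0 hd0)]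
    have e1 := (quadraticChar_neg_one_iff_not_isSquare).2 (hns s hs)
    have e2 := (quadraticChar_neg_one_iff_not_isSquare).2 hd
    have e3 : quadraticChar F ((s ^ 2 - 4) / (t ^ 2 - 4)) * quadraticChar F (t ^ 2 - 4) = quadraticChar F (s ^ 2 - 4) := by
      rw [← map_mul, div_mul_cancel₀ _ hd0]
    rw [e1, e2] at e3
    linarith [e3]
  rw [div_eq_iff hd0] at hb
  set a := (s - b * t) / 2 with ha
  have h2a : 2 * a = s - b * t := by rw [ha]; field_simp
  have hn : a ^ 2 + a * b * t + b ^ 2 = 1 := by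
    refine mul_left_cancel₀ (mul_ne_zero h2 h2) ?_
    linear_combination hb + (2 * a + b * t + s) * h2a
  refine ⟨mkSL (a • 1 + b • (g : M2)) (by rw [det_add_smul, g.2, mul_one, ← htdef]; exact hn), ?_, ?_⟩
  · rw [Subgroup.mem_centralizer_singleton_iff]
    exact Subtype.ext (add_smul_comm _ _ _)
  · rw [coe_mkSL, Matrix.trace_add, Matrix.trace_smul, Matrix.trace_smul, Matrix.trace_one, ← htdef]
    simp
    linear_combination h2a

end CfsgLib.Involutions.SLTwoTori
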