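import Mathlib
import Cfsg.Agent.Lib.Involutions.SLTwoTori

/-!
Consequences of the torus theory of `SL₂`: quarter subgroups and Sylow two-subgroups.
-/

set_option autoImplicit false
set_option linter.unusedSectionVars false

namespace CfsgLib.Involutions.SLTwoTori

open Matrix CfsgLib.GLTwo CfsgLib.KnownB.SL2Sizes

variable {F : Type*} [Field F] [Fintype F]

local notation "SL2" => Matrix.SpecialLinearGroup (Fin 2) F
local notation "M2" => Matrix (Fin 2) (Fin 2) F

theorem nonsplit_of_no_eigenvector {g : SL2}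
    (h : ∀ (c : F) (v : Fin 2 → F), v ≠ 0 → (g : M2).mulVec v ≠ c • v) :
    ¬ Split (g : M2).trace := by
  rintro ⟨z, hz⟩
  have hd : ((g : M2) - z • (1 : M2)).det = 0 := by
    have hg := g.2
    rw [Matrix.det_fin_two] at hg
    rw [Matrix.trace_fin_two] at hz
    rw [Matrix.det_fin_two]
    simp
    linear_combination hz + hg
  obtain ⟨v, hv, hv0⟩ := Matrix.exists_mulVec_eq_zero_iff.2 hd
  refine h z v hv (sub_eq_zero.1 ?_)
  rw [Matrix.sub_mulVec, Matrix.smul_mulVec, Matrix.one_mulVec] at hv0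
  exact hv0

theorem trace_sq_ne_four_of_zero (hodd : Odd (Fintype.card F)) {g : SL2} (h0 : (g : M2).trace = 0) :
    (g : M2).trace ^ 2 ≠ 4 := by
  rw [h0]
  intro h
  exact two_ne_zero_of_odd hodd (mul_self_eq_zero.1 (by linear_combination -h))

theorem sq_of_trace_zero {g : SL2} (h0 : (g : M2).trace = 0) : g * g = -1 := by
  apply Subtype.ext
  rw [Matrix.SpecialLinearGroup.coe_mul, sq_eq, g.2, h0]
  simp

theorem inv_of_trace_zero {g : SL2} (h0 : (g : M2).trace = 0) : g⁻¹ = -g := by
  apply Subtype.ext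
  rw [coe_inv_eq, h0]
  simp

theorem orderOf_trace_zero (hodd : Odd (Fintype.card F)) {g : SL2} (h0 : (g : M2).trace = 0) :
    orderOf g = 2 ^ (1 + 1) := by
  have hg := not_scalar_of_trace_sq (trace_sq_ne_four_of_zero hodd h0)
  refine orderOf_eq_prime_pow ?_ ?_
  · rw [pow_one, pow_two]
    exact fun h => hg (scalar_of_sq_eq_one hodd h)
  · rw [show 2 ^ (1 + 1) = 2 * 2 by norm_num, pow_mul, pow_two g, sq_of_trace_zero h0, neg_one_sq]

theorem trace_zero_of_sq {g : SL2} (hg : ¬ IsScalar2 (g : M2)) (h : g * g = -1) :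
    (g : M2).trace = 0 := by
  have h1 : (g : M2) * (g : M2) = -1 := by
    rw [← Matrix.SpecialLinearGroup.coe_mul, h]; simp
  rw [sq_eq, g.2, one_smul, sub_eq_neg_self, smul_eq_zero] at h1
  refine h1.resolve_right fun hz => hg ?_
  rw [hz]
  simp [IsScalar2]

theorem split_zero_iff (hodd : Odd (Fintype.card F)) :
    Split (0 : F) ↔ Fintype.card F % 4 = 1 := by
  have := FiniteField.isSquare_neg_one_iff (F := F)
  rw [Nat.odd_iff] at hodd
  constructor
  · rintro ⟨z, hz⟩
    have h := this.1 ⟨z, by linear_combination -hz⟩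
    omega
  · intro h
    obtain ⟨z, hz⟩ := this.2 (by omega)
    exact ⟨z, by linear_combination -hz⟩

theorem card_centralizer_trace_zero (hodd : Odd (Fintype.card F)) {g : SL2} (h0 : (g : M2).trace = 0) :
    Nat.card (Subgroup.centralizer ({g} : Set SL2)) =
      if Fintype.card F % 4 = 1 then Fintype.card F - 1 else Fintype.card F + 1 := by
  have ht := trace_sq_ne_four_of_zero hodd h0
  rw [card_centralizer (not_scalar_of_trace_sq ht) hodd, if_neg ht, h0]
  by_cases h : Fintype.card F % 4 = 1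
  · rw [if_pos h, if_pos ((split_zero_iff hodd).2 h)]
  · rw [if_neg h, if_neg (fun h' => h ((split_zero_iff hodd).1 h'))]

theorem eq_of_pow_eq_one (hodd : Odd (Fintype.card F)) {g : SL2} (ht : (g : M2).trace ^ 2 ≠ 4)
    {C : Subgroup SL2} (hC : C ≤ Subgroup.centralizer ({g} : Set SL2)) {z : SL2}
    (hz : z ∈ Subgroup.centralizer ({g} : Set SL2)) (h1 : z ^ Nat.card C = 1) : z ∈ C := by
  classical
  haveI := isCyclic_torus ht
  set T := Subgroup.centralizer ({g} : Set SL2)
  set n := Nat.card C with hn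
  let A : Finset T := (Finset.univ : Finset T).filter fun x => x ^ n = 1
  let B : Finset T := (Finset.univ : Finset T).filter fun x => (x : SL2) ∈ C
  have hBA : B ⊆ A := fun x hx => by
    simp only [A, B, Finset.mem_filter, Finset.mem_univ, true_and] at hx ⊢
    have h : (((⟨x, hx⟩ : C) ^ Nat.card C : C) : SL2) = 1 := by rw [pow_card_eq_one']; rfl
    exact Subtype.ext (by rw [Subgroup.coe_pow] at h ⊢; exact h)
  have hB : B.card = n := by
    rw [hn, ← Fintype.card_subtype, ← Nat.card_eq_fintype_card]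
    exact Nat.card_congr ⟨fun x => ⟨x.1.1, x.2⟩, fun c => ⟨⟨c.1, hC c.2⟩, c.2⟩, fun _ => rfl, fun _ => rfl⟩
  have hA : A.card ≤ n := by
    convert IsCyclic.card_pow_eq_one_le (α := T) (Nat.card_pos : 0 < Nat.card C) using 2
  have hmem : (⟨z, hz⟩ : T) ∈ A := by
    simp only [A, Finset.mem_filter, Finset.mem_univ, true_and]
    exact Subtype.ext (by simpa using h1)
  rw [← Finset.eq_of_subset_of_card_le hBA (by omega)] at hmem
  simpa [B] using hmem

theorem four_dvd_card_centralizer (hodd : Odd (Fintype.card F)) {g : SL2} (h0 : (g : M2).trace = 0) :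
    4 ∣ Nat.card (Subgroup.centralizer ({g} : Set SL2)) := by
  rw [show 4 = orderOf g by rw [orderOf_trace_zero hodd h0]; norm_num,
    ← Subgroup.orderOf_mk g (Subgroup.mem_centralizer_singleton_iff.2 rfl : g ∈ Subgroup.centralizer ({g} : Set SL2))]
  exact orderOf_dvd_natCard _

/-- The set-up for a Sylow two-subgroup. -/
theorem sylow_two_setup (hodd : Odd (Fintype.card F)) (S : Sylow 2 SL2) :
    ∃ g : SL2, (g : M2).trace = 0 ∧
      (S : Subgroup SL2) ≤ Subgroup.normalizer ((Subgroup.centralizer ({g} : Set SL2)) : Set SL2) ∧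
      Nat.card (S : Subgroup SL2) =
        2 * 2 ^ (Nat.card (Subgroup.centralizer ({g} : Set SL2))).factorization 2 := by
  classical
  obtain ⟨g₀, h0, -⟩ := exists_trace (F := F) 0
  have ht := trace_sq_ne_four_of_zero hodd h0
  set T := Subgroup.centralizer ({g₀} : Set SL2)
  set N := Subgroup.normalizer (T : Set SL2)
  have hN : Nat.card N = 2 * Nat.card T := (torus_normalizer hodd ht).1
  set k := Nat.card T with hk
  have hkpos : k ≠ 0 := Nat.card_pos.ne'
  set q := Fintype.card F with hq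
  have hG : ∃ j : ℕ, Nat.card SL2 = j * (2 * k) ∧ ¬ 2 ∣ j := by
    have h4 := four_dvd_card_centralizer hodd h0
    rw [CfsgLib.Classical.card_SL_two, Nat.card_eq_fintype_card]
    have hkc := card_centralizer_trace_zero hodd h0
    rw [← hk] at hkc h4
    rw [Nat.odd_iff] at hodd
    split_ifs at hkc with h
    · refine ⟨q * ((q + 1) / 2), ?_, ?_⟩
      · rw [hkc, show q * ((q + 1) / 2) * (2 * (q - 1)) = q * (((q + 1) / 2 * 2) * (q - 1)) by ring,
          Nat.div_mul_cancel (by omega), ← Nat.sq_sub_sq, one_pow]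
      · rw [Nat.prime_two.dvd_mul]; omega
    · refine ⟨q * ((q - 1) / 2), ?_, ?_⟩
      · rw [hkc, show q * ((q - 1) / 2) * (2 * (q + 1)) = q * ((q + 1) * ((q - 1) / 2 * 2)) by ring,
          Nat.div_mul_cancel (by omega), ← Nat.sq_sub_sq, one_pow]
      · rw [Nat.prime_two.dvd_mul]; omega
  obtain ⟨j, hj, hj2⟩ := hG
  have hj0 : j ≠ 0 := fun h => hj2 (h ▸ dvd_zero 2)
  have hfac : (Nat.card SL2).factorization 2 = k.factorization 2 + 1 := by
    rw [hj, Nat.factorization_mul hj0 (by omega), Nat.factorization_mul (by norm_num) hkpos]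
    simp [Nat.Prime.factorization_self Nat.prime_two, Nat.factorization_eq_zero_of_not_dvd hj2]
    ring
  obtain ⟨P₀⟩ : Nonempty (Sylow 2 N) := inferInstance
  set P := (P₀ : Subgroup N).map N.subtype with hP
  have hPc : Nat.card P = 2 ^ (k.factorization 2 + 1) := by
    rw [hP, Nat.card_congr (Subgroup.equivMapOfInjective _ _ N.subtype_injective).symm.toEquiv,
      P₀.card_eq_multiplicity, hN, Nat.factorization_mul (by norm_num) hkpos]
    simp [Nat.Prime.factorization_self Nat.prime_two]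
    ring_nf
  let P' : Sylow 2 SL2 := Sylow.ofCard P (by rw [hPc, hfac])
  obtain ⟨c, hc⟩ := MulAction.exists_smul_eq SL2 P' S
  refine ⟨c * g₀ * c⁻¹, ?_, ?_, ?_⟩
  · rw [← trace_eq_of_isConj_sl (isConj_iff.2 ⟨c, rfl⟩), h0]
  · intro s hs
    have ht' : ((c * g₀ * c⁻¹ : SL2) : M2).trace ^ 2 ≠ 4 := by
      rwa [← trace_eq_of_isConj_sl (isConj_iff.2 ⟨c, rfl⟩)]
    rw [mem_normalizer_iff hodd ht']
    rw [← hc] at hs
    have hs' : c⁻¹ * s * c ∈ P := by
      simpa [Sylow.coe_subgroup_smul, Subgroup.mem_pointwise_smul_iff_inv_smul_mem, MulAut.smul_def, P'] using hs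
    obtain ⟨m, -, hm⟩ := hs'
    have hmN : c⁻¹ * s * c ∈ N := hm ▸ m.2
    rcases conj_cases hodd ht hmN with h | h
    · left
      calc s * (c * g₀ * c⁻¹) * s⁻¹ = c * ((c⁻¹ * s * c) * g₀ * (c⁻¹ * s * c)⁻¹) * c⁻¹ := by group
        _ = _ := by rw [h]
    · right
      calc s * (c * g₀ * c⁻¹) * s⁻¹ = c * ((c⁻¹ * s * c) * g₀ * (c⁻¹ * s * c)⁻¹) * c⁻¹ := by group
        _ = c * g₀⁻¹ * c⁻¹ := by rw [h]
        _ = _ := by group
  · rw [S.card_eq_multiplicity, hfac, pow_succ, mul_comm]
    congr 2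
    rw [hk, card_centralizer_trace_zero hodd h0, card_centralizer_trace_zero hodd
      (by rw [← trace_eq_of_isConj_sl (isConj_iff.2 ⟨c, rfl⟩), h0])]

end CfsgLib.Involutions.SLTwoTori
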