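import Cfsg.Agent.Lib.Classical.UnitaryTransv
import Cfsg.Agent.Lib.Classical.SU2

/-!
# The Sylow 2-subgroup of `U₃(4)`
-/

set_option autoImplicit false
set_option linter.style.haveILetI false
set_option maxHeartbeats 1000000

namespace CfsgLib.Involutions.U34

open Matrix MatrixGroups

variable {F : Type*} [Field F]

/-- `v ↦ v + b u + c w`, `w ↦ w + σ c u` in coordinates with respect to `u, w, v`. -/
def tmat (σ : F →+* F) (c b : F) : Matrix (Fin 3) (Fin 3) F := !![1, σ c, b; 0, 1, c; 0, 0, 1]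

theorem tmat_det (σ : F →+* F) (c b : F) : (tmat σ c b).det = 1 := by
  simp [tmat, Matrix.det_fin_three]

theorem tmat_mul (σ : F →+* F) (c b c' b' : F) :
    tmat σ c b * tmat σ c' b' = tmat σ (c + c') (b + b' + σ c * c') := by
  ext i j
  fin_cases i <;> fin_cases j <;> simp [tmat, Matrix.mul_apply, Fin.sum_univ_three] <;> ring

/-- The base change to an isotropic basis. -/
def pmat (x : F) : Matrix (Fin 3) (Fin 3) F := !![1, 0, x; 1, 0, x + 1; 0, 1, 0]

/-- A group with a parametrisation like that Sylow subgroup. -/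
structure Param (σ : F →+* F) (T : Type*) [Group T] where
  el : ∀ c b : F, b + σ b = c * σ c → T
  surj : ∀ t : T, ∃ c b h, el c b h = t
  inj : ∀ c b h c' b' h', el c b h = el c' b' h' → c = c' ∧ b = b'
  mul : ∀ c b h c' b' h', ∃ h'', el c b h * el c' b' h' = el (c + c') (b + b' + σ c * c') h''

/-- The unipotent subgroup in isotropic coordinates. -/
def uni (σ : F →+* F) (h2 : (2 : F) = 0) (hσ : ∀ x, σ (σ x) = x) : Subgroup SL(3, F) where
  carrier := {g | ∃ c b : F, b + σ b = c * σ c ∧ (g : Matrix (Fin 3) (Fin 3) F) = tmat σ c b}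
  mul_mem' := by
    rintro g g' ⟨c, b, h, hg⟩ ⟨c', b', h', hg'⟩
    refine ⟨_, _, ?_, by rw [Matrix.SpecialLinearGroup.coe_mul, hg, hg', tmat_mul]⟩
    simp only [map_add, map_mul, hσ]
    linear_combination h + h'
  one_mem' := ⟨0, 0, by simp, by
    rw [Matrix.SpecialLinearGroup.coe_one, Matrix.one_fin_three, tmat, map_zero]⟩
  inv_mem' := by
    rintro g ⟨c, b, h, hg⟩
    refine ⟨c, σ b, by rw [hσ, add_comm]; exact h, ?_⟩
    have hb : b + σ b + σ c * c = 0 := by linear_combination h + (c * σ c) * h2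
    have hc : c + c = 0 := by linear_combination c * h2
    have h1 : tmat σ c (σ b) * (g : Matrix (Fin 3) (Fin 3) F) = 1 := by
      rw [hg, tmat_mul, hc, show σ b + b + σ c * c = 0 by linear_combination hb, tmat, map_zero,
        ← Matrix.one_fin_three]
    exact (left_inv_eq_right_inv h1 (by
      rw [← Matrix.SpecialLinearGroup.coe_mul, mul_inv_cancel,
        Matrix.SpecialLinearGroup.coe_one])).symm

section

variable [Finite F] {σ : F →+* F}

theorem card_uni (h2 : (2 : F) = 0) (h : Classical.Unitary.UFrob σ 4) (hF : Nat.card F = 4 ^ 2)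
    {x : F} (hx : x + σ x = 1) : Nat.card (uni σ h2 h.invol) = 64 := by
  let e : F × σ.eqLocusField (RingHom.id F) → uni σ h2 h.invol := fun p =>
    ⟨⟨tmat σ p.1 (p.1 * σ p.1 * x + p.2), tmat_det _ _ _⟩, p.1, _, by
      have hp : σ (p.2 : F) = p.2 := p.2.2
      simp only [map_add, map_mul, h.invol, hp]
      linear_combination (p.1 * σ p.1) * hx + (p.2 : F) * h2, rfl⟩
  have he : Function.Bijective e := by
    refine ⟨fun p p' hp => ?_, fun ⟨g, c, b, hb, hg⟩ => ?_⟩
    · have hm : tmat σ p.1 (p.1 * σ p.1 * x + p.2) = tmat σ p'.1 (p'.1 * σ p'.1 * x + p'.2) :=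
        congrArg (fun g : uni σ h2 h.invol => g.1.1) hp
      have h12 := congrFun (congrFun hm 1) 2
      have h02 := congrFun (congrFun hm 0) 2
      simp [tmat] at h12 h02
      rw [h12] at h02
      exact Prod.ext h12 (Subtype.ext (add_left_cancel h02))
    · refine ⟨(c, ⟨b + c * σ c * x, ?_⟩), Subtype.ext (Subtype.ext ?_)⟩
      · show σ (b + c * σ c * x) = b + c * σ c * x
        simp only [map_add, map_mul, h.invol]
        linear_combination hb + (c * σ c) * hx + (-b - c * σ c * x + c * σ c) * h2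
      · show tmat σ c (c * σ c * x + (b + c * σ c * x)) = (g : Matrix (Fin 3) (Fin 3) F)
        rw [hg]
        congr 1
        linear_combination (c * σ c * x) * h2
  rw [← Nat.card_congr (Equiv.ofBijective e he), Nat.card_prod, hF,
    Classical.fixed_card_eq hF h.pow]
  norm_num

theorem pmat_det (h2 : (2 : F) = 0) (x : F) : (pmat x).det = 1 := by
  simp [pmat, Matrix.det_fin_three]
  linear_combination -h2

/-- The Sylow 2-subgroup of `SU(3, 4)`. -/
theorem exists_param (hF : Nat.card F = 4 ^ 2) (P : Sylow 2 (Cfsg.PSU 3 F 4)) :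
    ∃ σ : F →+* F, Classical.Unitary.UFrob σ 4 ∧
      Nonempty (Param σ (P : Subgroup (Cfsg.PSU 3 F 4))) ∧ Nat.card P = 64 := by
  obtain ⟨σ, h⟩ := Classical.Unitary.exists_uFrob hF
  obtain ⟨x, hx⟩ := Classical.Unitary.exists_trace h
  have h2 : (2 : F) = 0 := by
    have := Fintype.ofFinite F
    have h16 : ((Fintype.card F : ℕ) : F) = 0 := Nat.cast_card_eq_zero F
    rw [← Nat.card_eq_fintype_card, hF] at h16
    push_cast at h16
    exact pow_eq_zero_iff (n := 4) (by norm_num) |>.1 (by linear_combination h16)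
  set p : SL(3, F) := ⟨pmat x, pmat_det h2 x⟩
  set U' := (uni σ h2 h.invol).map (MulAut.conj p).toMonoidHom
  have hform : ∀ a b : Fin 3 → F, Cfsg.hermForm 3 F 4 (pmat x *ᵥ a) (pmat x *ᵥ b)
      = a 0 * σ (b 2) + a 2 * σ (b 0) + a 1 * σ (b 1) := by
    intro a b
    simp only [Cfsg.hermForm, Fin.sum_univ_three, ← h.pow]
    simp [pmat, Matrix.mulVec, dotProduct, Fin.sum_univ_three]
    linear_combination (a 0 * σ (b 0) + a 0 * σ (b 2) * σ x + a 2 * x * σ (b 0) + a 2 * σ (b 2) * x * σ x) * h2 + (a 2 * σ (b 2)) * hx + (a 2 * σ (b 2)) * h2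
  have hle : U' ≤ Cfsg.SU 3 F 4 := by
    rintro _ ⟨g, ⟨c, b, hb, hg⟩, rfl⟩
    refine Classical.mem_SU_iff.2 fun u v => ?_
    have hsplit : ∀ u : Fin 3 → F, ∃ u', u = pmat x *ᵥ u' := fun u =>
      ⟨(p⁻¹).1 *ᵥ u, by
        rw [Matrix.mulVec_mulVec, show pmat x = (p : Matrix (Fin 3) (Fin 3) F) from rfl,
          ← Matrix.SpecialLinearGroup.coe_mul, mul_inv_cancel, Matrix.SpecialLinearGroup.coe_one,
          Matrix.one_mulVec]⟩
    obtain ⟨u', rfl⟩ := hsplit u
    obtain ⟨v', rfl⟩ := hsplit v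
    have key : ∀ w : Fin 3 → F, ((MulAut.conj p).toMonoidHom g : Matrix (Fin 3) (Fin 3) F) *ᵥ
        (pmat x *ᵥ w) = pmat x *ᵥ (tmat σ c b *ᵥ w) := fun w => by
      rw [← hg, Matrix.mulVec_mulVec, Matrix.mulVec_mulVec,
        show pmat x = (p : Matrix (Fin 3) (Fin 3) F) from rfl, MulEquiv.coe_toMonoidHom,
        MulAut.conj_apply, ← Matrix.SpecialLinearGroup.coe_mul, inv_mul_cancel_right,
        Matrix.SpecialLinearGroup.coe_mul]
    rw [key, key, hform, hform]
    simp [tmat, Matrix.mulVec, dotProduct, Fin.sum_univ_three, h.invol]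
    linear_combination (u' 2 * σ (v' 2)) * hb + (u' 1 * σ c * σ (v' 2) + u' 2 * c * σ (v' 1) + u' 2 * σ (v' 2) * c * σ c) * h2
  let π := QuotientGroup.mk' (Subgroup.center (Cfsg.SU 3 F 4))
  have hc1 : Nat.card (Subgroup.center (Cfsg.SU 3 F 4)) = 1 := by
    rw [Classical.card_center_SU hF (by norm_num)]; rfl
  have hπi : Function.Injective π := by
    rw [← MonoidHom.ker_eq_bot_iff, QuotientGroup.ker_mk']
    exact Subgroup.card_eq_one.1 hc1
  set Q := (U'.subgroupOf (Cfsg.SU 3 F 4)).map π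
  let ψ : uni σ h2 h.invol ≃* Q :=
    ((Subgroup.equivMapOfInjective (uni σ h2 h.invol) (MulAut.conj p).toMonoidHom
      (MulAut.conj p).injective).trans (Subgroup.subgroupOfEquivOfLe hle).symm).trans
      (Subgroup.equivMapOfInjective _ π hπi)
  have hQ : Nat.card Q = 2 ^ 6 := by
    rw [← Nat.card_congr ψ.toEquiv, card_uni h2 h hF hx]; rfl
  have hidx : ¬ 2 ∣ Q.index := by
    have h1 := Classical.card_PSU_mul hF (n := 3) (by norm_num)
    rw [Classical.card_GU hF, ← Q.card_mul_index, hQ, Finset.prod_range_succ,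
      Finset.prod_range_succ, Finset.prod_range_succ, Finset.prod_range_zero] at h1
    norm_num [Nat.even_iff] at h1
    omega
  let e : uni σ h2 h.invol ≃* (P : Subgroup (Cfsg.PSU 3 F 4)) :=
    ψ.trans (Sylow.equiv ((IsPGroup.of_card hQ).toSylow hidx) P)
  refine ⟨σ, h, ⟨⟨fun c b hb => e ⟨⟨tmat σ c b, tmat_det _ _ _⟩, c, b, hb, rfl⟩, ?_, ?_, ?_⟩⟩, ?_⟩
  · intro t
    obtain ⟨⟨g, c, b, hb, hg⟩, rfl⟩ := e.surjective t
    exact ⟨c, b, hb, congrArg e (Subtype.ext (Subtype.ext hg.symm))⟩
  · intro c b hb c' b' hb' he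
    have hm : tmat σ c b = tmat σ c' b' :=
      congrArg (fun g : uni σ h2 h.invol => g.1.1) (e.injective he)
    have h12 := congrFun (congrFun hm 1) 2
    have h02 := congrFun (congrFun hm 0) 2
    simp [tmat] at h12 h02
    exact ⟨h12, h02⟩
  · intro c b hb c' b' hb'
    refine ⟨?_, ?_⟩
    · simp only [map_add, map_mul, h.invol]
      linear_combination hb + hb'
    · rw [← map_mul]
      exact congrArg e (Subtype.ext (Subtype.ext (tmat_mul σ c b c' b')))
  · rw [← Nat.card_congr e.toEquiv, card_uni h2 h hF hx]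

end

namespace Param

variable {σ : F →+* F} {T : Type*} [Group T] (d : Param σ T)

theorem comm_iff (h2 : (2 : F) = 0) {c b : F} {h} {c' b' : F} {h'} :
    d.el c b h * d.el c' b' h' = d.el c' b' h' * d.el c b h ↔ σ c * c' = σ c' * c := by
  obtain ⟨e1, he1⟩ := d.mul c b h c' b' h'
  obtain ⟨e2, he2⟩ := d.mul c' b' h' c b h
  rw [he1, he2]
  constructor
  · intro he
    linear_combination (d.inj _ _ _ _ _ _ he).2
  · intro he
    congr 1
    · ring
    · linear_combination he

theorem el_zero (h0 : (0 : F) + σ 0 = 0 * σ 0) : d.el 0 0 h0 = 1 := by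
  obtain ⟨e, he⟩ := d.mul 0 0 h0 0 0 h0
  simp only [add_zero, mul_zero] at he
  exact mul_eq_left.1 he

theorem eq_one_iff {c b : F} {h} : d.el c b h = 1 ↔ c = 0 ∧ b = 0 := by
  rw [← d.el_zero (by simp)]
  refine ⟨d.inj _ _ _ _ _ _, ?_⟩
  rintro ⟨rfl, rfl⟩
  rfl

theorem sq_eq (h2 : (2 : F) = 0) {c b : F} {h} :
    ∃ h', d.el c b h * d.el c b h = d.el 0 (c * σ c) h' := by
  obtain ⟨e, he⟩ := d.mul c b h c b h
  have e1 : c + c = 0 := by linear_combination c * h2
  have e2 : b + b + σ c * c = c * σ c := by linear_combination b * h2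
  exact ⟨by rw [← e1, ← e2]; exact e, by rw [he]; congr 1⟩

theorem norm_eq_zero {c : F} : c * σ c = 0 ↔ c = 0 := by simp [map_eq_zero]

variable [Finite F]

theorem mem_center_iff (h2 : (2 : F) = 0) (hσ : Classical.Unitary.UFrob σ 4) {x : F}
    (hx : x + σ x = 1) {c b : F} {h} : d.el c b h ∈ Subgroup.center T ↔ c = 0 := by
  rw [Subgroup.mem_center_iff]
  constructor
  · intro hc
    have key : ∀ c', σ c * c' = σ c' * c := fun c' => by
      have h' : c' * σ c' * x + σ (c' * σ c' * x) = c' * σ c' := by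
        simp only [map_mul, hσ.invol]
        linear_combination (c' * σ c') * hx
      exact ((d.comm_iff h2).1 (hc (d.el c' _ h')).symm)
    have h1 := key 1
    rw [map_one, mul_one, one_mul] at h1
    have hxx := key x
    rw [h1] at hxx
    linear_combination hxx - c * hx + (c * σ x) * h2
  · rintro rfl g
    obtain ⟨c', b', h', rfl⟩ := d.surj g
    exact (d.comm_iff h2).2 (by simp)

include d in
theorem structureFacts (h2 : (2 : F) = 0) (hσ : Classical.Unitary.UFrob σ 4)
    (hF : Nat.card F = 4 ^ 2) (hT : Nat.card T = 64) :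
    IsKleinFour (Subgroup.center T) ∧
      Subgroup.center T = Subgroup.closure {x : T | orderOf x = 2} ∧
      Subgroup.center T = commutator T ∧ Nat.card (T ⧸ Subgroup.center T) = 16 ∧
      ∀ x : T ⧸ Subgroup.center T, x ^ 2 = 1 := by
  haveI : Finite T := Nat.finite_of_card_ne_zero (by rw [hT]; norm_num)
  obtain ⟨x, hx⟩ := Classical.Unitary.exists_trace hσ
  let K := σ.eqLocusField (RingHom.id F)
  have hK : Nat.card K = 4 := Classical.fixed_card_eq hF hσ.pow
  have hz : ∀ b : F, σ b = b → b + σ b = 0 * σ 0 := fun b hb => by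
    rw [hb]; linear_combination b * h2
  have hfix : ∀ {b : F}, b + σ b = 0 * σ 0 → σ b = b := fun {b} h => by
    linear_combination h - b * h2
  let e : K → Subgroup.center T := fun b =>
    ⟨d.el 0 b (hz b b.2), (d.mem_center_iff h2 hσ hx).2 rfl⟩
  have hcen : Nat.card (Subgroup.center T) = 4 := by
    rw [← hK]
    refine (Nat.card_congr (Equiv.ofBijective e ⟨fun b b' hb => ?_, fun t => ?_⟩)).symm
    · exact Subtype.ext (d.inj _ _ _ _ _ _ (congrArg Subtype.val hb)).2
    · obtain ⟨c, b, h, ht⟩ := d.surj t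
      have hc0 : c = 0 := (d.mem_center_iff h2 hσ hx).1 (ht ▸ t.2)
      subst hc0
      exact ⟨⟨b, hfix h⟩, Subtype.ext ht⟩
  have hsq : ∀ t : T, t * t ∈ Subgroup.center T := fun t => by
    obtain ⟨c, b, h, rfl⟩ := d.surj t
    obtain ⟨h', he⟩ := d.sq_eq h2 (h := h)
    rw [he]; exact (d.mem_center_iff h2 hσ hx).2 rfl
  have hcsq : ∀ t ∈ Subgroup.center T, t * t = 1 := fun t ht => by
    obtain ⟨c, b, h, rfl⟩ := d.surj t
    have hc0 : c = 0 := (d.mem_center_iff h2 hσ hx).1 ht
    subst hc0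
    obtain ⟨h', he⟩ := d.sq_eq h2 (h := h)
    rw [he, d.eq_one_iff]
    simp
  have hq : ∀ q : T ⧸ Subgroup.center T, q ^ 2 = 1 := fun q => by
    obtain ⟨t, rfl⟩ := QuotientGroup.mk_surjective q
    rw [← QuotientGroup.mk_pow, sq, QuotientGroup.eq_one_iff]
    exact hsq t
  have hcard : Nat.card (T ⧸ Subgroup.center T) = 16 := by
    have := Subgroup.card_eq_card_quotient_mul_card_subgroup (Subgroup.center T)
    rw [hT, hcen] at this; omega
  refine ⟨⟨hcen, ?_⟩, ?_, ?_, hcard, hq⟩
  · have hdvd : Monoid.exponent (Subgroup.center T) ∣ 2 :=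
      Monoid.exponent_dvd_of_forall_pow_eq_one fun t => Subtype.ext (by
        rw [Subgroup.coe_pow, sq]; exact hcsq t t.2)
    rcases (Nat.dvd_prime Nat.prime_two).1 hdvd with h | h
    · haveI := Monoid.exp_eq_one_iff.1 h
      rw [Nat.card_of_subsingleton (1 : Subgroup.center T)] at hcen
      omega
    · exact h
  · refine le_antisymm (fun t ht => ?_) ((Subgroup.closure_le _).2 fun t ht => ?_)
    · by_cases h1 : t = 1
      · exact h1 ▸ one_mem _
      · exact Subgroup.subset_closure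
          (orderOf_eq_prime (by rw [sq]; exact hcsq t ht) h1)
    · obtain ⟨c, b, h, rfl⟩ := d.surj t
      obtain ⟨h', he⟩ := d.sq_eq h2 (h := h)
      have h1 : d.el c b h * d.el c b h = 1 := by
        rw [← sq, ← (ht : orderOf _ = 2), pow_orderOf_eq_one]
      rw [he, d.eq_one_iff, norm_eq_zero] at h1
      exact (d.mem_center_iff h2 hσ hx).2 h1.2
  · refine le_antisymm (fun t ht => ?_) ?_
    · -- every central element is a commutator
      obtain ⟨c, b, h, rfl⟩ := d.surj t
      have hc0 : c = 0 := (d.mem_center_iff h2 hσ hx).1 ht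
      subst hc0
      have hb := hfix h
      have h1 : (x : F) + σ x = 1 * σ 1 := by rw [map_one, mul_one]; exact hx
      have hg : b * x * σ (b * x) * x + σ (b * x * σ (b * x) * x) = b * x * σ (b * x) := by
        simp only [map_mul, hσ.invol]
        linear_combination (b * x * (σ b * σ x)) * hx
      obtain ⟨e1, he1⟩ := d.mul 1 x h1 (b * x) _ hg
      obtain ⟨e2, he2⟩ := d.mul (b * x) _ hg 1 x h1
      obtain ⟨e3, he3⟩ := d.mul 0 b h (b * x + 1)
        (b * x * σ (b * x) * x + x + σ (b * x) * 1) e2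
      have key : d.el 0 b h = d.el 1 x h1 * d.el (b * x) _ hg *
          (d.el (b * x) _ hg * d.el 1 x h1)⁻¹ := by
        rw [eq_mul_inv_iff_mul_eq, he2, he3, he1]
        congr 1
        · ring
        · rw [map_zero, map_one, map_mul, hb]
          linear_combination b * hx - (b * x) * h2 + b * h2
      rw [key, _root_.mul_inv_rev, ← mul_assoc]
      exact Subgroup.commutator_mem_commutator (Subgroup.mem_top _) (Subgroup.mem_top _)
    · rw [commutator_def, Subgroup.commutator_le]
      intro a _ b _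
      rw [← QuotientGroup.eq_one_iff, ← QuotientGroup.mk'_apply, map_commutatorElement,
        commutatorElement_eq_one_iff_mul_comm]
      exact mul_comm_of_exponent_two (Nat.dvd_antisymm
        (Monoid.exponent_dvd_of_forall_pow_eq_one hq) (by
          rcases (Nat.dvd_prime Nat.prime_two).1
            (Monoid.exponent_dvd_of_forall_pow_eq_one hq) with h | h
          · haveI := Monoid.exp_eq_one_iff.1 h
            rw [Nat.card_of_subsingleton (1 : T ⧸ Subgroup.center T)] at hcard
            omega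
          · exact h ▸ dvd_rfl)) _ _

end Param

theorem sylow_facts [Fintype F] (hF : Fintype.card F = 16) (P : Sylow 2 (Cfsg.PSU 3 F 4)) :
    Nat.card P = 64 ∧ IsKleinFour (Subgroup.center (P : Subgroup (Cfsg.PSU 3 F 4))) ∧
      Subgroup.center (P : Subgroup (Cfsg.PSU 3 F 4))
        = Subgroup.closure {x : (P : Subgroup (Cfsg.PSU 3 F 4)) | orderOf x = 2} ∧
      Subgroup.center (P : Subgroup (Cfsg.PSU 3 F 4))
        = commutator (P : Subgroup (Cfsg.PSU 3 F 4)) ∧
      Nat.card ((P : Subgroup (Cfsg.PSU 3 F 4)) ⧸ Subgroup.center (P : Subgroup (Cfsg.PSU 3 F 4)))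
        = 16 ∧
      ∀ x : (P : Subgroup (Cfsg.PSU 3 F 4)) ⧸ Subgroup.center (P : Subgroup (Cfsg.PSU 3 F 4)),
        x ^ 2 = 1 := by
  have hF' : Nat.card F = 4 ^ 2 := by rw [Nat.card_eq_fintype_card, hF]; norm_num
  obtain ⟨σ, h, ⟨d⟩, hc⟩ := exists_param hF' P
  have h2 : (2 : F) = 0 := by
    have h16 : ((Fintype.card F : ℕ) : F) = 0 := Nat.cast_card_eq_zero F
    rw [hF] at h16
    push_cast at h16
    exact pow_eq_zero_iff (n := 4) (by norm_num) |>.1 (by linear_combination h16)
  obtain ⟨h3, h4, h5, h6, h7⟩ := d.structureFacts h2 h hF' hc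
  exact ⟨hc, h3, h4, h5, h6, h7⟩

end CfsgLib.Involutions.U34
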