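import Cfsg.Agent.Lib.Involutions.CentralizedSylowSolvable

/-!
Outer automorphism groups of simple groups and automorphisms of a Sylow 2-subgroup
(given the odd order theorem).
-/

set_option autoImplicit false
set_option linter.style.haveILetI false
set_option linter.unusedSectionVars false

universe u

namespace CfsgLib.Involutions.CentralizedSylow

open Cfsg Subgroup

/-- Variant of `isSolvable_of_centralizes_sylow` without assuming `N ⊔ A = ⊤`. -/
theorem isSolvable_of_le_centralizer_sylow (hFT : CfsgLib.FT.OddOrderThm.{u}) {X : Type u}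
    [Group X] [Finite X] {N A : Subgroup X} [hN : N.Normal] (hC : centralizer (N : Set X) = ⊥)
    (hO : oddCore ↥N = ⊥) (S : Sylow 2 N)
    (hA : A ≤ centralizer (((S : Subgroup N).map N.subtype : Subgroup X) : Set X)) :
    Group.IsSolvable A := by
  set M := N ⊔ A with hM
  have hNM : N ≤ M := le_sup_left
  haveI : (N.subgroupOf M).Normal := hN.subgroupOf M
  let e : N.subgroupOf M ≃* N := subgroupOfEquivOfLe hNM
  have hC' : centralizer ((N.subgroupOf M : Subgroup M) : Set M) = ⊥ := by
    rw [eq_bot_iff]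
    intro x hx
    have h1 : (x : X) ∈ centralizer (N : Set X) := mem_centralizer_iff.2 fun n hn =>
      congrArg Subtype.val (mem_centralizer_iff.1 hx ⟨n, hNM hn⟩ hn)
    rw [hC, mem_bot] at h1
    exact mem_bot.2 (Subtype.ext h1)
  have hO' : oddCore ↥(N.subgroupOf M) = ⊥ := by
    haveI : (oddCore ↥(N.subgroupOf M)).Normal := pPrimeCore_normal 2 _
    have hodd := CfsgLib.Base.le_oddCore_iff.1 (le_refl (oddCore ↥(N.subgroupOf M)))
    haveI : ((oddCore ↥(N.subgroupOf M)).map e.toMonoidHom).Normal :=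
      Normal.map inferInstance _ e.surjective
    have h1 : (oddCore ↥(N.subgroupOf M)).map e.toMonoidHom ≤ ⊥ := hO ▸
      CfsgLib.Base.le_oddCore (by
        rwa [Subgroup.card_map_of_injective (f := e.toMonoidHom) e.injective])
    exact (map_eq_bot_iff_of_injective _ e.injective).1 (le_bot_iff.1 h1)
  obtain ⟨S'⟩ : Nonempty {S' : Sylow 2 (N.subgroupOf M) //
      (S' : Subgroup (N.subgroupOf M)) = (S : Subgroup N).map e.symm.toMonoidHom} :=
    ⟨⟨S.mapSurjective (f := e.symm.toMonoidHom) e.symm.surjective,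
      Sylow.coe_mapSurjective _ _⟩⟩
  have h := isSolvable_of_centralizes_sylow hFT (A := A.subgroupOf M) hC' hO' S'.1 ?_ ?_
  · exact Group.isSolvable_of_isSolvable_injective
      (f := (subgroupOfEquivOfLe (le_sup_right : A ≤ M)).symm.toMonoidHom)
      (subgroupOfEquivOfLe (le_sup_right : A ≤ M)).symm.injective
  · intro a ha
    rw [mem_centralizer_iff]
    rintro _ ⟨y, hy, rfl⟩
    rw [S'.2] at hy
    obtain ⟨n, hn, rfl⟩ := hy
    exact Subtype.ext (mem_centralizer_iff.1 (hA ha) n ⟨n, hn, rfl⟩)
  · rw [eq_top_iff]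
    intro x _
    obtain ⟨n, hn, a, ha, hx⟩ := mem_sup_of_normal_left.1 x.2
    exact mem_sup_of_normal_left.2 ⟨⟨n, hNM hn⟩, hn, ⟨a, le_sup_right (a := N) ha⟩, ha,
      Subtype.ext hx⟩

/-- `Out G` is solvable when `Aut S` is. -/
theorem isSolvable_out (hFT : CfsgLib.FT.OddOrderThm.{u}) {G : Type u} [Group G] [Finite G]
    [IsSimpleGroup G] (hG : ¬ IsMulCommutative G) (S : Sylow 2 G) (hS1 : (S : Subgroup G) ≠ ⊥)
    (hS : Group.IsSolvable (MulAut ↥S)) : Group.IsSolvable (Cfsg.Out G) := by
  set ι : G →* MulAut G := MulAut.conj with hι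
  have hz : center G = ⊥ := by
    refine (IsSimpleGroup.eq_bot_or_eq_top_of_normal (center G) inferInstance).resolve_right
      fun h => hG ⟨⟨fun a b => ?_⟩⟩
    exact mem_center_iff.1 (h ▸ mem_top b) a
  have hinj : Function.Injective ι := by
    rw [← MonoidHom.ker_eq_bot_iff, eq_bot_iff, ← hz]
    intro g hg
    rw [mem_center_iff]
    intro x
    have h := DFunLike.congr_fun (MonoidHom.mem_ker.1 hg) x
    rw [hι, MulAut.conj_apply, MulAut.one_apply, mul_inv_eq_iff_eq_mul] at h
    exact h.symm
  have hC : centralizer ((Inn G : Subgroup (MulAut G)) : Set (MulAut G)) = ⊥ := by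
    rw [eq_bot_iff]
    intro φ hφ
    refine mem_bot.2 (MulEquiv.ext fun g => hinj (MulEquiv.ext fun x => ?_))
    have h := DFunLike.congr_fun (mem_centralizer_iff.1 hφ (ι g) ⟨g, rfl⟩) (φ.symm x)
    simp only [hι, MulAut.mul_apply, MulAut.conj_apply, MulAut.one_apply, map_mul, map_inv,
      MulEquiv.apply_symm_apply] at h ⊢
    exact h.symm
  let e : G ≃* Inn G := MonoidHom.ofInjective hinj
  let S' : Sylow 2 (Inn G) := S.mapSurjective (f := e.toMonoidHom) e.surjective
  have hS' : (S' : Subgroup (Inn G)) = (S : Subgroup G).map e.toMonoidHom :=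
    Sylow.coe_mapSurjective _ _
  set S₀ := (S' : Subgroup (Inn G)).map (Inn G).subtype with hS₀
  have hO : oddCore ↥(Inn G) = ⊥ := by
    haveI : IsSimpleGroup (Inn G) := e.symm.isSimpleGroup
    refine (IsSimpleGroup.eq_bot_or_eq_top_of_normal _ (pPrimeCore_normal 2 _)).resolve_right
      fun h => hS1 ?_
    have hodd := CfsgLib.Base.le_oddCore_iff.1 (le_refl (oddCore ↥(Inn G)))
    rw [show oddCore ↥(Inn G) = ⊤ from h, card_top, ← Nat.card_congr e.toEquiv] at hodd
    obtain ⟨k, hk⟩ := IsPGroup.iff_card.1 S.isPGroup'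
    rcases k with _ | k
    · exact eq_bot_of_card_eq _ (by rw [hk, pow_zero])
    · have := (S : Subgroup G).card_subgroup_dvd_card
      rw [hk, pow_succ] at this
      exact absurd hodd (Nat.not_odd_iff_even.2
        (even_iff_two_dvd.2 ((dvd_mul_left 2 _).trans this)))
  set L := normalizer (S₀ : Set (MulAut G)) with hL
  have hsup : L ⊔ Inn G = ⊤ := Sylow.normalizer_sup_eq_top S'
  haveI : Group.IsSolvable (centralizer (S₀ : Set (MulAut G))) :=
    isSolvable_of_le_centralizer_sylow hFT hC hO S' le_rfl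
  let eS : (S : Subgroup G) ≃* S₀ :=
    ((equivMapOfInjective (S : Subgroup G) e.toMonoidHom e.injective).trans
      (MulEquiv.subgroupCongr hS'.symm)).trans
      (equivMapOfInjective (S' : Subgroup (Inn G)) (Inn G).subtype Subtype.val_injective)
  haveI : Group.IsSolvable (MulAut ↥S₀) :=
    Group.isSolvable_of_surjective (f := (MulAut.congr eS).toMonoidHom) (MulAut.congr eS).surjective
  haveI : Group.IsSolvable L := by
    have hle : centralizer (S₀ : Set (MulAut G)) ≤ L := centralizer_le_normalizer _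
    haveI : Group.IsSolvable ((centralizer (S₀ : Set (MulAut G))).subgroupOf L) :=
      Group.isSolvable_of_isSolvable_injective
        (f := (subgroupOfEquivOfLe hle).toMonoidHom) (subgroupOfEquivOfLe hle).injective
    exact solvable_of_ker_le_range ((centralizer (S₀ : Set (MulAut G))).subgroupOf L).subtype
      S₀.normalizerMonoidHom (by rw [normalizerMonoidHom_ker, range_subtype])
  refine Group.isSolvable_of_surjective (f := (QuotientGroup.mk' (Inn G)).comp L.subtype) fun q => ?_
  obtain ⟨x, rfl⟩ := QuotientGroup.mk'_surjective _ q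
  obtain ⟨l, hl, n, hn, rfl⟩ := mem_sup_of_normal_right.1 (hsup ▸ mem_top x)
  refine ⟨⟨l, hl⟩, ?_⟩
  change QuotientGroup.mk' (Inn G) l = QuotientGroup.mk' (Inn G) (l * n)
  rw [map_mul, show QuotientGroup.mk' (Inn G) n = 1 from (QuotientGroup.eq_one_iff n).2 hn,
    mul_one]

end CfsgLib.Involutions.CentralizedSylow
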