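import Cfsg.Agent.Lib.Involutions.Dihedral
import Cfsg.Prelude.Def_CaseTheorems

/-!
# The quasi-dihedral group: normal forms
-/

set_option autoImplicit false

namespace CfsgLib.Involutions

open Subgroup

/-- Generators of a quasi-dihedral group of order `2 ^ (n + 1)`. -/
structure QD (S : Type*) [Group S] where
  n : ℕ
  x : S
  y : S
  three_le : 3 ≤ n
  card_eq : Nat.card S = 2 ^ (n + 1)
  orderOf_x : orderOf x = 2 ^ n
  orderOf_y : orderOf y = 2
  rel : y * x * y⁻¹ = x ^ (2 ^ (n - 1) - 1)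

theorem nonempty_qd {S : Type*} [Group S] (h : Cfsg.IsQuasiDihedral S) : Nonempty (QD S) := by
  obtain ⟨n, h1, h2, x, y, h3, h4, h5⟩ := h
  exact ⟨⟨n, x, y, h1, h2, h3, h4, h5⟩⟩

namespace QD

variable {S : Type*} [Group S] (d : QD S)

/-- The exponent `h = 2 ^ (n - 1)`. -/
def half : ℤ := 2 ^ (d.n - 1)

/-- The central involution. -/
def z : S := d.x ^ d.half

/-- A distinguished element of order four. -/
def q : S := d.x ^ (2 ^ (d.n - 2) : ℤ)

theorem half_eq : d.half = 2 * 2 ^ (d.n - 2) := by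
  have := d.three_le
  rw [half, ← pow_succ']
  congr 1
  omega

theorem four_dvd_half : (4 : ℤ) ∣ d.half := by
  have := d.three_le
  exact (show (4 : ℤ) = 2 ^ 2 by norm_num) ▸ pow_dvd_pow 2 (by omega)

theorem half_pos : 0 < d.half := pow_pos (by norm_num) _

theorem two_half : (2 : ℤ) ^ d.n = 2 * d.half := by
  have := d.three_le
  rw [half, ← pow_succ']
  congr 1
  omega

theorem zpow_x_eq_one {a : ℤ} : d.x ^ a = 1 ↔ 2 * d.half ∣ a := by
  rw [← orderOf_dvd_iff_zpow_eq_one, d.orderOf_x, ← two_half]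
  push_cast
  rfl

theorem zpow_x_inj {a b : ℤ} : d.x ^ a = d.x ^ b ↔ 2 * d.half ∣ a - b := by
  rw [← d.zpow_x_eq_one, zpow_sub, mul_inv_eq_one]

theorem zpow_x_half (k : ℤ) : d.x ^ (d.half * k) = d.z ^ k := zpow_mul _ _ _

theorem z_ne_one : d.z ≠ 1 := by
  intro h
  rw [z, zpow_x_eq_one] at h
  have := Int.le_of_dvd d.half_pos h
  have := d.half_pos
  omega

theorem orderOf_z : orderOf d.z = 2 := by
  rw [invol_iff]
  refine ⟨?_, d.z_ne_one⟩
  rw [z, ← zpow_add, zpow_x_eq_one]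
  exact dvd_of_eq (two_mul _)

theorem z_zpow_two_mul (k : ℤ) : d.z ^ (2 * k) = 1 := by
  rw [zpow_mul, zpow_two, invol_mul_self d.orderOf_z, one_zpow]

theorem z_zpow_odd (k : ℤ) : d.z ^ (2 * k + 1) = d.z := by
  rw [zpow_add, d.z_zpow_two_mul, one_mul, zpow_one]

theorem z_zpow_of_even {k : ℤ} (h : Even k) : d.z ^ k = 1 := by
  obtain ⟨m, rfl⟩ := h
  rw [← two_mul, d.z_zpow_two_mul]

theorem z_zpow_of_odd {k : ℤ} (h : Odd k) : d.z ^ k = d.z := by
  obtain ⟨m, rfl⟩ := h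
  exact d.z_zpow_odd m

theorem q_mul_q : d.q * d.q = d.z := by
  rw [q, z, ← zpow_add, ← two_mul, ← half_eq]

theorem q_eq_inv : d.q⁻¹ = d.q * d.z := by
  rw [inv_eq_iff_mul_eq_one, ← mul_assoc, d.q_mul_q, invol_mul_self d.orderOf_z]

theorem orderOf_q : orderOf d.q = 4 := by
  refine orderOf_eq_prime_pow (p := 2) (n := 1) ?_ ?_
  · rw [show (2 : ℕ) ^ 1 = 2 by norm_num, sq, q_mul_q]
    exact d.z_ne_one
  · rw [show (2 : ℕ) ^ (1 + 1) = 2 * 2 by norm_num, pow_mul, sq d.q, q_mul_q, sq,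
      invol_mul_self d.orderOf_z]

theorem conj_y_x : d.y * d.x * d.y⁻¹ = d.x ^ (d.half - 1) := by
  rw [d.rel, half, ← zpow_natCast]
  congr 1
  push_cast [Nat.one_le_two_pow]
  rfl

theorem conj_y_zpow (i : ℤ) : d.y * d.x ^ i * d.y⁻¹ = d.x ^ (-i) * d.z ^ i := by
  rw [← conj_zpow, d.conj_y_x, ← zpow_mul, ← d.zpow_x_half, ← zpow_add]
  congr 1
  ring

theorem y_mul_zpow (i : ℤ) : d.y * d.x ^ i = d.x ^ (-i) * d.z ^ i * d.y := by
  rw [← d.conj_y_zpow, inv_mul_cancel_right]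

theorem y_not_mem : d.y ∉ zpowers d.x := by
  intro h
  obtain ⟨k, hk⟩ := h
  have h1 := d.conj_y_x
  rw [← hk, show d.x ^ k * d.x * (d.x ^ k)⁻¹ = d.x ^ (1 : ℤ) by group] at h1
  rw [zpow_x_inj] at h1
  obtain ⟨c, hc⟩ := h1
  obtain ⟨e, he⟩ := d.four_dvd_half
  rw [he] at hc
  have : (4 : ℤ) ∣ 2 := ⟨2 * e * c + e, by linarith⟩
  omega

theorem refl_not_mem (i : ℤ) : d.x ^ i * d.y ∉ zpowers d.x := fun h =>
  d.y_not_mem ((mul_mem_cancel_left (zpow_mem (mem_zpowers _) i)).1 h)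

theorem zpow_ne_refl (i j : ℤ) : d.x ^ i ≠ d.x ^ j * d.y := fun h =>
  d.refl_not_mem j (h ▸ zpow_mem (mem_zpowers _) i)

theorem refl_inj {i j : ℤ} : d.x ^ i * d.y = d.x ^ j * d.y ↔ 2 * d.half ∣ i - j := by
  rw [mul_left_inj, zpow_x_inj]

theorem index_zpowers [Finite S] : (zpowers d.x).index = 2 := by
  have h := card_mul_index (zpowers d.x)
  rw [Nat.card_zpowers, d.orderOf_x, d.card_eq, pow_succ] at h
  exact Nat.eq_of_mul_eq_mul_left (pow_pos two_pos _) h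

theorem cover [Finite S] (g : S) : (∃ i : ℤ, g = d.x ^ i) ∨ ∃ i : ℤ, g = d.x ^ i * d.y := by
  by_cases hg : g ∈ zpowers d.x
  · obtain ⟨i, hi⟩ := hg
    exact Or.inl ⟨i, hi.symm⟩
  · refine Or.inr ?_
    have h : g * d.y ∈ zpowers d.x :=
      (mul_mem_iff_of_index_two d.index_zpowers).2 (iff_of_false hg d.y_not_mem)
    obtain ⟨i, hi⟩ := h
    exact ⟨i, by rw [show d.x ^ i = g * d.y from hi, mul_assoc, invol_mul_self d.orderOf_y, mul_one]⟩

theorem sq_refl (i : ℤ) : d.x ^ i * d.y * (d.x ^ i * d.y) = d.z ^ i := by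
  rw [show d.x ^ i * d.y * (d.x ^ i * d.y) = d.x ^ i * (d.y * d.x ^ i) * d.y by group,
    y_mul_zpow, show d.x ^ i * (d.x ^ (-i) * d.z ^ i * d.y) * d.y = d.z ^ i * (d.y * d.y) by group,
    invol_mul_self d.orderOf_y, mul_one]

theorem orderOf_refl_even {i : ℤ} (hi : Even i) : orderOf (d.x ^ i * d.y) = 2 :=
  invol_iff.2 ⟨by rw [sq_refl, d.z_zpow_of_even hi],
    fun h => d.refl_not_mem i (h ▸ one_mem _)⟩

theorem orderOf_refl_odd {i : ℤ} (hi : Odd i) : orderOf (d.x ^ i * d.y) = 4 := by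
  refine orderOf_eq_prime_pow (p := 2) (n := 1) ?_ ?_
  · rw [show (2 : ℕ) ^ 1 = 2 by norm_num, sq, sq_refl, d.z_zpow_of_odd hi]
    exact d.z_ne_one
  · rw [show (2 : ℕ) ^ (1 + 1) = 2 * 2 by norm_num, pow_mul, sq (d.x ^ i * d.y), sq_refl, sq,
      d.z_zpow_of_odd hi, invol_mul_self d.orderOf_z]

theorem z_mem_center [Finite S] : d.z ∈ center S := by
  rw [mem_center_iff]
  intro g
  rcases d.cover g with ⟨i, rfl⟩ | ⟨i, rfl⟩
  · exact ((Commute.refl d.x).zpow_zpow _ _).eq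
  · have h := d.y_mul_zpow d.half
    rw [d.z_zpow_of_even ⟨2 ^ (d.n - 2), by rw [half_eq, two_mul]⟩, mul_one, zpow_neg] at h
    rw [z, mul_assoc, h, ← mul_assoc, ← mul_assoc]
    congr 1
    rw [← zpow_neg, ← zpow_add, ← zpow_add, zpow_x_inj]
    exact ⟨-1, by ring⟩

theorem commute_z [Finite S] (g : S) : Commute g d.z := mem_center_iff.1 d.z_mem_center g

/-- Conjugation of a reflection by a power of `x`. -/
theorem conj_refl (j i : ℤ) :
    d.x ^ j * (d.x ^ i * d.y) * (d.x ^ j)⁻¹ = d.x ^ (i + j * (2 - d.half)) * d.y := by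
  rw [← zpow_neg, show d.x ^ j * (d.x ^ i * d.y) * d.x ^ (-j)
    = d.x ^ j * d.x ^ i * (d.y * d.x ^ (-j)) by group, y_mul_zpow, ← d.zpow_x_half, ← zpow_add,
    ← zpow_add, ← mul_assoc, ← zpow_add]
  congr 2
  ring

theorem isCoprime_unit : IsCoprime (1 - 2 ^ (d.n - 2) : ℤ) d.half := by
  rw [half]
  refine IsCoprime.pow_right ?_
  obtain ⟨k, hk⟩ : (2 : ℤ) ∣ 2 ^ (d.n - 2) := dvd_pow_self 2 (by have := d.three_le; omega)
  exact ⟨1, k, by linear_combination -hk⟩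

theorem exists_conj_refl {i k : ℤ} (h : Even (k - i)) :
    ∃ j : ℤ, d.x ^ j * (d.x ^ i * d.y) * (d.x ^ j)⁻¹ = d.x ^ k * d.y := by
  obtain ⟨m, hm⟩ := h
  obtain ⟨u, v, huv⟩ := d.isCoprime_unit
  refine ⟨u * m, ?_⟩
  rw [conj_refl, refl_inj]
  exact ⟨-(v * m), by linear_combination 2 * m * huv - hm - u * m * d.half_eq⟩

theorem commute_zpow_refl {j i : ℤ} :
    Commute (d.x ^ j) (d.x ^ i * d.y) ↔ d.half ∣ j := by
  rw [Commute, SemiconjBy, ← mul_inv_eq_iff_eq_mul, conj_refl, refl_inj,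
    show i + j * (2 - d.half) - i = 2 * (j * (1 - 2 ^ (d.n - 2))) by rw [half_eq]; ring,
    Int.mul_dvd_mul_iff_left (by norm_num)]
  exact ⟨fun h => d.isCoprime_unit.symm.dvd_of_dvd_mul_right h, fun h => h.mul_right _⟩

/-- The centralizer of a reflection. -/
theorem commute_refl [Finite S] {i : ℤ} {g : S} (h : Commute g (d.x ^ i * d.y)) :
    g = 1 ∨ g = d.z ∨ g = d.x ^ i * d.y ∨ g = d.x ^ i * d.y * d.z := by
  have key : ∀ j : ℤ, Commute (d.x ^ j) (d.x ^ i * d.y) → d.x ^ j = 1 ∨ d.x ^ j = d.z := by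
    intro j hj
    obtain ⟨c, rfl⟩ := d.commute_zpow_refl.1 hj
    rw [zpow_x_half]
    rcases Int.even_or_odd c with hc | hc
    · exact Or.inl (d.z_zpow_of_even hc)
    · exact Or.inr (d.z_zpow_of_odd hc)
  rcases d.cover g with ⟨j, rfl⟩ | ⟨j, rfl⟩
  · rcases key j h with h1 | h1
    · exact Or.inl h1
    · exact Or.inr (Or.inl h1)
  · have e : d.x ^ j * d.y = d.x ^ (j - i) * (d.x ^ i * d.y) := by
      rw [← mul_assoc, ← zpow_add, sub_add_cancel]
    have hc : Commute (d.x ^ (j - i)) (d.x ^ i * d.y) := by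
      have := h.mul_left ((Commute.refl (d.x ^ i * d.y)).inv_left)
      rwa [e, mul_inv_cancel_right] at this
    rcases key _ hc with h1 | h1
    · exact Or.inr (Or.inr (Or.inl (by rw [e, h1, one_mul])))
    · exact Or.inr (Or.inr (Or.inr (by rw [e, h1, d.commute_z (d.x ^ i * d.y)])))

theorem invol_cases [Finite S] {g : S} (hg : orderOf g = 2) :
    g = d.z ∨ ∃ i : ℤ, Even i ∧ g = d.x ^ i * d.y := by
  rcases d.cover g with ⟨i, rfl⟩ | ⟨i, rfl⟩
  · have h := invol_mul_self hg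
    rw [← zpow_add, zpow_x_eq_one, ← two_mul, Int.mul_dvd_mul_iff_left (by norm_num)] at h
    obtain ⟨c, rfl⟩ := h
    rw [zpow_x_half] at hg ⊢
    rcases Int.even_or_odd c with hc | hc
    · exact absurd (d.z_zpow_of_even hc) (invol_ne_one hg)
    · exact Or.inl (d.z_zpow_of_odd hc)
  · refine Or.inr ⟨i, ?_, rfl⟩
    rcases Int.even_or_odd i with hc | hc
    · exact hc
    · rw [d.orderOf_refl_odd hc] at hg
      omega

theorem four_cases [Finite S] {g : S} (hg : orderOf g = 4) :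
    g = d.q ∨ g = d.q * d.z ∨ ∃ i : ℤ, Odd i ∧ g = d.x ^ i * d.y := by
  rcases d.cover g with ⟨i, rfl⟩ | ⟨i, rfl⟩
  · have h1 : d.x ^ i * d.x ^ i ≠ 1 := fun h => by
      have := orderOf_dvd_of_pow_eq_one (n := 2) (by rwa [sq] : (d.x ^ i) ^ 2 = 1)
      rw [hg] at this
      omega
    have h2 : (d.x ^ i) ^ 4 = 1 := hg ▸ pow_orderOf_eq_one _
    rw [← zpow_natCast, ← zpow_mul, zpow_x_eq_one] at h2
    obtain ⟨c, hc⟩ := h2
    have hi : i = 2 ^ (d.n - 2) * c := by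
      rw [half_eq] at hc
      push_cast at hc
      linarith
    subst hi
    rcases Int.even_or_odd' c with ⟨m, rfl | rfl⟩
    · refine absurd ?_ h1
      rw [← zpow_add, zpow_x_eq_one]
      exact ⟨m, by rw [half_eq]; ring⟩
    · rw [show (2 : ℤ) ^ (d.n - 2) * (2 * m + 1) = d.half * m + 2 ^ (d.n - 2) by rw [half_eq]; ring,
        zpow_add, zpow_x_half]
      rcases Int.even_or_odd m with hm | hm
      · left; rw [d.z_zpow_of_even hm, one_mul]; rfl
      · right; left; rw [d.z_zpow_of_odd hm, ← d.commute_z]; rfl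
  · refine Or.inr (Or.inr ⟨i, ?_, rfl⟩)
    rcases Int.even_or_odd i with hc | hc
    · rw [d.orderOf_refl_even hc] at hg
      omega
    · exact hc

theorem conj_q_refl [Finite S] (i : ℤ) :
    d.x ^ i * d.y * d.q * (d.x ^ i * d.y)⁻¹ = d.q * d.z := by
  rw [show d.x ^ i * d.y * d.q * (d.x ^ i * d.y)⁻¹
    = d.x ^ i * (d.y * d.q * d.y⁻¹) * (d.x ^ i)⁻¹ by group, q, conj_y_zpow,
    d.z_zpow_of_even (even_iff_two_dvd.2 (dvd_pow_self 2 (by have := d.three_le; omega))), mul_one,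
    ← zpow_add, ← zpow_neg, ← zpow_add, z, ← zpow_add, zpow_x_inj]
  exact ⟨-1, by rw [half_eq]; ring⟩

theorem commute_q_zpow (j : ℤ) : Commute (d.x ^ j) d.q := (Commute.refl d.x).zpow_zpow _ _

theorem not_commute_q_refl [Finite S] (i : ℤ) : ¬ Commute (d.x ^ i * d.y) d.q := fun h =>
  d.z_ne_one (mul_left_cancel (a := d.q) (by
    rw [mul_one, ← d.conj_q_refl i, h.eq, mul_inv_cancel_right]))

end QD

end CfsgLib.Involutions
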