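import Cfsg.Agent.Lib.Involutions.PSpFourClosed
import Cfsg.Prelude.Def_G2

/-!
A Sylow two-subgroup of `G₂(q)`, `q` odd: the octonions as two copies of the two by two matrices,
the centralizer of an involution, and the squares of the Sylow subgroup.
-/

set_option autoImplicit false
set_option linter.unusedSectionVars false

namespace CfsgLib.Involutions.G2Two

open Matrix
open CfsgLib.Involutions.PSpFour (SData av)

variable {F : Type*} [Field F]

local notation "M2" => Matrix (Fin 2) (Fin 2) F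
local notation "V8" => Fin 8 → F
local notation "SL2" => Matrix.SpecialLinearGroup (Fin 2) F
local notation "GL2" => GL (Fin 2) F
set_option quotPrecheck false in
local notation "G" => ↥(Cfsg.Lie.G2 F)

/-- The quaternion part. -/
def Mp (x : V8) : M2 := !![x 0, x 1; x 4, x 7]

/-- The complementary part. -/
def Yp (x : V8) : M2 := !![x 2, x 6; x 3, -x 5]

/-- The vector with the two given parts. -/
def asm (M Y : M2) : V8 := ![M 0 0, M 0 1, Y 0 0, Y 1 0, M 1 0, -Y 1 1, Y 0 1, M 1 1]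

theorem Mp_asm (M Y : M2) : Mp (asm M Y) = M := by
  ext i j; fin_cases i <;> fin_cases j <;> simp [Mp, asm]

theorem Yp_asm (M Y : M2) : Yp (asm M Y) = Y := by
  ext i j; fin_cases i <;> fin_cases j <;> simp [Yp, asm]

theorem asm_parts (x : V8) : asm (Mp x) (Yp x) = x := by
  funext i; fin_cases i <;> simp [Mp, Yp, asm]

theorem ext_parts {x y : V8} (h1 : Mp x = Mp y) (h2 : Yp x = Yp y) : x = y := by
  rw [← asm_parts x, h1, h2, asm_parts]

theorem asm_add (M M' Y Y' : M2) : asm (M + M') (Y + Y') = asm M Y + asm M' Y' := by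
  funext i; fin_cases i <;> simp [asm] <;> ring

theorem asm_smul (s : F) (M Y : M2) : asm (s • M) (s • Y) = s • asm M Y := by
  funext i; fin_cases i <;> simp [asm]

theorem Mp_add (x y : V8) : Mp (x + y) = Mp x + Mp y := by
  ext i j; fin_cases i <;> fin_cases j <;> simp [Mp]

theorem Yp_add (x y : V8) : Yp (x + y) = Yp x + Yp y := by
  ext i j; fin_cases i <;> fin_cases j <;> simp [Yp] <;> ring

theorem Mp_smul (s : F) (x : V8) : Mp (s • x) = s • Mp x := by
  ext i j; fin_cases i <;> fin_cases j <;> simp [Mp]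

theorem Yp_smul (s : F) (x : V8) : Yp (s • x) = s • Yp x := by
  ext i j; fin_cases i <;> fin_cases j <;> simp [Yp]

theorem Mp_mul (x y : V8) :
    Mp (Cfsg.Lie.zornMul x y) = Mp x * Mp y - (Yp y).adjugate * Yp x := by
  ext i j
  fin_cases i <;> fin_cases j <;>
    simp [Mp, Yp, Cfsg.Lie.zornMul, Cfsg.Lie.dot3, Cfsg.Lie.cross3, Matrix.mul_apply,
      Matrix.adjugate_fin_two, Fin.sum_univ_two] <;> ring

theorem Yp_mul (x y : V8) :
    Yp (Cfsg.Lie.zornMul x y) = Yp y * Mp x + Yp x * (Mp y).adjugate := by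
  ext i j
  fin_cases i <;> fin_cases j <;>
    simp [Mp, Yp, Cfsg.Lie.zornMul, Cfsg.Lie.dot3, Cfsg.Lie.cross3, Matrix.mul_apply,
      Matrix.adjugate_fin_two, Fin.sum_univ_two] <;> ring

/-- The linear map of a pair of matrices. -/
def lin (c c' p : M2) : V8 →ₗ[F] V8 where
  toFun x := asm (c * Mp x * c') (p * Yp x * c')
  map_add' x y := by simp only [Mp_add, Yp_add, mul_add, add_mul, asm_add]
  map_smul' s x := by
    simp only [Mp_smul, Yp_smul, Matrix.mul_smul, Matrix.smul_mul, RingHom.id_apply, asm_smul]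

theorem lin_apply (c c' p : M2) (x : V8) :
    lin c c' p x = asm (c * Mp x * c') (p * Yp x * c') := rfl

/-- The monoid map to the matrices. -/
noncomputable def phiMat (F : Type*) [Field F] :
    GL (Fin 2) F × GL (Fin 2) F →* Matrix (Fin 8) (Fin 8) F where
  toFun v := LinearMap.toMatrix' (lin (v.1 : Matrix (Fin 2) (Fin 2) F) (v.1⁻¹ : GL (Fin 2) F).1 v.2.1)
  map_one' := by
    rw [← LinearMap.toMatrix'_id]
    congr 1
    refine LinearMap.ext fun x => ?_
    simp [lin_apply, asm_parts]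
  map_mul' v w := by
    rw [← LinearMap.toMatrix'_comp]
    congr 1
    refine LinearMap.ext fun x => ?_
    simp only [LinearMap.comp_apply, lin_apply, Mp_asm, Yp_asm, Prod.fst_mul, Prod.snd_mul,
      _root_.mul_inv_rev, Units.val_mul, mul_assoc]

/-- The map to the general linear group. -/
noncomputable def phiGL (F : Type*) [Field F] :
    GL (Fin 2) F × GL (Fin 2) F →* GL (Fin 8) F := (phiMat F).toHomUnits

/-- The action of an element of `GL₈`. -/
def ap (g : GL (Fin 8) F) (x : V8) : V8 := (g : Matrix (Fin 8) (Fin 8) F) *ᵥ x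

theorem ap_mul (g g' : GL (Fin 8) F) (x : V8) : ap (g * g') x = ap g (ap g' x) := by
  simp [ap, Matrix.mulVec_mulVec]

theorem ap_one (x : V8) : ap 1 x = x := by simp [ap]

theorem ap_add (g : GL (Fin 8) F) (x y : V8) : ap g (x + y) = ap g x + ap g y :=
  Matrix.mulVec_add _ _ _

theorem ap_smul (g : GL (Fin 8) F) (s : F) (x : V8) : ap g (s • x) = s • ap g x :=
  Matrix.mulVec_smul _ _ _

theorem ap_inv_ap (g : GL (Fin 8) F) (x : V8) : ap g⁻¹ (ap g x) = x := by
  rw [← ap_mul, inv_mul_cancel, ap_one]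

theorem ap_ext {g g' : GL (Fin 8) F} (h : ∀ x, ap g x = ap g' x) : g = g' :=
  Units.ext (Matrix.toLin'.injective (LinearMap.ext fun x => by
    rw [Matrix.toLin'_apply, Matrix.toLin'_apply]; exact h x))

theorem ap_phiGL (c p : GL2) (x : V8) :
    ap (phiGL F (c, p)) x = asm (c.1 * Mp x * (c⁻¹).1) (p.1 * Yp x * (c⁻¹).1) := by
  show LinearMap.toMatrix' _ *ᵥ x = _
  rw [LinearMap.toMatrix'_mulVec, lin_apply]

theorem adjugate_conj (c : GL2) (M : M2) :
    (c.1 * M * (c⁻¹).1).adjugate = c.1 * M.adjugate * (c⁻¹).1 := by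
  have h1 : (c⁻¹).1.adjugate = (c⁻¹).1.det • c.1 := by
    calc (c⁻¹).1.adjugate = (c⁻¹).1.adjugate * ((c⁻¹).1 * c.1) := by rw [Units.inv_mul, mul_one]
      _ = (c⁻¹).1.det • c.1 := by
        rw [← mul_assoc, Matrix.adjugate_mul, Matrix.smul_mul, one_mul]
  have h2 : c.1.adjugate = c.1.det • (c⁻¹).1 := by
    calc c.1.adjugate = c.1.adjugate * (c.1 * (c⁻¹).1) := by rw [Units.mul_inv, mul_one]
      _ = c.1.det • (c⁻¹).1 := by
        rw [← mul_assoc, Matrix.adjugate_mul, Matrix.smul_mul, one_mul]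
  have h3 : (c⁻¹).1.det * c.1.det = 1 := by
    rw [← Matrix.det_mul, Units.inv_mul, Matrix.det_one]
  rw [Matrix.adjugate_mul_distrib, Matrix.adjugate_mul_distrib, h1, h2, Matrix.smul_mul,
    Matrix.mul_smul, Matrix.mul_smul, smul_smul, h3, one_smul, mul_assoc]

theorem phiGL_mem {c p : GL2} (h : c.1.det = p.1.det) : phiGL F (c, p) ∈ Cfsg.Lie.G2 F := by
  intro x y
  show ap (phiGL F (c, p)) (Cfsg.Lie.zornMul x y) =
    Cfsg.Lie.zornMul (ap (phiGL F (c, p)) x) (ap (phiGL F (c, p)) y)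
  have e1 : (c⁻¹).1 * c.1 = 1 := Units.inv_mul c
  have key : (p.1 * Yp y * (c⁻¹).1).adjugate * (p.1 * Yp x * (c⁻¹).1) =
      c.1 * ((Yp y).adjugate * Yp x) * (c⁻¹).1 := by
    have h1 : (c⁻¹).1.adjugate = (c⁻¹).1.det • c.1 := by
      calc (c⁻¹).1.adjugate = (c⁻¹).1.adjugate * ((c⁻¹).1 * c.1) := by rw [e1, mul_one]
        _ = (c⁻¹).1.det • c.1 := by
          rw [← mul_assoc, Matrix.adjugate_mul, Matrix.smul_mul, one_mul]
    have h3 : (c⁻¹).1.det * p.1.det = 1 := by
      rw [← h, ← Matrix.det_mul, e1, Matrix.det_one]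
    rw [Matrix.adjugate_mul_distrib, Matrix.adjugate_mul_distrib, h1]
    calc (c⁻¹).1.det • c.1 * ((Yp y).adjugate * p.1.adjugate) * (p.1 * Yp x * (c⁻¹).1)
        = (c⁻¹).1.det • (c.1 * (Yp y).adjugate * (p.1.adjugate * p.1) * Yp x * (c⁻¹).1) := by
          simp only [Matrix.smul_mul, mul_assoc]
      _ = _ := by
          rw [Matrix.adjugate_mul]
          simp only [Matrix.smul_mul, Matrix.mul_smul, smul_smul, h3, one_smul, mul_one, mul_assoc]
  apply ext_parts
  · rw [ap_phiGL, ap_phiGL, ap_phiGL, Mp_asm, Mp_mul, Mp_mul, Mp_asm, Mp_asm, Yp_asm, Yp_asm, key,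
      mul_sub, sub_mul]
    congr 1
    simp only [mul_assoc, Units.inv_mul_cancel_left]
  · rw [ap_phiGL, ap_phiGL, ap_phiGL, Yp_asm, Yp_mul, Yp_mul, Mp_asm, Mp_asm, Yp_asm, Yp_asm,
      adjugate_conj, mul_add, add_mul]
    simp only [mul_assoc, Units.inv_mul_cancel_left]

/-- Pairs with equal determinants. -/
def H2 (F : Type*) [Field F] : Subgroup (GL (Fin 2) F × GL (Fin 2) F) :=
  ((Matrix.GeneralLinearGroup.det (n := Fin 2) (R := F)).comp (MonoidHom.fst _ _)).eqLocus
    ((Matrix.GeneralLinearGroup.det (n := Fin 2) (R := F)).comp (MonoidHom.snd _ _))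

theorem mem_H2 {c p : GL2} : (c, p) ∈ H2 F ↔ c.1.det = p.1.det := by
  show Matrix.GeneralLinearGroup.det c = Matrix.GeneralLinearGroup.det p ↔ _
  rw [Units.ext_iff]
  rfl

/-- The map into `G₂`. -/
noncomputable def phi (F : Type*) [Field F] : H2 F →* Cfsg.Lie.G2 F :=
  ((phiGL F).comp (H2 F).subtype).codRestrict _ fun v => phiGL_mem (mem_H2.1 v.2)

theorem phi_coe (v : H2 F) : (phi F v : GL (Fin 8) F) = phiGL F v.1 := rfl

theorem eq_scalar_of_commute_all {M : M2} (h : ∀ N : M2, M * N = N * M) :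
    M = M 0 0 • (1 : M2) := by
  have a := congrArg (fun K : M2 => K 0 1) (h !![1, 0; 0, 0])
  have b := congrArg (fun K : M2 => K 1 0) (h !![1, 0; 0, 0])
  have d := congrArg (fun K : M2 => K 0 1) (h !![0, 1; 0, 0])
  simp [Matrix.mul_apply, Fin.sum_univ_two] at a b d
  ext i j
  fin_cases i <;> fin_cases j
  · simp
  · simp [← a]
  · simp [b]
  · simp [d]

theorem phiGL_eq {c p c' p' : GL2} (h : phiGL F (c, p) = phiGL F (c', p')) :
    ∃ s : F, c'.1 = s • c.1 ∧ p'.1 = s • p.1 := by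
  have hp := congrArg (fun g => Yp (ap g (asm 0 1))) h
  simp only [ap_phiGL, Yp_asm, mul_one] at hp
  have hc : ∀ N : M2, (c⁻¹).1 * c'.1 * N = N * ((c⁻¹).1 * c'.1) := by
    intro N
    have h1 := congrArg (fun g => Mp (ap g (asm N 0))) h
    simp only [ap_phiGL, Mp_asm] at h1
    have h2 := congrArg (fun K => (c⁻¹).1 * K * c'.1) h1
    simp only [mul_assoc, Units.inv_mul_cancel_left, Units.inv_mul, mul_one] at h2
    rw [mul_assoc, ← h2]
  have hs := eq_scalar_of_commute_all hc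
  refine ⟨((c⁻¹).1 * c'.1) 0 0, ?_, ?_⟩
  · rw [← mul_one c.1, ← Matrix.mul_smul, ← hs, Units.mul_inv_cancel_left]
  · rw [← mul_one p.1, ← Matrix.mul_smul, ← hs, ← mul_assoc, hp, Units.inv_mul_cancel_right]

theorem phiGL_scalar (c : GL2) {s : F} (hs : s ≠ 0) (h : c.1 = s • (1 : M2)) :
    phiGL F (c, c) = 1 := by
  have hi : (c⁻¹).1 = s⁻¹ • (1 : M2) := by
    refine Units.inv_eq_of_mul_eq_one_right ?_
    rw [h, Matrix.smul_mul, Matrix.mul_smul, one_mul, smul_smul, mul_inv_cancel₀ hs, one_smul]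
  refine ap_ext fun x => ?_
  rw [ap_phiGL, hi, h, ap_one]
  simp only [Matrix.smul_mul, Matrix.mul_smul, one_mul, mul_one, smul_smul, inv_mul_cancel₀ hs,
    one_smul, asm_parts]

/-- The central involution. -/
noncomputable def zG (F : Type*) [Field F] : Cfsg.Lie.G2 F :=
  phi F ⟨(1, -1), mem_H2.2 (by simp [Matrix.det_neg])⟩

theorem ap_zG (x : V8) : ap (zG F).1 x = asm (Mp x) (-Yp x) := by
  rw [zG, phi_coe, ap_phiGL]
  simp

/-- An element of `G₂` is multiplicative. -/
theorem ap_zorn (g : G) (x y : V8) :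
    ap g.1 (Cfsg.Lie.zornMul x y) = Cfsg.Lie.zornMul (ap g.1 x) (ap g.1 y) := g.2 x y

theorem det_fin_two_ne_zero {w0 w1 : Fin 2 → F}
    (h : ∀ s t : F, s • w0 + t • w1 = 0 → s = 0 ∧ t = 0) :
    (!![w0 0, w1 0; w0 1, w1 1] : M2).det ≠ 0 := by
  intro hd
  rw [Matrix.det_fin_two_of] at hd
  have e1 : w1 1 • w0 + (-w0 1) • w1 = 0 := by
    funext i; fin_cases i <;> simp
    · linear_combination hd
    · ring
  have e2 : w1 0 • w0 + (-w0 0) • w1 = 0 := by
    funext i; fin_cases i <;> simp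
    · ring
    · linear_combination -hd
  obtain ⟨-, a⟩ := h _ _ e1
  obtain ⟨-, b⟩ := h _ _ e2
  have hw : w0 = 0 := by
    funext i; fin_cases i
    · simpa using b
    · simpa using a
  exact one_ne_zero (h 1 0 (by simp [hw])).1

/-- An injective linear multiplicative map of the two by two matrices is a conjugation. -/
theorem exists_conj_of_mul {θ : M2 → M2} (ha : ∀ A B, θ (A + B) = θ A + θ B)
    (hs : ∀ (s : F) A, θ (s • A) = s • θ A) (hm : ∀ A B, θ (A * B) = θ A * θ B)
    (hi : Function.Injective θ) : ∃ c : GL2, ∀ M, θ M = c.1 * M * (c⁻¹).1 := by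
  have h0 : θ 0 = 0 := by simpa using hs 0 0
  have he : θ !![1, 0; 0, 0] ≠ 0 := by
    rw [← h0]
    intro e
    have := congrArg (fun M : M2 => M 0 0) (hi e)
    simp at this
  obtain ⟨v, hv⟩ : ∃ v, θ !![1, 0; 0, 0] *ᵥ v ≠ 0 := by
    by_contra hcon
    push_neg at hcon
    exact he (Matrix.toLin'.injective (LinearMap.ext fun v => by simp [hcon v]))
  set w0 := θ !![1, 0; 0, 0] *ᵥ v with hw0
  set w1 := θ !![0, 0; 1, 0] *ᵥ w0 with hw1
  have hfix : θ !![1, 0; 0, 0] *ᵥ w0 = w0 := by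
    rw [hw0, Matrix.mulVec_mulVec, ← hm]
    congr 2
    ext i j; fin_cases i <;> fin_cases j <;> simp [Matrix.mul_apply, Fin.sum_univ_two]
  have hd : (!![w0 0, w1 0; w0 1, w1 1] : M2).det ≠ 0 := by
    refine det_fin_two_ne_zero fun s t hst => ?_
    have k1 := congrArg (fun w => θ !![1, 0; 0, 0] *ᵥ w) hst
    have z1 : θ !![1, 0; 0, 0] *ᵥ w1 = 0 := by
      rw [hw1, Matrix.mulVec_mulVec, ← hm]
      have : (!![1, 0; 0, 0] : M2) * !![0, 0; 1, 0] = 0 := by
        ext i j; fin_cases i <;> fin_cases j <;> simp [Matrix.mul_apply, Fin.sum_univ_two]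
      rw [this, h0, Matrix.zero_mulVec]
    have z2 : θ !![0, 1; 0, 0] *ᵥ w1 = w0 := by
      rw [hw1, Matrix.mulVec_mulVec, ← hm]
      have : (!![0, 1; 0, 0] : M2) * !![0, 0; 1, 0] = !![1, 0; 0, 0] := by
        ext i j; fin_cases i <;> fin_cases j <;> simp [Matrix.mul_apply, Fin.sum_univ_two]
      rw [this, hfix]
    simp only [Matrix.mulVec_add, Matrix.mulVec_smul, hfix, z1, smul_zero, add_zero,
      Matrix.mulVec_zero] at k1
    have s0 : s = 0 := (smul_eq_zero.1 k1).resolve_right hv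
    subst s0
    have k2 := congrArg (fun w => θ !![0, 1; 0, 0] *ᵥ w) hst
    simp only [zero_smul, zero_add, Matrix.mulVec_smul, z2, Matrix.mulVec_zero] at k2
    exact ⟨rfl, (smul_eq_zero.1 k2).resolve_right hv⟩
  let c : GL2 := Matrix.GeneralLinearGroup.mkOfDetNeZero _ hd
  refine ⟨c, fun M => ?_⟩
  suffices h : θ M * c.1 = c.1 * M by rw [← h, Units.mul_inv_cancel_right]
  have d0 : M * !![1, 0; 0, 0] = M 0 0 • !![1, 0; 0, 0] + M 1 0 • !![0, 0; 1, 0] := by
    ext i j; fin_cases i <;> fin_cases j <;> simp [Matrix.mul_apply, Fin.sum_univ_two]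
  have d1 : M * !![0, 0; 1, 0] = M 0 1 • !![1, 0; 0, 0] + M 1 1 • !![0, 0; 1, 0] := by
    ext i j; fin_cases i <;> fin_cases j <;> simp [Matrix.mul_apply, Fin.sum_univ_two]
  have a0 : θ M *ᵥ w0 = M 0 0 • w0 + M 1 0 • w1 := by
    conv_lhs => rw [← hfix, Matrix.mulVec_mulVec, ← hm, d0, ha, hs, hs]
    rw [Matrix.add_mulVec, Matrix.smul_mulVec, Matrix.smul_mulVec, hfix]
  have a1 : θ M *ᵥ w1 = M 0 1 • w0 + M 1 1 • w1 := by
    conv_lhs => rw [hw1, Matrix.mulVec_mulVec, ← hm, d1, ha, hs, hs]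
    rw [Matrix.add_mulVec, Matrix.smul_mulVec, Matrix.smul_mulVec, hfix]
  have a00 := congrFun a0 0; have a01 := congrFun a0 1
  have a10 := congrFun a1 0; have a11 := congrFun a1 1
  simp [Matrix.mulVec, dotProduct, Fin.sum_univ_two] at a00 a01 a10 a11
  ext i j
  fin_cases i <;> fin_cases j <;> simp [c, Matrix.mul_apply, Fin.sum_univ_two]
  · linear_combination a00
  · linear_combination a10
  · linear_combination a01
  · linear_combination a11

/-- The centralizer of the involution is the image of the pairs. -/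
theorem centralizer_zG (h2 : (2 : F) ≠ 0) (g : G) (hg : g * zG F = zG F * g) :
    ∃ v : H2 F, phi F v = g := by
  have fixY : ∀ {K : M2}, K = -K → K = 0 := by
    intro K hK
    ext i j
    have := congrFun (congrFun hK i) j
    simp only [Matrix.neg_apply] at this
    have h' : (2 : F) * K i j = 0 := by linear_combination this
    simpa using (mul_eq_zero.1 h').resolve_left h2
  have comm : ∀ (g : G), g * zG F = zG F * g → ∀ x : V8,
      ap g.1 (asm (Mp x) (-Yp x)) = asm (Mp (ap g.1 x)) (-Yp (ap g.1 x)) := by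
    intro g hg x
    rw [← ap_zG, ← ap_zG, ← ap_mul, ← ap_mul, ← Subgroup.coe_mul, ← Subgroup.coe_mul, hg]
  have presM : ∀ (g : G), g * zG F = zG F * g → ∀ M : M2, Yp (ap g.1 (asm M 0)) = 0 := by
    intro g hg M
    have := comm g hg (asm M 0)
    rw [Mp_asm, Yp_asm, neg_zero] at this
    have h := congrArg Yp this
    rw [Yp_asm] at h
    exact fixY h
  have hM : ∀ A B : M2, Cfsg.Lie.zornMul (asm A 0) (asm B 0) = asm (A * B) 0 := by
    intro A B
    apply ext_parts <;> simp [Mp_mul, Yp_mul, Mp_asm, Yp_asm]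
  set θ : M2 → M2 := fun M => Mp (ap g.1 (asm M 0)) with hθ
  have hasm : ∀ M, ap g.1 (asm M 0) = asm (θ M) 0 := fun M => by
    apply ext_parts
    · rw [Mp_asm]
    · rw [Yp_asm, presM g hg]
  obtain ⟨c, hc⟩ := exists_conj_of_mul (θ := θ)
    (fun A B => by
      simp only [hθ]
      rw [← Mp_add, ← ap_add, ← asm_add, add_zero])
    (fun s A => by
      simp only [hθ]
      rw [← Mp_smul, ← ap_smul, ← asm_smul, smul_zero])
    (fun A B => by
      show Mp (ap g.1 (asm (A * B) 0)) = _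
      rw [← hM, ap_zorn, hasm, hasm, hM, Mp_asm])
    (fun A B e => by
      have : ap g.1 (asm A 0) = ap g.1 (asm B 0) := by rw [hasm, hasm, e]
      have := congrArg (ap (g.1)⁻¹) this
      rw [ap_inv_ap, ap_inv_ap] at this
      have := congrArg Mp this
      rwa [Mp_asm, Mp_asm] at this)
  let d : GL2 := Matrix.GeneralLinearGroup.mkOfDetNeZero !![c.1.det, 0; 0, 1]
    (by simp [Matrix.det_fin_two_of, c.det_ne_zero])
  let v : H2 F := ⟨(c, d), mem_H2.2 (by simp [d, Matrix.det_fin_two_of])⟩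
  have hv : phi F v * zG F = zG F * phi F v := by
    refine Subtype.ext (ap_ext fun x => ?_)
    rw [Subgroup.coe_mul, Subgroup.coe_mul, ap_mul, ap_mul, ap_zG, ap_zG, phi_coe]
    show ap (phiGL F (c, d)) (asm (Mp x) (-Yp x)) =
      asm (Mp (ap (phiGL F (c, d)) x)) (-Yp (ap (phiGL F (c, d)) x))
    simp [ap_phiGL, Mp_asm, Yp_asm]
  set k : G := (phi F v)⁻¹ * g with hk
  have hkz : k * zG F = zG F * k := by
    have : Commute (phi F v)⁻¹ (zG F) := Commute.inv_left hv
    exact (this.mul_left hg).eq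
  have kM : ∀ M : M2, ap k.1 (asm M 0) = asm M 0 := by
    intro M
    rw [hk, Subgroup.coe_mul, ap_mul, hasm, hc]
    have : asm (c.1 * M * (c⁻¹).1) (0 : M2) = ap (phi F v).1 (asm M 0) := by
      rw [phi_coe]
      show _ = ap (phiGL F (c, d)) _
      simp [ap_phiGL, Mp_asm, Yp_asm]
    rw [this, Subgroup.coe_inv, ap_inv_ap]
  have kY : ∀ Y : M2, Mp (ap k.1 (asm 0 Y)) = 0 := by
    intro Y
    have := comm k hkz (asm 0 Y)
    rw [Mp_asm, Yp_asm] at this
    have hn : asm (0 : M2) (-Y) = (-1 : F) • asm 0 Y := by rw [← asm_smul]; simp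
    rw [hn, ap_smul] at this
    have h := congrArg Mp this
    rw [Mp_asm, Mp_smul, neg_one_smul] at h
    exact fixY h.symm
  set p : M2 := Yp (ap k.1 (asm 0 1)) with hp
  have hY1 : ap k.1 (asm 0 1) = asm 0 p := by
    apply ext_parts
    · rw [Mp_asm, kY]
    · rw [Yp_asm]
  have hY : ∀ Y : M2, ap k.1 (asm 0 Y) = asm 0 (p * Y) := by
    intro Y
    have e : Cfsg.Lie.zornMul (asm (0 : M2) 1) (asm Y.adjugate 0) = asm 0 Y := by
      apply ext_parts <;>
        simp [Mp_mul, Yp_mul, Mp_asm, Yp_asm, Matrix.adjugate_fin_two, ← Matrix.ext_iff,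
          Fin.forall_fin_two]
    conv_lhs => rw [← e, ap_zorn, hY1, kM]
    apply ext_parts <;>
      simp [Mp_mul, Yp_mul, Mp_asm, Yp_asm, Matrix.adjugate_adjugate]
  have hdet : p.det = 1 := by
    have e : Cfsg.Lie.zornMul (asm (0 : M2) 1) (asm 0 1) = asm (-1) 0 := by
      apply ext_parts <;> simp [Mp_mul, Yp_mul, Mp_asm, Yp_asm]
    have h := ap_zorn k (asm 0 1) (asm 0 1)
    rw [e, kM, hY1] at h
    have h := congrArg Mp h
    rw [Mp_asm, Mp_mul, Mp_asm, Yp_asm, zero_mul, zero_sub, Matrix.adjugate_mul, neg_inj] at h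
    have := congrFun (congrFun h 0) 0
    simpa using this.symm
  let pu : GL2 := Matrix.GeneralLinearGroup.mkOfDetNeZero p (by rw [hdet]; exact one_ne_zero)
  let w : H2 F := ⟨(1, pu), mem_H2.2 (by simp [pu, hdet])⟩
  refine ⟨v * w, ?_⟩
  have : phi F w = k := by
    refine Subtype.ext (ap_ext fun x => ?_)
    rw [phi_coe]
    show ap (phiGL F (1, pu)) x = _
    conv_rhs => rw [← asm_parts x, ← add_zero (Mp x), ← zero_add (Yp x), asm_add, ap_add, kM, hY,
      ← asm_add, add_zero, zero_add]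
    simp [ap_phiGL, pu]
  rw [map_mul, this, hk, mul_inv_cancel_left]

end CfsgLib.Involutions.G2Two
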