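import Cfsg.Agent.Lib.Involutions.IsolatedCentre
import Cfsg.Agent.Lib.Transfer.Alperin
import Cfsg.Agent.Lib.Transfer.Fusion

/-!
# Fusion controlled by normalizers of self-centralizing subgroups

Alperin's theorem in the form used for Sylow 2-subgroups of rank two: a property of elements of
`P` is a fusion invariant as soon as it is invariant under `P` and under the elements of order
prime to `p` of the normalizers of the subgroups `D ≤ P` with `C_P(D) ≤ D`.
-/

set_option autoImplicit false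

namespace CfsgLib.Involutions

open Subgroup
open scoped commutatorElement

variable {G : Type*} [Group G]

/-- `D` lies in `P` and contains its centralizer in `P`. -/
def CentricIn (D P : Subgroup G) : Prop := D ≤ P ∧ ∀ s ∈ P, s ∈ centralizer (D : Set G) → s ∈ D

/-- An element of odd order that fixes `W` and stabilizes the coset `W v` centralises `v`. -/
theorem commute_of_stab {W : Subgroup G} (hW : IsPGroup 2 W) {y : G} (hy : Odd (orderOf y))
    (hfix : ∀ w ∈ W, Commute y w) {v : G} (hst : y * v * y⁻¹ * v⁻¹ ∈ W) : Commute y v := by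
  set w := y * v * y⁻¹ * v⁻¹ with hw
  have hn : ∀ n : ℕ, y ^ n * v * (y ^ n)⁻¹ = w ^ n * v := by
    intro n
    induction n with
    | zero => simp
    | succ n ihn =>
      calc y ^ (n + 1) * v * (y ^ (n + 1))⁻¹ = y * (y ^ n * v * (y ^ n)⁻¹) * y⁻¹ := by
            rw [pow_succ']; group
        _ = y * w ^ n * y⁻¹ * (y * v * y⁻¹) := by rw [ihn]; group
        _ = w ^ n * (w * v) := by
            rw [((hfix w hst).pow_right n).eq, mul_inv_cancel_right]
            congr 1
            rw [hw]; group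
        _ = w ^ (n + 1) * v := by rw [← mul_assoc, ← pow_succ]
  have hwn : w ^ orderOf y = 1 := by
    simpa [pow_orderOf_eq_one] using (hn (orderOf y)).symm
  obtain ⟨k, hk⟩ := hW ⟨w, hst⟩
  have h1 : orderOf w = 1 := Nat.eq_one_of_dvd_coprimes
    (Nat.Coprime.pow_left k (Nat.coprime_two_left.2 hy))
    (orderOf_dvd_of_pow_eq_one (congrArg Subtype.val hk)) (orderOf_dvd_of_pow_eq_one hwn)
  rw [orderOf_eq_one_iff, hw, mul_inv_eq_one, mul_inv_eq_iff_eq_mul] at h1
  exact h1

/-- An element of odd order normalizing a cyclic 2-group centralises it. -/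
theorem commute_of_cyclic [Finite G] {A : Subgroup G} [IsCyclic A] (hA : IsPGroup 2 A) {y : G}
    (hy : Odd (orderOf y)) (hn : ∀ a ∈ A, y * a * y⁻¹ ∈ A) : ∀ a ∈ A, Commute y a := by
  intro a ha
  obtain ⟨k, hk⟩ := hA ⟨a, ha⟩
  have hcomm : ∀ a ∈ A, ∀ b ∈ A, Commute a b := fun a ha b hb => by
    obtain ⟨g, hg⟩ := IsCyclic.exists_generator (α := A)
    obtain ⟨i, hi⟩ := hg ⟨a, ha⟩
    obtain ⟨j, hj⟩ := hg ⟨b, hb⟩
    exact congrArg Subtype.val (show (⟨a, ha⟩ : A) * ⟨b, hb⟩ = ⟨b, hb⟩ * ⟨a, ha⟩ by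
      rw [← hi, ← hj]; exact (Commute.refl g).zpow_zpow i j)
  refine commute_of_fixes_involutions hy hcomm hn (fun b hb hb2 => ?_) k a ha (congrArg Subtype.val hk)
  classical
  have : Fintype A := Fintype.ofFinite A
  by_contra hne
  have hb' : orderOf (y * b * y⁻¹) = 2 := conj_invol y hb2
  have hle := IsCyclic.card_pow_eq_one_le (α := A) two_pos
  have h3 : ({1, ⟨b, hb⟩, ⟨y * b * y⁻¹, hn b hb⟩} : Finset A) ⊆
      Finset.univ.filter fun x => x ^ 2 = 1 := by
    intro x hx
    rw [Finset.mem_filter]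
    refine ⟨Finset.mem_univ _, ?_⟩
    simp only [Finset.mem_insert, Finset.mem_singleton] at hx
    rcases hx with rfl | rfl | rfl
    · exact one_pow 2
    · exact Subtype.ext (by rw [Subgroup.coe_pow, sq]; exact invol_mul_self hb2)
    · exact Subtype.ext (by rw [Subgroup.coe_pow, sq]; exact invol_mul_self hb')
  have h4 := (Finset.card_le_card h3).trans hle
  rw [Finset.card_insert_of_notMem, Finset.card_pair] at h4
  · omega
  · exact fun h => hne (mul_inv_eq_iff_eq_mul.1 (congrArg Subtype.val h).symm)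
  · simp only [Finset.mem_insert, Finset.mem_singleton, not_or]
    exact ⟨fun h => invol_ne_one hb2 (congrArg Subtype.val h).symm,
      fun h => invol_ne_one hb' (congrArg Subtype.val h).symm⟩

/-- If `N` maps to a group of order 6 with kernel `M` and some 2-element of `N` has nontrivial
image, then `|N : M|` is 2 or 6. -/
theorem relIndex_eq_two_or_six [Finite G] {H : Type*} [Group H] [Finite H] (hH : Nat.card H = 6)
    {M N : Subgroup G} (φ : N →* H) (hker : φ.ker = M.subgroupOf N) {x : N} {k : ℕ}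
    (hx : x ^ 2 ^ k = 1) (hx1 : φ x ≠ 1) : M.relIndex N = 2 ∨ M.relIndex N = 6 := by
  have h1 : M.relIndex N = Nat.card φ.range := by rw [relIndex, ← hker, index_ker]
  have h2 : Nat.card φ.range ∣ 6 := hH ▸ card_subgroup_dvd_card φ.range
  obtain ⟨i, -, hi⟩ := (Nat.dvd_prime_pow Nat.prime_two).1
    (orderOf_dvd_of_pow_eq_one (show φ x ^ 2 ^ k = 1 by rw [← map_pow, hx, map_one]))
  have h3 : 2 ∣ Nat.card φ.range := by
    refine Dvd.dvd.trans ?_ (φ.range.orderOf_dvd_natCard ⟨x, rfl⟩)
    rcases Nat.eq_zero_or_pos i with rfl | hi0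
    · rw [pow_zero, orderOf_eq_one_iff] at hi
      exact absurd hi hx1
    · exact hi ▸ dvd_pow_self 2 hi0.ne'
  rw [h1]
  have := Nat.le_of_dvd (by norm_num) h2
  obtain ⟨t, ht⟩ := h3
  have : t ∈ ({0, 1, 2, 3} : Finset ℕ) := by simp; omega
  fin_cases this <;> simp_all

section

variable [Finite G] {p : ℕ} [hp : Fact p.Prime]

/-- An element of order prime to `p` normalizing a tame `D` acts on it as one normalizing a
self-centralizing overgroup. -/
theorem exists_centric (P : Sylow p G) {D : Subgroup G} (hDP : D ≤ (P : Subgroup G))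
    (hidx : ¬ p ∣ ((P : Subgroup G) ⊓ normalizer (D : Set G)).relIndex (normalizer (D : Set G)))
    {c : G} (hc : c ∈ normalizer (D : Set G)) (hcp : Nat.Coprime (orderOf c) p) :
    ∃ D' : Subgroup G, D ≤ D' ∧ CentricIn D' (P : Subgroup G) ∧
      ∃ y ∈ normalizer (D' : Set G), Nat.Coprime (orderOf y) p ∧
        ∀ a ∈ D, y * a * y⁻¹ = c * a * c⁻¹ := by
  set N := normalizer (D : Set G) with hN
  set C := centralizer (D : Set G) with hC
  set Cn := C.subgroupOf N with hCn
  haveI : Cn.Normal := by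
    rw [hCn, hC, ← normalizerMonoidHom_ker]
    infer_instance
  set S : Sylow p N :=
    ((P.2.to_le (inf_le_left : (P : Subgroup G) ⊓ N ≤ _)).comap_subtype (K := N)).toSylow hidx
  set T : Sylow p Cn := (S.isPGroup'.comap_subtype (K := Cn)).toSylow
    (Transfer.not_dvd_index_subgroupOf_of_normal S Cn) with hT
  have htop := Sylow.normalizer_sup_eq_top T
  obtain ⟨w, hw, u, hu, hwu⟩ := mem_sup_of_normal_right.1
    (htop ▸ mem_top (⟨c, hc⟩ : N) : (⟨c, hc⟩ : N) ∈ _)
  obtain ⟨a, haw, b, hbw, hab, ⟨k, hk⟩, hbp⟩ := Transfer.exists_pPart_mul (p := p) w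
  set π := QuotientGroup.mk' Cn with hπ
  have hu1 : π u = 1 := (QuotientGroup.eq_one_iff u).2 hu
  have hwc : π w = π ⟨c, hc⟩ := by rw [← hwu, map_mul, hu1, mul_one]
  have ha1 : π a = 1 := by
    obtain ⟨i, rfl⟩ := haw
    have h1 : orderOf (π (w ^ i)) ∣ orderOf (⟨c, hc⟩ : N) := by
      rw [map_zpow, hwc]
      exact (orderOf_dvd_of_mem_zpowers (zpow_mem (mem_zpowers _) _)).trans (orderOf_map_dvd π _)
    rw [Subgroup.orderOf_mk] at h1
    exact orderOf_eq_one_iff.1 (Nat.eq_one_of_dvd_coprimes (Nat.Coprime.pow_right k hcp) h1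
      ((orderOf_map_dvd π _).trans hk))
  have hbc : π b = π ⟨c, hc⟩ := by rw [← hwc, ← hab, map_mul, ha1, one_mul]
  set Tg := (P : Subgroup G) ⊓ C with hTg
  refine ⟨D ⊔ Tg, le_sup_left, ⟨sup_le hDP inf_le_left, fun s hs hsc => mem_sup_right
    ⟨hs, centralizer_le (SetLike.coe_subset_coe.2 le_sup_left) hsc⟩⟩, b, ?_, ?_, ?_⟩
  · have hbN : (b : G) ∈ N := b.2
    have hbn : b ∈ normalizer (((T : Subgroup Cn).map Cn.subtype : Subgroup N) : Set N) :=
      (zpowers_le.2 hw) hbw
    have hCCn : ∀ g ∈ C, g ∈ N := fun g hg => centralizer_le_normalizer _ hg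
    have hTg' : ∀ g : N, g ∈ (T : Subgroup Cn).map Cn.subtype ↔ (g : G) ∈ Tg := by
      intro g
      constructor
      · rintro ⟨t, ht, rfl⟩
        exact ⟨(mem_subgroupOf.1 (mem_subgroupOf.1 ht : (t : N) ∈ (S : Subgroup N))).1,
          mem_subgroupOf.1 t.2⟩
      · intro hg
        exact ⟨⟨g, mem_subgroupOf.2 hg.2⟩, mem_subgroupOf.2 (mem_subgroupOf.2 ⟨hg.1, g.2⟩), rfl⟩
    have h1 : ∀ g ∈ Tg, (b : G) * g * (b : G)⁻¹ ∈ Tg := fun g hg => by
      have := (mem_normalizer_iff.1 hbn ⟨g, hCCn g hg.2⟩).1 ((hTg' ⟨g, hCCn g hg.2⟩).2 hg)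
      simpa using (hTg' _).1 this
    have h2 : (D ⊔ Tg).map (MulAut.conj (b : G)).toMonoidHom ≤ D ⊔ Tg := by
      rw [Subgroup.map_sup]
      refine sup_le ?_ ?_
      · rintro _ ⟨g, hg, rfl⟩
        exact mem_sup_left ((mem_normalizer_iff.1 hbN g).1 hg)
      · rintro _ ⟨g, hg, rfl⟩
        exact mem_sup_right (h1 g hg)
    rw [mem_normalizer_iff_map_conj_eq]
    exact eq_of_le_of_card_ge h2 (Subgroup.card_map_of_injective (MulAut.conj (b : G)).injective).ge
  · rwa [Subgroup.orderOf_coe]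
  · intro d hd
    have h1 : (⟨c, hc⟩ : N)⁻¹ * b ∈ Cn := (QuotientGroup.eq).1 hbc.symm
    have h2 := mem_centralizer_iff.1 (mem_subgroupOf.1 h1) d hd
    push_cast at h2
    calc (b : G) * d * (b : G)⁻¹ = c * ((c⁻¹ * b) * d) * (b : G)⁻¹ := by group
      _ = c * (d * (c⁻¹ * b)) * (b : G)⁻¹ := by rw [← h2]
      _ = c * d * c⁻¹ := by group

/-- A property of elements of `P` invariant under `P` and under the elements of order prime to
`p` normalizing self-centralizing subgroups of `P` is a fusion invariant. -/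
theorem fusion_invariant (P : Sylow p G) {Φ : G → Prop}
    (hP : ∀ k ∈ (P : Subgroup G), ∀ a ∈ (P : Subgroup G), Φ a → Φ (k * a * k⁻¹))
    (hloc : ∀ D : Subgroup G, CentricIn D (P : Subgroup G) → ∀ y ∈ normalizer (D : Set G),
      Nat.Coprime (orderOf y) p → ∀ a ∈ D, Φ a → Φ (y * a * y⁻¹))
    {a : G} (ha : a ∈ (P : Subgroup G)) {g : G} (hg : g * a * g⁻¹ ∈ (P : Subgroup G))
    (h : Φ a) : Φ (g * a * g⁻¹) := by
  have key : ∀ (A : Set G) (g : G), Transfer.FusionChain P A g →
      ∀ a ∈ A, Φ a → Φ (g⁻¹ * a * g) := by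
    intro A g hch
    induction hch with
    | nil A => exact fun a _ h => by simpa using h
    | @cons A g Q x hxN hP' hQ hA _ ih =>
      intro a ha hΦ
      rw [show (x * g)⁻¹ * a * (x * g) = g⁻¹ * (x⁻¹ * a * x) * g by group]
      refine ih _ ⟨a, ha, rfl⟩ ?_
      set D : Subgroup G := (P : Subgroup G) ⊓ (Q : Subgroup G) with hD
      let N : Subgroup G := normalizer (D : Set G)
      let S : Sylow p N :=
        ((P.2.to_le (inf_le_left : (P : Subgroup G) ⊓ N ≤ _)).comap_subtype (K := N)).toSylow hP'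
      have hres : ∀ c ∈ Cfsg.pResidual p N, ∀ d ∈ D, Φ d ↔ Φ ((c : G) * d * (c : G)⁻¹) := by
        intro c hc
        induction hc using closure_induction with
        | mem c hc =>
          have h1 : ∀ e : G, e ∈ N → Nat.Coprime (orderOf e) p → ∀ d ∈ D, Φ d → Φ (e * d * e⁻¹) := by
            intro e he hep d hd hΦd
            obtain ⟨D', hle, hcen, y, hyN, hyp, hact⟩ := exists_centric P inf_le_left hP' he hep
            rw [← hact d hd]
            exact hloc D' hcen y hyN hyp d (hle hd) hΦd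
          intro d hd
          refine ⟨h1 c c.2 (by rwa [Subgroup.orderOf_coe]) d hd, fun h => ?_⟩
          have := h1 (c : G)⁻¹ (inv_mem c.2) (by rwa [orderOf_inv, Subgroup.orderOf_coe])
            _ ((mem_normalizer_iff.1 c.2 d).1 hd) h
          simpa [mul_assoc] using this
        | one => intro d _; simp
        | mul c e _ _ h1 h2 =>
          intro d hd
          rw [h2 d hd, h1 _ ((mem_normalizer_iff.1 e.2 d).1 hd),
            show (c : G) * ((e : G) * d * (e : G)⁻¹) * (c : G)⁻¹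
              = ((c * e : N) : G) * d * ((c * e : N) : G)⁻¹ by push_cast; group]
        | inv c _ h1 =>
          intro d hd
          have hd' : (c : G)⁻¹ * d * c ∈ D := (mem_normalizer_iff''.1 c.2 d).1 hd
          rw [show ((c⁻¹ : N) : G) * d * ((c⁻¹ : N) : G)⁻¹ = (c : G)⁻¹ * d * c by push_cast; group,
            h1 _ hd', show (c : G) * ((c : G)⁻¹ * d * c) * (c : G)⁻¹ = d by group]
      have := Transfer.pResidual_normal (G := N) (p := p)
      obtain ⟨u, hu, c, hc, huc⟩ := mem_sup_of_normal_right.1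
        ((Transfer.sup_pResidual_eq_top S).symm ▸ mem_top ((⟨x, hxN⟩ : N)⁻¹) :
          (⟨x, hxN⟩ : N)⁻¹ ∈ (S : Subgroup N) ⊔ Cfsg.pResidual p N)
      have hxe : x⁻¹ = (u : G) * (c : G) := by rw [← Subgroup.coe_mul, huc]; rfl
      have huP : (u : G) ∈ (P : Subgroup G) := (mem_subgroupOf.1 hu).1
      have h1 := (hres c hc a (hA ha)).1 hΦ
      have hmem : (c : G) * a * (c : G)⁻¹ ∈ (P : Subgroup G) :=
        ((mem_normalizer_iff.1 c.2 a).1 (hA ha)).1
      rw [show x⁻¹ * a * x = (u : G) * ((c : G) * a * (c : G)⁻¹) * (u : G)⁻¹ by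
        rw [← inv_inv x, hxe]; group]
      exact hP _ huP _ hmem h1
  simpa using key _ _ (Transfer.fusionChain P (A := {a}) (g := g⁻¹)
    (Set.singleton_subset_iff.2 ha) (by simpa using hg)) a rfl h

/-- If all self-centralizing subgroups of `P` are centralised by the `p'`-elements of their
normalizers, there is a normal `p`-complement. -/
theorem hasNormalPComplement_of_centric (P : Sylow p G)
    (hloc : ∀ D : Subgroup G, CentricIn D (P : Subgroup G) → ∀ y ∈ normalizer (D : Set G),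
      Nat.Coprime (orderOf y) p → ∀ a ∈ D, Commute y a) : Cfsg.HasNormalPComplement p G := by
  refine Transfer.hasNormalPComplement_of_fusion P fun a ha g hg => ?_
  refine fusion_invariant P (Φ := fun b => ∃ k ∈ (P : Subgroup G), k * a * k⁻¹ = b) ?_ ?_ ha hg
    ⟨1, one_mem _, by simp⟩
  · rintro k hk _ - ⟨l, hl, rfl⟩
    exact ⟨k * l, mul_mem hk hl, by group⟩
  · rintro D hD y hy hyp b hb h
    rwa [(hloc D hD y hy hyp b hb).eq, mul_inv_cancel_right]

/-- A normal subgroup meeting `P` in `M`, from local invariance of the cosets of `M`. -/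
theorem exists_normal_inf_eq (P : Sylow p G) (M : Subgroup G) (hMP : M ≤ (P : Subgroup G))
    (hMn : ∀ k ∈ (P : Subgroup G), ∀ m ∈ M, k * m * k⁻¹ ∈ M)
    (hab : ∀ a ∈ (P : Subgroup G), ∀ b ∈ (P : Subgroup G), a⁻¹ * (b * a * b⁻¹) ∈ M)
    (hloc : ∀ D : Subgroup G, CentricIn D (P : Subgroup G) → ∀ y ∈ normalizer (D : Set G),
      Nat.Coprime (orderOf y) p → ∀ a ∈ D, a⁻¹ * (y * a * y⁻¹) ∈ M) :
    ∃ K : Subgroup G, K.Normal ∧ K ⊓ (P : Subgroup G) = M ∧
      K.index = M.relIndex (P : Subgroup G) ∧ Cfsg.pResidual p G ≤ K := by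
  have hfoc : (P : Subgroup G).focalSubgroup ≤ M := by
    rw [focalSubgroup_def, closure_le]
    rintro z ⟨hz, x, hx, u, rfl⟩
    have hu : u * x⁻¹ * u⁻¹ ∈ (P : Subgroup G) := by
      have := mul_mem (inv_mem hx) hz
      rw [commutatorElement_def] at this
      simpa [mul_assoc] using this
    have key := fusion_invariant P (Φ := fun b => x * b ∈ M) ?_ ?_ (inv_mem hx) hu
      (by rw [mul_inv_cancel]; exact one_mem _)
    · rw [SetLike.mem_coe, commutatorElement_def]
      simpa [mul_assoc] using key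
    · intro k hk b hb h
      show x * (k * b * k⁻¹) ∈ M
      rw [show x * (k * b * k⁻¹) = (x * b) * (b⁻¹ * (k * b * k⁻¹)) by group]
      exact mul_mem h (hab b hb k hk)
    · intro D hD y hy hyp b hb h
      show x * (y * b * y⁻¹) ∈ M
      rw [show x * (y * b * y⁻¹) = (x * b) * (b⁻¹ * (y * b * y⁻¹)) by group]
      exact mul_mem h (hloc D hD y hy hyp b hb)
  set R := Cfsg.pResidual p G with hR
  have hRn : R.Normal := Transfer.pResidual_normal
  have hPR : (P : Subgroup G) ⊓ R ≤ M := (Transfer.inf_pResidual_le_focalSubgroup P).trans hfoc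
  set K := M ⊔ R with hK
  have htop : (P : Subgroup G) ⊔ R = ⊤ := Transfer.sup_pResidual_eq_top P
  have hKn : K.Normal := by
    rw [← normalizer_eq_top_iff, eq_top_iff, ← htop]
    refine sup_le (fun k hk => ?_) (le_sup_right.trans le_normalizer)
    rw [mem_normalizer_iff_map_conj_eq]
    refine eq_of_le_of_card_ge ?_ (Subgroup.card_map_of_injective (MulAut.conj k).injective).ge
    rw [hK, Subgroup.map_sup]
    refine sup_le ?_ ?_
    · rintro _ ⟨m, hm, rfl⟩
      exact mem_sup_left (hMn k hk m hm)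
    · rintro _ ⟨r, hr, rfl⟩
      exact mem_sup_right (hRn.conj_mem r hr k)
  have hinf : K ⊓ (P : Subgroup G) = M := by
    refine le_antisymm ?_ (le_inf le_sup_left hMP)
    rintro x ⟨hxK, hxP⟩
    obtain ⟨m, hm, r, hr, rfl⟩ := mem_sup_of_normal_right.1 hxK
    exact mul_mem hm (hPR ⟨(mul_mem_cancel_left (hMP hm)).1 hxP, hr⟩)
  refine ⟨K, hKn, hinf, ?_, le_sup_right⟩
  have h1 : (P : Subgroup G) ⊔ K = ⊤ := top_le_iff.1 (htop ▸ sup_le_sup_left le_sup_right _)
  calc K.index = K.relIndex ⊤ := (relIndex_top_right K).symm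
    _ = K.relIndex ((P : Subgroup G) ⊔ K) := by rw [h1]
    _ = M.relIndex (P : Subgroup G) := by
      rw [sup_comm, relIndex_sup_left, ← hinf, inf_relIndex_right]

end

end CfsgLib.Involutions
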