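import Cfsg.Agent.Lib.Involutions.WreathedLocal
import Cfsg.Agent.Lib.PGroups.UniqueOrderP

/-!
# Self-centralizing subgroups of wreathed groups with automorphisms of odd order
-/

set_option autoImplicit false
set_option linter.style.haveILetI false

namespace CfsgLib.Involutions

open Subgroup

/-- Right translations, as a homomorphism into the symmetric group. -/
def rightPerm (S : Type*) [Group S] : S →* Equiv.Perm S :=
  MonoidHom.mk' (fun a => Equiv.mulRight a⁻¹) fun a b => by ext; simp [mul_assoc]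

theorem rightPerm_injective (S : Type*) [Group S] : Function.Injective (rightPerm S) := by
  intro a b h
  simpa [rightPerm] using DFunLike.congr_fun h 1

variable {S : Type*} [Group S] (X : Subgroup S)

private noncomputable def cosetRep (a : S) : S := (a : S ⧸ X).out

private theorem cosetRep_mem (a : S) : (cosetRep X a)⁻¹ * a ∈ X :=
  QuotientGroup.eq.1 (by simp [cosetRep])

private theorem cosetRep_mul (a : S) (x : X) : cosetRep X (cosetRep X a * x) = cosetRep X a := by
  unfold cosetRep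
  rw [QuotientGroup.mk_mul_of_mem _ x.2, QuotientGroup.out_eq']

/-- An automorphism of a subgroup, acting on every left coset. -/
noncomputable def autPerm : MulAut X →* Equiv.Perm S :=
  MonoidHom.mk' (fun φ =>
    { toFun := fun a => cosetRep X a * φ ⟨_, cosetRep_mem X a⟩
      invFun := fun a => cosetRep X a * φ.symm ⟨_, cosetRep_mem X a⟩
      left_inv := fun a => by
        simp only [cosetRep_mul, inv_mul_cancel_left, Subtype.coe_eta, MulEquiv.symm_apply_apply]
        rw [mul_inv_cancel_left]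
      right_inv := fun a => by
        simp only [cosetRep_mul, inv_mul_cancel_left, Subtype.coe_eta, MulEquiv.apply_symm_apply]
        rw [mul_inv_cancel_left] })
    fun φ ψ => by
      ext a
      simp only [Equiv.Perm.mul_apply, Equiv.coe_fn_mk, cosetRep_mul, inv_mul_cancel_left,
        Subtype.coe_eta]
      rfl

theorem autPerm_conj (φ : MulAut X) (x : X) :
    autPerm X φ * rightPerm S x * (autPerm X φ)⁻¹ = rightPerm S (φ x : X) := by
  refine mul_inv_eq_iff_eq_mul.2 (Equiv.ext fun a => ?_)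
  have h1 : cosetRep X (a * (x : S)⁻¹) = cosetRep X a := by
    unfold cosetRep; rw [QuotientGroup.mk_mul_of_mem _ (inv_mem x.2)]
  show cosetRep X (a * (x : S)⁻¹) * (φ ⟨_, cosetRep_mem X (a * (x : S)⁻¹)⟩ : X)
    = cosetRep X a * (φ ⟨_, cosetRep_mem X a⟩ : X) * ((φ x : X) : S)⁻¹
  have h2 : (⟨_, cosetRep_mem X (a * (x : S)⁻¹)⟩ : X) = ⟨_, cosetRep_mem X a⟩ * x⁻¹ :=
    Subtype.ext (by simp [h1, mul_assoc])
  rw [h2, h1, map_mul, map_inv, Subgroup.coe_mul, Subgroup.coe_inv, mul_assoc]

namespace WR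

variable {S : Type*} [Group S] [Finite S] (d : WR S)

/-- A self-centralizing subgroup with an automorphism of odd order is the base group or some
`VV k`. -/
theorem eq_U_or_VV {X : Subgroup S} (hC : centralizer (X : Set S) ≤ X)
    (hA : ¬ IsPGroup 2 (MulAut X)) : X = d.U ∨ ∃ k : ℤ, X = d.VV k := by
  obtain ⟨φ, hodd, hne⟩ : ∃ φ : MulAut X, Odd (orderOf φ) ∧ φ ≠ 1 := by
    obtain ⟨φ, hφ⟩ : ∃ φ : MulAut X, ∀ k, φ ^ 2 ^ k ≠ 1 := by
      simpa only [IsPGroup, not_forall, not_exists] using hA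
    obtain ⟨k, m, hm2, hk⟩ :=
      Nat.exists_eq_pow_mul_and_not_dvd (orderOf_pos φ).ne' 2 (by norm_num)
    exact ⟨φ ^ 2 ^ k, Odd.of_dvd_nat (Nat.odd_iff.2 (Nat.two_dvd_ne_zero.1 hm2))
      (orderOf_dvd_of_pow_eq_one (by rw [← pow_mul, ← hk, pow_orderOf_eq_one])), hφ k⟩
  set R := rightPerm S
  have hR : Function.Injective R := rightPerm_injective S
  set d' := d.map (MonoidHom.ofInjective hR)
  have hu : ∀ i j, d'.uG i j = R (d.u i j) := fun i j => by
    show R d.x ^ i * R d.y ^ j = R (d.u i j)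
    rw [u, map_mul, map_zpow, map_zpow]
  have hr : ∀ k, d'.rG k = R (d.r k) := fun k => by
    show d'.uG k (-k) * R d.z = R (d.r k)
    rw [hu, r, map_mul]
  set y := autPerm X φ
  have hconj : ∀ (a : S) (ha : a ∈ X), y * R a * y⁻¹ = R ((φ ⟨a, ha⟩ : X) : S) := fun a ha =>
    autPerm_conj X φ ⟨a, ha⟩
  have hy : y ∈ normalizer ((X.map R : Subgroup _) : Set (Equiv.Perm S)) := by
    rw [mem_normalizer_iff]
    refine fun g => ⟨?_, ?_⟩
    · rintro ⟨a, ha, rfl⟩
      exact hconj a ha ▸ mem_map_of_mem R (SetLike.coe_mem _)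
    · rintro ⟨b, hb, e⟩
      obtain ⟨⟨a, ha⟩, hab⟩ := φ.surjective ⟨b, hb⟩
      have : y * R a * y⁻¹ = y * g * y⁻¹ := by rw [hconj a ha, hab, ← e]
      exact ⟨a, ha, by simpa using this⟩
  have hD : CentricIn (X.map R) R.range := by
    refine ⟨map_le_range R X, ?_⟩
    rintro _ ⟨s, rfl⟩ hs
    refine mem_map_of_mem R (hC (mem_centralizer_iff.2 fun a ha => hR ?_))
    rw [map_mul, map_mul]
    exact mem_centralizer_iff.1 hs _ (mem_map_of_mem R ha)
  rcases d'.centric_cases hD hy (hodd.of_dvd_nat (orderOf_map_dvd _ φ)) with h | h | ⟨k, h⟩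
  · refine absurd (MulEquiv.ext fun a => Subtype.ext (hR ?_)) hne
    show R ((φ a : X) : S) = R (a : S)
    rw [← autPerm_conj X φ a, (h _ (mem_map_of_mem R a.2)).eq, mul_inv_cancel_right]
  · refine Or.inl (map_injective hR (h.trans ?_))
    ext g
    rw [d'.mem_UG, mem_map]
    exact ⟨fun ⟨i, j, e⟩ => ⟨_, d.u_mem i j, by rw [e, hu]⟩,
      fun ⟨_, ⟨i, j, e'⟩, e⟩ => ⟨i, j, by rw [hu, ← e', e]⟩⟩
  · refine Or.inr ⟨k, map_injective hR (h.trans ?_)⟩
    rw [d'.VG_eq_closure, d.VV_eq_closure, MonoidHom.map_closure, Set.image_insert_eq,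
      Set.image_pair, hu, hu, hr]
    rfl

theorem relIndex_normalizer_U : d.U.relIndex (normalizer (d.U : Set S)) = 2 := by
  haveI := normal_of_index_eq_two d.index_U
  rw [normalizer_eq_top, relIndex_top_right, d.index_U]

theorem quarter_not_dvd : ¬ d.half ∣ d.quarter := fun h => by
  have := d.half_eq
  have := d.half_pos
  have := Int.le_of_dvd (by omega) h
  omega

theorem relIndex_normalizer_VV (k : ℤ) :
    (d.VV k).relIndex (normalizer (d.VV k : Set S)) = 2 := by
  -- the conjugate of `r k` stays inside exactly when `quarter` divides the difference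
  have hconj : ∀ a b : ℤ, d.u a b * d.r k * (d.u a b)⁻¹ ∈ d.VV k ↔ d.quarter ∣ a - b := by
    intro a b
    rw [r_conj, mem_VV_of_r, half_eq, show a - b - (b - a) = 2 * (a - b) by ring,
      Int.mul_dvd_mul_iff_left two_ne_zero]
  have hua : ∀ {a b : ℤ}, d.quarter ∣ a - b → d.u a b ∈ normalizer (d.VV k : Set S) := by
    intro a b h
    rw [mem_normalizer_iff_map_conj_eq]
    refine eq_of_le_of_card_ge ?_ (card_map_of_injective (MulAut.conj (d.u a b)).injective).ge
    rw [d.VV_eq_closure, MonoidHom.map_closure, closure_le]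
    rintro _ ⟨g, hg, rfl⟩
    show d.u a b * g * (d.u a b)⁻¹ ∈ Subgroup.closure _
    rw [← d.VV_eq_closure]
    rcases hg with rfl | rfl | rfl
    · rw [u_mul, u_inv, u_mul]; exact d.u_mem_VV.2 (by ring_nf; exact dvd_zero _)
    · rw [u_mul, u_inv, u_mul]; exact d.u_mem_VV.2 ⟨1, by ring⟩
    · exact (hconj a b).2 h
  refine relIndex_eq_two_iff.2 ⟨d.u d.quarter 0, hua (by simp), fun g hg => ?_⟩
  -- reduce to the base group
  have hU : ∀ p q : ℤ, d.u p q ∈ normalizer (d.VV k : Set S) →
      Xor' (d.u p q * d.u d.quarter 0 ∈ d.VV k) (d.u p q ∈ d.VV k) := by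
    intro p q h
    obtain ⟨m, hm⟩ := (hconj p q).1 ((mem_normalizer_iff.1 h _).1 (d.r_mem_VV k))
    rw [u_mul, u_mem_VV, u_mem_VV, show p + d.quarter - (q + 0) = d.quarter * (m + 1) by
      rw [mul_add, ← hm]; ring, hm, half_eq, mul_comm 2,
      Int.mul_dvd_mul_iff_left (by have := d.half_eq; have := d.half_pos; omega),
      Int.mul_dvd_mul_iff_left (by have := d.half_eq; have := d.half_pos; omega)]
    rcases Int.emod_two_eq_zero_or_one m with h | h
    · exact Or.inr ⟨by omega, by omega⟩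
    · exact Or.inl ⟨by omega, by omega⟩
  rcases d.cover g with ⟨p, q, rfl⟩ | ⟨p, q, rfl⟩
  · exact hU p q hg
  · have e : d.u p q * d.z = d.u (p - k) (q + k) * d.r k := by
      rw [r, ← mul_assoc, u_mul, sub_add_cancel, add_neg_cancel_right]
    have hr := d.r_mem_VV k
    rw [e, mul_mem_cancel_right (le_normalizer hr)] at hg
    have h1 := hU _ _ hg
    have e2 : d.u (p - k) (q + k) * d.r k * d.u d.quarter 0 ∈ d.VV k ↔
        d.u (p - k) (q + k) * d.u d.quarter 0 ∈ d.VV k := by
      rw [mul_assoc, r_mul_u, ← mul_assoc, mul_mem_cancel_right hr, u_mul, u_mul, u_mem_VV,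
        u_mem_VV, ← dvd_add_left (show d.half ∣ 2 * d.quarter from (half_eq d).symm ▸ dvd_rfl)
          (b := p - k + 0 - (q + k + d.quarter))]
      ring_nf
    rw [e]
    rwa [e2, mul_mem_cancel_right hr]

theorem exists_quat_VV (k : ℤ) :
    ∃ Q : Subgroup S, Nonempty (Q ≃* QuaternionGroup 2) ∧ d.VV k = Q ⊔ center S := by
  set a := d.u d.quarter (-d.quarter) with ha
  set b := d.u d.quarter d.quarter * d.r k with hb
  have hN := d.N_eq
  have hh := d.half_eq
  have hh0 := d.half_pos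
  have ha2 : a * a = d.u d.half d.half := by
    rw [ha, u_mul, u_inj]
    exact ⟨⟨0, by linarith⟩, ⟨-1, by linarith⟩⟩
  have hao : orderOf a = 2 * 2 := by
    refine (orderOf_eq_prime_pow (p := 2) (n := 1) ?_ ?_).trans (by norm_num)
    · rw [pow_one, sq, ha2, u_eq_one]
      exact fun h => d.not_N_dvd_half h.1
    · rw [show (2 : ℕ) ^ (1 + 1) = 2 * 2 by norm_num, pow_mul, sq, sq, ha2, u_mul, u_eq_one, hN]
      exact ⟨⟨1, by ring⟩, ⟨1, by ring⟩⟩
  have hcc : d.u d.quarter d.quarter ∈ center S := d.u_mem_center (by simp)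
  have hbb : b * b = d.u d.half d.half := by
    rw [hb, (Commute.mul_mul_mul_comm (mem_center_iff.1 hcc (d.r k)) _ _), r_mul_r, mul_one, u_mul,
      hh, two_mul]
  have hba : b * a * b⁻¹ = a⁻¹ := by
    rw [hb, ha, r, ← mul_assoc, u_mul, conj_refl_u, u_inv, neg_neg]
  set Q := closure ({a, b} : Set S)
  have hbU : b ∉ d.U := fun h => d.r_not_mem k ((mul_mem_cancel_left (d.u_mem _ _)).1 h)
  refine ⟨Q, ?_, ?_⟩
  · have hx : a ∈ Q := subset_closure (by simp)
    have hg : b ∈ Q := subset_closure (by simp)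
    refine CfsgLib.PGroups.nonempty_mulEquiv_quaternionGroup (x := ⟨a, hx⟩) (g := ⟨b, hg⟩)
      (by rw [Subgroup.orderOf_mk, hao]) (Subtype.ext hba)
      (Subtype.ext (by simp [sq, ha2, hbb])) ?_ ?_
    · rintro ⟨g, hg'⟩
      suffices h : g ∈ zpowers a ∨ b⁻¹ * g ∈ zpowers a by
        rcases h with ⟨i, hi⟩ | ⟨i, hi⟩
        · exact Or.inl ⟨i, Subtype.ext hi⟩
        · exact Or.inr ⟨i, Subtype.ext hi⟩
      have hbz : ∀ g ∈ zpowers a, b⁻¹ * g * b ∈ zpowers a := by
        rintro _ ⟨i, rfl⟩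
        refine ⟨-i, ?_⟩
        show a ^ (-i) = b⁻¹ * a ^ i * b
        have hcb : Commute (b * b) a := by rw [hbb, ha, Commute, SemiconjBy, u_mul, u_mul,
          add_comm d.half, add_comm d.half]
        have : b⁻¹ * a * b = a⁻¹ := by
          rw [← hba]
          calc b⁻¹ * a * b = b⁻¹ * (a * (b * b)) * b⁻¹ := by group
            _ = _ := by rw [← hcb.eq]; group
        rw [zpow_neg, ← inv_zpow, ← this]
        simpa using (conj_zpow (i := i) (a := b⁻¹) (b := a))
      induction hg' using closure_induction with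
      | mem g h =>
        rcases h with rfl | rfl
        · exact Or.inl (mem_zpowers _)
        · exact Or.inr (by simp)
      | one => exact Or.inl (one_mem _)
      | mul g h _ _ hg hh =>
        have hsq : b * b ∈ zpowers a := by rw [hbb, ← ha2]; exact mul_mem (mem_zpowers _) (mem_zpowers _)
        rcases hg with hg | hg <;> rcases hh with hh | hh
        · exact Or.inl (mul_mem hg hh)
        · refine Or.inr ?_
          rw [show b⁻¹ * (g * h) = b⁻¹ * g * b * (b⁻¹ * h) by group]
          exact mul_mem (hbz g hg) hh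
        · exact Or.inr (by rw [← mul_assoc]; exact mul_mem hg hh)
        · refine Or.inl ?_
          rw [show g * h = b * b * (b⁻¹ * (b⁻¹ * g) * b) * (b⁻¹ * h) by group]
          exact mul_mem (mul_mem hsq (hbz _ hg)) hh
      | inv g _ hg =>
        rcases hg with hg | hg
        · exact Or.inl (inv_mem hg)
        · refine Or.inr ?_
          rw [show b⁻¹ * g⁻¹ = (b * b)⁻¹ * (b⁻¹⁻¹ * (b⁻¹ * g)⁻¹ * b⁻¹)⁻¹⁻¹ * 1 by group]
          refine mul_mem (mul_mem (inv_mem ?_) ?_) (one_mem _)
          · rw [hbb, ← ha2]; exact mul_mem (mem_zpowers _) (mem_zpowers _)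
          · rw [inv_inv]
            have hv := inv_mem hg
            have hc := hbz _ hv
            obtain ⟨i, hi⟩ := hv
            rw [← hi] at hc ⊢
            refine ⟨-i, ?_⟩
            show a ^ (-i) = b⁻¹⁻¹ * a ^ i * b⁻¹
            rw [inv_inv, zpow_neg, ← inv_zpow, ← hba, conj_zpow]
    · rintro ⟨i, hi⟩
      have h2 : a ^ i = b := congrArg Subtype.val hi
      exact hbU (h2 ▸ zpow_mem (d.u_mem _ _) i)
  · refine le_antisymm ?_ (sup_le ((closure_le _).2 ?_) ?_)
    · rw [d.VV_eq_closure, closure_le]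
      have hcm : d.u d.quarter d.quarter ∈ Q ⊔ center S := mem_sup_right hcc
      rintro g (rfl | rfl | rfl)
      · exact mem_sup_right (d.u_mem_center (by simp))
      · have := mul_mem (mem_sup_left (subset_closure (by simp : a ∈ ({a, b} : Set S))) : a ∈ Q ⊔ center S) hcm
        rwa [ha, u_mul, neg_add_cancel, ← two_mul, ← hh] at this
      · have h1 := mul_mem (inv_mem hcm) (mem_sup_left (subset_closure (by simp : b ∈ ({a, b} : Set S))) : b ∈ Q ⊔ center S)
        rwa [hb, inv_mul_cancel_left] at h1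
    · rintro g (rfl | rfl)
      · exact d.u_mem_VV.2 ⟨1, by linarith⟩
      · exact d.mem_VV_of_r.2 (by simp)
    · intro g hg
      rw [d.center_eq] at hg
      exact (zpowers_le.2 (d.u_mem_VV.2 (by simp)) : zpowers (d.u 1 1) ≤ d.VV k) hg

theorem exists_conj_VV (k l : ℤ) :
    ∃ s : S, (d.VV k).map (MulAut.conj s).toMonoidHom = d.VV l := by
  refine ⟨d.u (l - k) 0, ?_⟩
  rw [VV_eq_closure, VV_eq_closure, MonoidHom.map_closure, Set.image_insert_eq, Set.image_pair]
  refine congrArg Subgroup.closure ?_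
  have hc : ∀ i j : ℤ, (MulAut.conj (d.u (l - k) 0)).toMonoidHom (d.u i j) = d.u i j := fun i j => by
    show d.u (l - k) 0 * d.u i j * (d.u (l - k) 0)⁻¹ = _
    rw [u_mul, u_inv, u_mul]; congr 1 <;> ring
  have hr : (MulAut.conj (d.u (l - k) 0)).toMonoidHom (d.r k) = d.r l := by
    show d.u (l - k) 0 * d.r k * (d.u (l - k) 0)⁻¹ = _
    rw [r_conj, r, r, ← mul_assoc, u_mul]
    congr 2 <;> ring
  rw [hc, hc, hr]

theorem not_isMulCommutative_VV (k : ℤ) : ¬ IsMulCommutative (d.VV k) := fun h =>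
  d.not_commute_a_r k (congrArg Subtype.val
    (h.is_comm.comm ⟨_, d.u_mem_VV.2 (by simp)⟩ ⟨_, d.r_mem_VV k⟩))

end WR

end CfsgLib.Involutions
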