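import Cfsg.Agent.Lib.Involutions.PSUFusionBlocks
import Cfsg.Prelude.Def_Classical
import Cfsg.Prelude.Def_FusionSystem

/-!
The `p`-fusion system of `PSU_n` in defining characteristic is simple for `n ≥ 4`.
-/

set_option autoImplicit false

namespace CfsgLib.Involutions.UAnti

open Matrix CfsgLib.KnownB.PSLAut CfsgLib.Classical CfsgLib.Classical.Unitary CfsgLib.Involutions.PSLUnip
  CfsgLib.Involutions.FusionSimpleParabolic

variable {n : ℕ} {F : Type*} [Field F] {σ : F →+* F} {q : ℕ} (p : ℕ) [Fact p.Prime] [CharP F p]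

local notation "SLn" => Matrix.SpecialLinearGroup (Fin n) F
local notation "Mn" => Matrix (Fin n) (Fin n) F
local notation "Vn" => (Fin n → F)

theorem mat_pow (g : H n σ) (k : ℕ) : mat (g ^ k) = mat g ^ k := by
  induction k with
  | zero => rw [pow_zero, pow_zero, mat_one]
  | succ k ih => rw [pow_succ, mat_mul, ih, pow_succ]

theorem isPGroup_UH [Finite F] : IsPGroup p (UH n σ) := by
  have := Fintype.ofFinite F
  obtain ⟨f, hp, hq⟩ := FiniteField.card F p
  rw [← Nat.card_eq_fintype_card] at hq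
  have hP : IsPGroup p (U n F) :=
    IsPGroup.of_card (n := (f : ℕ) * (n * (n - 1) / 2)) (by rw [card_U, hq, pow_mul])
  exact hP.comap_of_injective _ (H n σ).subtype_injective

theorem entry_eq (g : H n σ) (r c : Fin n) : mat g r c = (mat g *ᵥ Pi.single c 1) r := by simp

theorem normalizes_upper (h : UFrob σ q) (hn : 4 ≤ n) {g : H n σ}
    (hg : g ∈ Subgroup.normalizer (UH n σ : Set (H n σ))) : (mat g).BlockTriangular id := by
  obtain ⟨θ, hθ0, hθ⟩ := exists_skew h
  refine upper_of_superdiag (fun x hx => ?_) fun r c hrc => ?_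
  · have := (Subgroup.mem_normalizer_iff.1 (Subgroup.inv_mem _ hg) x).1 hx
    rwa [inv_inv] at this
  · have hlt : r < c := by rw [Fin.lt_def]; omega
    by_cases hr : r = Fin.rev r
    · have hc : c ≠ Fin.rev c := by
        rw [Fin.ext_iff, Fin.val_rev] at hr
        rw [Ne, Fin.ext_iff, Fin.val_rev]; omega
      have hclt : Fin.rev c < c := by
        rw [Fin.ext_iff, Fin.val_rev] at hr
        rw [Fin.lt_def, Fin.val_rev]; have := c.2; omega
      have hcr : Fin.rev c < r := by
        rw [Fin.ext_iff, Fin.val_rev] at hr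
        rw [Fin.lt_def, Fin.val_rev]; have := c.2; omega
      obtain ⟨e, he⟩ := exists_cond h (1 : F)
      refine ⟨_, Xz_mem_UH h hcr hr.symm (by rw [Fin.rev_rev]; exact hclt) 1 e he, ?_⟩
      rw [entry_eq, mulVec_Xz]
      simp [hlt.ne, hlt.ne', hcr.ne, hcr.ne']
    by_cases hc : c = Fin.rev c
    · have hrlt : r < Fin.rev r := by
        rw [Fin.ext_iff, Fin.val_rev] at hc
        rw [Fin.lt_def, Fin.val_rev]; omega
      obtain ⟨e, he⟩ := exists_cond h (1 : F)
      refine ⟨_, Xz_mem_UH h hlt hc.symm hrlt 1 e he, ?_⟩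
      have h1 : c ≠ Fin.rev r := fun hh => hlt.ne' (Fin.rev_injective (hc.symm.trans hh))
      rw [entry_eq, mulVec_Xz]
      simp [hlt.ne, hlt.ne', h1, h1.symm]
    by_cases hcr : c = Fin.rev r
    · subst hcr
      refine ⟨_, Lg_mem_UH h hlt θ hθ, ?_⟩
      rw [entry_eq, mulVec_Lg]
      simpa [hlt.ne, hlt.ne'] using hθ0
    · refine ⟨_, Sh_mem_UH h hlt hr hc 1, ?_⟩
      have h1 : r ≠ Fin.rev c := fun hh => hcr (by rw [hh, Fin.rev_rev])
      rw [entry_eq, mulVec_Sh]
      simp [hlt.ne, hlt.ne', h1, h1.symm, Ne.symm hcr]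

theorem pEl_mem_UH (h : UFrob σ q) (hn : 4 ≤ n) {g : H n σ}
    (hg : g ∈ Subgroup.normalizer (UH n σ : Set (H n σ))) {k : ℕ} (hk : g ^ p ^ k = 1) : g ∈ UH n σ := by
  have ht := normalizes_upper h hn hg
  refine ⟨ht, fun r => PSpUnip.eq_one_of_pow_char p (k := k) ?_⟩
  show mat g r r ^ p ^ k = 1
  rw [← (PSpUnip.upper_pow ht (p ^ k)).2 r, ← mat_pow, hk, mat_one, Matrix.one_apply_eq]

theorem scalar_mem (c : F) (hc : c * σ c = 1) (hdet : c ^ n = 1) :
    ∃ z ∈ Subgroup.center (H n σ), mat z = Matrix.diagonal fun _ => c := by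
  obtain ⟨z, hz⟩ := exists_diag (σ := σ) (fun _ : Fin n => c) (fun _ => hc) (by simpa using hdet)
  refine ⟨z, Subgroup.mem_center_iff.2 fun g => mat_inj ?_, hz⟩
  rw [mat_mul, mat_mul, hz]
  ext r s
  rw [Matrix.mul_diagonal, Matrix.diagonal_mul, mul_comm]

theorem centralizer_le (h : UFrob σ q) (hn : 4 ≤ n) {blk : Fin n → ℕ} (hmono : Monotone blk)
    (hsymm : ∀ r s, blk r = blk s → blk (Fin.rev r) = blk (Fin.rev s))
    (f : Fin n) (hf : (f : ℕ) = 0) (hfl : blk f ≠ blk (Fin.rev f)) :
    Subgroup.centralizer (Rad σ blk : Set (H n σ)) ≤ Rad σ blk ⊔ Subgroup.center (H n σ) := by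
  intro g hg
  obtain ⟨c, hc, hblock, hoff⟩ := centralizer_Rad h (by omega) hmono hsymm f hf hfl hg
  have hlt : blk f < blk (Fin.rev f) :=
    lt_of_le_of_ne (hmono (by rw [Fin.le_def, hf]; exact Nat.zero_le _)) hfl
  have htri : (mat g).BlockTriangular id := fun r s (hsr : s < r) => by
    by_contra h0
    obtain ⟨h1, h2⟩ := hoff r s hsr.ne' h0
    have := hmono hsr.le
    omega
  have hdiag : ∀ r, mat g r r = c := fun r => by rw [hblock r r rfl, Matrix.one_apply_eq, mul_one]
  have hdet : c ^ n = 1 := by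
    have h1 : (mat g).det = 1 := g.1.2
    rw [Matrix.det_of_isUpperTriangular htri, Finset.prod_congr rfl (fun r _ => hdiag r),
      Finset.prod_const, Finset.card_univ, Fintype.card_fin] at h1
    exact h1
  obtain ⟨z, hz, hze⟩ := scalar_mem (σ := σ) c hc hdet
  have hc0 : c ≠ 0 := fun h0 => by simp [h0] at hc
  have he : ∀ r s, mat (z⁻¹ * g) r s = c⁻¹ * mat g r s := by
    intro r s
    have h1 : mat (z * (z⁻¹ * g)) r s = mat g r s := by rw [mul_inv_cancel_left]
    rw [mat_mul, hze, Matrix.diagonal_mul] at h1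
    rw [← h1, inv_mul_cancel_left₀ hc0]
  have hmem : z⁻¹ * g ∈ Rad σ blk := by
    refine ⟨fun r s hsr => ?_, ?_⟩
    · rw [he]
      by_contra h0
      obtain ⟨h1, h2⟩ := hoff r s (fun hh => by rw [hh] at hsr; exact lt_irrefl _ hsr)
        (fun h1 => h0 (by rw [h1, mul_zero]))
      omega
    · ext r s
      show (if blk r = blk s then mat (z⁻¹ * g) r s else 0) = _
      split_ifs with hrs
      · rw [he, hblock r s hrs, inv_mul_cancel_left₀ hc0]
      · exact (Matrix.one_apply_ne fun hh => hrs (congrArg _ hh)).symm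
  have := Subgroup.mul_mem_sup hmem hz
  rwa [mul_assoc, Subgroup.mem_center_iff.1 hz, inv_mul_cancel_left] at this

/-- What commutes with the unipotent subgroup. -/
theorem centralizes_UH (h : UFrob σ q) (hn : 4 ≤ n) (f : Fin n) (hf : (f : ℕ) = 0) {g : H n σ}
    (hg : g ∈ Subgroup.centralizer (UH n σ : Set (H n σ))) :
    ∃ c : F, (∀ r, mat g r r = c) ∧ ∀ r s, r ≠ s → mat g r s ≠ 0 → r = f ∧ s = Fin.rev f := by
  have hmono : Monotone fun r : Fin n => (r : ℕ) := fun r s hrs => hrs
  obtain ⟨c, -, hblock, hoff⟩ := centralizer_Rad (blk := fun r : Fin n => (r : ℕ)) h (by omega) hmono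
    (fun r s hrs => by rw [Fin.ext hrs]) f hf
    (by show (f : ℕ) ≠ (Fin.rev f : ℕ); rw [Fin.val_rev]; omega)
    (Subgroup.centralizer_le (Rad_le_UH hmono) hg)
  exact ⟨c, fun r => by rw [hblock r r rfl, Matrix.one_apply_eq, mul_one],
    fun r s hrs hne => ⟨Fin.ext (hoff r s hrs hne).1, Fin.ext (hoff r s hrs hne).2⟩⟩

theorem center_pow_eq_one (h : UFrob σ q) (hn : 4 ≤ n) {z : H n σ} (hz : z ∈ Subgroup.center (H n σ)) {k : ℕ}
    (hk : z ^ p ^ k = 1) : z = 1 := by
  let f : Fin n := ⟨0, by omega⟩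
  obtain ⟨θ, hθ0, hθ⟩ := exists_skew h
  have hfL : f ≠ Fin.rev f := by rw [Ne, Fin.ext_iff, Fin.val_rev]; show ¬ (0 = n - (0 + 1)); omega
  obtain ⟨c, hd, hoff⟩ := centralizes_UH h hn f rfl (Subgroup.center_le_centralizer _ hz)
  have hcorner : mat z f (Fin.rev f) = 0 := by
    let y := Lg h (p := Fin.rev f) (by rw [Fin.rev_rev]; exact hfL.symm) θ hθ
    have e : mat (z * y) *ᵥ Pi.single f 1 = mat (y * z) *ᵥ Pi.single f 1 := by
      rw [Subgroup.mem_center_iff.1 hz y]
    have e1 := congrFun e f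
    rw [mat_mul, mat_mul, ← Matrix.mulVec_mulVec, ← Matrix.mulVec_mulVec, mulVec_Lg, mulVec_Lg, Fin.rev_rev] at e1
    simp [Matrix.mulVec_add, hfL, hθ0] at e1
    exact e1
  have hscal : mat z = Matrix.diagonal fun _ => c := by
    ext r s
    rcases eq_or_ne r s with rfl | hrs
    · rw [Matrix.diagonal_apply_eq, hd]
    · rw [Matrix.diagonal_apply_ne _ hrs]
      by_contra h0
      obtain ⟨rfl, rfl⟩ := hoff r s hrs h0
      exact h0 hcorner
  have hc : c = 1 := by
    refine PSpUnip.eq_one_of_pow_char p (k := k) ?_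
    have h1 := congrFun (congrFun (congrArg mat hk) f) f
    rw [mat_pow, hscal, Matrix.diagonal_pow, Matrix.diagonal_apply_eq, mat_one, Matrix.one_apply_eq] at h1
    simpa using h1
  exact mat_inj (by rw [hscal, hc, mat_one, Matrix.diagonal_one])

include p in
/-- There is no proper nontrivial strongly closed subgroup. -/
theorem closed_eq [Finite F] (hF : Nat.card F = q ^ 2) (h : UFrob σ q) (hn : 4 ≤ n) (T : Subgroup (H n σ))
    (hT : T ≤ UH n σ) (hTc : ∀ x ∈ T, ∀ g : H n σ, g * x * g⁻¹ ∈ UH n σ → g * x * g⁻¹ ∈ T) :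
    T = ⊥ ∨ T = UH n σ := by
  refine or_iff_not_imp_left.2 fun hne => le_antisymm hT ?_
  let f : Fin n := ⟨0, by omega⟩
  let o : Fin n := ⟨1, by omega⟩
  have hf : f < Fin.rev f := by rw [Fin.lt_def, Fin.val_rev]; show 0 < n - (0 + 1); omega
  have ho : o ≠ Fin.rev o := by rw [Ne, Fin.ext_iff, Fin.val_rev]; show ¬ (1 = n - (1 + 1)); omega
  have hfo : f ≠ o := by rw [Ne, Fin.ext_iff]; show ¬ ((0 : ℕ) = 1); omega
  have hfo' : f ≠ Fin.rev o := by rw [Ne, Fin.ext_iff, Fin.val_rev]; show ¬ (0 = n - (1 + 1)); omega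
  have hmove : ∀ {g x y : H n σ}, g * x = y * g → x ∈ T → y ∈ UH n σ → y ∈ T := by
    intro g x y e hx hy
    have h1 : g * x * g⁻¹ = y := by rw [e, mul_inv_cancel_right]
    exact h1 ▸ hTc x hx g (h1 ▸ hy)
  have hcomm : ∀ {x y E : H n σ}, x * y = E * (y * x) → x ∈ UH n σ → y ∈ T → E ∈ T := by
    intro x y E e hx hy
    have h1 : E = x * y * x⁻¹ * y⁻¹ := by rw [e]; group
    rw [h1]
    exact T.mul_mem (hTc y hy x ((UH n σ).mul_mem ((UH n σ).mul_mem hx (hT hy)) ((UH n σ).inv_mem hx)))
      (T.inv_mem hy)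
  -- a long root element in `T`
  obtain ⟨c₀, hc₀, hc₀0, hbase⟩ : ∃ (c : F) (hc : c + σ c = 0), c ≠ 0 ∧ Lg h hf.ne c hc ∈ T := by
    have hTn : (T.subgroupOf (UH n σ)).Normal := ⟨fun x hx g => by
      rw [Subgroup.mem_subgroupOf] at hx ⊢
      exact hTc _ hx g ((UH n σ).mul_mem ((UH n σ).mul_mem g.2 x.2) ((UH n σ).inv_mem g.2))⟩
    have hne' : T.subgroupOf (UH n σ) ≠ ⊥ := by
      rw [Ne, Subgroup.subgroupOf_eq_bot, disjoint_iff, inf_eq_left.2 hT]
      exact hne
    obtain ⟨z, hz, hz1⟩ := (Subgroup.bot_or_exists_ne_one _).resolve_left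
      (CfsgLib.PGroups.inf_center_ne_bot (isPGroup_UH (n := n) (σ := σ) p) hne')
    rw [Subgroup.mem_inf, Subgroup.mem_subgroupOf, Subgroup.mem_center_iff] at hz
    obtain ⟨c, hd, hoff⟩ := centralizes_UH h hn f rfl (g := (z : H n σ))
      (Subgroup.mem_centralizer_iff.2 fun x hx => congrArg Subtype.val (hz.2 ⟨x, hx⟩))
    set x := mat (z : H n σ) f (Fin.rev f) with hx
    have hx0 : x + σ x = 0 := by
      have h1 := congrFun (congrFun (mat_mul_inv (z : H n σ)) f) (Fin.rev f)
      rw [Matrix.mul_apply, ← Finset.sum_subset (Finset.subset_univ ({f, Fin.rev f} : Finset (Fin n))) ?_,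
        Finset.sum_pair hf.ne, mat_inv h, mat_inv h, Fin.rev_rev, UH_diag z.2, map_one, one_mul,
        mul_one, ← hx, Matrix.one_apply_ne hf.ne] at h1
      · rw [add_comm]; exact h1
      · intro l _ hl
        simp only [Finset.mem_insert, Finset.mem_singleton, not_or] at hl
        by_cases h0 : mat (z : H n σ) f l = 0
        · rw [h0, zero_mul]
        · exact absurd (hoff f l (Ne.symm hl.1) h0).2 hl.2
    have hze : (z : H n σ) = Lg h hf.ne x hx0 := by
      refine mat_inj ?_
      ext r s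
      have e : mat (Lg h hf.ne x hx0) r s = (1 : Mn) r s + Matrix.single f (Fin.rev f) x r s := by
        show ((lg hf.ne x : SLn) : Mn) r s = _
        rw [lg, Matrix.SpecialLinearGroup.transvection_coe, Matrix.add_apply]
      rw [e]
      rcases eq_or_ne r s with rfl | hrs
      · rw [UH_diag z.2, Matrix.one_apply_eq, Matrix.single_apply,
          if_neg (fun hh => hf.ne (hh.1.trans hh.2.symm)), add_zero]
      · rw [Matrix.one_apply_ne hrs, zero_add]
        by_cases hfs : f = r ∧ Fin.rev f = s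
        · rw [← hfs.1, ← hfs.2, Matrix.single_apply_same]
        · rw [Matrix.single_apply, if_neg hfs]
          by_contra h0
          exact hfs ⟨(hoff r s hrs h0).1.symm, (hoff r s hrs h0).2.symm⟩
    refine ⟨x, hx0, fun hh => hz1 (Subtype.ext ?_), hze ▸ hz.1⟩
    rw [hze, OneMemClass.coe_one]
    refine mat_inj (Matrix.ext_iff_mulVec.2 fun v => ?_)
    rw [mulVec_Lg, mat_one, Matrix.one_mulVec, hh]
    simp
  -- the long root group at the first index
  have hlong₀ : ∀ (c : F) (hc : c + σ c = 0), Lg h hf.ne c hc ∈ T := by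
    intro c hc
    rcases eq_or_ne c 0 with rfl | hc0
    · convert T.one_mem
      refine mat_inj (Matrix.ext_iff_mulVec.2 fun v => ?_)
      rw [mulVec_Lg, mat_one, Matrix.one_mulVec]
      simp
    have hfix : (c / c₀) ^ q = c / c₀ := by
      have e1 : σ c = -c := by linear_combination hc
      have e2 : σ c₀ = -c₀ := by linear_combination hc₀
      rw [← h.pow, map_div₀, e1, e2, neg_div_neg_eq]
    obtain ⟨s, hs⟩ := exists_pow_succ_eq hF hfix
    rw [pow_succ', ← h.pow] at hs
    have hs0 : s ≠ 0 := by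
      rintro rfl
      rw [zero_mul] at hs
      exact div_ne_zero hc0 hc₀0 hs.symm
    let g : H n σ := ⟨Wp hfo σ s, Wp_mem h hfo hf.ne ho s⟩ * ⟨Wp hfo σ (-1), Wp_mem h hfo hf.ne ho (-1)⟩
    have hg : mat g = Matrix.diagonal fun k =>
        if k = f then s else if k = o then s⁻¹ else if k = Fin.rev o then σ s
        else if k = Fin.rev f then (σ s)⁻¹ else 1 := hp_eq hfo hf.ne ho hfo' hs0
    refine hmove (diag_Lg h hf.ne hg hc₀ hc ?_) hbase (Lg_mem_UH h hf c hc)
    have h1 : Fin.rev f ≠ Fin.rev o := fun hh => hfo (Fin.rev_injective hh)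
    have h2 : Fin.rev f ≠ o := fun hh => hfo' (by rw [← hh, Fin.rev_rev])
    have hσs : σ s ≠ 0 := (map_ne_zero σ).2 hs0
    simp [hf.ne', h1, h2]
    field_simp at hs ⊢
    linear_combination hs
  -- long root groups
  have hlong : ∀ (k : Fin n) (hk : k < Fin.rev k) (c : F) (hc : c + σ c = 0), Lg h hk.ne c hc ∈ T := by
    intro k hk c hc
    by_cases hkf : k = f
    · subst hkf; exact hlong₀ c hc
    · have hne2 : f ≠ Fin.rev k := fun hh => by
        rw [Fin.ext_iff, Fin.val_rev] at hh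
        rw [Fin.lt_def, Fin.val_rev] at hk
        change 0 = _ at hh
        omega
      exact hmove (Wp_Lg h (Ne.symm hkf) hf.ne hk.ne hne2 c hc) (hlong₀ c hc) (Lg_mem_UH h hk c hc)
  -- short root groups
  obtain ⟨θ, hθ0, hθ⟩ := exists_skew h
  have hsθ : σ θ ≠ 0 := (map_ne_zero σ).2 hθ0
  have hshort2 : ∀ (a b : Fin n) (hab : a < b) (ha : a ≠ Fin.rev a) (hb : b ≠ Fin.rev b),
      Fin.rev b < b → b < Fin.rev a → ∀ t : F, Sh h hab.ne ha hb t ∈ T := by
    intro a b hab ha hb hbb hba t
    obtain ⟨r, rfl⟩ : ∃ r, b = Fin.rev r := ⟨Fin.rev b, (Fin.rev_rev b).symm⟩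
    rw [Fin.rev_rev] at hbb
    have har : a < r := by
      rw [Fin.lt_def, Fin.val_rev, Fin.val_rev] at hba
      rw [Fin.lt_def]; have := r.2; omega
    set s := -t / σ θ with hs
    have hskew : s * σ s * θ + σ (s * σ s * θ) = 0 := by
      rw [map_mul, map_mul, h.invol]; linear_combination (s * σ s) * hθ
    have h1 := hcomm (comm_Sh_Lg h har.ne ha hbb.ne hab.ne s θ hθ hskew) (Sh_mem_UH h har ha hbb.ne s)
      (hlong r hbb θ hθ)
    have halt : a < Fin.rev a := hab.trans hba
    have h2 := (T.mul_mem_cancel_left (hlong a halt _ hskew)).1 h1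
    have e : -s * σ θ = t := by rw [hs]; field_simp
    simpa only [e] using h2
  have hshort : ∀ (a b : Fin n) (hab : a < b) (ha : a ≠ Fin.rev a) (hb : b ≠ Fin.rev b), b < Fin.rev a →
      ∀ t : F, Sh h hab.ne ha hb t ∈ T := by
    intro a b hab ha hb hba t
    rcases lt_or_gt_of_ne hb with hbb | hbb
    · have hab' : a < Fin.rev b := hab.trans hbb
      have hb'a : Fin.rev b < Fin.rev a := Fin.rev_lt_rev.2 hab
      exact hmove (Wl_Sh h hab.ne ha hb hab'.ne hθ0 hθ t)
        (hshort2 a (Fin.rev b) hab' ha (by rw [Fin.rev_rev]; exact hb.symm) (by rw [Fin.rev_rev]; exact hbb) hb'a _)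
        (Sh_mem_UH h hab ha hb t)
    · exact hshort2 a b hab ha hb hbb hba t
  -- generation
  refine UH_le h (fun k hk hlt c hc => hlong k hlt c hc)
    (fun a b hab ha hb hlt hba t => hshort a b hlt ha hb hba t) ?_
  intro j z hjz hzj hj hz hlt x
  have hz' : (z : ℕ) * 2 + 1 = n := by
    have := congrArg Fin.val hz
    rw [Fin.val_rev] at this
    have := z.2
    omega
  have hfz : f < z := by rw [Fin.lt_def]; show 0 < (z : ℕ); omega
  have hoz : o < z := by rw [Fin.lt_def]; show 1 < (z : ℕ); omega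
  have hoo : o < Fin.rev o := by rw [Fin.lt_def, Fin.val_rev]; show 1 < n - (1 + 1); omega
  have hzf : z ≠ Fin.rev f := fun hh => hfz.ne (Fin.rev_injective (hh.symm.trans hz.symm))
  have hzo : z ≠ Fin.rev o := fun hh => hoz.ne (Fin.rev_injective (hh.symm.trans hz.symm))
  have hbaseZ : ∀ (y e : F) (he : e + σ e + y * σ y = 0), Xz h hfz.ne hzf hf.ne hz y e he ∈ T := by
    intro y e he
    have hflo : f < o := by rw [Fin.lt_def]; show 0 < 1; omega
    have hfo2 : o < Fin.rev f := by rw [Fin.lt_def, Fin.val_rev]; show 1 < n - (0 + 1); omega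
    have e0 := comm_Sh_Xz h hflo.ne hf.ne ho hfo' hfz.ne hoz.ne hzf hzo hz y e he
    have hxT : Sh h hflo.ne hf.ne ho 1 ∈ T := hshort f o hflo hf.ne ho hfo2 1
    have hyU : Xz h hoz.ne hzo ho hz y e he ∈ UH n σ := Xz_mem_UH h hoz hz hoo y e he
    set xx := Sh h hflo.ne hf.ne ho 1 with hxx
    set yy := Xz h hoz.ne hzo ho hz y e he with hyy
    set S₂ := Sh h hfo' hf.ne (by rw [Fin.rev_rev]; exact ho.symm) (-σ e) with hS₂
    set X₁ := Xz h hfz.ne hzf hf.ne hz y e he with hX₁
    have h1 : X₁ * S₂ = xx * (yy * xx⁻¹ * yy⁻¹) := by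
      calc X₁ * S₂ = X₁ * S₂ * (yy * xx) * (xx⁻¹ * yy⁻¹) := by group
        _ = xx * (yy * xx⁻¹ * yy⁻¹) := by rw [← e0]; group
    have h2 : yy * xx⁻¹ * yy⁻¹ ∈ T := hTc _ (T.inv_mem hxT) yy
      ((UH n σ).mul_mem ((UH n σ).mul_mem hyU ((UH n σ).inv_mem (hT hxT))) ((UH n σ).inv_mem hyU))
    have h3 : X₁ * S₂ ∈ T := h1 ▸ T.mul_mem hxT h2
    have hflo' : f < Fin.rev o := by rw [Fin.lt_def, Fin.val_rev]; show 0 < n - (1 + 1); omega
    exact (T.mul_mem_cancel_right (hshort f (Fin.rev o) hflo' hf.ne (by rw [Fin.rev_rev]; exact ho.symm)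
      (Fin.rev_lt_rev.2 hflo) _)).1 h3
  obtain ⟨e, he⟩ := exists_cond h x
  refine ⟨e, he, ?_⟩
  show Xz h hjz hzj hj hz x e he ∈ T
  by_cases hjf : j = f
  · subst hjf; exact hbaseZ x e he
  · have he' : e + σ e + -x * σ (-x) = 0 := by rw [map_neg]; linear_combination he
    have hfj' : f ≠ Fin.rev j := fun hh => by
      rw [Fin.ext_iff, Fin.val_rev] at hh
      rw [Fin.lt_def] at hlt
      change 0 = _ at hh
      omega
    have hjlt : j < Fin.rev j := by
      rw [Fin.lt_def] at hlt
      rw [Fin.lt_def, Fin.val_rev]; omega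
    have e1 := Wp_Xz h (Ne.symm hjf) hf.ne hj hfj' hfz.ne hjz hzf hzj hz (-x) e he' (by simpa using he)
    simp only [neg_neg] at e1
    exact hmove e1 (hbaseZ (-x) e he') (Xz_mem_UH h hlt hz hjlt x e he)

theorem upper_normalizes [Finite F] {g : H n σ} (hg : (mat g).BlockTriangular id) :
    g ∈ Subgroup.normalizer (UH n σ : Set (H n σ)) := by
  have hmono : Monotone fun r : Fin n => (r : ℕ) := fun r s hrs => hrs
  have e : Rad σ (fun r : Fin n => (r : ℕ)) = UH n σ := by
    refine le_antisymm (Rad_le_UH hmono) fun x hx => ⟨UH_le_Par hmono hx, ?_⟩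
    ext r c
    show (if (r : ℕ) = (c : ℕ) then mat x r c else 0) = _
    split_ifs with hrc
    · rw [Fin.ext hrc, UH_diag hx, Matrix.one_apply_eq]
    · exact (Matrix.one_apply_ne fun hh => hrc (congrArg Fin.val hh)).symm
  rw [← e]
  exact Par_normalizes fun r c hrc => hg (show c < r from hrc)

theorem diag_rel (h : UFrob σ q) {g : H n σ} (hg : (mat g).BlockTriangular id) (r : Fin n) :
    mat g r r * σ (mat g (Fin.rev r) (Fin.rev r)) = 1 := by
  have h1 := congrFun (congrFun (mat_mul_inv g) r) r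
  rw [Matrix.mul_apply, Finset.sum_eq_single r, mat_inv h, Matrix.one_apply_eq] at h1
  · exact h1
  · intro l _ hl
    rcases lt_or_gt_of_ne hl with hlt | hlt
    · rw [hg hlt, zero_mul]
    · rw [mat_inv h, hg (show id (Fin.rev l) < id (Fin.rev r) from Fin.rev_lt_rev.2 hlt), map_zero, mul_zero]
  · simp

theorem diag_det {g : H n σ} (hg : (mat g).BlockTriangular id) : ∏ r, mat g r r = 1 := by
  rw [← Matrix.det_of_isUpperTriangular hg]
  exact g.1.2

theorem normalizer_le [Finite F] (hF : Nat.card F = q ^ 2) (h : UFrob σ q) (hn : 4 ≤ n) :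
    Subgroup.normalizer (UH n σ : Set (H n σ)) ≤
      UH n σ ⊔ ⨆ o : Option (Fin (n / 2 - 1)),
        pGen p (Rad σ (o.elim (blkM n) fun i => blkI n i.1)) ⊓ Subgroup.normalizer (UH n σ : Set (H n σ)) := by
  set T := UH n σ ⊔ ⨆ o : Option (Fin (n / 2 - 1)),
    pGen p (Rad σ (o.elim (blkM n) fun i => blkI n i.1)) ⊓ Subgroup.normalizer (UH n σ : Set (H n σ)) with hT
  have hin : ∀ (o : Option (Fin (n / 2 - 1))) (g : H n σ) (t : Fin n → F),
      g ∈ pGen p (Rad σ (o.elim (blkM n) fun i => blkI n i.1)) → mat g = Matrix.diagonal t → g ∈ T :=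
    fun o g t hg he => Subgroup.mem_sup_right (Subgroup.mem_iSup_of_mem o
      ⟨hg, upper_normalizes (he ▸ Matrix.blockTriangular_diagonal t)⟩)
  have htor : ∀ j i : ℕ, i + j = n / 2 - 1 → ∀ (d : H n σ) (t : Fin n → F), mat d = Matrix.diagonal t →
      (∀ r : Fin n, (r : ℕ) < i → t r = 1) → d ∈ T := by
    intro j
    induction j with
    | zero =>
      intro i hi d t he h1
      have htri : (mat d).BlockTriangular id := he ▸ Matrix.blockTriangular_diagonal t
      have hrel : ∀ r, t r * σ (t (Fin.rev r)) = 1 := fun r => by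
        simpa [he] using diag_rel h htri r
      have hdet : ∏ r, t r = 1 := by simpa [he] using diag_det htri
      let a : Fin n := ⟨n / 2 - 1, by omega⟩
      have hav : (a : ℕ) = n / 2 - 1 := rfl
      have ha0 : t a ≠ 0 := fun h0 => by simpa [h0] using hrel a
      have hra : t (Fin.rev a) = (σ (t a))⁻¹ := by
        have h2 := hrel (Fin.rev a)
        rw [Fin.rev_rev] at h2
        exact eq_inv_of_mul_eq_one_left h2
      have hone : ∀ r : Fin n, ((r : ℕ) < i ∨ (Fin.rev r : ℕ) < i) → t r = 1 := by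
        rintro r (hr | hr)
        · exact h1 r hr
        · have h2 := hrel r
          rwa [h1 _ hr, map_one, mul_one] at h2
      have haa : a ≠ Fin.rev a := by rw [Ne, Fin.ext_iff, Fin.val_rev]; omega
      rcases Nat.mod_two_eq_zero_or_one n with hev | hodd
      · have hoth : ∀ r, r ≠ a → r ≠ Fin.rev a → t r = 1 := fun r hr hr' => hone r (by
          rw [Ne, Fin.ext_iff] at hr hr'
          rw [Fin.val_rev] at hr'
          rw [Fin.val_rev]
          have := r.2
          omega)
        have hfix : σ (t a) = t a := by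
          rw [Finset.prod_eq_mul a (Fin.rev a) haa (fun r _ hr => hoth r hr.1 hr.2) (by simp) (by simp),
            hra] at hdet
          exact (mul_inv_eq_one₀ ((map_ne_zero σ).2 ha0)).1 hdet |>.symm
        obtain ⟨g, hg, hge⟩ := (radM_even p h hn hev hav).2 _ ha0 hfix
        refine hin none d t ?_ he
        rwa [show d = g from mat_inj (by
          rw [he, hge]
          congr 1
          funext r
          split_ifs with e1 e2
          · rw [e1]
          · rw [e2, hra, hfix]
          · exact hoth r e1 e2)]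
      · let z : Fin n := ⟨n / 2, by omega⟩
        have hzv : (z : ℕ) = n / 2 := rfl
        have haz : a ≠ z := by rw [Ne, Fin.ext_iff]; omega
        have hza : Fin.rev a ≠ z := by rw [Ne, Fin.ext_iff, Fin.val_rev]; omega
        have hoth : ∀ r, r ≠ a → r ≠ Fin.rev a → r ≠ z → t r = 1 := fun r hr hr' hrz => hone r (by
          rw [Ne, Fin.ext_iff] at hr hr' hrz
          rw [Fin.val_rev] at hr'
          rw [Fin.val_rev]
          have := r.2
          omega)
        have htz : t z = σ (t a) / t a := by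
          rw [← Finset.prod_subset (Finset.subset_univ ({a, Fin.rev a, z} : Finset (Fin n)))
            (fun r _ hr => by
              simp only [Finset.mem_insert, Finset.mem_singleton, not_or] at hr
              exact hoth r hr.1 hr.2.1 hr.2.2),
            Finset.prod_insert (by simp [haa, haz]), Finset.prod_pair hza, hra] at hdet
          have hσ : σ (t a) ≠ 0 := (map_ne_zero σ).2 ha0
          field_simp at hdet ⊢
          linear_combination hdet
        obtain ⟨g, hg, hge⟩ := (radM_odd p hF h hn hodd hav hzv).2 _ ha0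
        refine hin none d t ?_ he
        rwa [show d = g from mat_inj (by
          rw [he, hge]
          congr 1
          funext r
          split_ifs with e1 e2 e3
          · rw [e1]
          · rw [e2, hra]
          · rw [e3, htz]
          · exact hoth r e1 e2 e3)]
    | succ j ih =>
      intro i hi d t he h1
      have htri : (mat d).BlockTriangular id := he ▸ Matrix.blockTriangular_diagonal t
      let a : Fin n := ⟨i, by omega⟩
      let b : Fin n := ⟨i + 1, by omega⟩
      have ha0 : t a ≠ 0 := fun h0 => by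
        have := diag_rel h htri a
        simp [he, h0] at this
      obtain ⟨g, hg, hge⟩ := (radI p h (i := i) (by omega) (a := a) (b := b) rfl rfl).2 _ (inv_ne_zero ha0)
      have hgT : g ∈ T := hin (some ⟨i, by omega⟩) g _ hg hge
      refine (T.mul_mem_cancel_left hgT).1 (ih (i + 1) (by omega) (g * d) _
        (by rw [mat_mul, hge, he, Matrix.diagonal_mul_diagonal]) fun r hr => ?_)
      rcases eq_or_ne r a with rfl | hra
      · simp [ha0]
      · have hri : (r : ℕ) < i := by
          have : (r : ℕ) ≠ i := fun hh => hra (Fin.ext hh)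
          omega
        have e1 : r ≠ b := by rw [Ne, Fin.ext_iff]; show (r : ℕ) ≠ i + 1; omega
        have e2 : r ≠ Fin.rev b := by rw [Ne, Fin.ext_iff, Fin.val_rev]; show (r : ℕ) ≠ n - (i + 1 + 1); omega
        have e3 : r ≠ Fin.rev a := by rw [Ne, Fin.ext_iff, Fin.val_rev]; show (r : ℕ) ≠ n - (i + 1); omega
        simp [hra, e1, e2, e3, h1 r hri]
  intro g hg
  have htri := normalizes_upper h hn hg
  obtain ⟨d, hd⟩ := exists_diag (σ := σ) (fun r => mat g r r) (diag_rel h htri) (diag_det htri)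
  have hdT : d ∈ T := htor (n / 2 - 1) 0 (Nat.zero_add _) d _ hd fun r hr => absurd hr (Nat.not_lt_zero _)
  have hu : g * d⁻¹ ∈ UH n σ := by
    have he : ∀ r c, mat (g * d⁻¹) r c = mat g r c * σ (mat g (Fin.rev c) (Fin.rev c)) := fun r c => by
      rw [mat_mul, Matrix.mul_apply, Finset.sum_eq_single c]
      · rw [mat_inv h, hd, Matrix.diagonal_apply_eq]
      · intro l _ hl
        rw [mat_inv h, hd, Matrix.diagonal_apply_ne _ (fun hh => hl (Fin.rev_injective hh).symm), map_zero, mul_zero]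
      · simp
    refine ⟨fun r c hrc => ?_, fun r => ?_⟩
    · show mat (g * d⁻¹) r c = 0
      rw [he, htri hrc, zero_mul]
    · show mat (g * d⁻¹) r r = 1
      rw [he, diag_rel h htri]
  have := T.mul_mem (Subgroup.mem_sup_left hu) hdT
  rwa [inv_mul_cancel_right] at this

theorem UH_ne_bot (h : UFrob σ q) (hn : 4 ≤ n) : UH n σ ≠ ⊥ := by
  intro hb
  obtain ⟨θ, hθ0, hθ⟩ := exists_skew h
  let f : Fin n := ⟨0, by omega⟩
  have hf : f < Fin.rev f := by rw [Fin.lt_def, Fin.val_rev]; show 0 < n - (0 + 1); omega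
  have h1 := (Subgroup.eq_bot_iff_forall _).1 hb _ (Lg_mem_UH h hf θ hθ)
  have h2 := congrFun (congrArg (fun M : Mn => M *ᵥ Pi.single (Fin.rev f) 1) (congrArg mat h1)) f
  simp only [mulVec_Lg, mat_one, Matrix.one_mulVec] at h2
  simp [hf.ne] at h2
  exact hθ0 h2

theorem isSimple {K : Type*} [Field K] [Fintype K] (p : ℕ) [Fact p.Prime] [CharP K p] {q : ℕ}
    (hK : Fintype.card K = q ^ 2) (hn : 4 ≤ n) (S : Sylow p (Cfsg.PSU n K q)) :
    (Cfsg.groupFusionSystem (S : Subgroup (Cfsg.PSU n K q))).IsSimple p := by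
  have hF : Nat.card K = q ^ 2 := by rw [Nat.card_eq_fintype_card, hK]
  obtain ⟨σ, h⟩ := exists_uFrob hF
  obtain ⟨e⟩ := exists_equiv (n := n) hF h
  let B : Option (Fin (n / 2 - 1)) → Fin n → ℕ := fun o => o.elim (blkM n) fun i => blkI n i.1
  let f : Fin n := ⟨0, by omega⟩
  have hfl : ∀ o, B o f ≠ B o (Fin.rev f) := by
    rintro (_ | i)
    · show blkM n f ≠ blkM n (Fin.rev f)
      simp only [blkM, Fin.val_rev, show (f : ℕ) = 0 from rfl]
      split_ifs <;> omega
    · show blkI n i.1 f ≠ blkI n i.1 (Fin.rev f)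
      have := i.2
      simp only [blkI, Fin.val_rev, show (f : ℕ) = 0 from rfl]
      split_ifs <;> omega
  have hmono : ∀ o, Monotone (B o) := by
    rintro (_ | i)
    · exact blkM_mono
    · exact blkI_mono (by have := i.2; omega)
  have hsymm : ∀ o r s, B o r = B o s → B o (Fin.rev r) = B o (Fin.rev s) := by
    rintro (_ | i)
    · exact blkM_symm
    · exact blkI_symm (by have := i.2; omega)
  refine FusionSimpleQuotient.isSimple_quotient_equiv e.symm (fun z hz k hk => center_pow_eq_one p h hn hz hk)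
    (UH n σ) (isPGroup_UH p) (UH_ne_bot h hn) (fun g hg k hk => pEl_mem_UH p h hn hg hk)
    (closed_eq p hF h hn) (fun o => Rad σ (B o)) (fun o => Rad_le_UH (hmono o))
    (fun o x hx => Par_normalizes (UH_le_Par (hmono o) hx))
    (fun o => centralizer_le h hn (hmono o) (hsymm o) f rfl (hfl o)) ?_
    ((normalizer_le p hF h hn).trans le_sup_left) S
  rintro (_ | i)
  · rcases Nat.mod_two_eq_zero_or_one n with hev | hodd
    · exact (radM_even p h hn hev (j := ⟨n / 2 - 1, by omega⟩) rfl).1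
    · exact (radM_odd p hF h hn hodd (j := ⟨n / 2 - 1, by omega⟩) (z := ⟨n / 2, by omega⟩) rfl rfl).1
  · have := i.2
    exact (radI (n := n) p h (i := i.1) (by omega) (a := ⟨i.1, by omega⟩) (b := ⟨i.1 + 1, by omega⟩) rfl rfl).1

end CfsgLib.Involutions.UAnti
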