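import Mathlib
import Cfsg.Agent.Lib.Fusion.SimpleCriterion
import Cfsg.Agent.Lib.Fusion.Normal
import Cfsg.Agent.Lib.Base.Cores

/-!
Simplicity of the fusion system of a group generated by parabolic subgroups with self-centralising
radicals.
-/

set_option autoImplicit false

namespace CfsgLib.Involutions.FusionSimpleParabolic

open Cfsg Cfsg.FusionSystem CfsgLib.Fusion

variable {G : Type*} [Group G] [Finite G] {p : ℕ} [Fact p.Prime] {ι : Type*}

/-- The elements of `p`-power order normalising `R`, and the subgroup they generate. -/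
def pGen (p : ℕ) (R : Subgroup G) : Subgroup G :=
  Subgroup.closure {g : G | g ∈ Subgroup.normalizer (R : Set G) ∧ ∃ k : ℕ, orderOf g = p ^ k}

omit [Finite G] [Fact p.Prime] in
theorem cj_mem_centralizer_img' {P : Subgroup G} {g a : G}
    (ha : a ∈ Subgroup.centralizer ((img P (cj g) : Subgroup G) : Set G)) :
    cj g⁻¹ a ∈ Subgroup.centralizer (P : Set G) := by
  rw [Subgroup.mem_centralizer_iff] at ha ⊢
  intro x hx
  have h1 := ha (cj g x) (mem_img_of_mem _ hx)
  simp only [cj] at h1 ⊢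
  calc x * (g⁻¹ * a * g⁻¹⁻¹) = g⁻¹ * (g * x * g⁻¹ * a) * g := by group
    _ = g⁻¹ * a * g⁻¹⁻¹ * x := by rw [h1]; group

/-- A self-centralising subgroup normal in the Sylow subgroup, which is the intersection of the Sylow
subgroup with a conjugate under its normaliser, is fully normalised, radical and centric. -/
theorem normal_radical_centric (S : Sylow p G) (R : Subgroup G) (hle : R ≤ (S : Subgroup G))
    (hn : (S : Subgroup G) ≤ Subgroup.normalizer (R : Set G))
    (hC : Subgroup.centralizer (R : Set G) ≤ R)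
    (hR : ∃ w ∈ Subgroup.normalizer (R : Set G), ∀ x ∈ (S : Subgroup G),
      w * x * w⁻¹ ∈ (S : Subgroup G) → x ∈ R) :
    (groupFusionSystem (S : Subgroup G)).IsFullyNormalized R ∧
      (groupFusionSystem (S : Subgroup G)).IsRadical p R ∧
      (groupFusionSystem (S : Subgroup G)).IsCentric R := by
  set F := groupFusionSystem (S : Subgroup G) with hFdef
  refine ⟨⟨hle, fun Q _ => ?_⟩, ⟨hle, le_antisymm ?_ (inn_le_pCoreAut F S.2 hle)⟩, hle, fun Q hQ => ?_⟩
  · have h1 : normalizerIn (S : Subgroup G) R = (S : Subgroup G) :=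
      le_antisymm normalizerIn_le (le_inf le_rfl hn)
    rw [h1]
    exact Subgroup.card_le_of_le normalizerIn_le
  · -- radical
    set N := Subgroup.normalizer (R : Set G) with hN
    set A := F.autGroup R with hA
    let φ : N →* MulAut R := R.normalizerMonoidHom
    have hrange : ∀ k : N, φ k ∈ A := fun k => by
      rw [hA, hFdef, autGroup_group hle, autInducedBy_eq_map]
      exact ⟨k, Subgroup.mem_top _, rfl⟩
    let φ' : N →* A := φ.codRestrict A hrange
    let K : Subgroup N := (pCore p A).comap φ'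
    have hker : IsPGroup p φ'.ker := by
      have hRp : IsPGroup p R := S.2.to_le hle
      refine (hRp.comap_of_injective N.subtype N.subtype_injective).to_le ?_
      intro k hk
      rw [Subgroup.mem_comap]
      refine hC (Subgroup.mem_centralizer_iff.2 fun x hx => ?_)
      have h1 : φ k = 1 := congrArg Subtype.val (MonoidHom.mem_ker.1 hk)
      have h2 : ((φ k ⟨x, hx⟩ : R) : G) = x := by rw [h1]; rfl
      have h3 : (k : G) * x * (k : G)⁻¹ = x := h2
      calc x * (k : G) = (k : G) * x * (k : G)⁻¹ * k := by rw [h3]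
        _ = (k : G) * x := by group
    have hKp : IsPGroup p K := (CfsgLib.Base.isPGroup_pCore p A).comap_of_ker_isPGroup φ' hker
    have hKn : K.Normal := (Subgroup.sSup_normal _ fun N hN => hN.1).comap φ'
    set K' : Subgroup G := K.map N.subtype with hK'
    have hK'n : ∀ g ∈ N, ∀ x ∈ K', g * x * g⁻¹ ∈ K' := by
      rintro g hg _ ⟨x, hx, rfl⟩
      exact ⟨⟨g, hg⟩ * x * ⟨g, hg⟩⁻¹, hKn.conj_mem x hx _, rfl⟩
    have hK'S : K' ≤ (S : Subgroup G) := by
      have hnor : (S : Subgroup G) ≤ Subgroup.normalizer (K' : Set G) := by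
        intro s hs
        rw [Subgroup.mem_normalizer_iff]
        refine fun x => ⟨hK'n s (hn hs) x, fun hx => ?_⟩
        have := hK'n s⁻¹ (N.inv_mem (hn hs)) _ hx
        simpa [mul_assoc] using this
      have hsup := IsPGroup.to_sup_of_normal_left' (hKp.map N.subtype) S.2 hnor
      exact S.3 hsup le_sup_right ▸ le_sup_left
    obtain ⟨w, hwN, hw⟩ := hR
    rintro _ ⟨a, ha, rfl⟩
    obtain ⟨k, hk⟩ : ∃ k : N, φ k = (a : MulAut R) := by
      have h1 := a.2
      simp only [hA, hFdef, autGroup_group hle, autInducedBy_eq_map] at h1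
      obtain ⟨k, -, hk⟩ := h1
      exact ⟨k, hk⟩
    have hkK : k ∈ K := by
      show φ' k ∈ pCore p A
      rwa [show φ' k = a from Subtype.ext hk]
    have hk' : (k : G) ∈ K' := ⟨k, hkK, rfl⟩
    have hkR : (k : G) ∈ R := hw _ (hK'S hk') (hK'S (hK'n w hwN _ hk'))
    refine mem_inn.2 ⟨k, hkR, fun x hx => ?_⟩
    show autFun (a : MulAut R) x = _
    rw [← hk, autFun_of_mem _ hx]
    rfl
  · obtain ⟨-, -, g, rfl⟩ := isConj_group_iff.1 hQ
    intro x hx
    obtain ⟨-, hxc⟩ := Subgroup.mem_inf.1 hx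
    have h1 := mem_img_of_mem (cj g) (hC (cj_mem_centralizer_img' hxc))
    simpa [cj, mul_assoc] using h1

/-- The criterion, for a given Sylow subgroup. -/
theorem isSimple_core (S : Sylow p G) (hS : (S : Subgroup G) ≠ ⊥)
    (hT : ∀ T : Subgroup G, T ≤ (S : Subgroup G) →
      (∀ x ∈ T, ∀ g : G, g * x * g⁻¹ ∈ (S : Subgroup G) → g * x * g⁻¹ ∈ T) →
        T = ⊥ ∨ T = (S : Subgroup G))
    (R : ι → Subgroup G) (hle : ∀ i, R i ≤ (S : Subgroup G))
    (hn : ∀ i, (S : Subgroup G) ≤ Subgroup.normalizer (R i : Set G))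
    (hC : ∀ i, Subgroup.centralizer (R i : Set G) ≤ R i)
    (hR : ∀ i, ∃ w ∈ Subgroup.normalizer (R i : Set G), ∀ x ∈ (S : Subgroup G),
      w * x * w⁻¹ ∈ (S : Subgroup G) → x ∈ R i)
    (hN : Subgroup.normalizer ((S : Subgroup G) : Set G) ≤
      (S : Subgroup G) ⊔ ⨆ i, pGen p (R i) ⊓ Subgroup.normalizer ((S : Subgroup G) : Set G)) :
    (groupFusionSystem (S : Subgroup G)).IsSimple p := by
  have hF := groupFusion_isSaturated S
  set F := groupFusionSystem (S : Subgroup G) with hFdef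
  refine groupFusion_isSimple_of_generation S hS ?_ (le_antisymm ?_ ?_)
  · intro T hTc
    obtain ⟨hTS, hTm⟩ := stronglyClosed_iff.1 hTc
    refine hT T hTS fun x hx g hg => ?_
    refine hTm (Subgroup.zpowers x) (cj g) (isMor_group.2
      ⟨Subgroup.zpowers_le.2 (hTS hx), ?_, g, fun _ _ => rfl⟩) x (Subgroup.mem_zpowers x) hx
    rintro _ ⟨k, rfl⟩
    show g * x ^ k * g⁻¹ ∈ (S : Subgroup G)
    rw [← conj_zpow]
    exact Subgroup.zpow_mem _ hg k
  · set NS := Subgroup.normalizer ((S : Subgroup G) : Set G) with hNS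
    set D : Subgroup (MulAut (S : Subgroup G)) := ⨆ (P : Subgroup G)
      (_ : F.IsFullyNormalized P ∧ F.IsRadical p P ∧ F.IsCentric P),
      autInducedBy (Subgroup.closure {g : G | g ∈ Subgroup.normalizer (P : Set G) ∧
        ∃ k : ℕ, orderOf g = p ^ k}) (S : Subgroup G) with hD
    have hle' : ∀ P : Subgroup G, F.IsFullyNormalized P ∧ F.IsRadical p P ∧ F.IsCentric P →
        autInducedBy (pGen p P) (S : Subgroup G) ≤ D := fun P hP =>
      le_iSup₂ (f := fun (P : Subgroup G) (_ : F.IsFullyNormalized P ∧ F.IsRadical p P ∧ F.IsCentric P) =>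
        autInducedBy (pGen p P) (S : Subgroup G)) P hP
    set M : Subgroup NS := D.comap (S : Subgroup G).normalizerMonoidHom with hM
    have hmem : ∀ g : G, ∀ hg : g ∈ NS, ∀ K : Subgroup G, g ∈ K →
        autInducedBy K (S : Subgroup G) ≤ D → g ∈ M.map NS.subtype := fun g hg K hgK hK => by
      refine ⟨⟨g, hg⟩, hK ?_, rfl⟩
      rw [autInducedBy_eq_map]
      exact ⟨⟨g, hg⟩, hgK, rfl⟩
    have hall : NS ≤ M.map NS.subtype := by
      refine hN.trans (sup_le ?_ (iSup_le fun i g hg => ?_))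
      · intro s hs
        refine hmem s (Subgroup.le_normalizer hs) (pGen p (S : Subgroup G)) ?_
          (hle' _ ⟨isFullyNormalized_self F, radical_self S.2 hF, centric_self F⟩)
        obtain ⟨j, hj⟩ := IsPGroup.iff_orderOf.1 S.2 ⟨s, hs⟩
        exact Subgroup.subset_closure ⟨Subgroup.le_normalizer hs, j, by rwa [Subgroup.orderOf_mk] at hj⟩
      · exact hmem g hg.2 _ hg.1 (hle' _ (normal_radical_centric S (R i) (hle i) (hn i) (hC i) (hR i)))
    intro α hα
    rw [autInducedBy_eq_map] at hα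
    obtain ⟨g, -, rfl⟩ := hα
    obtain ⟨g', hg', he⟩ := hall g.2
    rwa [show g' = g from Subtype.ext he] at hg'
  · refine iSup₂_le fun P _ α hα => ?_
    obtain ⟨g, -, hgn, hge⟩ := mem_autInducedBy.mp hα
    exact mem_autInducedBy.mpr ⟨g, Subgroup.mem_top g, hgn, hge⟩

/-- The criterion: checked on one Sylow subgroup, it holds for all of them. -/
theorem isSimple_of_parabolic (S₀ : Sylow p G) (hS : (S₀ : Subgroup G) ≠ ⊥)
    (hT : ∀ T : Subgroup G, T ≤ (S₀ : Subgroup G) →
      (∀ x ∈ T, ∀ g : G, g * x * g⁻¹ ∈ (S₀ : Subgroup G) → g * x * g⁻¹ ∈ T) →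
        T = ⊥ ∨ T = (S₀ : Subgroup G))
    (R : ι → Subgroup G) (hle : ∀ i, R i ≤ (S₀ : Subgroup G))
    (hn : ∀ i, (S₀ : Subgroup G) ≤ Subgroup.normalizer (R i : Set G))
    (hC : ∀ i, Subgroup.centralizer (R i : Set G) ≤ R i)
    (hR : ∀ i, ∃ w ∈ Subgroup.normalizer (R i : Set G), ∀ x ∈ (S₀ : Subgroup G),
      w * x * w⁻¹ ∈ (S₀ : Subgroup G) → x ∈ R i)
    (hN : Subgroup.normalizer ((S₀ : Subgroup G) : Set G) ≤
      (S₀ : Subgroup G) ⊔ ⨆ i, pGen p (R i) ⊓ Subgroup.normalizer ((S₀ : Subgroup G) : Set G))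
    (S : Sylow p G) : (groupFusionSystem (S : Subgroup G)).IsSimple p := by
  obtain ⟨a, rfl⟩ := MulAction.exists_smul_eq G S₀ S
  let e : G ≃* G := MulAut.conj a
  have hinj : Function.Injective e.toMonoidHom := e.injective
  have hS' : ((a • S₀ : Sylow p G) : Subgroup G) = (S₀ : Subgroup G).map e.toMonoidHom := by
    rw [Sylow.coe_subgroup_smul]
    rfl
  have hnor : ∀ H : Subgroup G, Subgroup.normalizer (H.map e.toMonoidHom : Set G) =
      (Subgroup.normalizer (H : Set G)).map e.toMonoidHom := fun H =>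
    (Subgroup.map_equiv_normalizer_eq H e).symm
  refine isSimple_core (a • S₀) ?_ ?_ (fun i => (R i).map e.toMonoidHom) ?_ ?_ ?_ ?_ ?_
  · rw [hS', Ne, Subgroup.map_eq_bot_iff_of_injective _ hinj]
    exact hS
  · rw [hS']
    intro T hTle hTc
    have hle₀ : T.comap e.toMonoidHom ≤ (S₀ : Subgroup G) := by
      rw [← Subgroup.comap_map_eq_self_of_injective hinj (S₀ : Subgroup G)]
      exact Subgroup.comap_mono hTle
    have h1 : (T.comap e.toMonoidHom).map e.toMonoidHom = T :=
      Subgroup.map_comap_eq_self_of_surjective e.surjective T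
    rcases hT (T.comap e.toMonoidHom) hle₀ fun x hx g hg => by
        have h2 := hTc (e x) hx (e g) ?_
        · show e.toMonoidHom (g * x * g⁻¹) ∈ T
          simpa using h2
        · exact ⟨g * x * g⁻¹, hg, by simp⟩ with h | h
    · left; rw [← h1, h, Subgroup.map_bot]
    · right; rw [← h1, h]
  · intro i; rw [hS']; exact Subgroup.map_mono (hle i)
  · intro i; rw [hS', hnor]; exact Subgroup.map_mono (hn i)
  · rintro i y hy
    refine ⟨e.symm y, hC i (Subgroup.mem_centralizer_iff.2 fun x hx => e.injective ?_), e.apply_symm_apply y⟩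
    rw [map_mul, map_mul, e.apply_symm_apply]
    exact Subgroup.mem_centralizer_iff.1 hy (e x) ⟨x, hx, rfl⟩
  · intro i
    obtain ⟨w, hwN, hw⟩ := hR i
    rw [hnor, hS']
    refine ⟨e w, ⟨w, hwN, rfl⟩, ?_⟩
    rintro _ ⟨x, hx, rfl⟩ hmem
    refine ⟨x, hw x hx ?_, rfl⟩
    obtain ⟨z, hz, hze⟩ := hmem
    have : z = w * x * w⁻¹ := e.injective (by simpa using hze)
    exact this ▸ hz
  · rw [hS', hnor]
    refine (Subgroup.map_mono hN).trans ?_
    rw [Subgroup.map_sup, Subgroup.map_iSup]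
    refine sup_le_sup le_rfl (iSup_mono fun i => ?_)
    refine (Subgroup.map_inf_le _ _ _).trans (inf_le_inf ?_ le_rfl)
    rw [pGen, MonoidHom.map_closure, pGen, hnor]
    refine Subgroup.closure_mono ?_
    rintro _ ⟨g, ⟨hg, k, hk⟩, rfl⟩
    exact ⟨⟨g, hg, rfl⟩, k, (orderOf_injective e.toMonoidHom hinj g).trans hk⟩

end CfsgLib.Involutions.FusionSimpleParabolic
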