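import Cfsg.Agent.Lib.Involutions.PSLUnipGen
import Cfsg.Agent.Lib.Involutions.FusionSimpleParabolic
import Cfsg.Agent.Lib.PGroups.Basic

/-!
The `p`-fusion system of `PSL_n` in defining characteristic is simple for `n ≥ 3`.
-/

set_option autoImplicit false

namespace CfsgLib.Involutions.PSLFusion

open Matrix CfsgLib.KnownB.PSLAut CfsgLib.Involutions.PSLUnip CfsgLib.Involutions.FusionSimpleParabolic

variable {n : ℕ} {F : Type*} [Field F] {p : ℕ} [Fact p.Prime] [CharP F p]

local notation "SLn" => Matrix.SpecialLinearGroup (Fin n) F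
local notation "PSLn" => Matrix.ProjectiveSpecialLinearGroup (Fin n) F
local notation "Mn" => Matrix (Fin n) (Fin n) F

variable (n F) in
/-- The quotient map. -/
noncomputable def π : Matrix.SpecialLinearGroup (Fin n) F →* Matrix.ProjectiveSpecialLinearGroup (Fin n) F :=
  QuotientGroup.mk' _

theorem π_surjective : Function.Surjective (π n F) := QuotientGroup.mk'_surjective _

theorem center_pow_eq_one {z : SLn} (hz : z ∈ Subgroup.center SLn) {k : ℕ} (h : z ^ p ^ k = 1) : z = 1 := by
  rcases Nat.eq_zero_or_pos n with rfl | hn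
  · exact Subsingleton.elim _ _
  obtain ⟨r, -, hr⟩ := Matrix.SpecialLinearGroup.mem_center_iff.1 hz
  have h1 : ((Matrix.scalar (Fin n)) r) ^ p ^ k = 1 := by
    rw [hr, ← Matrix.SpecialLinearGroup.coe_pow, h, Matrix.SpecialLinearGroup.coe_one]
  rw [← map_pow] at h1
  have h2 : r ^ p ^ k = 1 := by
    have := congrFun (congrFun h1 ⟨0, hn⟩) ⟨0, hn⟩
    simpa using this
  have h3 : (r - 1) ^ p ^ k = 0 := by rw [sub_pow_char_pow, h2, one_pow, sub_self]
  have h4 : r = 1 := sub_eq_zero.1 (eq_zero_of_pow_eq_zero h3)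
  refine Subtype.ext ?_
  rw [← hr, h4, map_one, Matrix.SpecialLinearGroup.coe_one]

/-- Elements of `p`-power order with the same image in `PSL` are equal. -/
theorem eq_of_π_eq {a b : SLn} {k l : ℕ} (ha : a ^ p ^ k = 1) (hb : b ^ p ^ l = 1)
    (h : π n F a = π n F b) : a = b := by
  have hz : a⁻¹ * b ∈ Subgroup.center SLn := QuotientGroup.eq.1 h
  have hc : Commute a (a⁻¹ * b) := Subgroup.mem_center_iff.1 hz a
  have ha' : a ^ p ^ max k l = 1 := by
    obtain ⟨d, hd⟩ := Nat.exists_eq_add_of_le (le_max_left k l)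
    rw [hd, pow_add, pow_mul, ha, one_pow]
  have hb' : b ^ p ^ max k l = 1 := by
    obtain ⟨d, hd⟩ := Nat.exists_eq_add_of_le (le_max_right k l)
    rw [hd, pow_add, pow_mul, hb, one_pow]
  have h1 : b ^ p ^ max k l = a ^ p ^ max k l * (a⁻¹ * b) ^ p ^ max k l := by
    rw [← hc.mul_pow, mul_inv_cancel_left]
  rw [ha', hb', one_mul] at h1
  have := center_pow_eq_one hz h1.symm
  exact inv_mul_eq_one.1 this

theorem U_pow [Finite F] {u : SLn} (hu : u ∈ U n F) : ∃ k : ℕ, u ^ p ^ k = 1 := by
  have := Fintype.ofFinite F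
  obtain ⟨f, hp, hq⟩ := FiniteField.card F p
  rw [← Nat.card_eq_fintype_card] at hq
  have hP : IsPGroup p (U n F) :=
    IsPGroup.of_card (n := (f : ℕ) * (n * (n - 1) / 2)) (by rw [card_U, hq, pow_mul])
  obtain ⟨k, hk⟩ := hP ⟨u, hu⟩
  exact ⟨k, congrArg Subtype.val hk⟩

theorem mem_U_of_π_mem [Finite F] {a : SLn} {k : ℕ} (ha : a ^ p ^ k = 1)
    (h : π n F a ∈ (U n F).map (π n F)) : a ∈ U n F := by
  obtain ⟨u, hu, he⟩ := h
  obtain ⟨l, hl⟩ := U_pow (p := p) hu
  exact (eq_of_π_eq ha hl he.symm) ▸ hu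

theorem conj_pow_eq_one {a x : SLn} {k : ℕ} (hx : x ^ p ^ k = 1) : (a * x * a⁻¹) ^ p ^ k = 1 := by
  rw [conj_pow, hx, mul_one, mul_inv_cancel]

theorem commute_of_π_commute (p : ℕ) [Fact p.Prime] [CharP F p] [Finite F] {a x : SLn} (hx : x ∈ U n F)
    (h : π n F a * π n F x = π n F x * π n F a) : a * x = x * a := by
  obtain ⟨k, hk⟩ := U_pow (p := p) hx
  refine mul_inv_eq_iff_eq_mul.1 (eq_of_π_eq (conj_pow_eq_one (a := a) hk) hk ?_)
  rw [map_mul, map_mul, map_inv, h, mul_inv_cancel_right]

/-! ### The root elements and the torus -/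

theorem π_transvection {i j : Fin n} (h : i ≠ j) (c : F) :
    π n F (Matrix.SpecialLinearGroup.transvection h c) = X i j c := (X_eq_transvection h c).symm

theorem U_map_le {H : Subgroup PSLn} (h : ∀ (i j : Fin n), i < j → ∀ c : F, X i j c ∈ H) :
    (U n F).map (π n F) ≤ H := by
  rw [Subgroup.map_le_iff_le_comap]
  refine U_le fun i j hij c => ?_
  rw [Subgroup.mem_comap, π_transvection]
  exact h i j hij c

theorem X_mem_U_map {i j : Fin n} (h : i < j) (c : F) : (X i j c : PSLn) ∈ (U n F).map (π n F) :=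
  ⟨_, transvection_mem_U h c, π_transvection h.ne c⟩

omit [Fact p.Prime] [CharP F p] in
theorem exists_conj_X (hn : 3 ≤ n) {a b k l : Fin n} (hab : a ≠ b) (hkl : k ≠ l) {c d : F} (hc : c ≠ 0)
    (hd : d ≠ 0) : ∃ s : PSLn, s * X a b c * s⁻¹ = X k l d := by
  have : NeZero n := ⟨by omega⟩
  obtain ⟨σ, hσa, hσb⟩ : ∃ σ : Equiv.Perm (Fin n), σ a = k ∧ σ b = l := by
    let σ₁ : Equiv.Perm (Fin n) := Equiv.swap a k
    refine ⟨Equiv.swap (σ₁ b) l * σ₁, ?_, ?_⟩
    · rw [Equiv.Perm.mul_apply, show σ₁ a = k from Equiv.swap_apply_left a k]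
      refine Equiv.swap_apply_of_ne_of_ne ?_ hkl
      intro h
      exact hab (σ₁.injective ((Equiv.swap_apply_left a k).trans h))
    · rw [Equiv.Perm.mul_apply, Equiv.swap_apply_left]
  obtain ⟨m, hmk, hml⟩ := third hn k l
  set e : Fˣ := Matrix.GeneralLinearGroup.det (permGL σ : GL (Fin n) F) with he
  set q : Fˣ := Units.mk0 (d / c) (div_ne_zero hd hc) with hq
  set t : Fin n → Fˣ := fun r => if r = k then q else if r = m then e⁻¹ * q⁻¹ else 1 with ht
  have hdet : ((diagGL t * permGL σ : GL (Fin n) F) : Mn).det = 1 := by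
    rw [Units.val_mul, Matrix.det_mul]
    have h1 : ((diagGL t : GL (Fin n) F) : Mn).det = ∏ r, ((t r : Fˣ) : F) := Matrix.det_diagonal
    have h2 : (∏ r, t r) = e⁻¹ := by
      rw [← Finset.prod_subset (Finset.subset_univ ({k, m} : Finset (Fin n))) ?_,
        Finset.prod_pair hmk.symm]
      · simp [ht, hmk]
      · intro r _ hr
        simp only [Finset.mem_insert, Finset.mem_singleton, not_or] at hr
        simp [ht, hr.1, hr.2]
    rw [h1, ← Units.coe_prod, h2, ← Matrix.GeneralLinearGroup.val_det_apply, ← he, Units.inv_mul]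
  let s : SLn := ⟨_, hdet⟩
  refine ⟨QuotientGroup.mk s, ?_⟩
  have hs : Matrix.SpecialLinearGroup.toGL s = diagGL t * permGL σ := Units.ext rfl
  have h3 : (QuotientGroup.mk s : PSLn) * X a b c * (QuotientGroup.mk s)⁻¹ =
      δ (Matrix.SpecialLinearGroup.toGL s) (X a b c) := by
    rw [X, conj_mk, δ_mk]
  rw [h3, hs, map_mul, MulAut.mul_apply, δ_permGL_X σ hab, hσa, hσb, δ_diagGL_X t hkl]
  congr 1
  simp [ht, hq, hkl.symm, hml.symm]
  field_simp

theorem pow_card_eq [Finite F] {i j : Fin n} (h : i ≠ j) (c : F) :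
    ∃ k : ℕ, orderOf (X i j c : PSLn) = p ^ k := by
  have h0 : ∀ m : ℕ, (X i j c : PSLn) ^ m = X i j (m • c) := fun m => by
    induction m with
    | zero =>
      rw [pow_zero, zero_smul]
      have := X_add h (0 : F) 0
      rw [add_zero] at this
      exact (left_eq_mul.1 this).symm
    | succ m ih => rw [pow_succ, ih, succ_nsmul, X_add h]
  obtain ⟨k, -, hk⟩ := (Nat.dvd_prime_pow (Fact.out : p.Prime) (m := 1)).1 (orderOf_dvd_of_pow_eq_one (by
    rw [pow_one, h0, nsmul_eq_mul, CharP.cast_eq_zero, zero_mul]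
    simpa using (h0 0).symm))
  exact ⟨k, hk⟩

omit [Fact p.Prime] [CharP F p] in
theorem diag2n_inv' {i j : Fin n} (h : i ≠ j) (c : F) (hc : c ≠ 0) :
    (Matrix.SpecialLinearGroup.diag2n h c hc)⁻¹ = Matrix.SpecialLinearGroup.diag2n h c⁻¹ (inv_ne_zero hc) := by
  refine inv_eq_of_mul_eq_one_right (Subtype.ext ?_)
  rw [Matrix.SpecialLinearGroup.coe_mul, Matrix.SpecialLinearGroup.diag2n_coe,
    Matrix.SpecialLinearGroup.diag2n_coe, Matrix.diagonal_mul_diagonal, Matrix.SpecialLinearGroup.coe_one,
    ← Matrix.diagonal_one]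
  congr 1
  funext r
  rcases eq_or_ne r i with rfl | hri
  · simp [h, hc]
  · rcases eq_or_ne r j with rfl | hrj
    · simp [hri, hc]
    · simp [hri, hrj]

/-! ### The main theorem -/

theorem isSimple [Finite F] (hn : 3 ≤ n) (S : Sylow p PSLn) :
    (Cfsg.groupFusionSystem (S : Subgroup PSLn)).IsSimple p := by
  have : NeZero n := ⟨by omega⟩
  obtain ⟨P, hP⟩ := exists_sylow_U n F p (by omega)
  let Q : Sylow p PSLn := P.mapSurjective π_surjective
  have hQ : (Q : Subgroup PSLn) = (U n F).map (π n F) := by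
    show (P : Subgroup SLn).map (π n F) = _
    rw [hP]
  let a : Fin n := ⟨0, by omega⟩
  let b : Fin n := ⟨n - 1, by omega⟩
  have hab : a < b := by show (0 : ℕ) < n - 1; omega
  let Adj := {ij : Fin n × Fin n // (ij.2 : ℕ) = (ij.1 : ℕ) + 1}
  let R : Adj → Subgroup PSLn := fun e => (rad n F e.1.1 e.1.2 e.2).map (π n F)
  have hRn : ∀ e : Adj, ∀ g : SLn, (∀ x ∈ rad n F e.1.1 e.1.2 e.2, g * x * g⁻¹ ∈ rad n F e.1.1 e.1.2 e.2) →
      π n F g ∈ Subgroup.normalizer (R e : Set PSLn) := by
    intro e g hg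
    rw [Subgroup.mem_normalizer_iff_map_conj_eq]
    refine Subgroup.eq_of_le_of_card_ge ?_ (Subgroup.card_map_of_injective (MulAut.conj (π n F g)).injective).ge
    rintro _ ⟨_, ⟨x, hx, rfl⟩, rfl⟩
    exact ⟨g * x * g⁻¹, hg x hx, by simp⟩
  have hUn : ∀ e : Adj, (U n F).map (π n F) ≤ Subgroup.normalizer (R e : Set PSLn) := by
    rintro e _ ⟨u, hu, rfl⟩
    exact hRn e u fun x hx => rad_conj_U hu hx
  have hyn : ∀ (e : Adj) (t : F), (X e.1.2 e.1.1 t : PSLn) ∈ Subgroup.normalizer (R e : Set PSLn) := by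
    intro e t
    rw [← π_transvection (adj_lt (hij := e.2)).ne' t]
    exact hRn e _ fun x hx => rad_conj_lower hx t
  have hxn : ∀ (e : Adj) (t : F), (X e.1.1 e.1.2 t : PSLn) ∈ Subgroup.normalizer (R e : Set PSLn) :=
    fun e t => hUn e (X_mem_U_map (adj_lt (hij := e.2)) t)
  refine isSimple_of_parabolic Q ?_ ?_ R ?_ ?_ ?_ ?_ ?_ S
  · rw [hQ]
    intro h
    have := X_mem_U_map (F := F) hab 1
    rw [h, Subgroup.mem_bot] at this
    exact X_ne_one hab.ne one_ne_zero this
  · -- no proper strongly closed subgroup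
    intro T hT hTc
    refine or_iff_not_imp_left.2 fun hne => le_antisymm hT ?_
    have hTn : (T.subgroupOf (Q : Subgroup PSLn)).Normal := ⟨fun x hx g => by
      rw [Subgroup.mem_subgroupOf] at hx ⊢
      exact hTc _ hx g (((Q : Subgroup PSLn).mul_mem ((Q : Subgroup PSLn).mul_mem g.2 x.2)
        ((Q : Subgroup PSLn).inv_mem g.2)))⟩
    have hne' : T.subgroupOf (Q : Subgroup PSLn) ≠ ⊥ := by
      rw [Ne, Subgroup.subgroupOf_eq_bot, disjoint_iff, inf_eq_left.2 hT]
      exact hne
    obtain ⟨z, hz, hz1⟩ := (Subgroup.bot_or_exists_ne_one _).resolve_left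
      (CfsgLib.PGroups.inf_center_ne_bot Q.2 hne')
    rw [Subgroup.mem_inf, Subgroup.mem_subgroupOf, Subgroup.mem_center_iff] at hz
    have hzQ : (z : PSLn) ∈ (U n F).map (π n F) := hQ ▸ z.2
    obtain ⟨u, hu, hue⟩ := hzQ
    obtain ⟨c, hc⟩ := U_center (a := a) (b := b) rfl rfl hab.ne hu fun t ht => by
      have h1 := hz.2 ⟨π n F t, hQ ▸ Subgroup.mem_map_of_mem (π n F) ht⟩
      have h2 : π n F t * (z : PSLn) = (z : PSLn) * π n F t := congrArg Subtype.val h1
      rw [← hue] at h2
      exact h2.symm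
    have hzX : (z : PSLn) = X a b c := hue.symm.trans hc
    have hc0 : c ≠ 0 := by
      rintro rfl
      refine hz1 (Subtype.ext (hzX.trans ?_))
      have := X_add hab.ne (0 : F) 0
      rw [add_zero] at this
      exact left_eq_mul.1 this
    rw [hQ]
    refine U_map_le fun k l hkl d => ?_
    rcases eq_or_ne d 0 with rfl | hd
    · have := X_add hkl.ne (0 : F) 0
      rw [add_zero] at this
      rw [left_eq_mul.1 this]
      exact T.one_mem
    obtain ⟨s, hs⟩ := exists_conj_X hn hab.ne hkl.ne hc0 hd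
    rw [← hs, ← hzX]
    refine hTc _ hz.1 s ?_
    rw [hzX, hs, hQ]
    exact X_mem_U_map hkl d
  · intro e
    rw [hQ]
    exact Subgroup.map_mono rad_le
  · intro e
    rw [hQ]
    exact hUn e
  · -- self-centralising
    rintro ⟨⟨i, j⟩, hij⟩ y hy
    obtain ⟨g, rfl⟩ := π_surjective y
    change (j : ℕ) = (i : ℕ) + 1 at hij
    have hlt : i < j := adj_lt (hij := hij)
    have hrel : ∀ k l : Fin n, k < l → (k, l) ≠ (i, j) →
        (∀ r, r ≠ k → (g : Mn) r k = 0) ∧ (∀ r, r ≠ l → (g : Mn) l r = 0) ∧ (g : Mn) k k = (g : Mn) l l := by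
      intro k l hkl hne
      have hxU := transvection_mem_U hkl (1 : F)
      have hxR : Matrix.SpecialLinearGroup.transvection hkl.ne (1 : F) ∈ rad n F i j hij := ⟨hxU, by
        simp only [Matrix.SpecialLinearGroup.transvection_coe, Matrix.add_apply,
          Matrix.one_apply_ne hlt.ne, zero_add, Matrix.single_apply]
        exact if_neg fun h => hne (Prod.ext h.1 h.2)⟩
      have hcm := commute_of_π_commute p hxU
        (Subgroup.mem_centralizer_iff.1 hy _ (Subgroup.mem_map_of_mem (π n F) hxR)).symm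
      have hcm' : (g : Mn) * Matrix.single k l 1 = Matrix.single k l 1 * (g : Mn) := by
        have := congrArg Subtype.val hcm
        simp only [Matrix.SpecialLinearGroup.coe_mul, Matrix.SpecialLinearGroup.transvection_coe,
          mul_add, add_mul, mul_one, one_mul, add_right_inj] at this
        exact this
      refine ⟨fun r hr => ?_, fun r hr => ?_, ?_⟩
      · have := congrFun (congrFun hcm' r) l
        simpa [hr] using this
      · have := congrFun (congrFun hcm' k) r
        simpa [hr] using this.symm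
      · have := congrFun (congrFun hcm' k) l
        simpa using this
    -- the diagonal is constant
    have hdiag : ∀ k l : Fin n, (g : Mn) k k = (g : Mn) l l := by
      have key : ∀ k l : Fin n, k ≠ l → (k, l) ≠ (i, j) → (l, k) ≠ (i, j) → (g : Mn) k k = (g : Mn) l l := by
        intro k l hne h1 h2
        rcases lt_or_gt_of_ne hne with h | h
        · exact (hrel k l h h1).2.2
        · exact (hrel l k h h2).2.2.symm
      obtain ⟨m, hmi, hmj⟩ := third hn i j
      have hij' : (g : Mn) i i = (g : Mn) j j :=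
        (key i m hmi.symm (by simp [hmj]) (by simp [hmi])).trans
          (key m j hmj (by simp [hmi]) (by simp [hlt.ne']))
      intro k l
      by_cases hne : k = l
      · rw [hne]
      by_cases h1 : (k, l) = (i, j)
      · simp only [Prod.mk.injEq] at h1; rw [h1.1, h1.2, hij']
      by_cases h2 : (l, k) = (i, j)
      · simp only [Prod.mk.injEq] at h2; rw [h2.1, h2.2, hij']
      exact key k l hne h1 h2
    -- off-diagonal entries
    have hsupp : ∀ r s : Fin n, r ≠ s → (g : Mn) r s ≠ 0 →
        r < s ∧ ¬ (r = i ∧ s = j) := by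
      intro r s hrs hne
      have hsl : ∀ l : Fin n, s < l → (s, l) = (i, j) := fun l hl => by
        by_contra h
        exact hne ((hrel s l hl h).1 r hrs)
      have hrk : ∀ k : Fin n, k < r → (k, r) = (i, j) := fun k hk => by
        by_contra h
        exact hne ((hrel k r hk h).2.1 s hrs.symm)
      have hA : (s : ℕ) = n - 1 ∨ s = i ∧ (j : ℕ) = n - 1 := by
        by_cases hs : (s : ℕ) = n - 1
        · exact Or.inl hs
        · have hlb : s < b := by show (s : ℕ) < n - 1; omega
          have := hsl b hlb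
          simp only [Prod.mk.injEq] at this
          exact Or.inr ⟨this.1, this.2 ▸ rfl⟩
      have hB : (r : ℕ) = 0 ∨ r = j ∧ (i : ℕ) = 0 := by
        by_cases hr : (r : ℕ) = 0
        · exact Or.inl hr
        · have hla : a < r := by show (0 : ℕ) < r; omega
          have := hrk a hla
          simp only [Prod.mk.injEq] at this
          exact Or.inr ⟨this.2, this.1 ▸ rfl⟩
      rw [Fin.lt_def]
      have hrs' : (r : ℕ) ≠ (s : ℕ) := fun h => hrs (Fin.ext h)
      refine ⟨?_, fun h => ?_⟩
      · rcases hA with h | ⟨h, h'⟩ <;> rcases hB with h'' | ⟨h'', h'''⟩ <;> subst_vars <;> omega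
      · obtain ⟨rfl, rfl⟩ := h
        rcases hA with h | ⟨h, h'⟩ <;> rcases hB with h'' | ⟨h'', h'''⟩ <;> subst_vars <;> omega
    set c : F := (g : Mn) a a with hc
    have hgT : (g : Mn).BlockTriangular id := fun r s (hsr : s < r) => by
      by_contra h
      exact lt_asymm hsr (hsupp r s hsr.ne' h).1
    have hcn : c ^ n = 1 := by
      have h1 := g.2
      rw [Matrix.det_of_isUpperTriangular hgT, Finset.prod_congr rfl (fun r _ => hdiag r a),
        Finset.prod_const, Finset.card_univ, Fintype.card_fin] at h1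
      exact h1
    have hc0 : c ≠ 0 := fun h => by simp [h, zero_pow (show n ≠ 0 by omega)] at hcn
    let z : SLn := ⟨Matrix.scalar (Fin n) c, by simp [Matrix.det_diagonal, hcn]⟩
    have hzc : z ∈ Subgroup.center SLn :=
      Matrix.SpecialLinearGroup.mem_center_iff.2 ⟨c, by rw [Fintype.card_fin, hcn], rfl⟩
    refine ⟨z⁻¹ * g, ⟨⟨?_, ?_⟩, ?_⟩, ?_⟩
    rotate_right
    · rw [map_mul, map_inv]
      have : π n F z = 1 := (QuotientGroup.eq_one_iff z).2 hzc
      rw [this, inv_one, one_mul]
    all_goals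
      have he : ∀ r s : Fin n, ((z⁻¹ * g : SLn) : Mn) r s = c⁻¹ * (g : Mn) r s := by
        intro r s
        have h1 : ((z * (z⁻¹ * g) : SLn) : Mn) r s = (g : Mn) r s := by rw [mul_inv_cancel_left]
        rw [Matrix.SpecialLinearGroup.coe_mul] at h1
        rw [← h1]
        show _ = c⁻¹ * (Matrix.scalar (Fin n) c * ((z⁻¹ * g : SLn) : Mn)) r s
        rw [Matrix.scalar_apply, Matrix.diagonal_mul, inv_mul_cancel_left₀ hc0]
    · intro r s (hsr : s < r)
      rw [he, hgT hsr, mul_zero]
    · intro r
      rw [he, hdiag r a, inv_mul_cancel₀ hc0]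
    · rw [he]
      by_contra h
      exact (hsupp i j hlt.ne (fun h0 => h (by rw [h0, mul_zero]))).2 ⟨rfl, rfl⟩
  · -- intersection with a conjugate
    rintro ⟨⟨i, j⟩, hij⟩
    have hlt : i < j := adj_lt (hij := hij)
    set w : SLn := Matrix.SpecialLinearGroup.transvection hlt.ne 1 *
      Matrix.SpecialLinearGroup.transvection hlt.ne' (-1) *
      Matrix.SpecialLinearGroup.transvection hlt.ne 1 with hw
    refine ⟨π n F w, ?_, ?_⟩
    · rw [hw, map_mul, map_mul, π_transvection, π_transvection]
      exact Subgroup.mul_mem _ (Subgroup.mul_mem _ (hxn ⟨(i, j), hij⟩ 1) (hyn ⟨(i, j), hij⟩ (-1)))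
        (hxn ⟨(i, j), hij⟩ 1)
    · rw [hQ]
      rintro _ ⟨x, hx, rfl⟩ hmem
      rw [← map_inv, ← map_mul, ← map_mul] at hmem
      obtain ⟨k, hk⟩ := U_pow (p := p) hx
      have hwx := mem_U_of_π_mem (conj_pow_eq_one (a := w) hk) hmem
      refine ⟨x, ⟨hx, ?_⟩, rfl⟩
      have h0 := hwx.1 hlt
      have he : ((w * x * w⁻¹ : SLn) : Mn) j i = -(x : Mn) i j := by
        have hcol : ((w * x * w⁻¹ : SLn) : Mn) j i = (((w * x * w⁻¹ : SLn) : Mn) *ᵥ Pi.single i 1) j := by
          simp
        rw [hcol, hw]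
        simp only [_root_.mul_inv_rev, Matrix.SpecialLinearGroup.transvection_inv,
          Matrix.SpecialLinearGroup.coe_mul, ← Matrix.mulVec_mulVec, Classical.transvection_mulVec]
        simp [hlt.ne, hlt.ne', Pi.single_apply, Matrix.mulVec_add]
      rw [he, neg_eq_zero] at h0
      exact h0
  · -- generation of the normaliser
    rw [hQ]
    set H : Subgroup PSLn := (U n F).map (π n F) ⊔ ⨆ e, pGen p (R e) ⊓
      Subgroup.normalizer (((U n F).map (π n F) : Subgroup PSLn) : Set PSLn) with hH
    intro y hy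
    obtain ⟨g, rfl⟩ := π_surjective y
    have hgU : ∀ x ∈ U n F, g * x * g⁻¹ ∈ U n F := by
      intro x hx
      obtain ⟨k, hk⟩ := U_pow (p := p) hx
      refine mem_U_of_π_mem (conj_pow_eq_one (a := g) hk) ?_
      rw [map_mul, map_mul, map_inv]
      exact (Subgroup.mem_normalizer_iff.1 hy _).1 (Subgroup.mem_map_of_mem (π n F) hx)
    have hgT := upper_of_normalizer hgU
    have hh : ∀ (i j : Fin n) (hij : (j : ℕ) = (i : ℕ) + 1) (c : F) (hc : c ≠ 0),
        π n F (Matrix.SpecialLinearGroup.diag2n (adj_lt (hij := hij)).ne c hc) ∈ H := by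
      intro i j hij c hc
      refine Subgroup.mem_sup_right (Subgroup.mem_iSup_of_mem (⟨(i, j), hij⟩ : Adj) ⟨?_, ?_⟩)
      · rw [CfsgLib.Classical.diag2n_decompose _ c hc]
        simp only [map_mul, π_transvection]
        have hx : ∀ t : F, X i j t ∈ pGen p (R ⟨(i, j), hij⟩) := fun t =>
          Subgroup.subset_closure ⟨hxn ⟨(i, j), hij⟩ t, pow_card_eq (adj_lt (hij := hij)).ne t⟩
        have hy : ∀ t : F, X j i t ∈ pGen p (R ⟨(i, j), hij⟩) := fun t =>
          Subgroup.subset_closure ⟨hyn ⟨(i, j), hij⟩ t, pow_card_eq (adj_lt (hij := hij)).ne' t⟩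
        refine Subgroup.mul_mem _ (Subgroup.mul_mem _ (Subgroup.mul_mem _ (Subgroup.mul_mem _
          (Subgroup.mul_mem _ (hx _) (hy _)) (hx _)) (hx _)) (hy _)) (hx _)
      · refine Subgroup.mem_normalizer_iff_map_conj_eq.2 ?_
        refine Subgroup.eq_of_le_of_card_ge ?_ (Subgroup.card_map_of_injective (MulAut.conj _).injective).ge
        rintro _ ⟨_, ⟨x, hx, rfl⟩, rfl⟩
        refine ⟨Matrix.SpecialLinearGroup.diag2n (adj_lt (hij := hij)).ne c hc * x *
          (Matrix.SpecialLinearGroup.diag2n (adj_lt (hij := hij)).ne c hc)⁻¹, ?_, by simp⟩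
        constructor
        · intro r s (hsr : s < r)
          simp only [diag2n_inv', Matrix.SpecialLinearGroup.coe_mul,
            Matrix.SpecialLinearGroup.diag2n_coe, Matrix.diagonal_mul, Matrix.mul_diagonal, hx.1 hsr,
            mul_zero, zero_mul]
        · intro r
          simp only [diag2n_inv', Matrix.SpecialLinearGroup.coe_mul,
            Matrix.SpecialLinearGroup.diag2n_coe, Matrix.diagonal_mul, Matrix.mul_diagonal, hx.2, mul_one]
          rcases eq_or_ne r i with rfl | hri
          · simp [(adj_lt (hij := hij)).ne, hc]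
          · rcases eq_or_ne r j with rfl | hrj
            · simp [hri, hc]
            · simp [hri, hrj]
    -- diagonal matrices
    have hdiagH : ∀ m : ℕ, ∀ d : SLn, (∀ r s, r ≠ s → (d : Mn) r s = 0) →
        (∀ r : Fin n, (r : ℕ) + m + 1 < n → (d : Mn) r r = 1) → π n F d ∈ H := by
      intro m
      induction m with
      | zero =>
        intro d hd h1
        have hdd : (d : Mn) = Matrix.diagonal fun r => (d : Mn) r r := by
          ext r s
          rcases eq_or_ne r s with rfl | h
          · simp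
          · simp [h, hd r s h]
        have hb : (d : Mn) b b = 1 := by
          have h2 := d.2
          rw [hdd, Matrix.det_diagonal, Finset.prod_eq_single b] at h2
          · exact h2
          · intro r _ hr
            refine h1 r ?_
            have hr' : (r : ℕ) ≠ n - 1 := fun h => hr (Fin.ext h)
            have := r.2
            omega
          · simp
        have : d = 1 := by
          refine Subtype.ext ?_
          ext r s
          rcases eq_or_ne r s with rfl | h
          · rw [Matrix.SpecialLinearGroup.coe_one, Matrix.one_apply_eq]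
            by_cases hr : (r : ℕ) + 1 < n
            · exact h1 r (by omega)
            · rw [show r = b from Fin.ext (show (r : ℕ) = n - 1 by omega), hb]
          · rw [hd r s h, Matrix.SpecialLinearGroup.coe_one, Matrix.one_apply_ne h]
        rw [this, map_one]
        exact H.one_mem
      | succ m ih =>
        intro d hd h1
        by_cases hm : m + 1 < n
        swap
        · exact ih d hd fun r hr => absurd hr (by omega)
        let i : Fin n := ⟨n - m - 2, by omega⟩
        let j : Fin n := ⟨n - m - 1, by omega⟩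
        have hij : (j : ℕ) = (i : ℕ) + 1 := by show n - m - 1 = n - m - 2 + 1; omega
        set x := (d : Mn) i i with hx
        have hx0 : x ≠ 0 := by
          intro h
          have h2 := d.2
          rw [Matrix.det_of_isUpperTriangular (fun r s (hsr : s < r) => hd r s hsr.ne'),
            Finset.prod_eq_zero (f := fun r => (d : Mn) r r) (Finset.mem_univ i) h] at h2
          exact zero_ne_one h2
        set t := Matrix.SpecialLinearGroup.diag2n (adj_lt (hij := hij)).ne x⁻¹ (inv_ne_zero hx0) with ht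
        have hmem : π n F (d * t) ∈ H := by
          refine ih _ (fun r s hrs => ?_) fun r hr => ?_
          · rw [ht, Matrix.SpecialLinearGroup.coe_mul, Matrix.SpecialLinearGroup.diag2n_coe,
              Matrix.mul_diagonal, hd r s hrs, zero_mul]
          · rw [ht, Matrix.SpecialLinearGroup.coe_mul, Matrix.SpecialLinearGroup.diag2n_coe,
              Matrix.mul_diagonal]
            rcases eq_or_ne r i with rfl | hri
            · simp [(adj_lt (hij := hij)).ne, ← hx, hx0]
            · have hrj : r ≠ j := fun h => by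
                subst h; simp only [j] at hr; omega
              rw [h1 r (by
                have : (r : ℕ) ≠ n - m - 2 := fun h => hri (Fin.ext h)
                omega)]
              simp [hri, hrj]
        rw [map_mul] at hmem
        have h2 := H.mul_mem hmem (H.inv_mem (hh i j hij x⁻¹ (inv_ne_zero hx0)))
        rwa [ht, mul_inv_cancel_right] at h2
    have hg0 : ∀ r, (g : Mn) r r ≠ 0 := by
      intro r h
      have h2 := g.2
      rw [Matrix.det_of_isUpperTriangular hgT, Finset.prod_eq_zero (f := fun r => (g : Mn) r r) (Finset.mem_univ r) h] at h2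
      exact zero_ne_one h2
    let d : SLn := ⟨Matrix.diagonal fun r => (g : Mn) r r, by
      rw [Matrix.det_diagonal, ← Matrix.det_of_isUpperTriangular hgT]
      exact g.2⟩
    have hd : π n F d ∈ H := hdiagH n d (fun r s h => Matrix.diagonal_apply_ne _ h) fun r hr => absurd hr (by omega)
    have hu : g * d⁻¹ ∈ U n F := by
      have hdi : ((d⁻¹ : SLn) : Mn) = Matrix.diagonal fun r => ((g : Mn) r r)⁻¹ := by
        rw [Matrix.SpecialLinearGroup.coe_inv]
        have h1 : (d : Mn) * Matrix.diagonal (fun r => ((g : Mn) r r)⁻¹) = 1 := by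
          rw [show (d : Mn) = Matrix.diagonal fun r => (g : Mn) r r from rfl, Matrix.diagonal_mul_diagonal,
            ← Matrix.diagonal_one]
          congr 1
          funext r
          exact mul_inv_cancel₀ (hg0 r)
        calc (d : Mn).adjugate = (d : Mn).adjugate * ((d : Mn) * Matrix.diagonal fun r => ((g : Mn) r r)⁻¹) := by
              rw [h1, mul_one]
          _ = _ := by rw [← mul_assoc, Matrix.adjugate_mul, d.2, one_smul, one_mul]
      refine ⟨fun r s (hsr : s < r) => ?_, fun r => ?_⟩
      · rw [Matrix.SpecialLinearGroup.coe_mul, hdi, Matrix.mul_diagonal, hgT hsr, zero_mul]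
      · rw [Matrix.SpecialLinearGroup.coe_mul, hdi, Matrix.mul_diagonal, mul_inv_cancel₀ (hg0 r)]
    have := H.mul_mem (Subgroup.mem_sup_left (Subgroup.mem_map_of_mem (π n F) hu)) hd
    rwa [← map_mul, inv_mul_cancel_right] at this

end CfsgLib.Involutions.PSLFusion
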