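import Mathlib
import Cfsg.Agent.Lib.Involutions.Basic
import Cfsg.Agent.Lib.Small.Basic

/-!
# The Brauer–Fowler counting argument
-/

set_option autoImplicit false

namespace CfsgLib.Involutions

open Subgroup

variable {G : Type*} [Group G]

/-- The elements conjugating `x` to itself or to its inverse. -/
def extCentralizer (x : G) : Subgroup G where
  carrier := {c | c * x * c⁻¹ = x ∨ c * x * c⁻¹ = x⁻¹}
  one_mem' := Or.inl (by simp)
  mul_mem' := by
    rintro a b (ha | ha) (hb | hb)
    · left; rw [show a * b * x * (a * b)⁻¹ = a * (b * x * b⁻¹) * a⁻¹ by group, hb, ha]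
    · right; rw [show a * b * x * (a * b)⁻¹ = a * (b * x * b⁻¹) * a⁻¹ by group, hb,
        show a * x⁻¹ * a⁻¹ = (a * x * a⁻¹)⁻¹ by group, ha]
    · right; rw [show a * b * x * (a * b)⁻¹ = a * (b * x * b⁻¹) * a⁻¹ by group, hb, ha]
    · left; rw [show a * b * x * (a * b)⁻¹ = a * (b * x * b⁻¹) * a⁻¹ by group, hb,
        show a * x⁻¹ * a⁻¹ = (a * x * a⁻¹)⁻¹ by group, ha, inv_inv]
  inv_mem' := by
    rintro a (ha | ha)
    · left; nth_rw 1 [← ha]; group
    · right
      have e : x = (a * x * a⁻¹)⁻¹ := by rw [ha, inv_inv]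
      nth_rw 1 [e]
      group

theorem card_extCentralizer [Finite G] {x : G} (hne : x⁻¹ ≠ x) (hr : IsConj x x⁻¹) :
    Nat.card (extCentralizer x) = 2 * Nat.card (centralizer ({x} : Set G)) := by
  obtain ⟨g₀, hg⟩ := isConj_iff.1 hr
  have e1 := card_conjugators x g₀
  rw [hg] at e1
  have e2 := card_conjugators x 1
  rw [one_mul, inv_one, mul_one] at e2
  show Set.ncard {c : G | c * x * c⁻¹ = x ∨ c * x * c⁻¹ = x⁻¹} = _
  rw [show {c : G | c * x * c⁻¹ = x ∨ c * x * c⁻¹ = x⁻¹}
      = {c : G | c * x * c⁻¹ = x} ∪ {c : G | c * x * c⁻¹ = x⁻¹} from rfl,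
    Set.ncard_union_eq (Set.disjoint_left.2 fun c h1 h2 => hne (h2.symm.trans h1)),
    show Set.ncard {c : G | c * x * c⁻¹ = x} = _ from e2,
    show Set.ncard {c : G | c * x * c⁻¹ = x⁻¹} = _ from e1, two_mul]

theorem pairs_le [Finite G] (x : G) :
    Nat.card {p : G × G // orderOf p.1 = 2 ∧ orderOf p.2 = 2 ∧ p.1 * p.2 = x}
      ≤ Nat.card (centralizer ({x} : Set G)) := by
  rw [Nat.card_congr (pairEquiv x)]
  by_cases hr : IsConj x x⁻¹
  · obtain ⟨g₀, hg⟩ := isConj_iff.1 hr
    rw [← card_conjugators x g₀]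
    exact Nat.card_le_card_of_injective
      (fun t => (⟨t.1, t.2.2.1.trans hg.symm⟩ : {g : G // g * x * g⁻¹ = g₀ * x * g₀⁻¹}))
      (fun a b hab => Subtype.ext (Subtype.ext_iff.1 hab :))
  · have : IsEmpty {t : G // orderOf t = 2 ∧ t * x * t⁻¹ = x⁻¹ ∧ x ≠ t} :=
      ⟨fun t => hr (isConj_iff.2 ⟨t.1, t.2.2.1⟩)⟩
    rw [Nat.card_of_isEmpty]; exact Nat.zero_le _

theorem pairs_eq_zero [Finite G] {x : G} (hr : ¬ IsConj x x⁻¹) :
    Nat.card {p : G × G // orderOf p.1 = 2 ∧ orderOf p.2 = 2 ∧ p.1 * p.2 = x} = 0 := by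
  rw [Nat.card_congr (pairEquiv x)]
  have : IsEmpty {t : G // orderOf t = 2 ∧ t * x * t⁻¹ = x⁻¹ ∧ x ≠ t} :=
    ⟨fun t => hr (isConj_iff.2 ⟨t.1, t.2.2.1⟩)⟩
  exact Nat.card_of_isEmpty

theorem pairs_invol_le [Finite G] {x : G} (hx : orderOf x = 2) :
    Nat.card {p : G × G // orderOf p.1 = 2 ∧ orderOf p.2 = 2 ∧ p.1 * p.2 = x} + 2
      ≤ Nat.card (centralizer ({x} : Set G)) := by
  rw [Nat.card_congr (pairEquiv x)]
  let P : Set G := {t : G | orderOf t = 2 ∧ t * x * t⁻¹ = x⁻¹ ∧ x ≠ t}
  have hsub : insert 1 (insert x P) ⊆ (centralizer ({x} : Set G) : Set G) := by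
    rintro t (rfl | rfl | ⟨h1, h2, -⟩)
    · exact Subgroup.one_mem _
    · exact mem_centralizer_singleton.2 (Commute.refl _)
    · rw [invol_inv hx, mul_inv_eq_iff_eq_mul] at h2
      exact mem_centralizer_singleton.2 h2.symm
  have h := Set.ncard_le_ncard hsub
  rw [Set.ncard_insert_of_notMem, Set.ncard_insert_of_notMem (by simp [P])] at h
  · exact h
  · rintro (h1 | ⟨h1, -⟩)
    · exact invol_ne_one hx h1.symm
    · simp at h1

theorem pairs_one [Finite G] :
    Nat.card {p : G × G // orderOf p.1 = 2 ∧ orderOf p.2 = 2 ∧ p.1 * p.2 = 1}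
      = Nat.card {t : G // orderOf t = 2} := by
  rw [Nat.card_congr (pairEquiv (1 : G))]
  refine Nat.card_congr (Equiv.subtypeEquivRight fun t => ?_)
  constructor
  · exact fun h => h.1
  · exact fun h => ⟨h, by simp, (invol_ne_one h).symm⟩

theorem sum_pairs [Finite G] [Fintype G] :
    ∑ x : G, Nat.card {p : G × G // orderOf p.1 = 2 ∧ orderOf p.2 = 2 ∧ p.1 * p.2 = x}
      = Nat.card {t : G // orderOf t = 2} ^ 2 := by
  rw [sq, ← Nat.card_prod, ← Nat.card_sigma]
  exact Nat.card_congr
    { toFun := fun s => (⟨s.2.1.1, s.2.2.1⟩, ⟨s.2.1.2, s.2.2.2.1⟩)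
      invFun := fun q => ⟨q.1.1 * q.2.1, ⟨(q.1.1, q.2.1), q.1.2, q.2.2, rfl⟩⟩
      left_inv := fun s => by
        obtain ⟨x, ⟨⟨u, v⟩, hu, hv, hm⟩⟩ := s
        obtain rfl : u * v = x := hm
        rfl
      right_inv := fun q => rfl }

/-- **Brauer–Fowler.**  If there is no subgroup of index two, the centre has odd order and every
proper subgroup has index at least `M`, then `2 M n² < g (g + n)`. -/
theorem brauerFowler [Finite G] [Nontrivial G] (M : ℕ)
    (hZ : Odd (Nat.card (center G)))
    (h2 : ∀ H : Subgroup G, H.index ≠ 2) (hM : ∀ H : Subgroup G, H ≠ ⊤ → M ≤ H.index) :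
    2 * M * Nat.card {t : G // orderOf t = 2} ^ 2
      < Nat.card G * (Nat.card G + Nat.card {t : G // orderOf t = 2}) := by
  classical
  let _ : Fintype G := Fintype.ofFinite G
  set n := Nat.card {t : G // orderOf t = 2} with hn
  set g := Nat.card G with hg
  have hgpos : 0 < g := Nat.card_pos
  -- a real element different from `1` is never central
  have hproper : ∀ x : G, x ≠ 1 → IsConj x x⁻¹ → centralizer ({x} : Set G) ≠ ⊤ := by
    intro x hx hr htop
    obtain ⟨c, hc⟩ := isConj_iff.1 hr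
    have hc' : Commute x c := mem_centralizer_singleton.1 (htop ▸ mem_top c)
    rw [← hc'.eq, mul_inv_cancel_right] at hc
    have hxz : x ∈ center G := mem_center_iff.2 fun d =>
      (mem_centralizer_singleton.1 (htop ▸ mem_top d : d ∈ centralizer ({x} : Set G))).eq.symm
    exact hx (eq_one_of_eq_inv_of_odd hc (Odd.of_dvd_nat hZ (Subgroup.orderOf_dvd_natCard _ hxz)))
  have hC : ∀ x : G, M ≤ (centralizer ({x} : Set G)).index →
      M * Nat.card (centralizer ({x} : Set G)) ≤ g := fun x h =>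
    (Nat.mul_le_mul_right _ h).trans_eq (Subgroup.index_mul_card _)
  -- the three kinds of contributions
  let f : G → ℕ := fun x =>
    Nat.card {p : G × G // orderOf p.1 = 2 ∧ orderOf p.2 = 2 ∧ p.1 * p.2 = x}
  have hbound : ∀ x : G, x ≠ 1 →
      2 * M * f x + (if orderOf x = 2 then 4 * M else 0) ≤ if orderOf x = 2 then 2 * g else g := by
    intro x hx
    by_cases hxi : orderOf x = 2
    · rw [if_pos hxi, if_pos hxi]
      have h1 := pairs_invol_le hxi
      have h2' := hC x (hM _ (hproper x hx (by rw [invol_inv hxi])))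
      have h3 := Nat.mul_le_mul_left M h1
      change M * (f x + 2) ≤ _ at h3
      linarith
    · rw [if_neg hxi, if_neg hxi, add_zero]
      by_cases hr : IsConj x x⁻¹
      · have hne : x⁻¹ ≠ x := fun he => hxi (invol_iff.2 ⟨mul_eq_one_iff_eq_inv.2 he.symm, hx⟩)
        have hcard := card_extCentralizer hne hr
        have hne' : extCentralizer x ≠ ⊤ := by
          intro htop
          apply h2 (centralizer ({x} : Set G))
          have e := Subgroup.index_mul_card (centralizer ({x} : Set G))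
          rw [← Subgroup.card_top (G := G), ← htop, hcard] at e
          exact Nat.eq_of_mul_eq_mul_right Nat.card_pos e
        have e : (extCentralizer x).index * (2 * Nat.card (centralizer ({x} : Set G))) = g := by
          rw [← hcard, Subgroup.index_mul_card]
        calc 2 * M * f x ≤ 2 * M * Nat.card (centralizer ({x} : Set G)) :=
              Nat.mul_le_mul_left _ (pairs_le x)
          _ = M * (2 * Nat.card (centralizer ({x} : Set G))) := by ring
          _ ≤ (extCentralizer x).index * (2 * Nat.card (centralizer ({x} : Set G))) :=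
              Nat.mul_le_mul_right _ (hM _ hne')
          _ = g := e
      · rw [show f x = 0 from pairs_eq_zero hr, mul_zero]; exact Nat.zero_le _
  have hsum : ∑ x ∈ Finset.univ.erase (1 : G),
      (2 * M * f x + (if orderOf x = 2 then 4 * M else 0))
      ≤ ∑ x ∈ Finset.univ.erase (1 : G), (if orderOf x = 2 then 2 * g else g) :=
    Finset.sum_le_sum fun x hx => hbound x (Finset.ne_of_mem_erase hx)
  have hfilter : ((Finset.univ.erase (1 : G)).filter fun x => orderOf x = 2).card = n := by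
    rw [hn, Nat.card_eq_fintype_card, Fintype.card_subtype]
    congr 1
    ext x
    simp only [Finset.mem_filter, Finset.mem_erase, Finset.mem_univ, and_true, true_and]
    exact ⟨fun h => h.2, fun h => ⟨invol_ne_one h, h⟩⟩
  have hrest : ((Finset.univ.erase (1 : G)).filter fun x => ¬ orderOf x = 2).card + n + 1 = g := by
    have h1 := Finset.card_filter_add_card_filter_not (s := Finset.univ.erase (1 : G))
      (fun x => orderOf x = 2)
    rw [hfilter, Finset.card_erase_of_mem (Finset.mem_univ _), Finset.card_univ,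
      ← Nat.card_eq_fintype_card] at h1
    omega
  rw [Finset.sum_add_distrib, ← Finset.mul_sum, Finset.sum_ite, Finset.sum_ite,
    Finset.sum_const, Finset.sum_const, Finset.sum_const, Finset.sum_const,
    hfilter] at hsum
  simp only [smul_eq_mul, mul_zero, add_zero] at hsum
  have htot : f 1 + ∑ x ∈ Finset.univ.erase (1 : G), f x = n ^ 2 := by
    rw [Finset.add_sum_erase _ _ (Finset.mem_univ _)]; exact sum_pairs
  rw [show f 1 = n from pairs_one] at htot
  set r := ((Finset.univ.erase (1 : G)).filter fun x => ¬ orderOf x = 2).card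
  have e1 : g * (g + n) = g + r * g + 2 * (n * g) := by rw [← hrest]; ring
  have e2 : 2 * M * n ^ 2 = 2 * M * n + 2 * M * ∑ x ∈ Finset.univ.erase (1 : G), f x := by
    rw [← htot, mul_add]
  linarith [Nat.zero_le (M * n)]

theorem exists_min_index [Finite G] [Nontrivial G] :
    ∃ H : Subgroup G, H ≠ ⊤ ∧ ∀ K : Subgroup G, K ≠ ⊤ → H.index ≤ K.index := by
  obtain ⟨H, hH, hmin⟩ := Set.exists_min_image {K : Subgroup G | K ≠ ⊤} (fun K => K.index)
    (Set.toFinite _) ⟨⊥, bot_ne_top⟩
  exact ⟨H, hH, hmin⟩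

/-- The Brauer–Fowler index bound. -/
theorem exists_small_index [Finite G] (heven : Even (Nat.card G))
    (hZ : Odd (Nat.card (center G))) :
    ∃ H : Subgroup G, H ≠ ⊤ ∧ (H.index = 2 ∨ 2 * H.index * Nat.card {t : G // orderOf t = 2} ^ 2
      < Nat.card G * (Nat.card G + Nat.card {t : G // orderOf t = 2})) := by
  have : Nontrivial G := by
    rw [← Finite.one_lt_card_iff_nontrivial]
    obtain ⟨k, hk⟩ := heven
    have := Nat.card_pos (α := G)
    omega
  obtain ⟨H, hH, hmin⟩ := exists_min_index (G := G)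
  by_cases h2 : ∀ K : Subgroup G, K.index ≠ 2
  · exact ⟨H, hH, Or.inr (brauerFowler H.index hZ h2 hmin)⟩
  · push Not at h2
    obtain ⟨K, hK⟩ := h2
    exact ⟨K, fun h => by simp [h] at hK, Or.inl hK⟩

theorem le_invol_mul_centralizer [Finite G] {t : G} (ht : orderOf t = 2) :
    Nat.card G ≤ Nat.card {t : G // orderOf t = 2} * Nat.card (centralizer ({t} : Set G)) := by
  rw [← card_conjugates_mul t]
  refine Nat.mul_le_mul_right _ ?_
  exact Nat.card_le_card_of_injective
    (fun y => (⟨y.1, isConj_invol y.2 ht⟩ : {t : G // orderOf t = 2}))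
    (fun a b h => Subtype.ext (congrArg Subtype.val h :))

theorem index_bound {m g n c : ℕ} (h : 2 * m * n ^ 2 < g * (g + n)) (hgc : g ≤ n * c) :
    2 * m < c * (c + 1) := by
  by_contra hno
  rw [not_lt] at hno
  have hle : g * (g + n) ≤ (n * c) * (n * c + n) := Nat.mul_le_mul hgc (by omega)
  have : n ^ 2 * (c * (c + 1)) ≤ n ^ 2 * (2 * m) := Nat.mul_le_mul_left _ hno
  have e : (n * c) * (n * c + n) = n ^ 2 * (c * (c + 1)) := by ring
  linarith

end CfsgLib.Involutions
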