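import Mathlib
import Cfsg.Agent.Lib.Involutions.BrauerFowler
import Cfsg.Agent.S0219

/-!
# The Brauer–Fowler cube bound
-/

set_option autoImplicit false

namespace CfsgLib.Involutions

open Subgroup

universe u

theorem brauerFowler_cube_aux (N : ℕ) : ∀ {G : Type u} [Group G] [Finite G],
    Nat.card G = N → Even (Nat.card G) → 2 < Nat.card G →
      ∃ H : Subgroup G, H ≠ ⊤ ∧ Nat.card G < Nat.card H ^ 3 := by
  induction N using Nat.strong_induction_on with
  | _ N ih =>
  intro G _ _ hN heven hgt
  by_cases h2 : ∃ K : Subgroup G, K.index = 2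
  · obtain ⟨K, hK⟩ := h2
    refine ⟨K, fun h => by simp [h] at hK, ?_⟩
    have e := K.index_mul_card
    rw [hK] at e
    have hk2 : 2 ≤ Nat.card K := by omega
    have : 4 ≤ Nat.card K * Nat.card K := Nat.mul_le_mul hk2 hk2
    calc Nat.card G = 2 * Nat.card K := e.symm
      _ < 4 * Nat.card K := by omega
      _ ≤ Nat.card K * Nat.card K * Nat.card K := Nat.mul_le_mul_right _ this
      _ = Nat.card K ^ 3 := by ring
  push Not at h2
  have : Nontrivial G := by rw [← Finite.one_lt_card_iff_nontrivial]; omega
  rcases Nat.even_or_odd (Nat.card (center G)) with hZ | hZ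
  · -- pass to the quotient by a central involution
    obtain ⟨z, hz⟩ := exists_prime_orderOf_dvd_card' (G := center G) 2 (even_iff_two_dvd.1 hZ)
    let Z : Subgroup G := zpowers (z : G)
    have hZc : Nat.card Z = 2 := by rw [Nat.card_zpowers, Subgroup.orderOf_coe, hz]
    have : Z.Normal := ⟨fun a ha g => by
      have hac : a ∈ center G := (zpowers_le.2 z.2) ha
      rwa [(mem_center_iff.1 hac g), mul_inv_cancel_right]⟩
    have e := Z.index_mul_card
    rw [hZc] at e
    have hq : Nat.card (G ⧸ Z) = Z.index := rfl
    rcases Nat.even_or_odd Z.index with hi | hi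
    · by_cases h3 : 2 < Z.index
      · obtain ⟨H, hH, hlt⟩ := ih (Nat.card (G ⧸ Z)) (by omega) rfl (hq ▸ hi) (hq ▸ h3)
        refine ⟨H.comap (QuotientGroup.mk' Z), fun h => hH ?_, ?_⟩
        · rw [← Subgroup.map_comap_eq_self_of_surjective (QuotientGroup.mk'_surjective Z) H, h,
            ← MonoidHom.range_eq_map, MonoidHom.range_eq_top.2 (QuotientGroup.mk'_surjective Z)]
        · have e1 := (H.comap (QuotientGroup.mk' Z)).index_mul_card
          rw [Subgroup.index_comap_of_surjective _ (QuotientGroup.mk'_surjective Z)] at e1
          have e2 := H.index_mul_card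
          rw [hq] at e2
          have hc : Nat.card (H.comap (QuotientGroup.mk' Z)) = 2 * Nat.card H := by
            refine Nat.eq_of_mul_eq_mul_left
              (Nat.pos_of_ne_zero (Subgroup.FiniteIndex.index_ne_zero (H := H))) ?_
            rw [e1, ← mul_assoc, mul_comm H.index 2, mul_assoc, e2, mul_comm, e]
          rw [hc, mul_pow, ← e, ← hq]
          omega
      · have : Z.index = 2 := by
          obtain ⟨j, hj⟩ := hi
          have := Subgroup.FiniteIndex.index_ne_zero (H := Z)
          omega
        exact absurd this (h2 Z)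
    · -- a Sylow subgroup of order two: there is a subgroup of index two
      obtain ⟨T⟩ := (inferInstance : Nonempty (Sylow 2 G))
      obtain ⟨K, hK⟩ := Cfsg.Agent.S0219.result heven T (by
        have hcard : Nat.card (T : Subgroup G) = 2 := by
          rw [T.card_eq_multiplicity, ← e,
            Nat.factorization_mul (by omega) two_ne_zero, Finsupp.add_apply,
            Nat.factorization_eq_zero_of_not_dvd (fun h => (Nat.not_even_iff_odd.2 hi)
              (even_iff_two_dvd.2 h)), Nat.Prime.factorization_self Nat.prime_two]
          norm_num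
        exact isCyclic_of_prime_card (p := 2) hcard)
      exact absurd hK (h2 K)
  · obtain ⟨t, ht⟩ := exists_prime_orderOf_dvd_card' (G := G) 2 (even_iff_two_dvd.1 heven)
    obtain ⟨H, hH, hmin⟩ := exists_min_index (G := G)
    refine ⟨H, hH, ?_⟩
    have hbf := brauerFowler H.index hZ h2 hmin
    have hCne : centralizer ({t} : Set G) ≠ ⊤ := fun htop => by
      have : t ∈ center G := mem_center_iff.2 fun d =>
        (mem_centralizer_singleton.1 (htop ▸ mem_top d : d ∈ centralizer ({t} : Set G))).eq.symm
      have h3 := Subgroup.orderOf_dvd_natCard _ this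
      rw [ht] at h3
      exact (Nat.not_even_iff_odd.2 hZ) (even_iff_two_dvd.2 h3)
    have hle : Nat.card (centralizer ({t} : Set G)) ≤ Nat.card H := by
      have e1 := H.index_mul_card
      have e2 := (centralizer ({t} : Set G)).index_mul_card
      have hm := hmin _ hCne
      by_contra hlt
      rw [not_le] at hlt
      have hpos : 0 < H.index := Nat.pos_of_ne_zero Subgroup.FiniteIndex.index_ne_zero
      have := Nat.mul_lt_mul_of_le_of_lt hm hlt (lt_of_lt_of_le hpos hm)
      omega
    have hb := index_bound hbf ((le_invol_mul_centralizer ht).trans (Nat.mul_le_mul_left _ hle))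
    have hpos : 0 < Nat.card H := Nat.card_pos
    have h5 : H.index < Nat.card H * Nat.card H := by nlinarith
    calc Nat.card G = H.index * Nat.card H := H.index_mul_card.symm
      _ < Nat.card H * Nat.card H * Nat.card H := Nat.mul_lt_mul_of_pos_right h5 hpos
      _ = Nat.card H ^ 3 := by ring

theorem brauerFowler_cube {G : Type u} [Group G] [Finite G] (heven : Even (Nat.card G))
    (hgt : 2 < Nat.card G) : ∃ H : Subgroup G, H ≠ ⊤ ∧ Nat.card G < Nat.card H ^ 3 :=
  brauerFowler_cube_aux _ rfl heven hgt

end CfsgLib.Involutions
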