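import Cfsg.Agent.Lib.Involutions.StrongEmbCosets
import Cfsg.Agent.Lib.Perm.ZassG.Half
import Cfsg.Agent.Lib.FT.OddOrderTheorem

/-!
# Simple groups in which commuting is transitive on non-identity elements

The centraliser `A` of an involution is abelian and TI, so its normaliser `H` is strongly
embedded. The coset stabilisers `D` of two points are inverted by the involutions swapping them;
hence only the identity fixes three cosets and `A` is regular on the cosets other than `H`. The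
group is a Zassenhaus group with abelian kernel, which forces `A` to be elementary abelian.
-/

set_option autoImplicit false

namespace CfsgLib.Involutions.CT

open Subgroup MulAction

variable {G : Type*} [Group G] [Finite G]

/-- Commuting is transitive on the non-identity elements. -/
def IsCT (G : Type*) [Group G] : Prop :=
  ∀ a b c : G, a ≠ 1 → b ≠ 1 → c ≠ 1 → Commute a b → Commute b c → Commute a c

omit [Finite G] in
theorem IsCT.commute (h : IsCT G) {x a b : G} (hx : x ≠ 1)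
    (ha : a ∈ centralizer ({x} : Set G)) (hb : b ∈ centralizer ({x} : Set G)) : Commute a b := by
  rcases eq_or_ne a 1 with rfl | ha1
  · exact Commute.one_left b
  rcases eq_or_ne b 1 with rfl | hb1
  · exact Commute.one_right a
  exact h a x b ha1 hx hb1 (mem_centralizer_singleton.1 ha).symm (mem_centralizer_singleton.1 hb)

omit [Finite G] in
theorem IsCT.centralizer_eq (h : IsCT G) {x y : G} (hx : x ≠ 1) (hy : y ≠ 1)
    (hyx : y ∈ centralizer ({x} : Set G)) :
    centralizer ({y} : Set G) = centralizer ({x} : Set G) := by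
  have hc : Commute y x := (mem_centralizer_singleton.1 hyx).symm
  ext z
  constructor <;> intro hz
  · exact mem_centralizer_singleton.2 (h.commute hy (mem_centralizer_singleton.2 hc) hz)
  · exact mem_centralizer_singleton.2 (h.commute hx hyx hz)

section Setup

variable (hCT : IsCT G) (hs : IsSimpleGroup G) (hna : ¬ IsMulCommutative G) {t : G}
  (ht : orderOf t = 2)

/-- The normaliser of the centraliser of `t`. -/
abbrev N₀ (t : G) : Subgroup G := normalizer ((centralizer ({t} : Set G) : Subgroup G) : Set G)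

include ht in
omit [Finite G] in
theorem t_ne : t ≠ 1 := fun e => by rw [e, orderOf_one] at ht; omega

include hCT ht in
omit [Finite G] in
theorem A_comm {a b : G} (ha : a ∈ centralizer ({t} : Set G))
    (hb : b ∈ centralizer ({t} : Set G)) : Commute a b :=
  hCT.commute (t_ne ht) ha hb

include ht in
omit [Finite G] in
theorem centralizer_conj (g : G) {a : G} :
    a ∈ centralizer ({g * t * g⁻¹} : Set G) ↔ g⁻¹ * a * g ∈ centralizer ({t} : Set G) := by
  rw [mem_centralizer_singleton, mem_centralizer_singleton, commute_iff_eq, commute_iff_eq]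
  constructor <;> intro h <;> symm
  · calc g⁻¹ * a * g * t = g⁻¹ * (a * (g * t * g⁻¹)) * g := by group
      _ = g⁻¹ * (g * t * g⁻¹ * a) * g := by rw [h]
      _ = t * (g⁻¹ * a * g) := by group
  · calc a * (g * t * g⁻¹) = g * (g⁻¹ * a * g * t) * g⁻¹ := by group
      _ = g * (t * (g⁻¹ * a * g)) * g⁻¹ := by rw [h]
      _ = g * t * g⁻¹ * a := by group

include hCT ht in
omit [Finite G] in
theorem mem_N₀_of_meet {g a : G} (ha : a ∈ centralizer ({t} : Set G)) (ha1 : a ≠ 1)
    (hga : g⁻¹ * a * g ∈ centralizer ({t} : Set G)) : g ∈ N₀ t := by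
  have h2 : a ∈ centralizer ({g * t * g⁻¹} : Set G) := (centralizer_conj ht g).2 hga
  have hgt : g * t * g⁻¹ ≠ 1 := fun e => t_ne ht (conj_eq_one_iff.1 e)
  have heq : centralizer ({g * t * g⁻¹} : Set G) = centralizer ({t} : Set G) :=
    (hCT.centralizer_eq hgt ha1 h2).symm.trans (hCT.centralizer_eq (t_ne ht) ha1 ha)
  rw [mem_normalizer_iff]
  intro h
  nth_rw 2 [← heq]
  rw [centralizer_conj ht g, show g⁻¹ * (g * h * g⁻¹) * g = h by group]

include hCT ht in
theorem exists_sylow_le :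
    ∃ P : Sylow 2 G, (P : Subgroup G) ≤ centralizer ({t} : Set G) ∧ t ∈ (P : Subgroup G) := by
  haveI : Fact (Nat.Prime 2) := ⟨Nat.prime_two⟩
  obtain ⟨P, hP⟩ := (IsPGroup.of_card (G := zpowers t) (n := 1)
    (by rw [Nat.card_zpowers, ht, pow_one])).exists_le_sylow
  have htP : t ∈ (P : Subgroup G) := hP (mem_zpowers t)
  haveI : Nontrivial (P : Subgroup G) :=
    (nontrivial_iff_ne_bot _).2 fun e => t_ne ht (by rwa [e, mem_bot] at htP)
  haveI := P.isPGroup'.center_nontrivial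
  obtain ⟨⟨z, hz⟩, hz1⟩ := exists_ne (1 : Subgroup.center (P : Subgroup G))
  have hz1' : (z : G) ≠ 1 := fun e => hz1 (Subtype.ext (Subtype.ext e))
  have hc : ∀ q ∈ (P : Subgroup G), q ∈ centralizer ({(z : G)} : Set G) := fun q hq =>
    mem_centralizer_singleton.2 (congrArg Subtype.val (mem_center_iff.1 hz ⟨q, hq⟩)).symm
  exact ⟨P, fun q hq => mem_centralizer_singleton.2 (hCT.commute hz1' (hc t htP) (hc q hq)), htP⟩

include hCT ht in
theorem invol_mem_A {s : G} (hsH : s ∈ N₀ t) (hs' : orderOf s = 2) :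
    s ∈ centralizer ({t} : Set G) := by
  haveI : Fact (Nat.Prime 2) := ⟨Nat.prime_two⟩
  obtain ⟨P, hPA, -⟩ := exists_sylow_le hCT ht
  set A := centralizer ({t} : Set G) with hA
  have hAH : A ≤ N₀ t := le_normalizer
  let Q : Sylow 2 (N₀ t) := P.subtype (hPA.trans hAH)
  obtain ⟨R, hR⟩ := (IsPGroup.of_card (G := zpowers (⟨s, hsH⟩ : N₀ t)) (n := 1)
    (by rw [Nat.card_zpowers, Subgroup.orderOf_mk, hs', pow_one])).exists_le_sylow
  obtain ⟨h, hh⟩ := MulAction.exists_smul_eq (N₀ t) Q R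
  have hm : (⟨s, hsH⟩ : N₀ t) ∈ (R : Subgroup (N₀ t)) := hR (mem_zpowers _)
  rw [← hh, Sylow.coe_subgroup_smul, mem_pointwise_smul_iff_inv_smul_mem, MulAut.smul_def,
    ← map_inv, MulAut.conj_apply, inv_inv] at hm
  have hm' : (h : G)⁻¹ * s * h ∈ A := hPA hm
  have := ((mem_normalizer_iff.1 h.2) _).1 hm'
  rwa [show (h : G) * ((h : G)⁻¹ * s * h) * (h : G)⁻¹ = s by group] at this

include hCT hs hna ht

theorem stronglyEmbedded : Cfsg.IsStronglyEmbedded (N₀ t) := by
  refine ⟨fun htop => ?_, (even_card_iff _).2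
    ⟨t, le_normalizer (mem_centralizer_singleton.2 (Commute.refl t)), ht⟩, fun g hg => ?_⟩
  · have hn : (centralizer ({t} : Set G)).Normal := normalizer_eq_top_iff.1 htop
    rcases hn.eq_bot_or_eq_top with h | h
    · exact t_ne ht (mem_bot.1 (h ▸ mem_centralizer_singleton.2 (Commute.refl t)))
    · exact hna ⟨⟨fun a b => A_comm hCT ht (h ▸ mem_top a) (h ▸ mem_top b)⟩⟩
  · rw [odd_card_iff]
    rintro s ⟨hsH, hsg₀⟩ hs'
    have hsg := mem_conj_map.1 hsg₀
    refine hg (mem_N₀_of_meet hCT ht (invol_mem_A hCT ht hsH hs') ?_ (invol_mem_A hCT ht hsg ?_))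
    · exact t_ne hs'
    · have := conj_invol g⁻¹ hs'
      rwa [inv_inv] at this

local notation "x₀" => (QuotientGroup.mk (1 : G) : G ⧸ N₀ t)

omit hCT hs hna ht in
omit [Finite G] in
theorem mem_N₀_iff {g : G} : g ∈ N₀ t ↔ g • x₀ = x₀ := by
  rw [SE.smul_mk_eq_iff]; simp

/-- An element of `A` fixing a second coset is trivial. -/
theorem A_free {a : G} (ha : a ∈ (centralizer ({t} : Set G))) {z : G ⧸ N₀ t} (hz : x₀ ≠ z) (haz : a • z = z) : a = 1 := by
  have hSE := stronglyEmbedded hCT hs hna ht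
  by_contra ha1
  obtain ⟨⟨v, hv, hvz⟩⟩ : Nonempty {i : G // orderOf i = 2 ∧ i • x₀ = z} := by
    have h1 := SE.card_carry hSE ht hz
      (mem_N₀_iff.1 (le_normalizer (mem_centralizer_singleton.2 (Commute.refl t))))
    have h2 := SE.card_fixing (H := N₀ t) z
    have h3 : 0 < Nat.card {i : G // orderOf i = 2 ∧ i • x₀ = z} := by
      rw [h1, h2]
      haveI : Nonempty {i : G // orderOf i = 2 ∧ i ∈ N₀ t} :=
        ⟨⟨t, ht, le_normalizer (mem_centralizer_singleton.2 (Commute.refl t))⟩⟩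
      exact Nat.card_pos
    exact (Nat.card_pos_iff.1 h3).1
  have hvz' : v • z = x₀ := by rw [← hvz, ← mul_smul, invol_mul_self hv, one_smul]
  have hvi := invol_inv hv
  have hvN : v ∉ N₀ t := fun h => hz ((mem_N₀_iff.1 h).symm.trans hvz)
  set a' := v * a * v with ha'
  have ha'H : a' ∈ N₀ t := mem_N₀_iff.2 (by rw [ha', mul_smul, mul_smul, hvz, haz, hvz'])
  have haH : a ∈ N₀ t := le_normalizer ha
  -- the commutator lies in `A` and in its conjugate
  have hc1 : a * a' * a⁻¹ * a'⁻¹ ∈ (centralizer ({t} : Set G)) := by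
    rw [show a * a' * a⁻¹ * a'⁻¹ = a * (a' * a⁻¹ * a'⁻¹) by group]
    exact mul_mem ha ((mem_normalizer_iff.1 ha'H _).1 (inv_mem ha))
  have hc2 : v * (a * a' * a⁻¹ * a'⁻¹) * v ∈ (centralizer ({t} : Set G)) := by
    have : v * (a * a' * a⁻¹ * a'⁻¹) * v = (a' * a * a'⁻¹) * a⁻¹ := by
      have hvv := invol_mul_self hv
      simp only [ha', mul_inv_rev, hvi, mul_assoc]
      simp only [← mul_assoc v v, hvv, one_mul, mul_one]
    rw [this]
    exact mul_mem ((mem_normalizer_iff.1 ha'H _).1 ha) (inv_mem ha)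
  have hone : a * a' * a⁻¹ * a'⁻¹ = 1 := by
    by_contra hne
    exact hvN (mem_N₀_of_meet hCT ht hc1 hne (by rwa [hvi]))
  have hcomm : Commute a' a :=
    (mul_inv_eq_iff_eq_mul.1 (mul_inv_eq_one.1 hone)).symm
  have ha'A : a' ∈ (centralizer ({t} : Set G)) := by
    rw [← hCT.centralizer_eq (t_ne ht) ha1 ha]
    exact mem_centralizer_singleton.2 hcomm.symm
  exact hvN (mem_N₀_of_meet hCT ht ha ha1 (by rwa [hvi]))

theorem card_swapping {z : G ⧸ N₀ t} (hz : x₀ ≠ z) :
    Nat.card {i : G // orderOf i = 2 ∧ i • x₀ = z} =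
      Nat.card {s : G // orderOf s = 2 ∧ s ∈ N₀ t} := by
  rw [SE.card_carry (stronglyEmbedded hCT hs hna ht) ht hz
    (mem_N₀_iff.1 (le_normalizer (mem_centralizer_singleton.2 (Commute.refl t)))), SE.card_fixing]

/-- The stabiliser of two cosets: order, transitivity, inversion. -/
theorem pair_facts {z : G ⧸ N₀ t} (hz : x₀ ≠ z) :
    Nat.card (stabilizer G x₀ ⊓ stabilizer G z : Subgroup G) =
        Nat.card {s : G // orderOf s = 2 ∧ s ∈ N₀ t} ∧
      (∀ s : G, orderOf s = 2 → s ∈ N₀ t →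
        ∃ d ∈ stabilizer G x₀ ⊓ stabilizer G z, d * t * d⁻¹ = s) ∧
      ∀ v : G, orderOf v = 2 → v • x₀ = z →
        ∀ d ∈ stabilizer G x₀ ⊓ stabilizer G z, v * d * v⁻¹ = d⁻¹ := by
  set D := stabilizer G x₀ ⊓ stabilizer G z
  have hDN : ∀ d ∈ D, d ∈ N₀ t := fun d hd => mem_N₀_iff.2 hd.1
  let f : D → {s : G // orderOf s = 2 ∧ s ∈ N₀ t} := fun d => ⟨d * t * (d : G)⁻¹,
    conj_invol _ ht, mul_mem (mul_mem (hDN d d.2)
      (le_normalizer (mem_centralizer_singleton.2 (Commute.refl t)))) (inv_mem (hDN d d.2))⟩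
  have hf : Function.Injective f := by
    intro d e h
    have h' : (d : G) * t * (d : G)⁻¹ = e * t * (e : G)⁻¹ := congrArg Subtype.val h
    have hA : (e : G)⁻¹ * d ∈ (centralizer ({t} : Set G)) := mem_centralizer_singleton.2 (Commute.symm (by
      show (e : G)⁻¹ * d * t = t * ((e : G)⁻¹ * d)
      calc (e : G)⁻¹ * d * t = (e : G)⁻¹ * (d * t * (d : G)⁻¹) * d := by group
        _ = t * ((e : G)⁻¹ * d) := by rw [h']; group))
    exact Subtype.ext (inv_mul_eq_one.1
      (A_free hCT hs hna ht hA hz (mul_mem (inv_mem e.2) d.2 : (e : G)⁻¹ * d ∈ D).2)).symm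
  obtain ⟨⟨v₀, hv₀, hv₀z⟩⟩ : Nonempty {i : G // orderOf i = 2 ∧ i • x₀ = z} := by
    refine (Nat.card_pos_iff.1 ?_).1
    rw [card_swapping hCT hs hna ht hz]
    haveI : Nonempty {i : G // orderOf i = 2 ∧ i ∈ N₀ t} :=
      ⟨⟨t, ht, le_normalizer (mem_centralizer_singleton.2 (Commute.refl t))⟩⟩
    exact Nat.card_pos
  have hle := Nat.card_le_card_of_injective f hf
  have hge : ∀ v, orderOf v = 2 → v • x₀ = z →
      ∃ g : {i : G // orderOf i = 2 ∧ i • x₀ = z} → D, Function.Injective g ∧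
        ∀ i, ((g i : D) : G) = i * v := by
    intro v hv hvz
    have hswap : ∀ i : G, orderOf i = 2 → i • x₀ = z → i • z = x₀ := fun i hi hiz => by
      rw [← hiz, ← mul_smul, invol_mul_self hi, one_smul]
    refine ⟨fun i => ⟨i * v, ⟨?_, ?_⟩⟩, fun i j h => Subtype.ext
      (mul_right_cancel (congrArg Subtype.val h)), fun i => rfl⟩
    · show ((i : G) * v) • x₀ = x₀
      rw [mul_smul, hvz, hswap _ i.2.1 i.2.2]
    · show ((i : G) * v) • z = z
      rw [mul_smul, hswap v hv hvz, i.2.2]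
  have hcard : Nat.card D = Nat.card {s : G // orderOf s = 2 ∧ s ∈ N₀ t} := by
    refine le_antisymm hle ?_
    rw [← card_swapping hCT hs hna ht hz]
    obtain ⟨g, hg, -⟩ := hge v₀ hv₀ hv₀z
    exact Nat.card_le_card_of_injective g hg
  refine ⟨hcard, fun s hs' hsN => ?_, fun v hv hvz d hd => ?_⟩
  · obtain ⟨d, hd⟩ := ((Nat.bijective_iff_injective_and_card f).2 ⟨hf, hcard⟩).2 ⟨s, hs', hsN⟩
    exact ⟨d, d.2, congrArg Subtype.val hd⟩
  · obtain ⟨g, hg, hg'⟩ := hge v hv hvz
    obtain ⟨i, hi⟩ := ((Nat.bijective_iff_injective_and_card g).2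
      ⟨hg, (card_swapping hCT hs hna ht hz).trans hcard.symm⟩).2 ⟨d, hd⟩
    have hd' : d = (i : G) * v := by rw [← hg', hi]
    rw [hd', mul_inv_rev, invol_inv hv, invol_inv i.2.1, mul_assoc v, mul_assoc (i : G),
      invol_mul_self hv, mul_one]

/-- An involution swapping two cosets inverts their stabiliser. -/
theorem inverts {x y : G ⧸ N₀ t} (hxy : x ≠ y) {v : G} (hv : orderOf v = 2) (hvx : v • x = y)
    {d : G} (hdx : d • x = x) (hdy : d • y = y) : v * d * v⁻¹ = d⁻¹ := by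
  obtain ⟨g, rfl⟩ := QuotientGroup.mk_surjective x
  have hg : g⁻¹ • (g : G ⧸ N₀ t) = x₀ := by
    rw [MulAction.Quotient.smul_mk, smul_eq_mul, inv_mul_cancel]
  have hg' : g • x₀ = (g : G ⧸ N₀ t) := by
    rw [MulAction.Quotient.smul_mk, smul_eq_mul, mul_one]
  have hne : x₀ ≠ g⁻¹ • y := fun e => hxy (by rw [← hg', e, smul_inv_smul])
  have hv' : orderOf (g⁻¹ * v * g) = 2 := by
    have := conj_invol g⁻¹ hv
    rwa [inv_inv] at this
  have h := (pair_facts hCT hs hna ht hne).2.2 _ hv'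
    (by rw [mul_smul, mul_smul, hg', hvx]) (g⁻¹ * d * g)
    ⟨by show (g⁻¹ * d * g) • x₀ = x₀; rw [mul_smul, mul_smul, hg', hdx, hg],
      by show (g⁻¹ * d * g) • g⁻¹ • y = g⁻¹ • y; rw [mul_smul, mul_smul, smul_inv_smul, hdy]⟩
  have h2 := congrArg (fun w => g * w * g⁻¹) h
  simpa [mul_assoc] using h2

/-- `H = (centralizer ({t} : Set G)) D`. -/
theorem exists_factor {h : G} (hh : h ∈ N₀ t) {z : G ⧸ N₀ t} (hz : x₀ ≠ z) :
    ∃ d ∈ stabilizer G x₀ ⊓ stabilizer G z, d⁻¹ * h ∈ (centralizer ({t} : Set G)) := by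
  obtain ⟨d, hd, e⟩ := (pair_facts hCT hs hna ht hz).2.1 (h * t * h⁻¹) (conj_invol h ht)
    (mul_mem (mul_mem hh (le_normalizer (mem_centralizer_singleton.2 (Commute.refl t)))) (inv_mem hh))
  refine ⟨d, hd, mem_centralizer_singleton.2 (Commute.symm ?_)⟩
  show d⁻¹ * h * t = t * (d⁻¹ * h)
  calc d⁻¹ * h * t = d⁻¹ * (h * t * h⁻¹) * h := by group
    _ = t * (d⁻¹ * h) := by rw [← e]; group

/-- Only the identity fixes three cosets. -/
theorem eq_one_of_three {d : G} {z w : G ⧸ N₀ t} (hz : x₀ ≠ z) (hw : x₀ ≠ w) (hzw : z ≠ w)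
    (h0 : d • x₀ = x₀) (h1 : d • z = z) (h2 : d • w = w) : d = 1 := by
  have hSE := stronglyEmbedded hCT hs hna ht
  by_contra hd1
  have hpos : ∀ {x y : G ⧸ N₀ t}, x ≠ y → ∃ v : G, orderOf v = 2 ∧ v • x = y := by
    intro x y hxy
    obtain ⟨a, rfl⟩ := QuotientGroup.mk_surjective x
    have h3 := SE.card_carry hSE (conj_invol a ht) hxy (SE.smul_mk_eq_iff.2
      (by simpa [mul_assoc] using le_normalizer (mem_centralizer_singleton.2 (Commute.refl t))))
    rw [SE.card_fixing] at h3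
    haveI : Nonempty {i : G // orderOf i = 2 ∧ i ∈ N₀ t} :=
      ⟨⟨t, ht, le_normalizer (mem_centralizer_singleton.2 (Commute.refl t))⟩⟩
    have h4 : 0 < Nat.card {i : G // orderOf i = 2 ∧ i • (a : G ⧸ N₀ t) = y} := h3 ▸ Nat.card_pos
    obtain ⟨⟨v, hv⟩⟩ := (Nat.card_pos_iff.1 h4).1
    exact ⟨v, hv⟩
  obtain ⟨u, hu, hu1⟩ := hpos hz
  obtain ⟨v, hv, hv1⟩ := hpos hzw
  obtain ⟨r, hr, hr1⟩ := hpos hw
  have hr2 : r • w = x₀ := by rw [← hr1, ← mul_smul, invol_mul_self hr, one_smul]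
  set k := r * v * u with hk
  have hkH : k ∈ N₀ t := mem_N₀_iff.2 (by rw [hk, mul_smul, mul_smul, hu1, hv1, hr2])
  have hkd : k * d * k⁻¹ = d⁻¹ := by
    have e1 := inverts hCT hs hna ht hz hu hu1 h0 h1
    have e2 := inverts hCT hs hna ht hzw hv hv1 h1 h2
    have e3 := inverts hCT hs hna ht hw hr hr1 h0 h2
    have e2' : v * d⁻¹ * v⁻¹ = d := by rw [← inv_inv d, inv_inv d⁻¹]; simpa [mul_assoc] using congrArg (·⁻¹) e2
    calc k * d * k⁻¹ = r * (v * (u * d * u⁻¹) * v⁻¹) * r⁻¹ := by rw [hk]; group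
      _ = d⁻¹ := by rw [e1, e2', e3]
  obtain ⟨f, hf, hfa⟩ := exists_factor hCT hs hna ht hkH hz
  set a := f⁻¹ * k with ha
  have hD := (pair_facts hCT hs hna ht hz).2.2 u hu hu1
  have hfd : f⁻¹ * d⁻¹ * f = d⁻¹ := by
    -- the stabiliser of two cosets is inverted, hence abelian
    have hdd : d⁻¹ ∈ stabilizer G x₀ ⊓ stabilizer G z := inv_mem ⟨h0, h1⟩
    have e : (u * d⁻¹ * u⁻¹) * (u * f * u⁻¹) = u * (d⁻¹ * f) * u⁻¹ := by group
    rw [hD _ hdd, hD _ hf, hD _ (mul_mem hdd hf)] at e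
    have e' : f * d⁻¹ = d⁻¹ * f := by
      have := congrArg (·⁻¹) e
      simpa [mul_inv_rev] using this
    rw [mul_assoc, ← e', inv_mul_cancel_left]
  have had : a * d * a⁻¹ = d⁻¹ := by
    calc a * d * a⁻¹ = f⁻¹ * (k * d * k⁻¹) * f := by rw [ha]; group
      _ = d⁻¹ := by rw [hkd, hfd]
  have hdH : d ∈ N₀ t := mem_N₀_iff.2 h0
  have hsq : d⁻¹ * d⁻¹ = 1 := by
    refine A_free hCT hs hna ht ?_ hz ?_
    · rw [show d⁻¹ * d⁻¹ = a * (d * a⁻¹ * d⁻¹) by
        rw [show a * (d * a⁻¹ * d⁻¹) = a * d * a⁻¹ * d⁻¹ by group, had]]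
      exact mul_mem hfa ((mem_normalizer_iff.1 hdH _).1 (inv_mem hfa))
    · rw [mul_smul, inv_smul_eq_iff.2 h1.symm, inv_smul_eq_iff.2 h1.symm]
  obtain ⟨e, he⟩ := SE.odd_of_two_fixed hSE hz h0 h1
  refine hd1 ?_
  have h22 : d ^ 2 = 1 := by rw [pow_two]; simpa using congrArg (·⁻¹) hsq
  have := pow_orderOf_eq_one d
  rwa [he, pow_add, pow_mul, h22, one_pow, one_mul, pow_one] at this

theorem two_le_invol : 2 ≤ Nat.card {s : G // orderOf s = 2 ∧ s ∈ N₀ t} := by
  haveI : Fact (Nat.Prime 2) := ⟨Nat.prime_two⟩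
  by_contra hlt
  push Not at hlt
  have huniq : ∀ s, orderOf s = 2 → s ∈ N₀ t → s = t := fun s hs' hsN => by
    haveI : Subsingleton {s : G // orderOf s = 2 ∧ s ∈ N₀ t} :=
      Finite.card_le_one_iff_subsingleton.1 (by omega)
    exact congrArg Subtype.val (Subsingleton.elim (α := {s : G // orderOf s = 2 ∧ s ∈ N₀ t})
      ⟨s, hs', hsN⟩ ⟨t, ht, le_normalizer (mem_centralizer_singleton.2 (Commute.refl t))⟩)
  obtain ⟨P, hPA, htP⟩ := exists_sylow_le hCT ht
  have hNC : normalizer ((P : Subgroup G) : Set G) ≤ centralizer ((P : Subgroup G) : Set G) := by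
    intro g hg
    have hgt : g * t * g⁻¹ = t :=
      huniq _ (conj_invol g ht) (le_normalizer (hPA ((mem_normalizer_iff.1 hg t).1 htP)))
    have hgA : g ∈ (centralizer ({t} : Set G)) := mem_centralizer_singleton.2 (show Commute g t from mul_inv_eq_iff_eq_mul.1 hgt).symm
    exact mem_centralizer_iff.2 fun q hq => A_comm hCT ht (hPA hq) hgA
  have hcompl := MonoidHom.ker_transferSylow_isComplement' P hNC
  rcases (MonoidHom.transferSylow P hNC).normal_ker.eq_bot_or_eq_top with h | h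
  · rw [h, Subgroup.isComplement'_bot_left] at hcompl
    refine hna ⟨⟨fun a b => A_comm hCT ht (hPA ?_) (hPA ?_)⟩⟩ <;>
      · rw [hcompl]; exact mem_top _
  · rw [h, Subgroup.isComplement'_top_left] at hcompl
    rw [hcompl, mem_bot] at htP
    exact t_ne ht htP

/-- The centraliser of `t` is transitive on the cosets other than `H`. -/
theorem A_transitive {z w : G ⧸ N₀ t} (hz : x₀ ≠ z) (hw : x₀ ≠ w) : ∃ a ∈ (centralizer ({t} : Set G)), a • z = w := by
  classical
  set D := stabilizer G x₀ ⊓ stabilizer G z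
  have hAH : (centralizer ({t} : Set G)) ≤ N₀ t := le_normalizer
  have hDH : ∀ d ∈ D, d ∈ N₀ t := fun d hd => mem_N₀_iff.2 hd.1
  obtain ⟨hcard, -, -⟩ := pair_facts hCT hs hna ht hz
  have ha0 : ∀ a ∈ (centralizer ({t} : Set G)), a • x₀ = x₀ := fun a ha => mem_N₀_iff.1 (hAH ha)
  -- `H` is covered by `A` and the conjugates of `D`
  let φ : (↥(centralizer ({t} : Set G)) ⊕ ↥(centralizer ({t} : Set G)) × {d : D // d ≠ 1}) → N₀ t := Sum.elim (fun a => ⟨a, hAH a.2⟩)
    (fun p => ⟨(p.1 : G) * (p.2.1 : G) * (p.1 : G)⁻¹,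
      mul_mem (mul_mem (hAH p.1.2) (hDH _ p.2.1.2)) (inv_mem (hAH p.1.2))⟩)
  have hne : ∀ (p : ↥(centralizer ({t} : Set G)) × {d : D // d ≠ 1}), ((φ (Sum.inr p) : N₀ t) : G) ∉ (centralizer ({t} : Set G)) := by
    rintro ⟨a, ⟨d, hd⟩, hd1⟩ h
    refine hd1 (Subtype.ext ?_)
    have h' : (a : G) * d * (a : G)⁻¹ ∈ (centralizer ({t} : Set G)) := h
    have hdA : d ∈ (centralizer ({t} : Set G)) := by
      have := mul_mem (mul_mem (inv_mem a.2) h') a.2
      rwa [show (a : G)⁻¹ * ((a : G) * d * (a : G)⁻¹) * a = d by group] at this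
    exact A_free hCT hs hna ht hdA hz hd.2
  have hφ : Function.Injective φ := by
    rintro (a | p) (b | q) h
    · exact congrArg Sum.inl (Subtype.ext (congrArg Subtype.val h :))
    · exact absurd (by rw [← h]; exact a.2) (hne q)
    · exact absurd (by rw [h]; exact b.2) (hne p)
    · obtain ⟨a, ⟨d, hd⟩, hd1⟩ := p
      obtain ⟨b, ⟨e, he⟩, he1⟩ := q
      have h' : (a : G) * d * (a : G)⁻¹ = b * e * (b : G)⁻¹ := congrArg Subtype.val h
      set c := (a : G)⁻¹ * b with hc
      have hcA : c ∈ (centralizer ({t} : Set G)) := mul_mem (inv_mem a.2) b.2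
      have hde : d = c * e * c⁻¹ := by
        calc d = (a : G)⁻¹ * ((a : G) * d * (a : G)⁻¹) * a := by group
          _ = _ := by rw [h', hc]; group
      have hcz : c • z = z := by
        by_contra hne'
        refine hd1 (Subtype.ext (eq_one_of_three hCT hs hna ht hz ?_ (Ne.symm hne') hd.1 hd.2 ?_))
        · intro e'
          have := congrArg (c⁻¹ • ·) e'
          simp only [inv_smul_smul, inv_smul_eq_iff.2 (ha0 c hcA).symm] at this
          exact hz this
        · show d • c • z = c • z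
          rw [hde, mul_smul, mul_smul, inv_smul_smul]
          congr 1
          exact he.2
      have hc1 := A_free hCT hs hna ht hcA hz hcz
      rw [hc1, one_mul, inv_one, mul_one] at hde
      subst hde
      rw [hc, inv_mul_eq_one] at hc1
      obtain rfl : a = b := Subtype.ext hc1
      rfl
  have hHcard : Nat.card (N₀ t) = Nat.card ↥(centralizer ({t} : Set G)) * Nat.card D := by
    have hb : Function.Bijective fun p : D × ↥(centralizer ({t} : Set G)) =>
        (⟨(p.1 : G) * p.2, mul_mem (hDH _ p.1.2) (hAH p.2.2)⟩ : N₀ t) := by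
      refine ⟨fun p q h => ?_, fun h => ?_⟩
      · have h' : (p.1 : G) * p.2 = q.1 * q.2 := congrArg Subtype.val h
        have h1 : (q.1 : G)⁻¹ * p.1 = q.2 * (p.2 : G)⁻¹ := by
          rw [inv_mul_eq_iff_eq_mul, ← mul_assoc, ← h', mul_inv_cancel_right]
        have h2 : (q.1 : G)⁻¹ * p.1 = 1 := A_free hCT hs hna ht
          (h1 ▸ mul_mem q.2.2 (inv_mem p.2.2)) hz (mul_mem (inv_mem q.1.2) p.1.2).2
        refine Prod.ext (Subtype.ext (inv_mul_eq_one.1 h2).symm) (Subtype.ext ?_)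
        rw [h2] at h1
        exact (mul_inv_eq_one.1 h1.symm).symm
      · obtain ⟨d, hd, hda⟩ := exists_factor hCT hs hna ht h.2 hz
        exact ⟨(⟨d, hd⟩, ⟨_, hda⟩), Subtype.ext (mul_inv_cancel_left _ _)⟩
    rw [← Nat.card_eq_of_bijective _ hb, Nat.card_prod, mul_comm]
  have hsurj : Function.Surjective φ := ((Nat.bijective_iff_injective_and_card φ).2 ⟨hφ, by
    have h1 : Nat.card {d : D // d ≠ 1} + 1 = Nat.card D := by
      haveI := Fintype.ofFinite D
      rw [Nat.card_eq_fintype_card, Fintype.card_subtype_compl, Fintype.card_subtype_eq,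
        Nat.card_eq_fintype_card, Nat.sub_add_cancel Fintype.card_pos]
    rw [Nat.card_sum, Nat.card_prod, hHcard, ← h1]
    ring⟩).2
  -- a non-identity element fixing `x₀` and `w`
  obtain ⟨hcw, -, -⟩ := pair_facts hCT hs hna ht hw
  haveI : Nontrivial (stabilizer G x₀ ⊓ stabilizer G w : Subgroup G) :=
    Finite.one_lt_card_iff_nontrivial.1 (by rw [hcw]; exact two_le_invol hCT hs hna ht)
  obtain ⟨⟨d, hd⟩, hd1⟩ := exists_ne (1 : (stabilizer G x₀ ⊓ stabilizer G w : Subgroup G))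
  have hd1' : d ≠ 1 := fun e => hd1 (Subtype.ext e)
  obtain ⟨x, hx⟩ := hsurj ⟨d, mem_N₀_iff.2 hd.1⟩
  rcases x with a | ⟨a, ⟨e, he⟩, he1⟩
  · have : (a : G) = d := congrArg Subtype.val hx
    exact absurd (A_free hCT hs hna ht (this ▸ a.2) hw hd.2) hd1'
  · have he' : (a : G) * e * (a : G)⁻¹ = d := congrArg Subtype.val hx
    refine ⟨a, a.2, ?_⟩
    by_contra hne'
    refine hd1' (eq_one_of_three hCT hs hna ht hw ?_ (Ne.symm hne') hd.1 hd.2 ?_)
    · intro h
      have := congrArg ((a : G)⁻¹ • ·) h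
      simp only [inv_smul_smul, inv_smul_eq_iff.2 (ha0 a a.2).symm] at this
      exact hz this
    · rw [← he', mul_smul, mul_smul, inv_smul_smul]
      congr 1
      exact he.2

/-- The centraliser of an involution is an elementary abelian 2-group. -/
theorem A_exponent_two : ∀ a ∈ (centralizer ({t} : Set G)), a ^ 2 = 1 := by
  classical
  have hSE := stronglyEmbedded hCT hs hna ht
  obtain ⟨u, huN, -⟩ := SE.exists_invol_not_mem hSE
  set z : G ⧸ N₀ t := u • x₀ with hz'
  have hz : x₀ ≠ z := fun e => huN (mem_N₀_iff.2 e.symm)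
  have hAH : (centralizer ({t} : Set G)) ≤ N₀ t := le_normalizer
  have h3 : ∀ g : G, ∀ a b c : G ⧸ N₀ t, a ≠ b → b ≠ c → a ≠ c →
      g • a = a → g • b = b → g • c = c → g = 1 := by
    intro g a b c hab hbc hac ha hb hc
    obtain ⟨k, rfl⟩ := QuotientGroup.mk_surjective a
    have hk : k • x₀ = (k : G ⧸ N₀ t) := by
      rw [MulAction.Quotient.smul_mk, smul_eq_mul, mul_one]
    have key : ∀ {y : G ⧸ N₀ t}, g • y = y → (k⁻¹ * g * k) • (k⁻¹ • y) = k⁻¹ • y := fun hy => by
      rw [mul_smul, mul_smul, smul_inv_smul, hy]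
    have := eq_one_of_three hCT hs hna ht (d := k⁻¹ * g * k) (z := k⁻¹ • b) (w := k⁻¹ • c)
      (fun e => hab (by rw [← hk, e, smul_inv_smul])) (fun e => hac (by rw [← hk, e, smul_inv_smul]))
      (fun e => hbc ((smul_left_cancel_iff _).1 e))
      (by rw [mul_smul, mul_smul, hk, ha, ← hk, inv_smul_smul]) (key hb) (key hc)
    rw [← conj_eq_one_iff (a := k⁻¹)]
    simpa using this
  have hfaith : FaithfulSMul G (G ⧸ N₀ t) := by
    refine ⟨fun {g h} hgh => ?_⟩
    have hall : ∀ y : G ⧸ N₀ t, (h⁻¹ * g) • y = y := fun y => by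
      rw [mul_smul, hgh y, inv_smul_smul]
    by_contra hne
    have hc : (h⁻¹ * g) ∈ (toPermHom G (G ⧸ N₀ t)).ker :=
      MonoidHom.mem_ker.2 (Equiv.ext fun y => hall y)
    rcases (toPermHom G (G ⧸ N₀ t)).normal_ker.eq_bot_or_eq_top with e | e
    · rw [e, mem_bot, inv_mul_eq_one] at hc
      exact hne hc.symm
    · have : u ∈ (toPermHom G (G ⧸ N₀ t)).ker := e ▸ mem_top u
      exact huN (mem_N₀_iff.2 (Equiv.ext_iff.1 (MonoidHom.mem_ker.1 this) x₀))
  have htwo : IsMultiplyPretransitive G (G ⧸ N₀ t) 2 := by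
    rw [is_two_pretransitive_iff]
    intro a b c d hab hcd
    obtain ⟨k, hk⟩ := exists_smul_eq G a x₀
    obtain ⟨l, hl⟩ := exists_smul_eq G c x₀
    obtain ⟨e, heA, he⟩ := A_transitive hCT hs hna ht (z := k • b) (w := l • d)
      (fun h => hab (smul_left_cancel k (hk.trans h))) (fun h => hcd (smul_left_cancel l (hl.trans h)))
    refine ⟨l⁻¹ * e * k, ?_, ?_⟩
    · rw [mul_smul, mul_smul, hk, mem_N₀_iff.1 (hAH heA), inv_smul_eq_iff, hl]
    · rw [mul_smul, mul_smul, he, inv_smul_smul]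
  obtain ⟨hcard, -, -⟩ := pair_facts hCT hs hna ht hz
  have hm2 := two_le_invol hCT hs hna ht
  have hZ : Cfsg.IsZassenhausGroup G (G ⧸ N₀ t) := by
    refine ⟨hfaith, htwo, h3, ?_, fun N hN hNt => ?_⟩
    · haveI : Nontrivial (stabilizer G x₀ ⊓ stabilizer G z : Subgroup G) :=
        Finite.one_lt_card_iff_nontrivial.1 (by rw [hcard]; omega)
      obtain ⟨⟨d, hd⟩, hd1⟩ := exists_ne (1 : (stabilizer G x₀ ⊓ stabilizer G z : Subgroup G))
      exact ⟨d, fun e => hd1 (Subtype.ext e), x₀, z, hz, hd.1, hd.2⟩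
    · rcases hN.eq_bot_or_eq_top with rfl | rfl
      · obtain ⟨⟨n, hn⟩, hne⟩ := hNt.exists_smul_eq x₀ z
        rw [mem_bot] at hn
        subst hn
        exact absurd ((one_smul G x₀).symm.trans hne) hz
      · refine ⟨x₀, fun hbot => t_ne ht ?_⟩
        have : (⟨t, mem_top t⟩ : (⊤ : Subgroup G)) ∈ stabilizer (⊤ : Subgroup G) x₀ :=
          mem_N₀_iff.1 (hAH (mem_centralizer_singleton.2 (Commute.refl t)))
        have h' := (SetLike.ext_iff.1 hbot _).1 this
        exact congrArg Subtype.val (mem_bot.1 h')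
  have hK : Perm.ZassG.IsKernel x₀ (centralizer ({t} : Set G)) := ⟨fun a ha => mem_N₀_iff.1 (hAH ha),
    fun g hg a ha => (mem_normalizer_iff.1 (mem_N₀_iff.2 hg) a).1 ha,
    fun y w hy hw => by
      obtain ⟨a, ha, e⟩ := A_transitive hCT hs hna ht (Ne.symm hy) (Ne.symm hw)
      refine ⟨⟨a, ha⟩, e, fun b hb => Subtype.ext ?_⟩
      have hb' : (b : G) • y = w := hb
      have := A_free hCT hs hna ht (mul_mem (inv_mem ha) b.2) (Ne.symm hy)
        (by rw [mul_smul, hb', ← e, inv_smul_smul])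
      exact (inv_mul_eq_one.1 this).symm⟩
  have hpair : Nat.card (Perm.ZassG.pairStab G x₀ z) =
      Nat.card {s : G // orderOf s = 2 ∧ s ∈ N₀ t} := hcard
  have hAinv : Nat.card {s : G // orderOf s = 2 ∧ s ∈ N₀ t} =
      Nat.card {a : ↥(centralizer ({t} : Set G)) // orderOf a = 2} :=
    Nat.card_congr
      { toFun := fun s => ⟨⟨s, invol_mem_A hCT ht s.2.2 s.2.1⟩, by rw [← orderOf_coe]; exact s.2.1⟩
        invFun := fun a => ⟨a.1, by rw [orderOf_coe]; exact a.2, hAH a.1.2⟩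
        left_inv := fun s => rfl
        right_inv := fun a => rfl }
  rcases Perm.ZassG.card_cases hZ hz hK (fun a b => Subtype.ext (A_comm hCT ht a.2 b.2)) with h | h
  · rw [hpair, hAinv] at h
    intro a ha
    by_contra hne
    have h1 : Nat.card {a : ↥(centralizer ({t} : Set G)) // orderOf a = 2} + 2 ≤ Nat.card ↥(centralizer ({t} : Set G)) := by
      haveI := Fintype.ofFinite ↥(centralizer ({t} : Set G))
      rw [Nat.card_eq_fintype_card, Nat.card_eq_fintype_card (α := ↥(centralizer ({t} : Set G))), Fintype.card_subtype,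
        ← Finset.card_univ]
      have hsub : (Finset.univ.filter fun b : ↥(centralizer ({t} : Set G)) => orderOf b = 2) ⊆
          (Finset.univ.erase (1 : ↥(centralizer ({t} : Set G)))).erase ⟨a, ha⟩ := by
        intro b hb
        rw [Finset.mem_filter] at hb
        refine Finset.mem_erase.2 ⟨fun e => hne ?_, Finset.mem_erase.2 ⟨fun e => ?_, hb.1⟩⟩
        · have h2 : orderOf a = 2 := by rw [← hb.2, e, orderOf_mk]
          rw [← h2, pow_orderOf_eq_one]
        · rw [e, orderOf_one] at hb; omega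
      have hne1 : (⟨a, ha⟩ : ↥(centralizer ({t} : Set G))) ≠ 1 := fun e => hne (by
        rw [show a = 1 from congrArg Subtype.val e, one_pow])
      have hc1 : ((Finset.univ.erase (1 : ↥(centralizer ({t} : Set G)))).erase ⟨a, ha⟩).card + 2 = (Finset.univ : Finset ↥(centralizer ({t} : Set G))).card := by
        rw [Finset.card_erase_of_mem (Finset.mem_erase.2 ⟨hne1, Finset.mem_univ _⟩),
          Finset.card_erase_of_mem (Finset.mem_univ _)]
        have : 1 < (Finset.univ : Finset ↥(centralizer ({t} : Set G))).card :=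
          Finset.one_lt_card.2 ⟨_, Finset.mem_univ _, _, Finset.mem_univ _, hne1⟩
        omega
      have := Finset.card_le_card hsub
      omega
    omega
  · obtain ⟨k, hk⟩ := (even_card_iff (centralizer ({t} : Set G))).2 ⟨t, mem_centralizer_singleton.2 (Commute.refl t), ht⟩
    omega

end Setup

/-- Sylow data: the centralisers of involutions in a simple CT-group are elementary abelian. -/
theorem exists_sylow (hCT : IsCT G) [IsSimpleGroup G] (hna : ¬ IsMulCommutative G) :
    ∃ T : Sylow 2 G, ¬ IsCyclic (T : Subgroup G) ∧ ¬ (T : Subgroup G).Normal ∧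
      ∀ s : G, orderOf s = 2 → IsMulCommutative (centralizer ({s} : Set G)) ∧
        ∀ c ∈ centralizer ({s} : Set G), c ^ 2 = 1 := by
  haveI : Fact (Nat.Prime 2) := ⟨Nat.prime_two⟩
  have hs : IsSimpleGroup G := inferInstance
  obtain ⟨t, ht⟩ : ∃ t : G, orderOf t = 2 := by
    rcases Nat.even_or_odd (Nat.card G) with he | ho
    · exact exists_prime_orderOf_dvd_card' 2 (even_iff_two_dvd.1 he)
    · exact absurd (IsSimpleGroup.comm_iff_isSolvable.2 (FT.isSolvable_of_odd ho))
        (fun h => hna ⟨⟨h⟩⟩)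
  have hall : ∀ s : G, orderOf s = 2 → ∀ c ∈ centralizer ({s} : Set G), c ^ 2 = 1 :=
    fun s hs' => A_exponent_two hCT hs hna hs'
  obtain ⟨P, hPA, htP⟩ := exists_sylow_le hCT ht
  refine ⟨P, fun hcyc => ?_, fun hn => ?_,
    fun s hs' => ⟨⟨⟨fun a b => Subtype.ext (hCT.commute (t_ne hs') a.2 b.2)⟩⟩, hall s hs'⟩⟩
  · have h2 := two_le_invol hCT hs hna ht
    haveI := hcyc
    obtain ⟨g, hg⟩ := IsCyclic.exists_generator (α := (P : Subgroup G))
    have hP2 : Nat.card (P : Subgroup G) ≤ 2 := by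
      rw [← orderOf_eq_card_of_forall_mem_zpowers hg]
      exact Nat.le_of_dvd two_pos (orderOf_dvd_of_pow_eq_one (Subtype.ext (hall t ht g (hPA g.2))))
    -- then `A` is the Sylow subgroup of order two
    have hA : IsPGroup 2 (centralizer ({t} : Set G)) := fun a =>
      ⟨1, Subtype.ext (by simpa using hall t ht a a.2)⟩
    have heq := P.is_maximal' hA hPA
    have hle : Nat.card {s : G // orderOf s = 2 ∧ s ∈ N₀ t} ≤ 1 := by
      refine Finite.card_le_one_iff_subsingleton.2 ⟨fun a b => Subtype.ext ?_⟩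
      have key : ∀ s : G, orderOf s = 2 → s ∈ N₀ t → s = t := by
        intro s hs' hsN
        by_contra hne
        have hsP : s ∈ (P : Subgroup G) := heq ▸ invol_mem_A hCT ht hsN hs'
        haveI := Fintype.ofFinite (P : Subgroup G)
        have h3 : 2 < Fintype.card (P : Subgroup G) := Fintype.two_lt_card_iff.2
          ⟨1, ⟨t, htP⟩, ⟨s, hsP⟩, fun e => t_ne ht (congrArg Subtype.val e).symm,
            fun e => t_ne hs' (congrArg Subtype.val e).symm,
            fun e => hne (congrArg Subtype.val e).symm⟩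
        rw [← Nat.card_eq_fintype_card] at h3
        omega
      rw [key a a.2.1 a.2.2, key b b.2.1 b.2.2]
    omega
  · rcases hn.eq_bot_or_eq_top with h | h
    · rw [h, mem_bot] at htP; exact t_ne ht htP
    · exact hna ⟨⟨fun a b => A_comm hCT ht (hPA (h ▸ mem_top a)) (hPA (h ▸ mem_top b))⟩⟩

end CfsgLib.Involutions.CT
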