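import Cfsg.Agent.Lib.Involutions.WeaklyClosedTwo
import Cfsg.Agent.Lib.Transfer.Alperin
import Cfsg.Agent.Lib.PGroups.Basic

/-!
Fusion in a Sylow subgroup `T = (T ∩ N) B` where `N` is normal and `B` centralises `T ∩ N`:
elements of `B` which have to be weakly closed in `T`.
-/

set_option autoImplicit false
set_option linter.style.haveILetI false
set_option linter.unusedSectionVars false

universe u

namespace CfsgLib.Involutions.CentralizedSylow

open Cfsg Subgroup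
open scoped commutatorElement

variable {X : Type u} [Group X] [Finite X] {p : ℕ} [Fact p.Prime]

/-- The difference `b⁻¹ (n b n⁻¹)`. -/
def fdiff (n b : X) : X := b⁻¹ * (n * b * n⁻¹)

theorem conj_eq (n b : X) : n * b * n⁻¹ = b * fdiff n b := (mul_inv_cancel_left _ _).symm

/-- The standing hypotheses. -/
structure Setup (N B : Subgroup X) (T : Sylow p X) : Prop where
  normal : N.Normal
  le : B ≤ (T : Subgroup X)
  comm : B ≤ centralizer (((T : Subgroup X) ⊓ N : Subgroup X) : Set X)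
  gen : (T : Subgroup X) ≤ N ⊔ B

variable {N B : Subgroup X} {T : Sylow p X}

namespace Setup

variable (D : Setup N B T)
include D

theorem exists_factor {g : X} (hg : g ∈ N ⊔ B) : ∃ n ∈ N, ∃ b ∈ B, n * b = g := by
  haveI := D.normal
  exact mem_sup_of_normal_left.1 hg

theorem factor_sylow {x : X} (hx : x ∈ (T : Subgroup X)) :
    ∃ s ∈ (T : Subgroup X) ⊓ N, ∃ b ∈ B, s * b = x := by
  obtain ⟨n, hn, b, hb, rfl⟩ := D.exists_factor (D.gen hx)
  exact ⟨n, mem_inf.2 ⟨by simpa using mul_mem hx (inv_mem (D.le hb)), hn⟩, b, hb, rfl⟩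

theorem commute {b : X} (hb : b ∈ B) {s : X} (hs : s ∈ (T : Subgroup X) ⊓ N) : s * b = b * s :=
  mem_centralizer_iff.1 (D.comm hb) s hs

theorem fdiff_mem {n b : X} (hn : n ∈ N) (hb : b ∈ B) (h : n * b * n⁻¹ ∈ (T : Subgroup X)) :
    fdiff n b ∈ (T : Subgroup X) ⊓ N := by
  refine mem_inf.2 ⟨mul_mem (inv_mem (D.le hb)) h, ?_⟩
  have : fdiff n b = b⁻¹ * n * b * n⁻¹ := by rw [fdiff]; group
  rw [this]
  exact mul_mem (by simpa using D.normal.conj_mem n hn b⁻¹) (inv_mem hn)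

theorem fdiff_mul {n a b : X} (hb : b ∈ B) (hf : fdiff n a ∈ (T : Subgroup X) ⊓ N) :
    fdiff n (a * b) = fdiff n a * fdiff n b := by
  have h := D.commute hb hf
  calc fdiff n (a * b) = b⁻¹ * (fdiff n a * b) * (b⁻¹ * (n * b * n⁻¹)) := by
        simp only [fdiff]; group
    _ = fdiff n a * fdiff n b := by rw [h, inv_mul_cancel_left]; rfl

/-- An element of `B` commuting with all of `B` is central in `T`. -/
theorem central {t : X} (ht : t ∈ B) (htc : ∀ b ∈ B, b * t = t * b) {x : X}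
    (hx : x ∈ (T : Subgroup X)) : x * t = t * x := by
  obtain ⟨s, hs, b, hb, rfl⟩ := D.factor_sylow hx
  rw [mul_assoc, htc b hb, ← mul_assoc, D.commute ht hs, mul_assoc]

/-- A conjugate of `t` in `T` gives a conjugate of the shape `t s` with `s ∈ T ∩ N`. -/
theorem exists_fused {t : X} (ht : t ∈ B) (htc : ∀ b ∈ B, b * t = t * b) {g : X}
    (hgM : g ∈ N ⊔ B)
    (hg : g * t * g⁻¹ ∈ (T : Subgroup X)) (hne : g * t * g⁻¹ ≠ t) :
    ∃ s ∈ (T : Subgroup X) ⊓ N, s ≠ 1 ∧ ∃ n ∈ N, n * (t * s) * n⁻¹ = t := by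
  obtain ⟨n, hn, b, hb, rfl⟩ := D.exists_factor hgM
  have e : n * b * t * (n * b)⁻¹ = n * t * n⁻¹ := by
    rw [mul_inv_rev, mul_assoc n b t, htc b hb]
    group
  rw [e] at hg hne
  refine ⟨fdiff n t, D.fdiff_mem hn ht hg, fun h => hne (by rw [conj_eq, h, mul_one]),
    n⁻¹, inv_mem hn, ?_⟩
  rw [← conj_eq]
  group

/-- The conjugating element can be chosen to map the centraliser in `T` into `T`. -/
theorem exists_extremal {t s : X} (ht : t ∈ B) (htc : ∀ b ∈ B, b * t = t * b)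
    (hs : s ∈ (T : Subgroup X) ⊓ N) {n : X} (hn : n ∈ N) (he : n * (t * s) * n⁻¹ = t) :
    ∃ m ∈ N, m * (t * s) * m⁻¹ = t ∧
      ∀ x ∈ ((T : Subgroup X) ⊓ N ⊓ centralizer ({s} : Set X)) ⊔ B,
        m * x * m⁻¹ ∈ (T : Subgroup X) := by
  haveI := D.normal
  set R := ((T : Subgroup X) ⊓ N ⊓ centralizer ({s} : Set X)) ⊔ B with hR
  have hRT : R ≤ (T : Subgroup X) := sup_le (inf_le_left.trans inf_le_left) D.le
  have hRc : R ≤ centralizer ({t * s} : Set X) := by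
    refine sup_le (fun c hc => ?_) fun b hb => ?_
    · rw [mem_centralizer_singleton_iff, ← mul_assoc, D.commute ht (mem_inf.1 hc).1, mul_assoc,
        mem_centralizer_singleton_iff.1 (mem_inf.1 hc).2, mul_assoc]
    · rw [mem_centralizer_singleton_iff, ← mul_assoc, htc b hb, mul_assoc, ← D.commute hb hs,
        mul_assoc]
  obtain ⟨k, hk, hkT⟩ := CfsgLib.Transfer.exists_conj_le_of_isPGroup (p := p) T.isPGroup'
    (K := centralizer ({t} : Set X) ⊓ (N ⊔ B))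
    (fun x hx => mem_inf.2 ⟨mem_centralizer_singleton_iff.2 (D.central ht htc hx), D.gen hx⟩)
    (fun hd => T.not_dvd_index (hd.trans (Dvd.intro _ (relIndex_mul_index
      (fun x hx => mem_inf.2
        ⟨mem_centralizer_singleton_iff.2 (D.central ht htc hx), D.gen hx⟩)))))
    (V := R.map (MulAut.conj n).toMonoidHom) ((T.isPGroup'.to_le hRT).map _)
    (by
      rintro _ ⟨x, hx, rfl⟩
      refine mem_inf.2 ⟨?_, mul_mem (mul_mem (mem_sup_left hn) (D.gen (hRT hx)))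
        (inv_mem (mem_sup_left hn))⟩
      rw [mem_centralizer_singleton_iff, MulEquiv.coe_toMonoidHom, MulAut.conj_apply]
      have h := mem_centralizer_singleton_iff.1 (hRc hx)
      calc n * x * n⁻¹ * t = n * x * n⁻¹ * (n * (t * s) * n⁻¹) := by rw [he]
        _ = n * (x * (t * s)) * n⁻¹ := by group
        _ = n * (t * s * x) * n⁻¹ := by rw [h]
        _ = (n * (t * s) * n⁻¹) * (n * x * n⁻¹) := by group
        _ = t * (n * x * n⁻¹) := by rw [he])
  obtain ⟨hk, hkM⟩ := mem_inf.1 hk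
  obtain ⟨m, hm, b, hb, hmb⟩ := D.exists_factor (g := (k⁻¹ * n)⁻¹)
    (inv_mem (mul_mem (inv_mem hkM) (mem_sup_left hn)))
  have hkn : k⁻¹ * n = b⁻¹ * m⁻¹ := by
    rw [← mul_inv_rev, hmb, inv_inv]
  refine ⟨m⁻¹, inv_mem hm, ?_, fun x hx => ?_⟩
  · calc m⁻¹ * (t * s) * m⁻¹⁻¹ = b * ((b⁻¹ * m⁻¹) * (t * s) * (b⁻¹ * m⁻¹)⁻¹) * b⁻¹ := by group
      _ = b * (k⁻¹ * (n * (t * s) * n⁻¹) * k) * b⁻¹ := by rw [← hkn]; group
      _ = b * (k⁻¹ * t * k) * b⁻¹ := by rw [he]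
      _ = b * t * b⁻¹ := by
        rw [mul_assoc k⁻¹, ← mem_centralizer_singleton_iff.1 hk, inv_mul_cancel_left]
      _ = t := by rw [htc b hb, mul_inv_cancel_right]
  · have h1 := hkT _ (mem_map_of_mem (MulAut.conj n).toMonoidHom hx)
    rw [MulEquiv.coe_toMonoidHom, MulAut.conj_apply,
      show k⁻¹ * (n * x * n⁻¹) * k = (k⁻¹ * n) * x * (k⁻¹ * n)⁻¹ by group, hkn] at h1
    have h2 := mul_mem (mul_mem (D.le hb) h1) (inv_mem (D.le hb))
    rwa [show b * (b⁻¹ * m⁻¹ * x * (b⁻¹ * m⁻¹)⁻¹) * b⁻¹ = m⁻¹ * x * m⁻¹⁻¹ by group] at h2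

/-- The image of `C_{T ∩ N}(s)` under an extremal conjugation and the new partner `s₁`. -/
theorem image_data {t s m : X} (ht : t ∈ B) (htc : ∀ b ∈ B, b * t = t * b)
    (hs : s ∈ (T : Subgroup X) ⊓ N) (hs1 : s ≠ 1) (hm : m ∈ N) (he : m * (t * s) * m⁻¹ = t)
    (hext : ∀ x ∈ ((T : Subgroup X) ⊓ N ⊓ centralizer ({s} : Set X)) ⊔ B,
      m * x * m⁻¹ ∈ (T : Subgroup X)) :
    fdiff m t ∈ (T : Subgroup X) ⊓ N ∧ fdiff m t ≠ 1 ∧ m⁻¹ * (t * fdiff m t) * m⁻¹⁻¹ = t ∧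
      ((T : Subgroup X) ⊓ N ⊓ centralizer ({s} : Set X)).map (MulAut.conj m).toMonoidHom ≤
        (T : Subgroup X) ⊓ N ⊓ centralizer ({fdiff m t} : Set X) ∧
      ∀ b ∈ B, fdiff m b ∈ (T : Subgroup X) ⊓ N ⊓ centralizer ({fdiff m t} : Set X) := by
  haveI := D.normal
  have hB : ∀ b ∈ B, fdiff m b ∈ (T : Subgroup X) ⊓ N := fun b hb =>
    D.fdiff_mem hm hb (hext b ((le_sup_right : B ≤ _) hb))
  refine ⟨hB t ht, fun h => hs1 ?_, ?_, ?_, fun b hb => mem_inf.2 ⟨hB b hb, ?_⟩⟩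
  · have h1 : m * t * m⁻¹ = t := by rw [conj_eq, h, mul_one]
    have h2 : t * (m * s * m⁻¹) = t := by
      calc t * (m * s * m⁻¹) = m * t * m⁻¹ * (m * s * m⁻¹) := by rw [h1]
        _ = m * (t * s) * m⁻¹ := by group
        _ = t := he
    have h3 : m * s * m⁻¹ = 1 := mul_eq_left.1 h2
    exact conj_eq_one_iff.1 h3
  · rw [← conj_eq]; group
  · rintro _ ⟨c, hc, rfl⟩
    rw [MulEquiv.coe_toMonoidHom, MulAut.conj_apply]
    have hcS : m * c * m⁻¹ ∈ (T : Subgroup X) ⊓ N :=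
      mem_inf.2 ⟨hext c ((le_sup_left : _ ≤ _ ⊔ B) hc),
        mul_mem (mul_mem hm (mem_inf.1 (mem_inf.1 hc).1).2) (inv_mem hm)⟩
    refine mem_inf.2 ⟨hcS, mem_centralizer_singleton_iff.2 ?_⟩
    have hct : c * t = t * c := D.commute ht (mem_inf.1 hc).1
    calc m * c * m⁻¹ * fdiff m t = m * c * m⁻¹ * t⁻¹ * (m * t * m⁻¹) := by rw [fdiff]; group
      _ = t⁻¹ * (t * (m * c * m⁻¹)) * t⁻¹ * (m * t * m⁻¹) := by group
      _ = t⁻¹ * (m * c * m⁻¹ * t) * t⁻¹ * (m * t * m⁻¹) := by rw [D.commute ht hcS]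
      _ = t⁻¹ * (m * (c * t) * m⁻¹) := by group
      _ = t⁻¹ * (m * (t * c) * m⁻¹) := by rw [hct]
      _ = fdiff m t * (m * c * m⁻¹) := by rw [fdiff]; group
  · rw [mem_centralizer_singleton_iff, ← D.fdiff_mul ht (hB b hb), htc b hb,
      D.fdiff_mul hb (hB t ht)]

/-- An element of `Z(B) ∩ B'` is weakly closed in `T`. -/
theorem weaklyClosed_of_derived {t : X} (ht : t ∈ B) (htc : ∀ b ∈ B, b * t = t * b)
    (htd : t ∈ ⁅B, B⁆) (g : X) (hgM : g ∈ N ⊔ B)
    (hg : g * t * g⁻¹ ∈ (T : Subgroup X)) : g * t * g⁻¹ = t := by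
  haveI := D.normal
  by_contra hne
  set W := {s : X | s ∈ (T : Subgroup X) ⊓ N ∧ s ≠ 1 ∧ ∃ n ∈ N, n * (t * s) * n⁻¹ = t} with hW
  obtain ⟨s₀, h0⟩ := D.exists_fused ht htc hgM hg hne
  obtain ⟨s, ⟨hsS, hs1, n, hn, he⟩, hmax⟩ := Set.exists_max_image W
    (fun s => Nat.card ↥((T : Subgroup X) ⊓ N ⊓ centralizer ({s} : Set X))) (Set.toFinite _)
    ⟨s₀, h0⟩
  obtain ⟨m, hm, hme, hext⟩ := D.exists_extremal ht htc hsS hn he
  obtain ⟨hfS, hf1, hfe, himg, hfB⟩ := D.image_data ht htc hsS hs1 hm hme hext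
  have hle := hmax (fdiff m t) ⟨hfS, hf1, m⁻¹, inv_mem hm, hfe⟩
  have heq := Subgroup.eq_of_le_of_card_ge himg (hle.trans (le_of_eq
    (Subgroup.card_map_of_injective (f := (MulAut.conj m).toMonoidHom)
      (MulAut.conj m).injective).symm))
  -- so the differences commute with each other
  have hcomm : ∀ a ∈ B, ∀ b ∈ B, fdiff m a * fdiff m b = fdiff m b * fdiff m a := by
    intro a ha b hb
    obtain ⟨c, hc, hce⟩ := heq.ge (hfB a ha)
    rw [MulEquiv.coe_toMonoidHom, MulAut.conj_apply] at hce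
    have haS := (mem_inf.1 (hfB a ha)).1
    have hcb : c * b = b * c := D.commute hb (mem_inf.1 hc).1
    calc fdiff m a * fdiff m b = fdiff m a * b⁻¹ * (m * b * m⁻¹) := by
          simp only [fdiff]; group
      _ = b⁻¹ * fdiff m a * (m * b * m⁻¹) := by
          rw [D.commute (inv_mem hb) haS]
      _ = b⁻¹ * (m * (c * b) * m⁻¹) := by rw [← hce]; group
      _ = b⁻¹ * (m * (b * c) * m⁻¹) := by rw [hcb]
      _ = fdiff m b * fdiff m a := by rw [← hce]; simp only [fdiff]; group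
  have hfd : ∀ b ∈ B, fdiff m b ∈ (T : Subgroup X) ⊓ N := fun b hb => (mem_inf.1 (hfB b hb)).1
  let Ker : Subgroup X :=
    { carrier := {b | b ∈ B ∧ fdiff m b = 1}
      one_mem' := ⟨one_mem _, by simp [fdiff]⟩
      mul_mem' := fun {a b} ha hb => ⟨mul_mem ha.1 hb.1, by
        rw [D.fdiff_mul hb.1 (hfd a ha.1), ha.2, hb.2, one_mul]⟩
      inv_mem' := fun {a} ha => ⟨inv_mem ha.1, by
        have h := D.fdiff_mul (n := m) (inv_mem ha.1) (hfd a ha.1)
        rw [mul_inv_cancel, ha.2, one_mul] at h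
        rw [← h]; simp [fdiff]⟩ }
  have hK : ⁅B, B⁆ ≤ Ker := commutator_le.2 fun a ha b hb => by
    have hab : ⁅a, b⁆ ∈ B := mul_mem (mul_mem (mul_mem ha hb) (inv_mem ha)) (inv_mem hb)
    refine ⟨hab, ?_⟩
    have e1 : ⁅a, b⁆ * (b * a) = a * b := by rw [commutatorElement_def]; group
    have h1 := D.fdiff_mul (n := m) (mul_mem hb ha) (hfd _ hab)
    rw [e1, D.fdiff_mul hb (hfd a ha), D.fdiff_mul ha (hfd b hb), hcomm a ha b hb] at h1
    exact mul_eq_right.1 h1.symm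
  exact hf1 (hK htd).2

/-- Elements of `V = [V, h]` in an abelian `B` are weakly closed in `T`, where `h` centralises
`T ∩ N` and normalises `B` and `V`. -/
theorem weaklyClosed_of_commutator (hBc : IsMulCommutative B) {V : Subgroup X} {h : X}
    (hVB : V ≤ B) (hh : ∀ s ∈ (T : Subgroup X) ⊓ N, h * s = s * h)
    (hhB : ∀ b ∈ B, h⁻¹ * b * h ∈ B) (hhV : zpowers h ≤ normalizer (V : Set X))
    (hV : ⁅V, zpowers h⁆ = V) {t : X} (ht : t ∈ V) (g : X) (hgM : g ∈ N ⊔ B)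
    (hg : g * t * g⁻¹ ∈ (T : Subgroup X)) : g * t * g⁻¹ = t := by
  haveI := D.normal
  have hc : ∀ t ∈ V, ∀ b ∈ B, b * t = t * b := fun t ht b hb =>
    congrArg Subtype.val (hBc.is_comm.comm ⟨b, hb⟩ ⟨t, hVB ht⟩)
  by_contra hne
  set W := {q : X × X | q.1 ∈ V ∧ q.2 ∈ (T : Subgroup X) ⊓ N ∧ q.2 ≠ 1 ∧
    ∃ n ∈ N, n * (q.1 * q.2) * n⁻¹ = q.1} with hW
  obtain ⟨s₀, h0⟩ := D.exists_fused (hVB ht) (hc t ht) hgM hg hne
  obtain ⟨⟨t₁, s⟩, ⟨ht₁, hsS, hs1, n, hn, he⟩, hmax⟩ := Set.exists_max_image W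
    (fun q => Nat.card ↥((T : Subgroup X) ⊓ N ⊓ centralizer ({q.2} : Set X))) (Set.toFinite _)
    ⟨(t, s₀), ht, h0⟩
  obtain ⟨m, hm, hme, hext⟩ := D.exists_extremal (hVB ht₁) (hc t₁ ht₁) hsS hn he
  obtain ⟨hfS, hf1, hfe, himg, hfB⟩ := D.image_data (hVB ht₁) (hc t₁ ht₁) hsS hs1 hm hme hext
  set C₁ := (T : Subgroup X) ⊓ N ⊓ centralizer ({fdiff m t₁} : Set X) with hC₁def
  have hC₁S : C₁ ≤ (T : Subgroup X) ⊓ N := inf_le_left
  have hle := hmax (t₁, fdiff m t₁) ⟨ht₁, hfS, hf1, m⁻¹, inv_mem hm, hfe⟩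
  have hcard := Subgroup.card_map_of_injective (K := ((T : Subgroup X) ⊓ N ⊓
    centralizer ({s} : Set X))) (f := (MulAut.conj m).toMonoidHom) (MulAut.conj m).injective
  have heq := Subgroup.eq_of_le_of_card_ge himg (hle.trans (le_of_eq hcard.symm))
  -- elements centralising `C₁` and moving `B` inside `B C₁`
  have hU : ∀ u ∈ N, (∀ c ∈ C₁, u * c = c * u) → (∀ b ∈ B, fdiff u b ∈ C₁) →
      ∀ v ∈ V, fdiff u v = 1 := by
    intro u hu huC huB v hv
    by_contra hne1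
    by_cases hfull : (T : Subgroup X) ⊓ N ≤ C₁
    · have huT : ∀ x ∈ (T : Subgroup X), u * x * u⁻¹ ∈ (T : Subgroup X) := by
        intro x hx
        obtain ⟨s', hs', b, hb, rfl⟩ := D.factor_sylow hx
        rw [show u * (s' * b) * u⁻¹ = (u * s' * u⁻¹) * (u * b * u⁻¹) by group,
          huC s' (hfull hs'), mul_inv_cancel_right, conj_eq]
        exact mul_mem (mem_inf.1 hs').1 (mul_mem (D.le hb) (mem_inf.1 (hC₁S (huB b hb))).1)
      have hpow : ∀ i : ℕ, fdiff (u ^ i) v = fdiff u v ^ i := by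
        intro i
        induction i with
        | zero => simp [fdiff]
        | succ i ih =>
          have hfix : u * fdiff u v ^ i * u⁻¹ = fdiff u v ^ i := by
            rw [huC _ (pow_mem (huB v (hVB hv)) i), mul_inv_cancel_right]
          calc fdiff (u ^ (i + 1)) v = v⁻¹ * (u * (u ^ i * v * (u ^ i)⁻¹) * u⁻¹) := by
                rw [pow_succ', fdiff]; group
            _ = v⁻¹ * (u * v * u⁻¹) * (u * fdiff u v ^ i * u⁻¹) := by
                rw [conj_eq (u ^ i) v, ih]; group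
            _ = fdiff u v * fdiff u v ^ i := by rw [hfix]; rfl
            _ = fdiff u v ^ (i + 1) := (pow_succ' _ _).symm
      obtain ⟨a, q, hq, hka⟩ :=
        Nat.exists_eq_pow_mul_and_not_dvd (orderOf_pos u).ne' p (Fact.out : p.Prime).ne_one
      have hq0 : 0 < q := Nat.pos_of_ne_zero fun e => hq (by rw [e]; exact dvd_zero p)
      have hP : IsPGroup p (zpowers (u ^ q)) := by
        refine (IsPGroup.of_card (n := a) ?_)
        rw [Nat.card_zpowers, orderOf_pow, hka, Nat.gcd_mul_left_left,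
          Nat.mul_div_cancel _ hq0]
      have hnorm : zpowers (u ^ q) ≤ normalizer ((T : Subgroup X) : Set X) := by
        refine zpowers_le.2 (pow_mem ?_ q)
        have hle' : (T : Subgroup X).map (MulAut.conj u).toMonoidHom ≤ (T : Subgroup X) := by
          rintro _ ⟨x, hx, rfl⟩
          exact huT x hx
        have he' := Subgroup.eq_of_le_of_card_ge hle'
          (Subgroup.card_map_of_injective (f := (MulAut.conj u).toMonoidHom) (MulAut.conj u).injective).ge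
        rw [mem_normalizer_iff]
        exact fun x => ⟨fun hx => he'.le ⟨x, hx, rfl⟩, fun hx => by
          obtain ⟨y, hy, hye⟩ := he'.ge hx
          rw [MulEquiv.coe_toMonoidHom, MulAut.conj_apply, mul_right_cancel_iff,
            mul_left_cancel_iff] at hye
          exact hye ▸ hy⟩
      have huqT : u ^ q ∈ (T : Subgroup X) := by
        have h1 := T.is_maximal' (hP.to_sup_of_normal_right' T.isPGroup' hnorm) le_sup_right
        exact h1 ▸ mem_sup_left (mem_zpowers _)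
      have h1 : fdiff u v ^ q = 1 := by
        rw [← hpow, fdiff, D.central (hVB hv) (hc v hv) huqT]
        group
      have h2 : orderOf (fdiff u v) ∣ q := orderOf_dvd_of_pow_eq_one h1
      obtain ⟨i, hi⟩ := (T.isPGroup' ⟨fdiff u v, (mem_inf.1 (hC₁S (huB v (hVB hv)))).1⟩)
      have h3 : orderOf (fdiff u v) ∣ p ^ i :=
        orderOf_dvd_of_pow_eq_one (congrArg Subtype.val hi)
      obtain ⟨j, -, hj⟩ := (Nat.dvd_prime_pow (Fact.out : p.Prime)).1 h3
      rcases j with _ | j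
      · exact hne1 (orderOf_eq_one_iff.1 (by rw [hj, pow_zero]))
      · exact hq (((dvd_pow_self p j.succ_ne_zero).trans hj.symm.dvd).trans h2)
    · have hlt : C₁ < (T : Subgroup X) ⊓ N := lt_of_le_not_ge hC₁S hfull
      set P := ((T : Subgroup X) ⊓ N) ⊓ normalizer (C₁ : Set X) with hPdef
      have hPlt : C₁ < P :=
        CfsgLib.Transfer.lt_inf_normalizer (T.isPGroup'.to_le inf_le_left) hlt
      let U : Set X := {w | w ∈ N ∧ (∀ c ∈ C₁, w * c = c * w) ∧ ∀ b ∈ B, fdiff w b ∈ C₁}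
      have hUinv : ∀ w ∈ U, w⁻¹ ∈ U ∧ ∀ b ∈ B, fdiff w⁻¹ b = (fdiff w b)⁻¹ := by
        intro w hw
        have hb' : ∀ b ∈ B, fdiff w⁻¹ b = (fdiff w b)⁻¹ := by
          intro b hb
          have hfix : w⁻¹ * (fdiff w b)⁻¹ * w = (fdiff w b)⁻¹ := by
            rw [mul_assoc, ← hw.2.1 _ (inv_mem (hw.2.2 b hb)), inv_mul_cancel_left]
          calc fdiff w⁻¹ b = b⁻¹ * (w⁻¹ * b * (w * ((fdiff w b) * (fdiff w b)⁻¹))) := by
                rw [fdiff]; group
            _ = b⁻¹ * (w⁻¹ * ((w * b * w⁻¹) * (fdiff w b)⁻¹) * w) := by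
                rw [conj_eq w b]; group
            _ = b⁻¹ * b * (w⁻¹ * (fdiff w b)⁻¹ * w) := by group
            _ = (fdiff w b)⁻¹ := by rw [hfix, inv_mul_cancel, one_mul]
        exact ⟨⟨inv_mem hw.1, fun c hc => by
          rw [inv_mul_eq_iff_eq_mul, ← mul_assoc, hw.2.1 c hc, mul_inv_cancel_right],
          fun b hb => hb' b hb ▸ inv_mem (hw.2.2 b hb)⟩, hb'⟩
      let Wv : Subgroup X :=
        { carrier := {x | ∃ w ∈ U, fdiff w v = x}
          one_mem' := ⟨1, ⟨one_mem _, fun c _ => by simp, fun b _ => by simp [fdiff]⟩,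
            by simp [fdiff]⟩
          mul_mem' := by
            rintro _ _ ⟨w, hw, rfl⟩ ⟨w', hw', rfl⟩
            have hstep : ∀ b ∈ B, fdiff (w * w') b = fdiff w b * fdiff w' b := fun b hb => by
              calc fdiff (w * w') b = b⁻¹ * (w * (w' * b * w'⁻¹) * w⁻¹) := by rw [fdiff]; group
                _ = b⁻¹ * (w * b * w⁻¹) * (w * fdiff w' b * w⁻¹) := by
                    rw [conj_eq w' b]; group
                _ = fdiff w b * fdiff w' b := by
                    rw [hw.2.1 _ (hw'.2.2 b hb), mul_inv_cancel_right]; rfl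
            refine ⟨w * w', ⟨mul_mem hw.1 hw'.1, fun c hc => ?_, fun b hb => ?_⟩,
              hstep v (hVB hv)⟩
            · rw [mul_assoc, hw'.2.1 c hc, ← mul_assoc, hw.2.1 c hc, mul_assoc]
            · rw [hstep b hb]; exact mul_mem (hw.2.2 b hb) (hw'.2.2 b hb)
          inv_mem' := by
            rintro _ ⟨w, hw, rfl⟩
            exact ⟨w⁻¹, (hUinv w hw).1, (hUinv w hw).2 v (hVB hv)⟩ }
      have hWC : Wv ≤ C₁ := by
        rintro _ ⟨w, hw, rfl⟩; exact hw.2.2 v (hVB hv)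
      have hWP : Wv ≤ P := hWC.trans hPlt.le
      haveI : (Wv.subgroupOf P).Normal := by
        refine ⟨fun a ha x => ?_⟩
        obtain ⟨w, hw, hwe⟩ := mem_subgroupOf.1 ha
        obtain ⟨hxS, hxn⟩ := mem_inf.1 x.2
        have hstep : ∀ b ∈ B, fdiff ((x : X) * w * (x : X)⁻¹) b = x * fdiff w b * (x : X)⁻¹ := by
          intro b hb
          have hxb : (x : X)⁻¹ * b * x = b := by
            rw [mul_assoc, ← D.commute hb hxS, inv_mul_cancel_left]
          calc fdiff ((x : X) * w * (x : X)⁻¹) b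
              = b⁻¹ * (x * (w * ((x : X)⁻¹ * b * x) * w⁻¹) * (x : X)⁻¹) := by rw [fdiff]; group
            _ = b⁻¹ * ((x : X) * b) * fdiff w b * (x : X)⁻¹ := by
                rw [hxb, conj_eq w b]; group
            _ = x * fdiff w b * (x : X)⁻¹ := by rw [D.commute hb hxS, inv_mul_cancel_left]
        refine mem_subgroupOf.2 ⟨(x : X) * w * (x : X)⁻¹, ⟨D.normal.conj_mem _ hw.1 _,
          fun c hc => ?_, fun b hb => ?_⟩, ?_⟩
        · have hc' := (mem_normalizer_iff''.1 hxn c).1 hc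
          calc (x : X) * w * (x : X)⁻¹ * c = x * (w * ((x : X)⁻¹ * c * x)) * (x : X)⁻¹ := by group
            _ = x * (((x : X)⁻¹ * c * x) * w) * (x : X)⁻¹ := by rw [hw.2.1 _ hc']
            _ = c * ((x : X) * w * (x : X)⁻¹) := by group
        · rw [hstep b hb]
          exact (mem_normalizer_iff.1 hxn _).1 (hw.2.2 b hb)
        · rw [hstep v (hVB hv), hwe]; rfl
      have hne2 : Wv.subgroupOf P ≠ ⊥ := fun h => hne1 (by
        have hmem : fdiff u v ∈ Wv := ⟨u, ⟨hu, huC, huB⟩, rfl⟩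
        have h' : (⟨fdiff u v, hWP hmem⟩ : P) ∈ Wv.subgroupOf P := hmem
        rw [h, mem_bot] at h'
        exact congrArg Subtype.val h')
      obtain ⟨z, hz⟩ := (ne_bot_iff_exists_ne_one).1
        (CfsgLib.PGroups.inf_center_ne_bot
          (T.isPGroup'.to_le (inf_le_left.trans inf_le_left)) hne2)
      obtain ⟨hzW, hzc⟩ := mem_inf.1 z.2
      obtain ⟨w, hw, hwe⟩ := mem_subgroupOf.1 hzW
      have hz1 : ((z : P) : X) ≠ 1 := fun e => hz (Subtype.ext (Subtype.ext e))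
      have hbig := hmax (v, fdiff w v) ⟨hv, hC₁S (hw.2.2 v (hVB hv)), hwe ▸ hz1, w⁻¹,
        inv_mem hw.1, by rw [← conj_eq]; group⟩
      have hPC : P ≤ (T : Subgroup X) ⊓ N ⊓ centralizer ({fdiff w v} : Set X) :=
        le_inf inf_le_left fun x hx => mem_centralizer_singleton_iff.2 (by
          rw [hwe]; exact congrArg Subtype.val (mem_center_iff.1 hzc ⟨x, hx⟩))
      have h1 : Nat.card C₁ < Nat.card P := CfsgLib.Transfer.card_lt_card_of_lt hPlt
      have h2 := Subgroup.card_le_of_le hPC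
      have h3 : Nat.card C₁ =
          Nat.card ↥((T : Subgroup X) ⊓ N ⊓ centralizer ({s} : Set X)) := by
        rw [← heq, hcard]
      dsimp only at hbig hle h2 h3
      omega
  -- the difference is invariant under `h`
  have hinv : ∀ v ∈ V, fdiff m (h⁻¹ * v * h) = fdiff m v := by
    intro v hv
    have hfix : ∀ c ∈ C₁, h * c * h⁻¹ = c := fun c hc => by
      rw [hh c (hC₁S hc), mul_inv_cancel_right]
    set m₂ := h * m * h⁻¹ with hm₂
    have hm₂N : m₂ ∈ N := D.normal.conj_mem m hm h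
    have hm₂B : ∀ b ∈ B, m₂ * b * m₂⁻¹ = b * fdiff m (h⁻¹ * b * h) := by
      intro b hb
      calc m₂ * b * m₂⁻¹ = h * (m * (h⁻¹ * b * h) * m⁻¹) * h⁻¹ := by rw [hm₂]; group
        _ = b * (h * fdiff m (h⁻¹ * b * h) * h⁻¹) := by rw [conj_eq m]; group
        _ = _ := by rw [hfix _ (hfB _ (hhB b hb))]
    have hm₂C : ∀ c ∈ C₁, m₂ * (m⁻¹ * c * m) * m₂⁻¹ = c := by
      intro c hc
      obtain ⟨d, hd, rfl⟩ := heq.ge hc
      rw [MulEquiv.coe_toMonoidHom, MulAut.conj_apply,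
        show m⁻¹ * (m * d * m⁻¹) * m = d by group]
      have hd' : h⁻¹ * d * h = d := by
        rw [mul_assoc, ← hh d (mem_inf.1 hd).1, inv_mul_cancel_left]
      calc m₂ * d * m₂⁻¹ = h * (m * (h⁻¹ * d * h) * m⁻¹) * h⁻¹ := by rw [hm₂]; group
        _ = h * (m * d * m⁻¹) * h⁻¹ := by rw [hd']
        _ = m * d * m⁻¹ :=
          hfix _ (himg ⟨d, hd, by rw [MulEquiv.coe_toMonoidHom, MulAut.conj_apply]⟩)
    have huC : ∀ c ∈ C₁, m₂ * m⁻¹ * c = c * (m₂ * m⁻¹) := fun c hc => by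
      calc m₂ * m⁻¹ * c = (m₂ * (m⁻¹ * c * m) * m₂⁻¹) * (m₂ * m⁻¹) := by group
        _ = _ := by rw [hm₂C c hc]
    have hfd : ∀ b ∈ B, fdiff (m₂ * m⁻¹) b = fdiff m (h⁻¹ * b * h) * (fdiff m b)⁻¹ := by
      intro b hb
      have hCb := inv_mem (hfB b hb)
      calc fdiff (m₂ * m⁻¹) b
          = b⁻¹ * (m₂ * b * m₂⁻¹) * (m₂ * (m⁻¹ * (b⁻¹ * (m * b * m⁻¹))⁻¹ * m) * m₂⁻¹) := by
            rw [fdiff]; group
        _ = b⁻¹ * (m₂ * b * m₂⁻¹) * (m₂ * (m⁻¹ * (fdiff m b)⁻¹ * m) * m₂⁻¹) := rfl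
        _ = _ := by rw [hm₂C _ hCb, hm₂B b hb, inv_mul_cancel_left]
    have h1 := hU (m₂ * m⁻¹) (mul_mem hm₂N (inv_mem hm)) huC
      (fun b hb => hfd b hb ▸ mul_mem (hfB _ (hhB b hb)) (inv_mem (hfB b hb))) v hv
    rw [hfd v (hVB hv), mul_inv_eq_one] at h1
    exact h1
  -- so it kills `[V, h]`
  have hmemV : ∀ k ∈ zpowers h, ∀ v ∈ V, k⁻¹ * v * k ∈ V := fun k hk v hv =>
    (mem_normalizer_iff''.1 (hhV hk) v).1 hv
  have hpow : ∀ k ∈ zpowers h, ∀ v ∈ V, fdiff m (k⁻¹ * v * k) = fdiff m v := by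
    intro k hk
    obtain ⟨i, rfl⟩ := (mem_powers_iff_mem_zpowers.2 hk : k ∈ Submonoid.powers h)
    clear hk
    induction i with
    | zero => simp
    | succ i ih =>
      intro v hv
      have hk' : h ^ i ∈ zpowers h := pow_mem (mem_zpowers h) i
      show fdiff m ((h ^ (i + 1))⁻¹ * v * h ^ (i + 1)) = fdiff m v
      rw [pow_succ, show (h ^ i * h)⁻¹ * v * (h ^ i * h) = h⁻¹ * ((h ^ i)⁻¹ * v * h ^ i) * h by
        group, hinv _ (hmemV _ hk' v hv)]
      exact ih v hv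
  have hfdm : ∀ b ∈ B, fdiff m b ∈ (T : Subgroup X) ⊓ N := fun b hb => hC₁S (hfB b hb)
  let Ker : Subgroup X :=
    { carrier := {b | b ∈ B ∧ fdiff m b = 1}
      one_mem' := ⟨one_mem _, by simp [fdiff]⟩
      mul_mem' := fun {a b} ha hb => ⟨mul_mem ha.1 hb.1, by
        rw [D.fdiff_mul hb.1 (hfdm a ha.1), ha.2, hb.2, one_mul]⟩
      inv_mem' := fun {a} ha => ⟨inv_mem ha.1, by
        have h := D.fdiff_mul (n := m) (inv_mem ha.1) (hfdm a ha.1)
        rw [mul_inv_cancel, ha.2, one_mul] at h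
        rw [← h]; simp [fdiff]⟩ }
  have hK : ⁅V, zpowers h⁆ ≤ Ker := commutator_le.2 fun v hv k hk => by
    have h1 : k * v⁻¹ * k⁻¹ ∈ V := by
      have := hmemV k⁻¹ (inv_mem hk) v⁻¹ (inv_mem hv)
      simpa using this
    have e : ⁅v, k⁆ = v * (k * v⁻¹ * k⁻¹) := by rw [commutatorElement_def]; group
    refine ⟨e ▸ mul_mem (hVB hv) (hVB h1), ?_⟩
    have h2 := hpow k⁻¹ (inv_mem hk) v⁻¹ (inv_mem hv)
    rw [inv_inv] at h2
    rw [e, D.fdiff_mul (hVB h1) (hfdm v (hVB hv)), h2,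
      ← D.fdiff_mul (inv_mem (hVB hv)) (hfdm v (hVB hv)), mul_inv_cancel]
    simp [fdiff]
  exact hf1 (hK (hV.symm ▸ ht₁)).2

end Setup

end CfsgLib.Involutions.CentralizedSylow
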