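import Cfsg.Agent.Lib.Involutions.CentralizedSylow
import Cfsg.Agent.Lib.Coprime.Action
import Cfsg.Agent.Lib.Base.Cores
import Cfsg.Agent.Lib.Transfer.NormalPComplement
import Cfsg.Agent.Lib.FT.Interface

/-!
If `N` has trivial odd core and trivial centralizer, a subgroup centralizing a Sylow 2-subgroup
of `N` and covering the quotient by `N` is solvable (given the odd order theorem).
-/

set_option autoImplicit false
set_option linter.style.haveILetI false
set_option linter.unusedSectionVars false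

universe u

namespace CfsgLib.Involutions.CentralizedSylow

open Cfsg Subgroup
open scoped commutatorElement

/-- A group with a normal 2-complement is solvable, given the odd order theorem. -/
theorem isSolvable_of_hasNormalTwoComplement (hFT : CfsgLib.FT.OddOrderThm.{u})
    {G : Type u} [Group G] [Finite G] (h : HasNormalPComplement 2 G) : Group.IsSolvable G := by
  obtain ⟨P, K, hK, hc⟩ := h
  haveI := hK
  have hodd : Odd (Nat.card K) := by
    have h1 : ¬ 2 ∣ Nat.card K := by
      have := P.not_dvd_index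
      rwa [hc.index_eq_card] at this
    exact Nat.odd_iff.2 (Nat.two_dvd_ne_zero.1 h1)
  haveI : Group.IsSolvable K := hFT K hodd
  have hQ : IsPGroup 2 (G ⧸ K) := P.isPGroup'.of_equiv hc.symm.QuotientMulEquiv.symm
  haveI : Group.IsSolvable (G ⧸ K) := by
    haveI := hQ.isNilpotent
    infer_instance
  exact solvable_of_ker_le_range K.subtype (QuotientGroup.mk' K) (by simp)

variable {X : Type u} [Group X] [Finite X]

/-- `O(N ⊔ B)` and `Z(N ⊔ B)` are trivial when `C(N) = 1` and `O(N) = 1`. -/
theorem eq_one_of_weaklyClosed {N B : Subgroup X} [N.Normal] (hC : centralizer (N : Set X) = ⊥)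
    (hO : oddCore ↥N = ⊥) (T : Sylow 2 X) (hT : (T : Subgroup X) ≤ N ⊔ B) {t : X}
    (ht : t ∈ (T : Subgroup X))
    (hw : ∀ g ∈ N ⊔ B, g * t * g⁻¹ ∈ (T : Subgroup X) → g * t * g⁻¹ = t) : t = 1 := by
  set M := N ⊔ B with hM
  have hNM : N ≤ M := le_sup_left
  have hOM : oddCore ↥M = ⊥ := by
    haveI : (oddCore ↥M).Normal := pPrimeCore_normal 2 _
    have hodd : Odd (Nat.card (oddCore ↥M)) := (CfsgLib.Base.le_oddCore_iff.1 le_rfl)
    rw [eq_bot_iff]
    intro x hx
    have hcen : (x : X) ∈ centralizer (N : Set X) := by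
      have hL : (oddCore ↥M).comap (inclusion hNM) = ⊥ := by
        rw [eq_bot_iff, ← hO]
        refine CfsgLib.Base.le_oddCore (hodd.of_dvd_nat ?_)
        refine (Subgroup.card_comap_dvd_of_injective _ _ (inclusion_injective hNM))
      rw [mem_centralizer_iff]
      intro n hn
      have h1 : (inclusion hNM ⟨n, hn⟩) * x * (inclusion hNM ⟨n, hn⟩)⁻¹ * x⁻¹ ∈ oddCore ↥M :=
        mul_mem (Normal.conj_mem inferInstance x hx _) (inv_mem hx)
      have h2 : n * x * n⁻¹ * (x : X)⁻¹ ∈ N := by
        have := mul_mem hn (Normal.conj_mem (H := N) inferInstance n⁻¹ (inv_mem hn) x)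
        simpa [mul_assoc] using this
      have h3 : (⟨n * x * n⁻¹ * (x : X)⁻¹, h2⟩ : N) ∈ (oddCore ↥M).comap (inclusion hNM) := by
        rw [mem_comap]
        exact h1
      rw [hL, mem_bot] at h3
      have h4 : n * x * n⁻¹ * (x : X)⁻¹ = 1 := congrArg Subtype.val h3
      rwa [mul_inv_eq_one, mul_inv_eq_iff_eq_mul] at h4
    rw [hC, mem_bot] at hcen
    exact mem_bot.2 (Subtype.ext hcen)
  have hc := WeaklyClosedTwo.mem_center (T.subtype hT) hOM (t := ⟨t, hT ht⟩)
    (by rw [Sylow.coe_subtype, mem_subgroupOf]; exact ht) (by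
      intro g hg
      rw [Sylow.coe_subtype, mem_subgroupOf] at hg
      exact Subtype.ext (hw g g.2 hg))
  have h1 : t ∈ centralizer (N : Set X) := mem_centralizer_iff.2 fun n hn =>
    congrArg Subtype.val (mem_center_iff.1 hc ⟨n, hNM hn⟩)
  rwa [hC, mem_bot] at h1

/-- The centralizer of a Sylow 2-subgroup in a group covering `X/N` is solvable. -/
theorem isSolvable_of_centralizes_sylow (hFT : CfsgLib.FT.OddOrderThm.{u}) {N A : Subgroup X}
    [N.Normal] (hC : centralizer (N : Set X) = ⊥) (hO : oddCore ↥N = ⊥) (S : Sylow 2 N)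
    (hA : A ≤ centralizer (((S : Subgroup N).map N.subtype : Subgroup X) : Set X))
    (hgen : N ⊔ A = ⊤) : Group.IsSolvable A := by
  set S₀ := (S : Subgroup N).map N.subtype with hS₀
  obtain ⟨B₀⟩ : Nonempty (Sylow 2 A) := inferInstance
  set B := (B₀ : Subgroup A).map A.subtype with hB
  have hBA : B ≤ A := map_subtype_le _
  have hBS : B ≤ centralizer (S₀ : Set X) := hBA.trans hA
  have hp : IsPGroup 2 (S₀ ⊔ B : Subgroup X) :=
    (S.isPGroup'.map N.subtype).to_sup_of_normal_left' (B₀.isPGroup'.map A.subtype)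
      (hBS.trans (centralizer_le_normalizer _))
  obtain ⟨T, hT⟩ := hp.exists_le_sylow
  have hTN : (T : Subgroup X) ⊓ N = S₀ := by
    refine le_antisymm ?_ (le_inf (le_sup_left.trans hT) (map_subtype_le _))
    intro x hx
    have h1 : IsPGroup 2 (((T : Subgroup X)).subgroupOf N) := T.isPGroup'.comap_subtype
    have h2 := S.is_maximal' h1 (fun y hy => hT (mem_sup_left (mem_map_of_mem _ hy)))
    exact ⟨⟨x, hx.2⟩, h2.le (mem_subgroupOf.2 hx.1), rfl⟩
  have hTM : (T : Subgroup X) ≤ N ⊔ B := by
    set π := QuotientGroup.mk' N with hπ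
    have hsurj : Function.Surjective (π.comp A.subtype) := by
      intro q
      obtain ⟨g, rfl⟩ := QuotientGroup.mk'_surjective N q
      obtain ⟨n, hn, a, ha, rfl⟩ := mem_sup_of_normal_left.1 (hgen ▸ mem_top g)
      refine ⟨⟨a, ha⟩, ?_⟩
      change π a = π (n * a)
      rw [map_mul, show π n = 1 from (QuotientGroup.eq_one_iff n).2 hn, one_mul]
    have hle : B.map π ≤ (T : Subgroup X).map π := map_mono (le_sup_right.trans hT)
    have heq : (T : Subgroup X).map π = B.map π := by
      have he := Sylow.coe_mapSurjective (f := π.comp A.subtype) hsurj B₀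
      rw [← Subgroup.map_map] at he
      exact (Sylow.is_maximal' (B₀.mapSurjective hsurj) (T.isPGroup'.map π)
        (he.le.trans hle)).trans he
    intro x hx
    have h1 : π x ∈ B.map π := heq ▸ mem_map_of_mem π hx
    rw [← mem_comap, comap_map_eq, hπ, QuotientGroup.ker_mk'] at h1
    rwa [sup_comm]
  have D : Setup N B T := ⟨inferInstance, le_sup_right.trans hT, hTN ▸ hBS, hTM⟩
  -- `B` is abelian
  have hBp : IsPGroup 2 B := B₀.isPGroup'.map A.subtype
  have hBc : IsMulCommutative B := by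
    by_contra hna
    have hd : commutator ↥B ≠ ⊥ := fun h => hna ⟨⟨fun a b => by
      have : ⁅a, b⁆ ∈ commutator ↥B := commutator_mem_commutator (mem_top a) (mem_top b)
      rw [h, mem_bot] at this
      exact commutatorElement_eq_one_iff_commute.1 this⟩⟩
    obtain ⟨z, hz⟩ := (ne_bot_iff_exists_ne_one).1 (CfsgLib.PGroups.inf_center_ne_bot hBp hd)
    obtain ⟨hzd, hzc⟩ := mem_inf.1 z.2
    have hzd' : ((z : B) : X) ∈ ⁅B, B⁆ := by
      rw [← Subgroup.map_subtype_commutator]
      exact mem_map_of_mem _ hzd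
    have htc : ∀ b ∈ B, b * ((z : B) : X) = ((z : B) : X) * b := fun b hb =>
      congrArg Subtype.val (mem_center_iff.1 hzc ⟨b, hb⟩)
    refine hz (Subtype.ext (Subtype.ext ?_))
    exact eq_one_of_weaklyClosed hC hO T hTM (D.le (z : B).2)
      (fun g hgM hg => D.weaklyClosed_of_derived (z : B).2 htc hzd' g hgM hg)
  refine isSolvable_of_hasNormalTwoComplement hFT
    (CfsgLib.Transfer.hasNormalPComplement_of_normalizer_le_centralizer B₀ ?_)
  intro x hx
  haveI := hBc
  -- an element of odd order normalizing `B` centralizes it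
  have hodd : ∀ h ∈ normalizer ((B₀ : Subgroup A) : Set A), Nat.Coprime (orderOf h) 2 →
      h ∈ centralizer ((B₀ : Subgroup A) : Set A) := by
    intro h hn hh
    set y : X := (h : X) with hy
    have hy' : Nat.Coprime (orderOf y) 2 := by rwa [hy, Subgroup.orderOf_coe]
    have hyB : zpowers y ≤ normalizer (B : Set X) := by
      rw [zpowers_le, mem_normalizer_iff]
      intro b
      constructor
      · rintro ⟨b₀, hb₀, rfl⟩
        exact ⟨h * b₀ * h⁻¹, (mem_normalizer_iff.1 hn b₀).1 hb₀, by simp [hy]⟩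
      · rintro ⟨b₀, hb₀, hbe⟩
        refine ⟨h⁻¹ * b₀ * h, (mem_normalizer_iff''.1 hn b₀).1 hb₀, ?_⟩
        change A.subtype (h⁻¹ * b₀ * h) = b
        rw [map_mul, map_mul, map_inv, hbe]
        simp [hy, mul_assoc]
    have hcop : (Nat.card (zpowers y)).Coprime (Nat.card B) := by
      obtain ⟨k, hk⟩ := IsPGroup.iff_card.1 hBp
      rw [Nat.card_zpowers, hk]
      exact hy'.pow_right k
    have hsol : Group.IsSolvable (zpowers y) ∨ Group.IsSolvable B :=
      Or.inl inferInstance
    set V := ⁅B, zpowers y⁆ with hV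
    have hVB : V ≤ B := CfsgLib.Coprime.commutator_le_of_le_normalizer hyB
    have hVV : ⁅V, zpowers y⁆ = V := CfsgLib.Coprime.commutator_commutator_eq hyB hcop hsol
    have hV1 : ∀ v ∈ V, v = 1 := fun v hv =>
      eq_one_of_weaklyClosed hC hO T hTM (D.le (hVB hv)) (fun g hgM hg =>
        D.weaklyClosed_of_commutator hBc hVB (h := y)
          (fun s hs => (mem_centralizer_iff.1 (hA h.2) s (hTN ▸ hs)).symm)
          (fun b hb => (mem_normalizer_iff''.1 (hyB (mem_zpowers y)) b).1 hb)
          (Subgroup.normalizer_commutator_ge_right B (zpowers y)) hVV hv g hgM hg)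
    rw [mem_centralizer_iff]
    intro b hb
    apply Subtype.ext
    have h1 : ⁅(b : X), y⁆ = 1 :=
      hV1 _ (commutator_mem_commutator (mem_map_of_mem A.subtype hb) (mem_zpowers y))
    exact commutatorElement_eq_one_iff_mul_comm.1 h1
  obtain ⟨a, ha, b, hb, rfl, ⟨k, hk⟩, hb2⟩ := CfsgLib.Transfer.exists_pPart_mul (p := 2) x
  refine mul_mem ?_ (hodd b (zpowers_le.2 hx hb) hb2)
  have haN := zpowers_le.2 hx ha
  have hap : IsPGroup 2 (zpowers a) := by
    obtain ⟨j, -, hj⟩ := (Nat.dvd_prime_pow Nat.prime_two).1 hk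
    exact IsPGroup.of_card (n := j) (by rw [Nat.card_zpowers, hj])
  have h1 := B₀.is_maximal' (hap.to_sup_of_normal_right' B₀.isPGroup' (zpowers_le.2 haN))
    le_sup_right
  have haB : a ∈ (B₀ : Subgroup A) := h1 ▸ mem_sup_left (mem_zpowers a)
  rw [mem_centralizer_iff]
  intro b' hb'
  apply Subtype.ext
  have h2 : (⟨_, mem_map_of_mem A.subtype hb'⟩ : B) * ⟨_, mem_map_of_mem A.subtype haB⟩ =
      ⟨_, mem_map_of_mem A.subtype haB⟩ * ⟨_, mem_map_of_mem A.subtype hb'⟩ :=
    hBc.is_comm.comm _ _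
  exact congrArg B.subtype h2

end CfsgLib.Involutions.CentralizedSylow
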