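import Cfsg.Agent.Lib.Involutions.CentricFusion

/-!
# Fusion invariants of subsets of a Sylow subgroup
-/

set_option autoImplicit false
set_option linter.style.haveILetI false

namespace CfsgLib.Involutions

open Subgroup

variable {G : Type*} [Group G] [Finite G] {p : ℕ} [Fact p.Prime]

/-- A property of subsets of `P` invariant under `P` and under the elements of order prime to `p`
normalizing self-centralizing subgroups of `P` is a fusion invariant. -/
theorem fusion_invariant_set (P : Sylow p G) {Φ : Set G → Prop}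
    (hP : ∀ k ∈ (P : Subgroup G), ∀ A ⊆ ((P : Subgroup G) : Set G), Φ A →
      Φ ((fun a => k * a * k⁻¹) '' A))
    (hloc : ∀ D : Subgroup G, CentricIn D (P : Subgroup G) → ∀ y ∈ normalizer (D : Set G),
      Nat.Coprime (orderOf y) p → ∀ A ⊆ (D : Set G), Φ A → Φ ((fun a => y * a * y⁻¹) '' A))
    {A : Set G} (hA : A ⊆ ((P : Subgroup G) : Set G)) {g : G}
    (hg : ∀ a ∈ A, g * a * g⁻¹ ∈ (P : Subgroup G)) (h : Φ A) :
    Φ ((fun a => g * a * g⁻¹) '' A) := by
  have key : ∀ (A : Set G) (g : G), Transfer.FusionChain P A g → Φ A →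
      Φ ((fun a => g⁻¹ * a * g) '' A) := by
    intro A g hch
    induction hch with
    | nil A => exact fun h => by simpa using h
    | @cons A g Q x hxN hP' hQ hA _ ih =>
      intro hΦ
      rw [show (fun a => (x * g)⁻¹ * a * (x * g)) =
        (fun a => g⁻¹ * a * g) ∘ (fun a => x⁻¹ * a * x) from funext fun a => by
          simp only [Function.comp_apply]; group, Set.image_comp]
      refine ih ?_
      set D : Subgroup G := (P : Subgroup G) ⊓ (Q : Subgroup G) with hD
      let N : Subgroup G := normalizer (D : Set G)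
      let S : Sylow p N :=
        ((P.2.to_le (inf_le_left : (P : Subgroup G) ⊓ N ≤ _)).comap_subtype (K := N)).toSylow hP'
      have h1 : ∀ e : G, e ∈ N → Nat.Coprime (orderOf e) p → ∀ B ⊆ (D : Set G), Φ B →
          Φ ((fun a => e * a * e⁻¹) '' B) := by
        intro e he hep B hB hΦB
        obtain ⟨D', hle, hcen, y, hyN, hyp, hact⟩ := exists_centric P inf_le_left hP' he hep
        rw [← Set.image_congr fun d hd => hact d (hB hd)]
        exact hloc D' hcen y hyN hyp B (fun b hb => hle (hB hb)) hΦB
      have hres : ∀ c ∈ Cfsg.pResidual p N, ∀ B ⊆ (D : Set G), Φ B →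
          Φ ((fun a => (c : G) * a * (c : G)⁻¹) '' B) := by
        intro c hc
        induction hc using closure_induction'' with
        | mem c hc => exact h1 c c.2 (by rwa [Subgroup.orderOf_coe])
        | inv_mem c hc =>
          exact h1 (c⁻¹ : N) (c⁻¹).2 (by rwa [Subgroup.orderOf_coe, orderOf_inv])
        | one => intro B _ h; simpa using h
        | mul c e _ _ h1 h2 =>
          intro B hB h
          have h3 := h1 ((fun a => (e : G) * a * (e : G)⁻¹) '' B)
            (fun _ ⟨b, hb, hbe⟩ => hbe ▸ (mem_normalizer_iff.1 e.2 b).1 (hB hb)) (h2 B hB h)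
          rw [Set.image_image] at h3
          rwa [Set.image_congr fun b _ => show ((c * e : N) : G) * b * ((c * e : N) : G)⁻¹
            = (c : G) * ((e : G) * b * (e : G)⁻¹) * (c : G)⁻¹ by push_cast; group]
      have := Transfer.pResidual_normal (G := N) (p := p)
      obtain ⟨u, hu, c, hc, huc⟩ := mem_sup_of_normal_right.1
        ((Transfer.sup_pResidual_eq_top S).symm ▸ mem_top ((⟨x, hxN⟩ : N)⁻¹) :
          (⟨x, hxN⟩ : N)⁻¹ ∈ (S : Subgroup N) ⊔ Cfsg.pResidual p N)
      have hxe : x⁻¹ = (u : G) * (c : G) := by rw [← Subgroup.coe_mul, huc]; rfl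
      have huP : (u : G) ∈ (P : Subgroup G) := (mem_subgroupOf.1 hu).1
      have h2 := hP _ huP ((fun a => (c : G) * a * (c : G)⁻¹) '' A)
        (fun _ ⟨a, ha, hac⟩ => hac ▸ ((mem_normalizer_iff.1 c.2 a).1 (hA ha)).1)
        (hres c hc A hA hΦ)
      rw [Set.image_image] at h2
      rwa [Set.image_congr fun a _ => show x⁻¹ * a * x
        = (u : G) * ((c : G) * a * (c : G)⁻¹) * (u : G)⁻¹ by rw [← inv_inv x, hxe]; group]
  simpa using key _ _ (Transfer.fusionChain P (A := A) (g := g⁻¹) hA
    (fun a ha => by simpa using hg a ha)) h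

end CfsgLib.Involutions
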