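import Cfsg.Agent.Lib.Base.Cores

/-!
# Conjugation invariant sets of subgroups of order `p` closed on commuting lines

Such a set has a member commuting with all the others.
-/

set_option autoImplicit false

open Subgroup

namespace CfsgLib.Involutions

variable {G : Type*} [Group G] [Finite G]

theorem zpowers_eq_of_mem_prime {p : ℕ} (hp : p.Prime) {g k : G} (hg : orderOf g = p)
    (hk : k ∈ zpowers g) (hk1 : k ≠ 1) : zpowers k = zpowers g := by
  refine eq_of_le_of_card_ge (zpowers_le.mpr hk) ?_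
  have hd := Subgroup.orderOf_dvd_natCard _ hk
  rw [Nat.card_zpowers, hg] at hd
  rw [Nat.card_zpowers, Nat.card_zpowers, hg,
    (hp.eq_one_or_self_of_dvd _ hd).resolve_left fun h => hk1 (orderOf_eq_one_iff.mp h)]

/-- An element of prime order normalising a subgroup of the same prime order centralises it. -/
theorem commute_of_conj_mem {p : ℕ} (hp : p.Prime) {u x : G} (hu : orderOf u = p)
    (hx : orderOf x = p) (h : x * u * x⁻¹ ∈ zpowers u) : Commute x u := by
  haveI : Fact p.Prime := ⟨hp⟩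
  obtain ⟨i, hi⟩ := mem_powers_iff_mem_zpowers.mpr h
  simp only at hi
  have hn : ∀ n : ℕ, x ^ n * u * (x ^ n)⁻¹ = u ^ (i ^ n) := by
    intro n
    induction n with
    | zero => simp
    | succ n ih =>
      calc x ^ (n + 1) * u * (x ^ (n + 1))⁻¹ = x * (x ^ n * u * (x ^ n)⁻¹) * x⁻¹ := by
            rw [pow_succ']; group
        _ = _ := by rw [ih, ← conj_pow, ← hi, ← pow_mul, ← pow_succ']
  have h1 : u ^ (i ^ p) = u ^ 1 := by
    rw [← hn p, pow_one, ← hx, pow_orderOf_eq_one]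
    group
  have h2 : (i ^ p : ℕ) ≡ i [MOD p] := by
    rw [← ZMod.natCast_eq_natCast_iff, Nat.cast_pow, ZMod.pow_card]
  have h3 : u ^ i = u ^ 1 := by
    rw [← h1]
    exact pow_eq_pow_iff_modEq.mpr (by rw [hu]; exact h2.symm)
  rw [pow_one] at h3
  show x * u = u * x
  rw [← mul_inv_eq_iff_eq_mul, ← hi, h3]

/-- A member `g` of `K`, as an element. -/
def KEl (K : Set (Subgroup G)) (g : G) : Prop := g ≠ 1 ∧ zpowers g ∈ K

/-- The members commuting with `g`. -/
def kPerp (K : Set (Subgroup G)) (g : G) : Set G := {k | KEl K k ∧ Commute g k}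

theorem exists_universal {p : ℕ} (hp : p.Prime) {K : Set (Subgroup G)}
    (hK : ∀ X ∈ K, Nat.card ↥X = p)
    (hKc : ∀ X ∈ K, ∀ g : G, X.map (MulAut.conj g).toMonoidHom ∈ K)
    (hex : ∃ X ∈ K, ∃ Y ∈ K, X ≠ Y ∧ ∀ x ∈ X, ∀ y ∈ Y, x * y = y * x)
    (ha : ∀ X ∈ K, ∀ Y ∈ K, X ≠ Y → (∀ x ∈ X, ∀ y ∈ Y, x * y = y * x) →
      ∀ Z : Subgroup G, Z ≤ X ⊔ Y → Nat.card ↥Z = p → Z ∈ K)
    (hb : ∀ X ∈ K, ∀ Y ∈ K, X ≠ Y → (∀ x ∈ X, ∀ y ∈ Y, x * y = y * x) →
      ∀ W ∈ K, (X ⊔ Y) ⊓ Subgroup.centralizer (W : Set G) ≠ ⊥) :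
    ∃ v : G, KEl K v ∧ ∀ w : G, KEl K w → Commute v w := by
  classical
  haveI : Fact p.Prime := ⟨hp⟩
  have hord : ∀ g, KEl K g → orderOf g = p := fun g hg => by
    rw [← Nat.card_zpowers, hK _ hg.2]
  have hgen : ∀ g k, KEl K g → k ∈ zpowers g → k ≠ 1 → KEl K k := fun g k hg hk hk1 =>
    ⟨hk1, zpowers_eq_of_mem_prime hp (hord g hg) hk hk1 ▸ hg.2⟩
  have hconj : ∀ g x, KEl K g → KEl K (x * g * x⁻¹) := fun g x hg =>
    ⟨fun h => hg.1 (conj_eq_one_iff.mp h), by
      rw [show zpowers (x * g * x⁻¹) = (zpowers g).map (MulAut.conj x).toMonoidHom by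
        rw [MonoidHom.map_zpowers]; rfl]
      exact hKc _ hg.2 x⟩
  have hcz : ∀ g h : G, Commute g h → ∀ x ∈ zpowers g, ∀ y ∈ zpowers h, x * y = y * x := by
    rintro g h hc _ ⟨i, rfl⟩ _ ⟨j, rfl⟩
    exact (hc.zpow_zpow i j).eq
  have hmem : ∀ g h : G, Commute g h → ∀ k ∈ zpowers g ⊔ zpowers h,
      ∃ i j : ℤ, k = g ^ i * h ^ j := by
    intro g h hc k hk
    rw [zpowers_eq_closure, zpowers_eq_closure, ← Subgroup.closure_union] at hk
    induction hk using closure_induction with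
    | mem x hx =>
      rcases hx with hx | hx <;> rw [Set.mem_singleton_iff] at hx <;> subst hx
      · exact ⟨1, 0, by simp⟩
      · exact ⟨0, 1, by simp⟩
    | one => exact ⟨0, 0, by simp⟩
    | mul x y _ _ hx hy =>
      obtain ⟨i, j, rfl⟩ := hx
      obtain ⟨i', j', rfl⟩ := hy
      refine ⟨i + i', j + j', ?_⟩
      rw [zpow_add, zpow_add]
      exact (hc.zpow_zpow i' j).symm.mul_mul_mul_comm _ _
    | inv x _ hx =>
      obtain ⟨i, j, rfl⟩ := hx
      refine ⟨-i, -j, ?_⟩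
      rw [mul_inv_rev, ← zpow_neg, ← zpow_neg, (hc.zpow_zpow (-i) (-j)).eq]
  have hline : ∀ g h, KEl K g → KEl K h → Commute g h → g ∉ zpowers h → ∀ i : ℕ,
      KEl K (g * h ^ i) := by
    intro g h hg hh hc hne i
    have h1 : g * h ^ i ≠ 1 := fun e => hne (by
      rw [mul_eq_one_iff_eq_inv] at e
      rw [e]; exact inv_mem (pow_mem (mem_zpowers h) i))
    have hle : g * h ^ i ∈ zpowers g ⊔ zpowers h :=
      mul_mem (mem_sup_left (mem_zpowers g)) (mem_sup_right (pow_mem (mem_zpowers h) i))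
    refine ⟨h1, ha _ hg.2 _ hh.2 (fun e => hne (e ▸ mem_zpowers g)) (hcz g h hc) _
      (zpowers_le.mpr hle) ?_⟩
    rw [Nat.card_zpowers]
    refine orderOf_eq_prime ?_ h1
    rw [(hc.pow_right i).mul_pow, ← pow_mul, mul_comm i p, pow_mul, ← hord g hg,
      pow_orderOf_eq_one, hord g hg, ← hord h hh, pow_orderOf_eq_one, one_pow, one_mul]
  have hB : ∀ g h w, KEl K g → KEl K h → Commute g h → g ∉ zpowers h → KEl K w →
      Commute h w ∨ ∃ c : ℕ, Commute (g * h ^ c) w := by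
    intro g h w hg hh hc hne hw
    obtain ⟨⟨k, hkA⟩, hk1'⟩ := Subgroup.ne_bot_iff_exists_ne_one.mp
      (hb _ hg.2 _ hh.2 (fun e => hne (e ▸ mem_zpowers g)) (hcz g h hc) _ hw.2)
    obtain ⟨hk, hkw⟩ := mem_inf.mp hkA
    have hk1 : k ≠ 1 := fun e => hk1' (Subtype.ext e)
    have hkw' : Commute k w := (mem_centralizer_iff.mp hkw w (mem_zpowers w)).symm
    obtain ⟨i, j, rfl⟩ := hmem g h hc k hk
    by_cases hi : g ^ i = 1
    · rw [hi, one_mul] at hkw' hk1
      left
      have hh' : h ∈ zpowers (h ^ j) := by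
        rw [zpowers_eq_of_mem_prime hp (hord h hh) (zpow_mem (mem_zpowers h) j) hk1]
        exact mem_zpowers h
      obtain ⟨l, hl⟩ := hh'
      rw [← hl]
      exact hkw'.zpow_left l
    · right
      have hg' : g ∈ zpowers (g ^ i) := by
        rw [zpowers_eq_of_mem_prime hp (hord g hg) (zpow_mem (mem_zpowers g) i) hi]
        exact mem_zpowers g
      obtain ⟨e, he⟩ := hg'
      obtain ⟨c, hc'⟩ := mem_powers_iff_mem_zpowers.mpr (zpow_mem (mem_zpowers h) (j * e))
      refine ⟨c, ?_⟩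
      rw [show g * h ^ c = (g ^ i * h ^ j) ^ e by
        rw [(hc.zpow_zpow i j).mul_zpow, ← zpow_mul h]
        exact congrArg₂ (· * ·) he.symm hc']
      exact hkw'.zpow_left e
  by_contra hno
  push Not at hno
  -- choose `u` with most commuting members
  obtain ⟨X, hX, Y, hY, hXY, hXYc⟩ := hex
  obtain ⟨g₀, hg₀, h₀, hh₀, hc₀, hn₀⟩ : ∃ g, KEl K g ∧ ∃ h, KEl K h ∧ Commute g h ∧
      g ∉ zpowers h := by
    have hgenX : ∀ X ∈ K, ∃ g, KEl K g ∧ zpowers g = X := by
      intro X hX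
      have hXne : X ≠ ⊥ := fun e => hp.ne_one (by rw [← hK X hX, e, card_bot])
      obtain ⟨⟨g, hg⟩, hg1⟩ := Subgroup.ne_bot_iff_exists_ne_one.mp hXne
      have hg1' : g ≠ 1 := fun e => hg1 (Subtype.ext e)
      have : zpowers g = X := by
        refine eq_of_le_of_card_ge (zpowers_le.mpr hg) ?_
        rw [Nat.card_zpowers, hK X hX]
        have hd := Subgroup.orderOf_dvd_natCard X hg
        rw [hK X hX] at hd
        exact ((hp.eq_one_or_self_of_dvd _ hd).resolve_left
          fun h => hg1' (orderOf_eq_one_iff.mp h)).ge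
      exact ⟨g, ⟨hg1', this ▸ hX⟩, this⟩
    obtain ⟨g, hg, hgX⟩ := hgenX X hX
    obtain ⟨h, hh, hhY⟩ := hgenX Y hY
    refine ⟨g, hg, h, hh, hXYc g (hgX ▸ mem_zpowers g) h (hhY ▸ mem_zpowers h), fun e => hXY ?_⟩
    rw [← hgX, ← hhY, zpowers_eq_of_mem_prime hp (hord h hh) e hg.1]
  obtain ⟨u, hu, hmax⟩ := Set.exists_max_image {k | KEl K k} (fun k => (kPerp K k).ncard)
    (Set.toFinite _) ⟨g₀, hg₀⟩
  obtain ⟨x, hx, hux⟩ := hno u hu
  -- anything commuting with at least the partners of `u` and with `x` contradicts maximality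
  have hmaxc : ∀ r, KEl K r → (∀ s, KEl K s → Commute u s → Commute r s) → Commute r x →
      False := by
    intro r hr hsub hrx
    refine absurd (hmax r hr) (not_le.mpr ?_)
    refine Set.ncard_lt_ncard ⟨fun s hs => ⟨hs.1, hsub s hs.1 hs.2⟩, fun h => ?_⟩ (Set.toFinite _)
    exact hux (h ⟨hx, hrx⟩).2
  -- a neighbour of `u` commuting with `x`
  obtain ⟨v, hv, hvu, hvn⟩ : ∃ v, KEl K v ∧ Commute v u ∧ v ∉ zpowers u := by
    rcases hB g₀ h₀ u hg₀ hh₀ hc₀ hn₀ hu with h | ⟨c, h⟩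
    · by_cases hm : h₀ ∈ zpowers u
      · refine ⟨g₀, hg₀, ?_, fun hg => hn₀ ?_⟩
        · have e := zpowers_eq_of_mem_prime hp (hord u hu) hm hh₀.1
          obtain ⟨l, hl⟩ : u ∈ zpowers h₀ := e ▸ mem_zpowers u
          rw [← hl]; exact hc₀.zpow_right l
        · rw [zpowers_eq_of_mem_prime hp (hord u hu) hm hh₀.1]; exact hg
      · exact ⟨h₀, hh₀, h, hm⟩
    · have hk := hline g₀ h₀ hg₀ hh₀ hc₀ hn₀ c
      by_cases hm : g₀ * h₀ ^ c ∈ zpowers u
      · have e := zpowers_eq_of_mem_prime hp (hord u hu) hm hk.1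
        refine ⟨h₀, hh₀, ?_, fun hh => hn₀ ?_⟩
        · obtain ⟨l, hl⟩ : u ∈ zpowers (g₀ * h₀ ^ c) := e ▸ mem_zpowers u
          rw [← hl]
          exact (hc₀.symm.mul_right ((Commute.refl h₀).pow_right c)).zpow_right l
        · have e' := zpowers_eq_of_mem_prime hp (hord u hu) hh hh₀.1
          have := mul_mem hm (inv_mem (pow_mem hh c))
          rw [mul_inv_cancel_right] at this
          rw [e']; exact this
      · exact ⟨_, hk, h, hm⟩
  obtain ⟨z, hz, hzu, hzx, hzn⟩ : ∃ z, KEl K z ∧ Commute z u ∧ Commute z x ∧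
      x ∉ zpowers z := by
    rcases hB v u x hv hu hvu hvn hx with h | ⟨c, h⟩
    · exact absurd h hux
    · refine ⟨_, hline v u hv hu hvu hvn c, hvu.mul_left ((Commute.refl u).pow_left c), h,
        fun ⟨l, hl⟩ => hux ?_⟩
      rw [← hl]
      exact ((hvu.mul_left ((Commute.refl u).pow_left c)).zpow_left l).symm
  set u' := x * u * x⁻¹ with hu'
  have hu'K : KEl K u' := hconj u x hu
  have hu'n : u' ∉ zpowers u := fun h =>
    hux (commute_of_conj_mem hp (hord u hu) (hord x hx) h).symm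
  have hL : ∀ s, KEl K s → Commute s z ∨ ∃ c : ℕ, Commute (x * z ^ c) s := fun s hs =>
    (hB x z s hx hz hzx.symm hzn hs).imp (fun h => h.symm) id
  have hut : ∀ c : ℕ, u' = (x * z ^ c) * u * (x * z ^ c)⁻¹ := fun c => by
    have h : z ^ c * u * (z ^ c)⁻¹ = u := by rw [(hzu.pow_left c).eq, mul_inv_cancel_right]
    calc u' = x * (z ^ c * u * (z ^ c)⁻¹) * x⁻¹ := by rw [h]
      _ = _ := by group
  have hst : ∀ s c, Commute u s → Commute (x * z ^ c) s → Commute u' s := by
    intro s c hus hts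
    rw [hut c]
    exact (hts.mul_left hus).mul_left hts.inv_left
  -- `s` times a power of `u` commutes with `x * z ^ c`
  have hP : ∀ s, KEl K s → Commute u s → s ∉ zpowers u → ∀ c : ℕ, ∃ d : ℕ,
      Commute (s * u ^ d) (x * z ^ c) := by
    intro s hs hus hsu c
    rcases hB s u (x * z ^ c) hs hu hus.symm hsu
      (hline x z hx hz hzx.symm hzn c) with h | h
    · refine absurd ?_ hux
      have := h.mul_right (hzu.pow_left c).symm.inv_right
      rwa [mul_inv_cancel_right] at this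
    · exact h
  by_cases huu : Commute u u'
  · have hsub : ∀ s, KEl K s → Commute u s → Commute u' s := by
      intro s hs hus
      by_cases hsu : s ∈ zpowers u
      · obtain ⟨l, rfl⟩ := hsu
        exact huu.symm.zpow_right l
      obtain ⟨d, hd⟩ := hP s hs hus hsu 0
      have h1 := hst _ 0 (hus.mul_right ((Commute.refl u).pow_right d)) hd.symm
      have := h1.mul_right (huu.symm.pow_right d).inv_right
      rwa [mul_inv_cancel_right] at this
    rcases hB u' u x hu'K hu huu.symm hu'n hx with h | ⟨c, h⟩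
    · exact hux h
    · exact hmaxc _ (hline u' u hu'K hu huu.symm hu'n c)
        (fun s hs hus => (hsub s hs hus).mul_left (hus.pow_left c)) h
  · have hall : ∀ s, KEl K s → Commute u s → ∀ c c' : ℕ, Commute (x * z ^ c) s →
        Commute (x * z ^ c') s := by
      intro s hs hus c c' hts
      by_cases hsu : s ∈ zpowers u
      · exfalso
        refine hux ?_
        obtain ⟨l, hl⟩ : u ∈ zpowers s :=
          zpowers_eq_of_mem_prime hp (hord u hu) hsu hs.1 ▸ mem_zpowers u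
        have h1 : Commute u (x * z ^ c) := by rw [← hl]; exact (hts.symm.zpow_left l)
        have := h1.mul_right (hzu.pow_left c).symm.inv_right
        rwa [mul_inv_cancel_right] at this
      obtain ⟨d, hd⟩ := hP s hs hus hsu c'
      have h1 := hst _ c' (hus.mul_right ((Commute.refl u).pow_right d)) hd.symm
      have h2 := (hst s c hus hts).inv_right.mul_right h1
      rw [inv_mul_cancel_left] at h2
      by_cases hd1 : u ^ d = 1
      · rw [hd1, mul_one] at hd; exact hd.symm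
      exfalso
      obtain ⟨l, hl⟩ : u ∈ zpowers (u ^ d) :=
        zpowers_eq_of_mem_prime hp (hord u hu) (pow_mem (mem_zpowers u) d) hd1 ▸ mem_zpowers u
      exact huu (by nth_rw 1 [← hl]; exact (h2.zpow_right l).symm)
    refine hmaxc z hz (fun s hs hus => ?_) hzx
    rcases hL s hs with h | ⟨c, h⟩
    · exact h.symm
    · have h1 := (hall s hs hus c 0 h).inv_left.mul_left (hall s hs hus c 1 h)
      rw [pow_zero, mul_one, pow_one, inv_mul_cancel_left] at h1
      exact h1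

theorem closed_set_main {p : ℕ} (hp : p.Prime) (K : Set (Subgroup G))
    (hK : ∀ X ∈ K, Nat.card ↥X = p)
    (hKc : ∀ X ∈ K, ∀ g : G, X.map (MulAut.conj g).toMonoidHom ∈ K)
    (hex : ∃ X ∈ K, ∃ Y ∈ K, X ≠ Y ∧ ∀ x ∈ X, ∀ y ∈ Y, x * y = y * x)
    (ha : ∀ X ∈ K, ∀ Y ∈ K, X ≠ Y → (∀ x ∈ X, ∀ y ∈ Y, x * y = y * x) →
      ∀ Z : Subgroup G, Z ≤ X ⊔ Y → Nat.card ↥Z = p → Z ∈ K)
    (hb : ∀ X ∈ K, ∀ Y ∈ K, X ≠ Y → (∀ x ∈ X, ∀ y ∈ Y, x * y = y * x) →
      ∀ W ∈ K, (X ⊔ Y) ⊓ Subgroup.centralizer (W : Set G) ≠ ⊥) :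
    (∃ V ∈ K, (∀ W ∈ K, ∀ v ∈ V, ∀ w ∈ W, v * w = w * v) ∧ V ≤ Cfsg.pCore p G) ∧
      ¬ IsSimpleGroup G := by
  haveI : Fact p.Prime := ⟨hp⟩
  obtain ⟨v, hv, hvall⟩ := exists_universal hp hK hKc hex ha hb
  have hall : ∀ W ∈ K, ∀ w ∈ W, Commute v w := by
    intro W hW w hw
    by_cases hw1 : w = 1
    · rw [hw1]; exact Commute.one_right v
    refine hvall w ⟨hw1, ?_⟩
    have : zpowers w = W := by
      refine eq_of_le_of_card_ge (zpowers_le.mpr hw) ?_
      have hd := Subgroup.orderOf_dvd_natCard W hw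
      rw [hK W hW] at hd
      rw [Nat.card_zpowers, hK W hW,
        (hp.eq_one_or_self_of_dvd _ hd).resolve_left fun h => hw1 (orderOf_eq_one_iff.mp h)]
    rw [this]; exact hW
  have hconj : ∀ g : G, zpowers (g * v * g⁻¹) ∈ K := fun g => by
    rw [show zpowers (g * v * g⁻¹) = (zpowers v).map (MulAut.conj g).toMonoidHom by
      rw [MonoidHom.map_zpowers]; rfl]
    exact hKc _ hv.2 g
  set N := normalClosure ({v} : Set G) with hN
  have hvN : v ∈ N := subset_normalClosure (Set.mem_singleton v)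
  have hcomm : ∀ a ∈ N, ∀ b ∈ N, Commute a b := by
    have hS : ∀ a ∈ Group.conjugatesOfSet ({v} : Set G), ∀ b ∈ Group.conjugatesOfSet ({v} : Set G),
        Commute a b := by
      intro a ha b hb'
      obtain ⟨w, hw, ha⟩ := Group.mem_conjugatesOfSet_iff.mp ha
      rw [Set.mem_singleton_iff.mp hw] at ha
      obtain ⟨w', hw', hb'⟩ := Group.mem_conjugatesOfSet_iff.mp hb'
      rw [Set.mem_singleton_iff.mp hw'] at hb'
      obtain ⟨g, rfl⟩ := isConj_iff.mp ha
      obtain ⟨k, rfl⟩ := isConj_iff.mp hb'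
      have h := hall _ (hconj (g⁻¹ * k)) _ (mem_zpowers _)
      have h' := h.map (MulAut.conj g).toMonoidHom
      simp only [MulEquiv.coe_toMonoidHom, MulAut.conj_apply] at h'
      rwa [show g * (g⁻¹ * k * v * (g⁻¹ * k)⁻¹) * g⁻¹ = k * v * k⁻¹ by group] at h'
    intro a ha b hb'
    have h1 : closure (Group.conjugatesOfSet ({v} : Set G)) ≤
        centralizer (Group.conjugatesOfSet ({v} : Set G)) := by
      rw [closure_le]
      exact fun a ha => mem_centralizer_iff.mpr fun b hb' => hS b hb' a ha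
    rw [← centralizer_closure] at h1
    exact (mem_centralizer_iff.mp (h1 ha) b hb').symm
  have hpN : IsPGroup p N := by
    intro a
    refine ⟨1, Subtype.ext ?_⟩
    rw [pow_one, Subgroup.coe_pow, Subgroup.coe_one]
    obtain ⟨a, ha⟩ := a
    show a ^ p = 1
    induction ha using closure_induction with
    | mem x hx =>
      obtain ⟨w, hw, hx⟩ := Group.mem_conjugatesOfSet_iff.mp hx
      rw [Set.mem_singleton_iff.mp hw] at hx
      obtain ⟨g, rfl⟩ := isConj_iff.mp hx
      rw [conj_pow, ← hK _ hv.2, Nat.card_zpowers, pow_orderOf_eq_one, mul_one, mul_inv_cancel]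
    | one => exact one_pow p
    | mul x y hx hy ihx ihy => rw [(hcomm x hx y hy).mul_pow, ihx, ihy, one_mul]
    | inv x _ ih => rw [inv_pow, ih, inv_one]
  refine ⟨⟨zpowers v, hv.2, fun W hW a ha b hb' => ?_,
    zpowers_le.mpr (CfsgLib.Base.le_pCore hpN hvN)⟩, fun hs => ?_⟩
  · obtain ⟨l, rfl⟩ := ha
    exact ((hall W hW b hb').zpow_left l).eq
  · have hNtop : N = ⊤ := (hs.eq_bot_or_eq_top_of_normal N inferInstance).resolve_left
      fun e => hv.1 (mem_bot.mp (e ▸ hvN))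
    have hab : ∀ a b : G, a * b = b * a := fun a b =>
      (hcomm a (hNtop ▸ mem_top a) b (hNtop ▸ mem_top b)).eq
    obtain ⟨X, hX, Y, hY, hXY, -⟩ := hex
    have htop : ∀ X ∈ K, X = ⊤ := fun X hX => by
      refine (hs.eq_bot_or_eq_top_of_normal X ⟨fun n hn g => ?_⟩).resolve_left fun e =>
        hp.ne_one (by rw [← hK X hX, e, card_bot])
      rwa [hab g n, mul_inv_cancel_right]
    exact hXY ((htop X hX).trans (htop Y hY).symm)

end CfsgLib.Involutions
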