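import Cfsg.Agent.Lib.Involutions.CentralizedSylow
import Cfsg.Agent.Lib.Base.Cores
import Cfsg.Agent.Lib.Base.Transport

/-!
`G = Q N` with `Q` a 2-group meeting `N` trivially and `C_N(Q) = C_N(t)` for some
`t ∈ Z(Q) ∩ Q'`: then `[N, Q]` has odd order.
-/

set_option autoImplicit false
set_option linter.style.haveILetI false
set_option linter.unusedSectionVars false

universe u

namespace CfsgLib.Involutions.CentralizedSylow

open Cfsg Subgroup
open scoped commutatorElement Pointwise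

variable {G : Type u} [Group G] [Finite G]

/-- `[N, Q]` has odd order. -/
theorem odd_card_commutator (N Q : Subgroup G) [hN : N.Normal] (hG : Q ⊔ N = ⊤)
    (hQ : IsPGroup 2 Q) (hdisj : Q ⊓ N = ⊥) (t : G)
    (htZ : t ∈ Q ⊓ centralizer (Q : Set G)) (htQ : t ∈ ⁅Q, Q⁆)
    (hC : N ⊓ centralizer (Q : Set G) = N ⊓ centralizer ({t} : Set G)) :
    Odd (Nat.card ↥⁅N, Q⁆) := by
  obtain ⟨htq, htc'⟩ := mem_inf.1 htZ
  have htc : ∀ b ∈ Q, b * t = t * b := fun b hb => mem_centralizer_iff.1 htc' b hb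
  set C := N ⊓ centralizer (Q : Set G) with hCdef
  obtain ⟨T₀s⟩ : Nonempty (Sylow 2 C) := inferInstance
  set T₀ := (T₀s : Subgroup C).map C.subtype with hT₀
  have hT₀C : T₀ ≤ C := map_subtype_le _
  have hT₀c : ∀ c ∈ T₀, ∀ b ∈ Q, c * b = b * c := fun c hc b hb =>
    (mem_centralizer_iff.1 (mem_inf.1 (hT₀C hc)).2 b hb).symm
  have hT₀Q : Q ≤ normalizer (T₀ : Set G) := fun b hb =>
    centralizer_le_normalizer _ (mem_centralizer_iff.2 fun c hc => hT₀c c hc b hb)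
  have hTp : IsPGroup 2 (T₀ ⊔ Q : Subgroup G) :=
    (T₀s.isPGroup'.map C.subtype).to_sup_of_normal_left' hQ hT₀Q
  obtain ⟨T, hT⟩ := hTp.exists_le_sylow
  have hfac : ∀ g : G, ∃ b ∈ Q, ∃ n ∈ N, b * n = g := fun g =>
    mem_sup_of_normal_right.1 (hG ▸ mem_top g)
  have hTN' : (T₀ ⊔ Q) ⊓ N = T₀ := by
    refine le_antisymm ?_ (le_inf le_sup_left (hT₀C.trans inf_le_left))
    rintro x ⟨hx, hxN⟩
    have hx' : x ∈ (T₀ : Set G) * (Q : Set G) := by
      rw [← coe_mul_of_right_le_normalizer_left T₀ Q hT₀Q]; exact hx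
    obtain ⟨c, hc, b, hb, rfl⟩ := hx'
    have h1 : b ∈ Q ⊓ N := mem_inf.2 ⟨hb, by
      simpa using mul_mem (inv_mem (mem_inf.1 (hT₀C hc)).1) hxN⟩
    rw [hdisj, mem_bot] at h1
    simpa [h1] using hc
  -- elements of `N` normalizing `T₀ ⊔ Q` centralize `Q`
  have hgrow : ∀ n ∈ N, n ∈ normalizer ((T₀ ⊔ Q : Subgroup G) : Set G) → n ∈ C := by
    intro n hn hnn
    have hf : ∀ b ∈ Q, fdiff n b ∈ T₀ := by
      intro b hb
      rw [← hTN']
      refine mem_inf.2 ⟨mul_mem (inv_mem (mem_sup_right hb))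
        ((mem_normalizer_iff.1 hnn b).1 (mem_sup_right hb)), ?_⟩
      have : fdiff n b = b⁻¹ * n * b * n⁻¹ := by rw [fdiff]; group
      rw [this]
      exact mul_mem (by simpa using hN.conj_mem n hn b⁻¹) (inv_mem hn)
    have hmul : ∀ a ∈ Q, ∀ b ∈ Q, fdiff n (a * b) = fdiff n a * fdiff n b := by
      intro a ha b hb
      have h := hT₀c _ (hf a ha) b hb
      calc fdiff n (a * b) = b⁻¹ * (fdiff n a * b) * (b⁻¹ * (n * b * n⁻¹)) := by
            simp only [fdiff]; group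
        _ = fdiff n a * fdiff n b := by rw [h, inv_mul_cancel_left]; rfl
    have hcomm : ∀ a ∈ Q, ∀ b ∈ Q, fdiff n a * fdiff n b = fdiff n b * fdiff n a := by
      intro a ha b hb
      set c := n⁻¹ * fdiff n a * n with hcdef
      have hc : c ∈ T₀ := by
        rw [← hTN']
        exact mem_inf.2 ⟨(mem_normalizer_iff''.1 hnn _).1 (mem_sup_left (hf a ha)),
          mul_mem (mul_mem (inv_mem hn) (mem_inf.1 (hT₀C (hf a ha))).1) hn⟩
      have hce : n * c * n⁻¹ = fdiff n a := by rw [hcdef]; group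
      have hcb : c * b = b * c := hT₀c c hc b hb
      calc fdiff n a * fdiff n b = fdiff n a * b⁻¹ * (n * b * n⁻¹) := by
            simp only [fdiff]; group
        _ = b⁻¹ * fdiff n a * (n * b * n⁻¹) := by rw [hT₀c _ (hf a ha) _ (inv_mem hb)]
        _ = b⁻¹ * (n * (c * b) * n⁻¹) := by rw [← hce]; group
        _ = b⁻¹ * (n * (b * c) * n⁻¹) := by rw [hcb]
        _ = fdiff n b * fdiff n a := by rw [← hce]; simp only [fdiff]; group
    let Ker : Subgroup G :=
      { carrier := {b | b ∈ Q ∧ fdiff n b = 1}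
        one_mem' := ⟨one_mem _, by simp [fdiff]⟩
        mul_mem' := fun {a b} ha hb => ⟨mul_mem ha.1 hb.1, by
          rw [hmul a ha.1 b hb.1, ha.2, hb.2, one_mul]⟩
        inv_mem' := fun {a} ha => ⟨inv_mem ha.1, by
          have h := hmul a ha.1 a⁻¹ (inv_mem ha.1)
          rw [mul_inv_cancel, ha.2, one_mul] at h
          rw [← h]; simp [fdiff]⟩ }
    have hK : ⁅Q, Q⁆ ≤ Ker := commutator_le.2 fun a ha b hb => by
      have hab : ⁅a, b⁆ ∈ Q := mul_mem (mul_mem (mul_mem ha hb) (inv_mem ha)) (inv_mem hb)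
      refine ⟨hab, ?_⟩
      have e1 : ⁅a, b⁆ * (b * a) = a * b := by rw [commutatorElement_def]; group
      have h1 := hmul _ hab _ (mul_mem hb ha)
      rw [e1, hmul a ha b hb, hmul b hb a ha, hcomm a ha b hb] at h1
      exact mul_eq_right.1 h1.symm
    rw [hC]
    refine mem_inf.2 ⟨hn, mem_centralizer_singleton_iff.2 ?_⟩
    have h1 := (hK htQ).2
    rw [fdiff, inv_mul_eq_one] at h1
    exact (mul_inv_eq_iff_eq_mul.1 h1.symm)
  have hTeq : (T : Subgroup G) = T₀ ⊔ Q := by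
    by_contra hne
    have hlt : T₀ ⊔ Q < (T : Subgroup G) := lt_of_le_of_ne hT (Ne.symm hne)
    obtain ⟨x, hx, hxn⟩ := SetLike.exists_of_lt (CfsgLib.Transfer.lt_inf_normalizer T.isPGroup' hlt)
    obtain ⟨hxT, hxN⟩ := mem_inf.1 hx
    obtain ⟨b, hb, n, hn, rfl⟩ := hfac x
    have hnT : n ∈ (T : Subgroup G) := by
      simpa using mul_mem (inv_mem (hT (mem_sup_right hb))) hxT
    have hnn : n ∈ normalizer ((T₀ ⊔ Q : Subgroup G) : Set G) := by
      simpa using mul_mem (inv_mem (le_normalizer (mem_sup_right hb : b ∈ T₀ ⊔ Q))) hxN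
    have hnC : n ∈ C := hgrow n hn hnn
    have h1 : IsPGroup 2 (((T : Subgroup G)).subgroupOf C) := T.isPGroup'.comap_subtype
    have h2 := T₀s.is_maximal' h1 fun y hy => hT (mem_sup_left (mem_map_of_mem _ hy))
    have hn0 : n ∈ T₀ := ⟨⟨n, hnC⟩, h2.le (mem_subgroupOf.2 hnT), rfl⟩
    exact hxn (mul_mem (mem_sup_right hb) (mem_sup_left hn0))
  have D : Setup N Q T := ⟨hN, le_sup_right.trans hT, by
    rw [hTeq, hTN']
    exact fun b hb => mem_centralizer_iff.2 fun c hc => hT₀c c hc b hb,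
    fun x _ => (sup_comm N Q) ▸ hG ▸ mem_top x⟩
  have hwc : ∀ g : G, g * t * g⁻¹ ∈ (T : Subgroup G) → g * t * g⁻¹ = t :=
    fun g => D.weaklyClosed_of_derived htq htc htQ g ((sup_comm N Q) ▸ hG ▸ mem_top g)
  haveI : (oddCore G).Normal := pPrimeCore_normal 2 G
  set K := oddCore G ⊓ N with hKdef
  haveI hKn : K.Normal := normal_inf_normal _ _
  have hKodd : Odd (Nat.card K) :=
    (CfsgLib.Base.le_oddCore_iff.1 (le_refl (oddCore G))).of_dvd_nat
      (card_dvd_of_le inf_le_left)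
  have hnK : ∀ n ∈ N, ∃ o ∈ K, o⁻¹ * n ∈ C := by
    intro n hn
    have hm : n * t * n⁻¹ * t⁻¹ ∈ K := by
      have h1 : t * n * t⁻¹ * n⁻¹ ∈ K := mem_inf.2
        ⟨WeaklyClosedTwo.commutator_mem_oddCore T (D.le htq) hwc n,
          mul_mem (hN.conj_mem n hn t) (inv_mem hn)⟩
      have h2 := inv_mem h1
      rwa [show (t * n * t⁻¹ * n⁻¹)⁻¹ = n * t * n⁻¹ * t⁻¹ by group] at h2
    set Z := zpowers t with hZ
    have hZK : K ⊓ Z = ⊥ := by
      rw [eq_bot_iff, ← hdisj]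
      exact le_inf (inf_le_right.trans (zpowers_le.2 htq)) (inf_le_left.trans inf_le_right)
    have hidx : ¬ 2 ∣ Z.relIndex (K ⊔ Z) := by
      intro h2
      have h1 : Nat.card Z * Z.relIndex (K ⊔ Z) = Nat.card Z * Nat.card K := by
        rw [← CfsgLib.Base.card_sup_of_disjoint Z K (by rw [inf_comm]; exact hZK), sup_comm Z K,
          relIndex, ← Nat.card_congr (subgroupOfEquivOfLe (le_sup_right : Z ≤ K ⊔ Z)).toEquiv]
        exact card_mul_index _
      rw [Nat.eq_of_mul_eq_mul_left Nat.card_pos h1] at h2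
      exact (Nat.not_even_iff_odd.2 hKodd) (even_iff_two_dvd.2 h2)
    obtain ⟨k, hk, hkv⟩ := CfsgLib.Transfer.exists_conj_le_of_isPGroup (p := 2)
      (hQ.to_le (zpowers_le.2 htq)) (le_sup_right : Z ≤ K ⊔ Z) hidx
      (V := zpowers (n * t * n⁻¹)) (by
        have := (hQ.to_le (zpowers_le.2 htq)).map (MulAut.conj n).toMonoidHom
        rw [MonoidHom.map_zpowers, MulEquiv.coe_toMonoidHom, MulAut.conj_apply] at this
        exact this)
      (zpowers_le.2 (by
        have := mul_mem (mem_sup_left hm : _ ∈ K ⊔ Z) (mem_sup_right (mem_zpowers t))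
        simpa using this))
    obtain ⟨o, ho, z, hz, rfl⟩ := mem_sup_of_normal_left.1 hk
    refine ⟨o, ho, ?_⟩
    have hz' : z * t = t * z := by
      obtain ⟨i, rfl⟩ := hz
      exact (Commute.refl t).zpow_left i
    set w := o⁻¹ * (n * t * n⁻¹) * o with hw
    have hwZ : w ∈ Z := by
      have h1 := hkv _ (mem_zpowers _)
      have h2 := mul_mem (mul_mem hz h1) (inv_mem hz)
      rwa [show z * ((o * z)⁻¹ * (n * t * n⁻¹) * (o * z)) * z⁻¹ = w by rw [hw]; group] at h2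
    have hwK : w * t⁻¹ ∈ K := by
      rw [show w * t⁻¹ = o⁻¹ * (n * t * n⁻¹ * t⁻¹) * (t * o * t⁻¹) by rw [hw]; group]
      exact mul_mem (mul_mem (inv_mem ho) hm) (hKn.conj_mem o ho t)
    have hwt : w * t⁻¹ ∈ K ⊓ Z := mem_inf.2 ⟨hwK, mul_mem hwZ (inv_mem (mem_zpowers t))⟩
    rw [hZK, mem_bot, mul_inv_eq_one] at hwt
    rw [hC]
    refine mem_inf.2 ⟨mul_mem (inv_mem (mem_inf.1 ho).2) hn, mem_centralizer_singleton_iff.2 ?_⟩
    calc o⁻¹ * n * t = w * (o⁻¹ * n) := by rw [hw]; group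
      _ = t * (o⁻¹ * n) := by rw [hwt]
  refine hKodd.of_dvd_nat (card_dvd_of_le (commutator_le.2 fun n hn q hq => ?_))
  obtain ⟨o, ho, hc⟩ := hnK n hn
  have hcq : q * (o⁻¹ * n) = o⁻¹ * n * q := mem_centralizer_iff.1 (mem_inf.1 hc).2 q hq
  have e : ⁅n, q⁆ = o * (q * o⁻¹ * q⁻¹) := by
    calc ⁅n, q⁆ = o * (o⁻¹ * n * q) * n⁻¹ * q⁻¹ := by rw [commutatorElement_def]; group
      _ = o * (q * (o⁻¹ * n)) * n⁻¹ * q⁻¹ := by rw [hcq]
      _ = o * (q * o⁻¹ * q⁻¹) := by group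
  rw [e]
  exact mul_mem ho (hKn.conj_mem _ (inv_mem ho) q)

end CfsgLib.Involutions.CentralizedSylow
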