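import Mathlib

/-!
# Groups with cyclic Sylow intersections
-/

set_option autoImplicit false
set_option linter.style.haveILetI false

namespace CfsgLib.Involutions

open Subgroup

variable {G : Type*} [Group G] [Finite G] {p : ℕ} [Fact p.Prime]

/-- A `p`-subgroup of the preimage of a `p`-group `A` extends to one mapping onto `A`. -/
theorem exists_pSubgroup_onto {X : Type*} [Group X] [Finite X] {f : G →* X}
    (hf : Function.Surjective f) {A : Subgroup X} (hA : IsPGroup p A) {D : Subgroup G}
    (hD : IsPGroup p D) (hDA : D.map f ≤ A) :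
    ∃ Q : Subgroup G, IsPGroup p Q ∧ D ≤ Q ∧ Q.map f = A := by
  obtain ⟨R, hR⟩ := (hD.comap_subtype (K := A.comap f)).exists_le_sylow
  refine ⟨(R : Subgroup ↥(A.comap f)).map (A.comap f).subtype, R.isPGroup'.map _, ?_, ?_⟩
  · intro d hd
    exact ⟨⟨d, hDA ⟨d, hd, rfl⟩⟩, hR (mem_subgroupOf.2 hd), rfl⟩
  · set g : ↥(A.comap f) →* A := f.subgroupComap A with hg
    have hgs : Function.Surjective g := f.subgroupComap_surjective_of_surjective A hf
    have htop : (⊤ : Subgroup A) = (R.mapSurjective hgs : Subgroup A) :=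
      (R.mapSurjective hgs).is_maximal' (hA.to_subgroup ⊤) le_top
    rw [Sylow.coe_mapSurjective] at htop
    have := congrArg (Subgroup.map A.subtype) htop
    rw [← MonoidHom.range_eq_map, range_subtype, Subgroup.map_map] at this
    rw [Subgroup.map_map]
    exact this.symm

theorem exists_sylow_onto {X : Type*} [Group X] [Finite X] {f : G →* X}
    (hf : Function.Surjective f) (S : Sylow p X) {D : Subgroup G} (hD : IsPGroup p D)
    (hDS : D.map f ≤ (S : Subgroup X)) :
    ∃ R : Sylow p G, D ≤ R ∧ (R : Subgroup G).map f = S := by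
  obtain ⟨Q, hQ, hDQ, hQS⟩ := exists_pSubgroup_onto hf S.isPGroup' hD hDS
  obtain ⟨R, hR⟩ := hQ.exists_le_sylow
  exact ⟨R, hDQ.trans hR, S.is_maximal' (R.isPGroup'.map f) (hQS ▸ Subgroup.map_mono hR)⟩

/-- Cyclic Sylow intersections are inherited by quotients. -/
theorem cyclic_inter_of_surjective {X : Type*} [Group X] [Finite X] {f : G →* X}
    (hf : Function.Surjective f)
    (hC : ∀ S T : Sylow p G, S ≠ T → IsCyclic ↥((S : Subgroup G) ⊓ (T : Subgroup G)))
    (S T : Sylow p X) (hST : S ≠ T) : IsCyclic ↥((S : Subgroup X) ⊓ (T : Subgroup X)) := by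
  obtain ⟨D, hD, -, hDA⟩ := exists_pSubgroup_onto hf
    (S.isPGroup'.to_le (inf_le_left : (S : Subgroup X) ⊓ (T : Subgroup X) ≤ _))
    (IsPGroup.of_bot (p := p) (G := G)) (by rw [Subgroup.map_bot]; exact bot_le)
  obtain ⟨S', hDS, hS'⟩ := exists_sylow_onto hf S hD (hDA.le.trans inf_le_left)
  obtain ⟨T', hDT, hT'⟩ := exists_sylow_onto hf T hD (hDA.le.trans inf_le_right)
  haveI := hC S' T' fun h => hST (Sylow.ext (by rw [← hS', ← hT', h]))
  haveI : IsCyclic D := isCyclic_of_injective _ (inclusion_injective (le_inf hDS hDT))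
  haveI := isCyclic_of_surjective (f.subgroupMap D) (f.subgroupMap_surjective D)
  exact hDA ▸ this

end CfsgLib.Involutions
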