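import Cfsg.Agent.Lib.Involutions.DihedralClasses

/-!
# The three cases for dihedral Sylow 2-subgroups of order at least 8
-/

set_option autoImplicit false
set_option linter.style.haveILetI false

namespace CfsgLib.Involutions.DP

open Subgroup

universe u

variable {G : Type u} [Group G] [Finite G] {P : Sylow 2 G} (d : DP (P : Subgroup G))

theorem fusion_r {k l : ℤ} (h : d.F2 k) (hc : IsConj (d.r k) (d.r l)) : d.Sim l k := by
  obtain ⟨g, hg⟩ := isConj_iff.1 hc
  have key := fusion_invariant P (Φ := fun a => ∃ j, d.Sim j k ∧ a = d.r j) ?_ ?_ (d.r_mem k)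
    (g := g) (hg ▸ d.r_mem l) ⟨k, Or.inl (by simp), rfl⟩
  · obtain ⟨j, hj, hje⟩ := key
    rw [hg, d.r_inj] at hje
    refine hj.imp_left fun hjk => ?_
    have := (even_iff_two_dvd.2 ((dvd_mul_right 2 _).trans hje)).add hjk
    rwa [sub_add_sub_cancel] at this
  · rintro s hs _ - ⟨j, hj, rfl⟩
    rcases d.cover s hs with ⟨l, rfl⟩ | ⟨l, rfl⟩
    · refine ⟨j + 2 * l, hj.imp_left (fun h => ?_), d.conj_r l j⟩
      rw [show j + 2 * l - k = j - k + 2 * l by ring]
      exact h.add (even_two_mul l)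
    · refine ⟨l - (j - l), hj.imp_left (fun h => ?_), ?_⟩
      · rw [show l - (j - l) - k = 2 * l - 2 * j + (j - k) by ring]
        exact ((even_two_mul l).sub (even_two_mul j)).add h
      · show d.r l * d.r j * (d.r l)⁻¹ = _
        rw [r_inv, r_mul_r, zpow_mul_r]
        congr 1; ring
  · intro D hD y hy hyp a ha hΦ
    have hodd : Odd (orderOf y) := Nat.coprime_two_right.1 hyp
    rcases d.centric_cases hD P.isPGroup' hy hodd with hc | ⟨i, rfl⟩
    · rwa [(hc a ha).eq, mul_inv_cancel_right]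
    obtain ⟨j, hj, rfl⟩ := hΦ
    have hi : d.F2 i := h.sim d (by
      by_cases hn : d.n = 1
      · exact Or.inr hn
      refine Or.inl ?_
      have := (hj.resolve_right hn).sub (d.even_of_r_mem_TG hn ha)
      rw [show j - k - (j - i) = i - k by ring] at this
      rw [← neg_sub]; exact this.neg)
    rw [(hi y hy hodd _ ha).eq, mul_inv_cancel_right]
    exact ⟨j, hj, rfl⟩

include d in
theorem sim_zero_or_one (i : ℤ) : d.Sim i 0 ∨ d.Sim i 1 := by
  rcases Int.even_or_odd i with h | h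
  · exact Or.inl (Or.inl (by simpa using h))
  · exact Or.inr (Or.inl (h.sub_odd odd_one))

theorem isConj_r_of_sim {i k : ℤ} (hn : d.n ≠ 1) (h : d.Sim i k) : IsConj (d.r i) (d.r k) := by
  obtain ⟨j, hj⟩ := h.resolve_right hn
  refine isConj_iff.2 ⟨d.x ^ (-j), ?_⟩
  rw [d.conj_r]
  congr 1
  omega

/-- The involution classes. -/
theorem classes (hn : d.n ≠ 1) :
    {C : ConjClasses G | ∃ g : G, ConjClasses.mk g = C ∧ orderOf g = 2} =
      {ConjClasses.mk d.z, ConjClasses.mk (d.r 0), ConjClasses.mk (d.r 1)} := by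
  ext C
  simp only [Set.mem_ofPred_eq, Set.mem_insert_iff, Set.mem_singleton_iff]
  constructor
  · rintro ⟨g, rfl, hg⟩
    obtain ⟨c, hc⟩ := exists_conj_mem_sylow_one P hg
    have ht := conj_invol c hg
    have hcl : ConjClasses.mk g = ConjClasses.mk (c * g * c⁻¹) :=
      ConjClasses.mk_eq_mk_iff_isConj.2 (isConj_iff.2 ⟨c, rfl⟩)
    rw [hcl]
    rcases d.cover _ hc with ⟨i, hi⟩ | ⟨i, hi⟩
    · rw [hi] at ht ⊢
      have h2 := invol_mul_self ht
      rw [← zpow_add, d.zpow_eq_one, ← two_mul] at h2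
      left
      rw [(d.zpow_of_half_dvd ((Int.mul_dvd_mul_iff_left two_ne_zero).1 h2)).resolve_left
        (invol_ne_one ht)]
    · rw [hi]
      rcases d.sim_zero_or_one i with hs | hs
      · exact Or.inr (Or.inl (ConjClasses.mk_eq_mk_iff_isConj.2 (d.isConj_r_of_sim hn hs)))
      · exact Or.inr (Or.inr (ConjClasses.mk_eq_mk_iff_isConj.2 (d.isConj_r_of_sim hn hs)))
  · rintro (rfl | rfl | rfl)
    · exact ⟨_, rfl, d.orderOf_z⟩
    · exact ⟨_, rfl, d.orderOf_r 0⟩
    · exact ⟨_, rfl, d.orderOf_r 1⟩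

theorem no_index_four {i j : ℤ} (hij : ∀ l, d.Sim l i ∨ d.Sim l j) (h : ¬ d.F2 i) (hn : d.n ≠ 1)
    (N : Subgroup G) [N.Normal] : N.index ≠ 4 := by
  intro h4
  set π := QuotientGroup.mk' N
  obtain ⟨c, -, hodd, h1, h2⟩ := d.exists_cycle h
  have hc : π c = 1 := by
    rw [← orderOf_eq_one_iff]
    refine Nat.eq_one_of_dvd_coprimes (a := orderOf c) (b := 4) ?_ (orderOf_map_dvd π c) ?_
    · exact (Nat.coprime_two_right.2 hodd).pow_right 2
    · rw [← h4]; exact orderOf_dvd_natCard _
  have e1 : π d.z = π (d.r i) := by rw [← h1, map_mul, map_mul, map_inv, hc]; group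
  have e2 : π (d.r i) = π d.z * π (d.r i) := by
    have e := congrArg π h2
    rw [map_mul, map_mul, map_inv, hc, map_mul, one_mul, inv_one, mul_one] at e
    exact e
  have hz : π d.z = 1 := right_eq_mul.1 e2
  have hri : π (d.r i) = 1 := e1 ▸ hz
  have hrl : ∀ l, π (d.r l) ∈ zpowers (π (d.r j)) := fun l => by
    rcases hij l with hs | hs
    · obtain ⟨g, hg⟩ := isConj_iff.1 (d.isConj_r_of_sim hn hs).symm
      rw [← hg, map_mul, map_mul, hri, mul_one, map_inv, mul_inv_cancel]
      exact one_mem _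
    · obtain ⟨g, hg⟩ := isConj_iff.1 (d.isConj_r_of_sim hn hs).symm
      rw [← hg, map_mul, map_mul, map_inv]
      -- the quotient has order four, hence is abelian
      have hab : ∀ a b : G ⧸ N, a * b = b * a := fun a b =>
        (IsPGroup.isMulCommutative_of_card_eq_prime_sq (p := 2)
          (show Nat.card (G ⧸ N) = 2 ^ 2 from h4)).1.1 a b
      rw [hab (π g), mul_assoc, mul_inv_cancel, mul_one]
      exact mem_zpowers _
  have hP : ∀ a ∈ (P : Subgroup G), π a ∈ zpowers (π (d.r j)) := by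
    intro a ha
    rcases d.cover a ha with ⟨l, rfl⟩ | ⟨l, rfl⟩
    · rw [show d.x ^ l = d.r l * d.r 0 by rw [d.r_mul_r, sub_zero], map_mul]
      exact mul_mem (hrl l) (hrl 0)
    · exact hrl l
  have hsurj : (P : Subgroup G) ⊔ N = ⊤ := by
    rw [← index_eq_one]
    refine Nat.eq_one_of_dvd_coprimes (a := (P : Subgroup G).index) (b := 4) ?_
      (index_dvd_of_le le_sup_left) (h4 ▸ index_dvd_of_le le_sup_right)
    exact (Nat.Coprime.pow_right 2 ((Nat.prime_two.coprime_iff_not_dvd).2 P.not_dvd_index).symm)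
  have htop : (⊤ : Subgroup (G ⧸ N)) ≤ zpowers (π (d.r j)) := by
    rw [← map_top_of_surjective π (QuotientGroup.mk'_surjective N), ← hsurj, Subgroup.map_sup,
      sup_le_iff]
    exact ⟨by rintro _ ⟨a, ha, rfl⟩; exact hP a ha, by
      rw [(Subgroup.map_eq_bot_iff _).2 (QuotientGroup.ker_mk' N).ge]; exact bot_le⟩
  have hcard := card_le_of_le htop
  rw [Subgroup.card_top, Nat.card_zpowers, ← Subgroup.index, h4] at hcard
  have : orderOf (π (d.r j)) ≤ 2 := Nat.le_of_dvd two_pos
    ((orderOf_map_dvd π _).trans (d.orderOf_r j).dvd)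
  omega

theorem three_cases (hn : d.n ≠ 1) :
    (Nat.card {C : ConjClasses G // ∃ g : G, ConjClasses.mk g = C ∧ orderOf g = 2} = 1 ∧
        ∀ N : Subgroup G, N.Normal → N.index ≠ 2) ∨
      (Nat.card {C : ConjClasses G // ∃ g : G, ConjClasses.mk g = C ∧ orderOf g = 2} = 2 ∧
        (∃ N : Subgroup G, N.Normal ∧ N.index = 2) ∧
        ∀ N : Subgroup G, N.Normal → N.index ≠ 4) ∨
      (Nat.card {C : ConjClasses G // ∃ g : G, ConjClasses.mk g = C ∧ orderOf g = 2} = 3 ∧
        Cfsg.HasNormalPComplement 2 G) := by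
  classical
  have hcard : Nat.card {C : ConjClasses G // ∃ g : G, ConjClasses.mk g = C ∧ orderOf g = 2} =
      ({ConjClasses.mk d.z, ConjClasses.mk (d.r 0), ConjClasses.mk (d.r 1)} :
        Set (ConjClasses G)).ncard := by
    rw [← d.classes hn, ← Nat.card_coe_set_eq]; rfl
  have hz : ∀ k, ¬ d.F2 k → ConjClasses.mk (d.r k) = ConjClasses.mk d.z := fun k hk => by
    obtain ⟨c, -, -, hc, -⟩ := d.exists_cycle hk
    exact (ConjClasses.mk_eq_mk_iff_isConj.2 (isConj_iff.2 ⟨c, hc⟩)).symm
  have hne : ∀ k, d.F2 k → ConjClasses.mk (d.r k) ≠ ConjClasses.mk d.z := fun k hk h =>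
    d.r_not_isConj_z hk (ConjClasses.mk_eq_mk_iff_isConj.1 h)
  have hnorm : ∀ k, d.F2 k → ∃ N : Subgroup G, N.Normal ∧ N.index = 2 := fun k hk => by
    obtain ⟨H, hH⟩ := d.exists_index_two hk
    exact ⟨H, Subgroup.normal_of_index_eq_two hH, hH⟩
  by_cases h0 : d.F2 0 <;> by_cases h1 : d.F2 1
  · refine Or.inr (Or.inr ⟨?_, ?_⟩)
    · have h01 : ConjClasses.mk (d.r 0) ≠ ConjClasses.mk (d.r 1) := fun h => by
        rcases d.fusion_r h0 (ConjClasses.mk_eq_mk_iff_isConj.1 h) with h' | h'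
        · norm_num at h'
        · exact hn h'
      rw [hcard, Set.ncard_insert_of_notMem _ (Set.toFinite _), Set.ncard_pair h01]
      simp only [Set.mem_insert_iff, Set.mem_singleton_iff, not_or]
      exact ⟨(hne 0 h0).symm, (hne 1 h1).symm⟩
    · refine hasNormalPComplement_of_centric P fun D hD y hy hyp a ha => ?_
      have hodd : Odd (orderOf y) := Nat.coprime_two_right.1 hyp
      rcases d.centric_cases hD P.isPGroup' hy hodd with hc | ⟨i, rfl⟩
      · exact hc a ha
      · have hi : d.F2 i := by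
          rcases d.sim_zero_or_one i with hs | hs
          · exact h0.sim d (hs.imp_left fun h => by rw [← neg_sub]; exact h.neg)
          · exact h1.sim d (hs.imp_left fun h => by rw [← neg_sub]; exact h.neg)
        exact hi y hy hodd a ha
  · refine Or.inr (Or.inl ⟨?_, hnorm 0 h0, fun N hN => ?_⟩)
    · rw [hcard, hz 1 h1, Set.pair_comm, Set.insert_comm]
      simp only [Set.insert_eq_of_mem, Set.mem_insert_iff, Set.mem_singleton_iff, true_or, or_true]
      exact Set.ncard_pair (hne 0 h0).symm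
    · haveI := hN
      exact d.no_index_four (i := 1) (j := 0) (fun l => (d.sim_zero_or_one l).symm) h1 hn N
  · refine Or.inr (Or.inl ⟨?_, hnorm 1 h1, fun N hN => ?_⟩)
    · rw [hcard, hz 0 h0]
      simp only [Set.insert_eq_of_mem, Set.mem_insert_iff, Set.mem_singleton_iff, true_or, or_true]
      exact Set.ncard_pair (hne 1 h1).symm
    · haveI := hN
      exact d.no_index_four (i := 0) (j := 1) d.sim_zero_or_one h0 hn N
  · refine Or.inl ⟨?_, fun N _ => ?_⟩
    · rw [hcard, hz 0 h0, hz 1 h1]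
      simp
    · refine d.index_ne_two (fun i hi => ?_) N
      rcases d.sim_zero_or_one i with hs | hs
      · exact h0 (hi.sim d hs)
      · exact h1 (hi.sim d hs)

end CfsgLib.Involutions.DP
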