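import Cfsg.Agent.Lib.Perm.ZassG.PSL
import Cfsg.Agent.Lib.Perm.ZassG.SharpPGLOdd
import Cfsg.Agent.Lib.PSL2.Congr

/-!
Doubly transitive groups on eighteen points whose point stabilisers have a normal subgroup of order
seventeen, with Sylow numbers dividing 153 and 136: only `PSL(2, 17)` and `PGL(2, 17)` remain.
-/

set_option autoImplicit false

open MulAction Subgroup CfsgLib.Perm.ZassG

namespace CfsgLib.Involutions.Eighteen

variable {G Ω : Type*} [Group G] [MulAction G Ω] [Finite G] [Finite Ω]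

/-- The configuration. -/
structure Setup (G Ω : Type*) [Group G] [MulAction G Ω] : Prop where
  faithful : FaithfulSMul G Ω
  card : Nat.card Ω = 18
  trans : ∀ x y : Ω, ∃ g : G, g • x = y
  kernel : ∀ a : Ω, ∃ F : Subgroup G, F ≤ stabilizer G a ∧ Nat.card F = 17 ∧
    (∀ g ∈ stabilizer G a, ∀ u ∈ F, g * u * g⁻¹ ∈ F) ∧
    ∀ y z : Ω, y ≠ a → z ≠ a → ∃ u ∈ F, u • y = z

namespace Setup

variable (S : Setup G Ω)
include S

theorem isKernel {a : Ω} {F : Subgroup G} (hle : F ≤ stabilizer G a) (hc : Nat.card F = 17)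
    (hn : ∀ g ∈ stabilizer G a, ∀ u ∈ F, g * u * g⁻¹ ∈ F)
    (ht : ∀ y z : Ω, y ≠ a → z ≠ a → ∃ u ∈ F, u • y = z) : IsKernel a F := by
  classical
  refine ⟨hle, hn, fun y z hy hz => ?_⟩
  have := Fintype.ofFinite Ω
  have hne : ∀ u : F, (u : G) • y ≠ a := fun u h =>
    hy (smul_left_cancel (u : G) (h.trans (mem_stabilizer_iff.1 (hle u.2)).symm))
  let f : F → {c : Ω // c ≠ a} := fun u => ⟨(u : G) • y, hne u⟩
  have hsurj : Function.Surjective f := fun c => by
    obtain ⟨u, hu, huy⟩ := ht y c hy c.2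
    exact ⟨⟨u, hu⟩, Subtype.ext huy⟩
  have hcard : Nat.card F = Nat.card {c : Ω // c ≠ a} := by
    rw [hc, Nat.card_eq_fintype_card, Fintype.card_subtype_compl, Fintype.card_subtype_eq,
      ← Nat.card_eq_fintype_card, S.card]
  obtain ⟨u, hu⟩ := hsurj ⟨z, hz⟩
  refine ⟨u, congrArg Subtype.val hu, fun v hv => ?_⟩
  exact ((Nat.bijective_iff_surjective_and_card f).2 ⟨hsurj, hcard⟩).1 (hu.symm ▸ Subtype.ext hv)

theorem exists_kernel' (a : Ω) : ∃ F : Subgroup G, IsKernel a F ∧ Nat.card F = 17 := by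
  obtain ⟨F, hle, hc, hn, ht⟩ := S.kernel a
  exact ⟨F, S.isKernel hle hc hn ht, hc⟩

theorem exists_ne_two (a b : Ω) : ∃ c : Ω, c ≠ a ∧ c ≠ b := by
  classical
  have := Fintype.ofFinite Ω
  have h : ({a, b} : Finset Ω).card < (Finset.univ : Finset Ω).card := by
    refine lt_of_le_of_lt Finset.card_le_two ?_
    rw [Finset.card_univ, ← Nat.card_eq_fintype_card, S.card]
    omega
  obtain ⟨c, -, hc⟩ := Finset.exists_mem_notMem_of_card_lt_card h
  simp only [Finset.mem_insert, Finset.mem_singleton, not_or] at hc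
  exact ⟨c, hc⟩

/-- An element of `F` fixing a point other than `a` is trivial. -/
theorem eq_one_of_mem {a : Ω} {F : Subgroup G} (hF : IsKernel a F) {u : G} (hu : u ∈ F) {c : Ω}
    (hc : c ≠ a) (h : u • c = c) : u = 1 :=
  congrArg Subtype.val ((hF.regular c c hc hc).unique (y₁ := (⟨u, hu⟩ : F)) (y₂ := 1) h (one_smul G c))

/-- A two-point stabiliser element fixing a further point is trivial. -/
theorem eq_one_of_three' {g : G} {a b c : Ω} (hab : a ≠ b) (hbc : b ≠ c) (hac : a ≠ c)
    (ha : g • a = a) (hb : g • b = b) (hc : g • c = c) : g = 1 := by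
  have := S.faithful
  obtain ⟨F, hF, hF17⟩ := S.exists_kernel' a
  obtain ⟨⟨v, hv⟩, hvc, -⟩ := hF.regular b c hab.symm hac.symm
  change v • b = c at hvc
  have hv1 : v ≠ 1 := fun e => hbc (by rw [← hvc, e, one_smul])
  have hgv : g * v * g⁻¹ = v := by
    refine congrArg Subtype.val ((hF.regular b c hab.symm hac.symm).unique
      (y₁ := (⟨g * v * g⁻¹, hF.normal g ha v hv⟩ : F)) (y₂ := ⟨v, hv⟩) ?_ hvc)
    show (g * v * g⁻¹) • b = c
    rw [mul_smul, mul_smul, inv_smul_eq_iff.2 hb.symm, hvc, hc]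
  have hgen : zpowers v = F := by
    refine Subgroup.eq_of_le_of_card_ge (zpowers_le.2 hv) ?_
    rw [Nat.card_zpowers, hF17]
    have hd : orderOf v ∣ 17 := hF17 ▸ F.orderOf_dvd_natCard hv
    rcases (Nat.dvd_prime (by norm_num)).1 hd with h | h
    · exact absurd (orderOf_eq_one_iff.1 h) hv1
    · omega
  refine eq_of_smul_eq_smul (α := Ω) fun x => ?_
  rw [one_smul]
  by_cases hxa : x = a
  · rw [hxa, ha]
  obtain ⟨⟨u, hu⟩, hux, -⟩ := hF.regular b x hab.symm hxa
  change u • b = x at hux
  rw [← hgen, mem_zpowers_iff] at hu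
  obtain ⟨k, rfl⟩ := hu
  have hcomm : Commute g (v ^ k) := (show Commute g v from mul_inv_eq_iff_eq_mul.1 hgv).zpow_right k
  rw [← hux, ← mul_smul, hcomm.eq, mul_smul, hb]

theorem two_trans {a b c d : Ω} (hab : a ≠ b) (hcd : c ≠ d) : ∃ g : G, g • a = c ∧ g • b = d := by
  obtain ⟨g, hg⟩ := S.trans a c
  obtain ⟨F, hF, -⟩ := S.exists_kernel' c
  have hb : g • b ≠ c := fun h => hab (smul_left_cancel g (hg.trans h.symm))
  obtain ⟨⟨u, hu⟩, hub, -⟩ := hF.regular (g • b) d hb hcd.symm
  exact ⟨u * g, by rw [mul_smul, hg]; exact hF.le hu, by rw [mul_smul]; exact hub⟩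

theorem card_group {a b : Ω} (hab : a ≠ b) :
    Nat.card G = 306 * Nat.card (pairStab G a b) := by
  have := S.faithful
  obtain ⟨F, hF, hF17⟩ := S.exists_kernel' a
  have : IsPretransitive G Ω := ⟨S.trans⟩
  have h1 : Nat.card G = 18 * Nat.card (stabilizer G a) := by
    rw [← (stabilizer G a).index_mul_card, index_stabilizer_of_transitive, S.card]
  let f : F × pairStab G a b → stabilizer G a := fun p =>
    ⟨p.1 * p.2, mul_mem (hF.le p.1.2) p.2.2.1⟩
  have hf : Function.Bijective f := by
    constructor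
    · rintro ⟨u, x⟩ ⟨v, y⟩ h
      have h' : (u : G) * x = v * y := congrArg Subtype.val h
      have hu : u = v := by
        have hx := mem_stabilizer_iff.1 x.2.2
        have hy := mem_stabilizer_iff.1 y.2.2
        refine (hF.regular b ((u : G) • b) hab.symm fun e => hab.symm (smul_left_cancel (u : G)
          (e.trans (mem_stabilizer_iff.1 (hF.le u.2)).symm))).unique rfl ?_
        calc (v : G) • b = ((v : G) * y) • b := by rw [mul_smul, hy]
          _ = (u : G) • b := by rw [← h', mul_smul, hx]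
      subst hu
      exact Prod.ext rfl (Subtype.ext (mul_left_cancel h'))
    · rintro ⟨g, hg⟩
      have hgb : g • b ≠ a := fun e => hab.symm (smul_left_cancel g (e.trans (mem_stabilizer_iff.1 hg).symm))
      obtain ⟨⟨u, hu⟩, hub, -⟩ := hF.regular b (g • b) hab.symm hgb
      refine ⟨(⟨u, hu⟩, ⟨u⁻¹ * g, mem_pairStab.2
          ⟨mem_stabilizer_iff.1 (mul_mem (inv_mem (hF.le hu)) hg), ?_⟩⟩),
        Subtype.ext (mul_inv_cancel_left u g)⟩
      show (u⁻¹ * g) • b = b
      rw [mul_smul, inv_smul_eq_iff]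
      exact hub.symm
  have h2 := Nat.card_congr (Equiv.ofBijective f hf)
  rw [Nat.card_prod, hF17] at h2
  omega

theorem pairStab_dvd {a b : Ω} (hab : a ≠ b) : Nat.card (pairStab G a b) ∣ 16 := by
  obtain ⟨F, hF, hF17⟩ := S.exists_kernel' a
  have : Fact (Nat.Prime 17) := ⟨by norm_num⟩
  have : IsCyclic F := isCyclic_of_prime_card hF17
  let φ : pairStab G a b →* MulAut F :=
    { toFun := fun g =>
        { toFun := fun u => ⟨g * u * (g : G)⁻¹, hF.normal g g.2.1 u u.2⟩
          invFun := fun u => ⟨(g : G)⁻¹ * u * g, by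
            simpa using hF.normal (g : G)⁻¹ (inv_mem g.2.1) u u.2⟩
          left_inv := fun u => Subtype.ext (by simp [mul_assoc])
          right_inv := fun u => Subtype.ext (by simp [mul_assoc])
          map_mul' := fun u v => Subtype.ext (by simp [mul_assoc]) }
      map_one' := by ext u; simp
      map_mul' := fun g h => by ext u; simp [mul_assoc] }
  have hinj : Function.Injective φ := by
    rw [← MonoidHom.ker_eq_bot_iff, eq_bot_iff_forall]
    intro g hg
    obtain ⟨c, hca, hcb⟩ := S.exists_ne_two a b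
    obtain ⟨u, huc, -⟩ := hF.regular b c hab.symm hca
    have e : (g : G) * u * (g : G)⁻¹ = u :=
      congrArg Subtype.val (DFunLike.congr_fun (MonoidHom.mem_ker.1 hg) u)
    refine Subtype.ext (S.eq_one_of_three' hab (Ne.symm hcb) (Ne.symm hca) g.2.1 g.2.2 ?_)
    have hgb : (g : G) • b = b := g.2.2
    calc (g : G) • c = ((g : G) * (u : G) * (g : G)⁻¹) • b := by
          rw [mul_smul, mul_smul, inv_smul_eq_iff.2 hgb.symm, huc]
      _ = c := by rw [e, huc]
  have h := Subgroup.card_dvd_of_injective φ hinj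
  rwa [IsCyclic.card_mulAut, hF17, Nat.totient_prime (by norm_num)] at h

theorem prime_dvd {r : ℕ} (hr : r.Prime) (hd : r ∣ Nat.card G) : r = 2 ∨ r = 3 ∨ r = 17 := by
  obtain ⟨a⟩ : Nonempty Ω := (Nat.card_pos_iff.1 (S.card.symm ▸ (by norm_num : 0 < 18))).1
  obtain ⟨b, hb, -⟩ := S.exists_ne_two a a
  rw [S.card_group (Ne.symm hb)] at hd
  rcases (hr.dvd_mul).1 hd with h | h
  · have h3 : r ∣ 2 * (3 ^ 2 * 17) := by norm_num; exact h
    rcases (hr.dvd_mul).1 h3 with h | h
    · exact Or.inl ((Nat.prime_dvd_prime_iff_eq hr Nat.prime_two).1 h)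
    rcases (hr.dvd_mul).1 h with h | h
    · exact Or.inr (Or.inl ((Nat.prime_dvd_prime_iff_eq hr Nat.prime_three).1 (hr.dvd_of_dvd_pow h)))
    · exact Or.inr (Or.inr ((Nat.prime_dvd_prime_iff_eq hr (by norm_num)).1 h))
  · refine Or.inl ((Nat.prime_dvd_prime_iff_eq hr Nat.prime_two).1 ?_)
    exact hr.dvd_of_dvd_pow (n := 4) (by norm_num; exact h.trans (S.pairStab_dvd (Ne.symm hb)))

/-- An element of order three fixes no point, so its centraliser has order at most eighteen. -/
theorem card_centralizer_le {d : G} (hd : orderOf d = 3) :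
    Nat.card (centralizer ({d} : Set G)) ≤ 18 := by
  obtain ⟨a⟩ : Nonempty Ω := (Nat.card_pos_iff.1 (S.card.symm ▸ (by norm_num : 0 < 18))).1
  have hfix : ∀ x : Ω, d • x ≠ x := by
    intro x hx
    obtain ⟨y, hy, -⟩ := S.exists_ne_two x x
    have : IsPretransitive G Ω := ⟨S.trans⟩
    have h1 := (stabilizer G x).orderOf_dvd_natCard (mem_stabilizer_iff.2 hx)
    have h2 := (stabilizer G x).index_mul_card
    rw [index_stabilizer_of_transitive, S.card, S.card_group (Ne.symm hy)] at h2
    have h3 : Nat.card (stabilizer G x) = 17 * Nat.card (pairStab G x y) := by omega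
    rw [hd, h3] at h1
    have h4 : (3 : ℕ) ∣ 17 * 16 := h1.trans (Nat.mul_dvd_mul_left _ (S.pairStab_dvd (Ne.symm hy)))
    norm_num at h4
  have hd3 : d * d * d = 1 := by
    have := pow_orderOf_eq_one d
    rwa [hd, pow_succ, pow_two] at this
  let f : centralizer ({d} : Set G) → Ω := fun g => (g : G) • a
  have hinj : Function.Injective f := by
    intro g g' h
    have h' : (g : G) • a = (g' : G) • a := h
    set k := (g' : G)⁻¹ * g with hk
    have hkm : k ∈ centralizer ({d} : Set G) := mul_mem (inv_mem g'.2) g.2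
    have hka : k • a = a := by rw [hk, mul_smul, h', inv_smul_smul]
    have hc := mem_centralizer_singleton_iff.1 hkm
    have hkd : k • (d • a) = d • a := by rw [← mul_smul, hc, mul_smul, hka]
    have hkd2 : k • (d • d • a) = d • d • a := by rw [← mul_smul, hc, mul_smul, hkd]
    have hddd : d • d • d • a = a := by
      rw [← mul_smul, ← mul_smul, hd3, one_smul]
    have hne : a ≠ d • d • a := fun e => hfix a (by conv_lhs => rw [e]; rw [hddd])
    exact Subtype.ext (inv_mul_eq_one.1 (S.eq_one_of_three' (hfix a).symm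
      (fun e => hfix (d • a) e.symm) hne hka hkd hkd2)).symm
  exact S.card ▸ Nat.card_le_card_of_injective f hinj

theorem card_sylow_three (R : Sylow 3 G) : Nat.card R = 9 := by
  obtain ⟨a⟩ : Nonempty Ω := (Nat.card_pos_iff.1 (S.card.symm ▸ (by norm_num : 0 < 18))).1
  obtain ⟨b, hb, -⟩ := S.exists_ne_two a a
  have h16 := S.pairStab_dvd (Ne.symm hb)
  have hc := S.card_group (Ne.symm hb)
  have : Fact (Nat.Prime 3) := ⟨Nat.prime_three⟩
  rw [R.card_eq_multiplicity, hc]
  have he : Nat.card (pairStab G a b) ≠ 0 := Nat.card_pos.ne'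
  have h3 : (Nat.card (pairStab G a b)).factorization 3 = 0 :=
    Nat.factorization_eq_zero_of_not_dvd fun h => by
      have := h.trans h16
      norm_num at this
  rw [Nat.factorization_mul (by norm_num) he, Finsupp.add_apply, h3,
    show (306 : ℕ) = 3 ^ 2 * 34 by norm_num, Nat.factorization_mul (by norm_num) (by norm_num),
    Finsupp.add_apply, Nat.factorization_pow, Nat.factorization_eq_zero_of_not_dvd (n := 34) (by norm_num)]
  simp [Nat.Prime.factorization_self Nat.prime_three]

theorem inter_eq_bot {R R' : Sylow 3 G} (hne : R' ≠ R) :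
    (R : Subgroup G) ⊓ (R' : Subgroup G) = ⊥ := by
  have : Fact (Nat.Prime 3) := ⟨Nat.prime_three⟩
  by_contra hbot
  obtain ⟨⟨x, hx⟩, hx'⟩ := exists_prime_orderOf_dvd_card' (G := ((R : Subgroup G) ⊓ R' : Subgroup G)) 3 (by
    obtain ⟨k, hk⟩ := IsPGroup.iff_card.1 (R.isPGroup'.to_le inf_le_left :
      IsPGroup 3 ((R : Subgroup G) ⊓ R' : Subgroup G))
    rcases Nat.eq_zero_or_pos k with h | h
    · exact absurd (Subgroup.card_eq_one.1 (by rw [hk, h, pow_zero])) hbot
    · exact hk ▸ dvd_pow_self 3 h.ne')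
  rw [Subgroup.orderOf_mk] at hx'
  have hle : ∀ Q : Sylow 3 G, x ∈ (Q : Subgroup G) → (Q : Subgroup G) ≤ centralizer ({x} : Set G) := by
    intro Q hQ y hy
    rw [mem_centralizer_singleton_iff]
    have h9 : Nat.card Q = 3 ^ 2 := S.card_sylow_three Q
    exact congrArg Subtype.val ((IsPGroup.isMulCommutative_of_card_eq_prime_sq h9).is_comm.comm
      (⟨y, hy⟩ : (Q : Subgroup G)) ⟨x, hQ⟩)
  have h1 := hle R hx.1
  have h2 := hle R' hx.2
  have hC := S.card_centralizer_le hx'
  set C := centralizer ({x} : Set G) with hCdef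
  have e1 : ((R : Subgroup G).relIndex C) * 9 = Nat.card C := by
    rw [← S.card_sylow_three R, ← Subgroup.relIndex_bot_left (R : Subgroup G), mul_comm,
      Subgroup.relIndex_mul_relIndex _ _ _ bot_le h1, Subgroup.relIndex_bot_left]
  have e2 : (R : Subgroup G).relIndex R' ≤ (R : Subgroup G).relIndex C :=
    Subgroup.relIndex_le_of_le_right h2 (by intro h0; rw [h0, zero_mul] at e1; exact Nat.card_pos.ne' e1.symm)
  have e3 : (R : Subgroup G).relIndex R' ∣ 9 := by
    rw [← S.card_sylow_three R']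
    exact Subgroup.relIndex_dvd_card _ _
  have e4 : (R : Subgroup G).relIndex R' ≠ 1 := by
    intro h
    rw [Subgroup.relIndex_eq_one] at h
    exact hne (Sylow.ext (Subgroup.eq_of_le_of_card_ge h
      (le_of_eq ((S.card_sylow_three R).trans (S.card_sylow_three R').symm))))
  obtain ⟨j, hj, he⟩ := (Nat.dvd_prime_pow Nat.prime_three).1 (show _ ∣ 3 ^ 2 from e3)
  interval_cases j <;> omega

theorem sylow_three_ne {R : Sylow 3 G} : Nat.card (Sylow 3 G) % 9 = 1 := by
  classical
  have : Fact (Nat.Prime 3) := ⟨Nat.prime_three⟩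
  have := Fintype.ofFinite (Sylow 3 G)
  let Δ : SubMulAction (R : Subgroup G) (Sylow 3 G) :=
    { carrier := {Q | Q ≠ R}
      smul_mem' := fun r Q hQ h => hQ (by
        have : (r : G) • Q = R := h
        rw [← eq_inv_smul_iff] at this
        rw [this]
        exact Sylow.smul_eq_iff_mem_normalizer.2 (inv_mem (le_normalizer r.2))) }
  have hfree : ∀ Q : Δ, stabilizer (R : Subgroup G) Q = ⊥ := by
    intro Q
    rw [eq_bot_iff_forall]
    intro r hr
    have h : (r : G) • (Q : Sylow 3 G) = Q := congrArg Subtype.val hr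
    have hmem : (r : G) ∈ (R : Subgroup G) ⊓ (Q : Sylow 3 G) := by
      refine ⟨r.2, ?_⟩
      have h2 := R.isPGroup'.inf_normalizer_sylow (Q : Sylow 3 G)
      exact (h2 ▸ (⟨r.2, Sylow.smul_eq_iff_mem_normalizer.1 h⟩ :
        (r : G) ∈ (R : Subgroup G) ⊓ normalizer ((Q : Sylow 3 G) : Set G)) :
        (r : G) ∈ (R : Subgroup G) ⊓ (Q : Sylow 3 G)).2
    rw [S.inter_eq_bot Q.2, mem_bot] at hmem
    exact Subtype.ext hmem
  have hdiv : 9 ∣ Nat.card Δ := by
    have e := MulAction.selfEquivSigmaOrbitsQuotientStabilizer (R : Subgroup G) Δ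
    have := Fintype.ofFinite (MulAction.orbitRel.Quotient (R : Subgroup G) Δ)
    rw [Nat.card_congr e, Nat.card_sigma]
    refine Finset.dvd_sum fun ω _ => ?_
    rw [← Subgroup.index_eq_card, hfree, Subgroup.index_bot, S.card_sylow_three R]
  have hΔ : Nat.card Δ + 1 = Nat.card (Sylow 3 G) := by
    show Nat.card {Q // Q ≠ R} + 1 = _
    rw [Nat.card_eq_fintype_card, Fintype.card_subtype_compl, Fintype.card_subtype_eq,
      Nat.card_eq_fintype_card]
    exact Nat.sub_add_cancel Fintype.card_pos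
  omega

/-- With `n₃ ∣ 136` and `n₃` not one, `n₃ = 136`. -/
theorem card_three (hd : Nat.card (Sylow 3 G) ∣ 136) (h1 : Nat.card (Sylow 3 G) ≠ 1) :
    Nat.card (Sylow 3 G) = 136 := by
  obtain ⟨R⟩ : Nonempty (Sylow 3 G) := inferInstance
  have h := S.sylow_three_ne (R := R)
  have hle := Nat.le_of_dvd (by norm_num) hd
  revert h hd h1
  generalize Nat.card (Sylow 3 G) = n at hle ⊢
  revert hle
  intro hle hd h1 h
  interval_cases n <;> omega

theorem three_ne_one : Nat.card (Sylow 3 G) ≠ 1 := by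
  intro h1
  have := S.faithful
  obtain ⟨a⟩ : Nonempty Ω := (Nat.card_pos_iff.1 (S.card.symm ▸ (by norm_num : 0 < 18))).1
  obtain ⟨b, hb, -⟩ := S.exists_ne_two a a
  obtain ⟨R⟩ : Nonempty (Sylow 3 G) := inferInstance
  have := (Nat.card_eq_one_iff_unique.1 h1).1
  have : Fact (Nat.Prime 17) := ⟨by norm_num⟩
  obtain ⟨F, hF, hF17⟩ := S.exists_kernel' a
  have hRn : (R : Subgroup G).Normal := Sylow.normal_of_subsingleton R
  obtain ⟨u, hu⟩ := exists_prime_orderOf_dvd_card' (G := F) 17 (by rw [hF17])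
  have hu' : orderOf (u : G) = 17 := by rw [Subgroup.orderOf_coe, hu]
  have hfix : ∀ r : (R : Subgroup G), (u : G) * r * (u : G)⁻¹ = r := by
    let ψ : zpowers (u : G) →* MulAut (R : Subgroup G) :=
      (MulAut.conjNormal (H := (R : Subgroup G))).comp (zpowers (u : G)).subtype
    let _ : MulAction (zpowers (u : G)) (R : Subgroup G) := MulAction.compHom _ ψ
    have hp : IsPGroup 17 (zpowers (u : G)) :=
      IsPGroup.of_card (n := 1) (by rw [Nat.card_zpowers, hu', pow_one])
    have h := hp.card_modEq_card_fixedPoints (R : Subgroup G)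
    rw [S.card_sylow_three R] at h
    have hle : Nat.card (fixedPoints (zpowers (u : G)) (R : Subgroup G)) ≤ 9 := by
      rw [← S.card_sylow_three R]; exact Nat.card_le_card_of_injective _ Subtype.val_injective
    have h9 : Nat.card (fixedPoints (zpowers (u : G)) (R : Subgroup G)) = 9 := by
      unfold Nat.ModEq at h; omega
    intro r
    have hall : (fixedPoints (zpowers (u : G)) (R : Subgroup G)) = Set.univ := by
      refine Set.eq_of_subset_of_ncard_le (Set.subset_univ _) ?_ (Set.toFinite _)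
      rw [Set.ncard_univ, S.card_sylow_three R, ← Nat.card_coe_set_eq, h9]
    have hr := (hall ▸ Set.mem_univ r : r ∈ fixedPoints (zpowers (u : G)) (R : Subgroup G))
      ⟨u, mem_zpowers _⟩
    exact congrArg Subtype.val hr
  have : Fact (Nat.Prime 3) := ⟨Nat.prime_three⟩
  obtain ⟨r, hr⟩ := exists_prime_orderOf_dvd_card' (G := (R : Subgroup G)) 3
    (by rw [S.card_sylow_three R]; norm_num)
  have hu1 : (u : G) ≠ 1 := fun e => by rw [e, orderOf_one] at hu'; omega
  have hra : (r : G) • a = a := by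
    by_contra hne
    refine hu1 (eq_one_of_mem S hF u.2 hne ?_)
    rw [← mul_smul, mul_inv_eq_iff_eq_mul.1 (hfix r), mul_smul, mem_stabilizer_iff.1 (hF.le u.2)]
  have : IsPretransitive G Ω := ⟨S.trans⟩
  have h1' := (stabilizer G a).orderOf_dvd_natCard (mem_stabilizer_iff.2 hra)
  have h2 := (stabilizer G a).index_mul_card
  rw [index_stabilizer_of_transitive, S.card, S.card_group (Ne.symm hb)] at h2
  have h3 : Nat.card (stabilizer G a) = 17 * Nat.card (pairStab G a b) := by omega
  rw [Subgroup.orderOf_coe, hr, h3] at h1'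
  have h4 : (3 : ℕ) ∣ 17 * 16 := h1'.trans (Nat.mul_dvd_mul_left _ (S.pairStab_dvd (Ne.symm hb)))
  norm_num at h4

theorem four_dvd (hd : Nat.card (Sylow 3 G) ∣ 136) {a b : Ω} (hab : a ≠ b) :
    4 ∣ Nat.card (pairStab G a b) := by
  have : Fact (Nat.Prime 3) := ⟨Nat.prime_three⟩
  obtain ⟨R⟩ : Nonempty (Sylow 3 G) := inferInstance
  have h : Nat.card (Sylow 3 G) ∣ (R : Subgroup G).index := R.card_dvd_index
  have h2 := (R : Subgroup G).index_mul_card
  rw [S.card_sylow_three R, S.card_group hab] at h2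
  rw [S.card_three hd S.three_ne_one, show (R : Subgroup G).index = 34 * Nat.card (pairStab G a b) by omega] at h
  omega

theorem card_two (hd3 : Nat.card (Sylow 3 G) ∣ 136) (hd : Nat.card (Sylow 2 G) ∣ 153) :
    Nat.card (Sylow 2 G) = 153 := by
  classical
  obtain ⟨a⟩ : Nonempty Ω := (Nat.card_pos_iff.1 (S.card.symm ▸ (by norm_num : 0 < 18))).1
  obtain ⟨b, hb, -⟩ := S.exists_ne_two a a
  have hab : a ≠ b := Ne.symm hb
  have : Fact (Nat.Prime 2) := ⟨Nat.prime_two⟩
  set E := pairStab G a b with hE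
  obtain ⟨m, hm, hEc⟩ := (Nat.dvd_prime_pow Nat.prime_two).1
    (show Nat.card E ∣ 2 ^ 4 from S.pairStab_dvd hab)
  have he4 : 4 ≤ Nat.card E := Nat.le_of_dvd Nat.card_pos (S.four_dvd hd3 hab)
  obtain ⟨T, hT⟩ := (IsPGroup.of_card hEc).exists_le_sylow
  have hTc : Nat.card T = 2 * Nat.card E := by
    rw [T.card_eq_multiplicity, S.card_group hab, ← hE, hEc, Nat.factorization_mul (by norm_num)
      (by positivity), Finsupp.add_apply, Nat.Prime.factorization_pow Nat.prime_two,
      show (306 : ℕ) = 2 ^ 1 * 153 by norm_num, Nat.factorization_mul (by norm_num) (by norm_num),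
      Finsupp.add_apply, Nat.Prime.factorization_pow Nat.prime_two,
      Nat.factorization_eq_zero_of_not_dvd (n := 153) (by norm_num)]
    simp [pow_succ, pow_add]
  have hEn : ∀ t ∈ (T : Subgroup G), ∀ x ∈ E, t * x * t⁻¹ ∈ E := by
    have : (E.subgroupOf (T : Subgroup G)).Normal := by
      refine Subgroup.normal_of_index_eq_two ?_
      show E.relIndex (T : Subgroup G) = 2
      have := Subgroup.relIndex_mul_relIndex ⊥ E (T : Subgroup G) bot_le hT
      rw [Subgroup.relIndex_bot_left, Subgroup.relIndex_bot_left, hTc] at this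
      nlinarith [Nat.card_pos (α := E)]
    intro t ht x hx
    exact mem_subgroupOf.1 (this.conj_mem ⟨x, hT hx⟩ (mem_subgroupOf.2 hx) ⟨t, ht⟩)
  have hEfix : ∀ c : Ω, (∀ x ∈ E, x • c = c) → c = a ∨ c = b := by
    intro c hc
    by_contra hh
    push Not at hh
    have : Nat.card E ≤ 1 := Finite.card_le_one_iff_subsingleton.2 ⟨fun x y => by
      have e : ∀ z : E, z = 1 := fun z => Subtype.ext
        (S.eq_one_of_three' hab hh.2.symm hh.1.symm z.2.1 z.2.2 (hc z z.2))
      rw [e x, e y]⟩
    omega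
  have hpres : ∀ t ∈ (T : Subgroup G), ∀ c : Ω, c = a ∨ c = b → t • c = a ∨ t • c = b := by
    intro t ht c hc
    refine hEfix _ fun x hx => ?_
    have h := hEn t⁻¹ (inv_mem ht) x hx
    rw [inv_inv] at h
    have hcfix : (t⁻¹ * x * t) • c = c := by
      rcases hc with rfl | rfl
      exacts [h.1, h.2]
    calc x • t • c = t • ((t⁻¹ * x * t) • c) := by rw [← mul_smul, ← mul_smul]; congr 1; group
      _ = t • c := by rw [hcfix]
  have hnorm : ∀ g ∈ normalizer ((T : Subgroup G) : Set G), g • a = a ∨ g • a = b := by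
    intro g hg
    by_contra hh
    push Not at hh
    let f : E → ({a, b} : Set Ω) := fun x => ⟨((g⁻¹ * x * g : G)) • a, by
      have hmem : g⁻¹ * (x : G) * g ∈ (T : Subgroup G) :=
        (mem_normalizer_iff''.1 hg (x : G)).1 (hT x.2)
      exact hpres _ hmem a (Or.inl rfl)⟩
    have hf : Function.Injective f := by
      intro x y h
      have h' : (g⁻¹ * (x : G) * g) • a = (g⁻¹ * (y : G) * g) • a := congrArg Subtype.val h
      rw [mul_smul, mul_smul, mul_smul, mul_smul] at h'
      have h'' := smul_left_cancel g⁻¹ h'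
      exact Subtype.ext (inv_mul_eq_one.1 (S.eq_one_of_three' hab hh.2.symm hh.1.symm
        (mul_mem (inv_mem y.2) x.2).1 (mul_mem (inv_mem y.2) x.2).2
        (by rw [mul_smul, h'', inv_smul_smul]))).symm
    have h := Nat.card_le_card_of_injective f hf
    rw [Nat.card_coe_set_eq] at h
    have : ({a, b} : Set Ω).ncard ≤ 2 := (Set.ncard_insert_le a {b}).trans (by rw [Set.ncard_singleton])
    omega
  obtain ⟨s, hsa, hsb⟩ := S.two_trans hab (Ne.symm hab)
  have hnb : ∀ g ∈ normalizer ((T : Subgroup G) : Set G), g • b = a ∨ g • b = b := by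
    intro g hg
    by_contra hh
    push Not at hh
    let f : E → ({a, b} : Set Ω) := fun x => ⟨((g⁻¹ * x * g : G)) • b, by
      have hmem : g⁻¹ * (x : G) * g ∈ (T : Subgroup G) :=
        (mem_normalizer_iff''.1 hg (x : G)).1 (hT x.2)
      exact hpres _ hmem b (Or.inr rfl)⟩
    have hf : Function.Injective f := by
      intro x y h
      have h' : (g⁻¹ * (x : G) * g) • b = (g⁻¹ * (y : G) * g) • b := congrArg Subtype.val h
      rw [mul_smul, mul_smul, mul_smul, mul_smul] at h'
      have h'' := smul_left_cancel g⁻¹ h'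
      exact Subtype.ext (inv_mul_eq_one.1 (S.eq_one_of_three' hab hh.2.symm hh.1.symm
        (mul_mem (inv_mem y.2) x.2).1 (mul_mem (inv_mem y.2) x.2).2
        (by rw [mul_smul, h'', inv_smul_smul]))).symm
    have h := Nat.card_le_card_of_injective f hf
    rw [Nat.card_coe_set_eq] at h
    have : ({a, b} : Set Ω).ncard ≤ 2 := (Set.ncard_insert_le a {b}).trans (by rw [Set.ncard_singleton])
    omega
  have hN : Nat.card (normalizer ((T : Subgroup G) : Set G)) ≤ 2 * Nat.card E := by
    let f : normalizer ((T : Subgroup G) : Set G) → Bool × E := fun g =>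
      if h : (g : G) • a = a then (false, ⟨g, h, (hnb g g.2).resolve_left fun e =>
        hab (smul_left_cancel (g : G) (h.trans e.symm))⟩)
      else (true, ⟨s⁻¹ * g, by
        show (s⁻¹ * (g : G)) • a = a
        rw [mul_smul, (hnorm g g.2).resolve_left h, inv_smul_eq_iff, hsa], by
        show (s⁻¹ * (g : G)) • b = b
        rw [mul_smul, (hnb g g.2).resolve_right (fun e => hab (smul_left_cancel (g : G)
          (((hnorm g g.2).resolve_left h).trans e.symm))), inv_smul_eq_iff, hsb]⟩)
    have hf : Function.Injective f := by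
      intro g g' h
      simp only [f] at h
      split_ifs at h
      · exact Subtype.ext (congrArg (fun p : Bool × E => (p.2 : G)) h :)
      · exact absurd (congrArg Prod.fst h) (by simp)
      · exact absurd (congrArg Prod.fst h) (by simp)
      · exact Subtype.ext (mul_left_cancel (congrArg (fun p : Bool × E => (p.2 : G)) h :))
    refine (Nat.card_le_card_of_injective f hf).trans ?_
    rw [Nat.card_prod, Nat.card_eq_fintype_card (α := Bool), Fintype.card_bool]
  have hidx := (normalizer ((T : Subgroup G) : Set G)).index_mul_card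
  have hi : Nat.card (Sylow 2 G) = (normalizer ((T : Subgroup G) : Set G)).index :=
    T.card_eq_index_normalizer
  rw [S.card_group hab, ← hE, ← hi] at hidx
  have hle := Nat.le_of_dvd (by norm_num) hd
  nlinarith [Nat.card_pos (α := E)]

theorem isZassenhaus (hd : Nat.card (Sylow 3 G) ∣ 136) : Cfsg.IsZassenhausGroup G Ω := by
  classical
  have := S.faithful
  have : Fact (Nat.Prime 3) := ⟨Nat.prime_three⟩
  refine ⟨S.faithful, is_two_pretransitive_iff.2 fun h h' => S.two_trans h h',
    fun g a b c => S.eq_one_of_three', ?_, fun N hN htr => ?_⟩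
  · obtain ⟨a⟩ : Nonempty Ω := (Nat.card_pos_iff.1 (S.card.symm ▸ (by norm_num : 0 < 18))).1
    obtain ⟨b, hb, -⟩ := S.exists_ne_two a a
    have := S.four_dvd hd (Ne.symm hb)
    have : Nontrivial (pairStab G a b) := Finite.one_lt_card_iff_nontrivial.1 (by
      have := Nat.card_pos (α := pairStab G a b); omega)
    obtain ⟨g, hg⟩ := exists_ne (1 : pairStab G a b)
    exact ⟨g, fun h => hg (Subtype.ext h), a, b, Ne.symm hb, g.2.1, g.2.2⟩
  · by_contra! hreg
    obtain ⟨a⟩ : Nonempty Ω := (Nat.card_pos_iff.1 (S.card.symm ▸ (by norm_num : 0 < 18))).1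
    obtain ⟨b, hb, -⟩ := S.exists_ne_two a a
    have hNc : Nat.card N = 18 := by
      rw [← (stabilizer N a).index_mul_card, index_stabilizer_of_transitive, S.card, hreg a,
        Subgroup.card_bot]
    have hle : ∀ R : Sylow 3 G, (R : Subgroup G) ≤ N := by
      intro R
      rw [← relIndex_eq_one]
      have h1 : N.relIndex R ∣ 9 := by
        rw [← S.card_sylow_three R]; exact Subgroup.relIndex_dvd_card _ _
      have h2 : N.relIndex R ∣ N.index := by
        rw [← Subgroup.relIndex_sup_right (H := (R : Subgroup G)) (K := N)]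
        exact Subgroup.relIndex_dvd_index_of_le le_sup_right
      have h3 : N.index = 17 * Nat.card (pairStab G a b) := by
        have := N.index_mul_card
        rw [hNc, S.card_group (Ne.symm hb)] at this
        omega
      rw [h3] at h2
      have hco : Nat.Coprime 9 (17 * Nat.card (pairStab G a b)) := by
        refine Nat.Coprime.mul_right (by norm_num) ?_
        exact Nat.Coprime.coprime_dvd_right (S.pairStab_dvd (Ne.symm hb)) (by norm_num)
      exact Nat.eq_one_of_dvd_coprimes hco h1 h2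
    refine S.three_ne_one (Nat.card_eq_one_iff_unique.2 ⟨⟨fun R R' => ?_⟩, inferInstance⟩)
    by_contra hne
    have e1 : (R : Subgroup G).relIndex N = 2 := by
      have := Subgroup.relIndex_mul_relIndex ⊥ (R : Subgroup G) N bot_le (hle R)
      rw [Subgroup.relIndex_bot_left, Subgroup.relIndex_bot_left, hNc, S.card_sylow_three R] at this
      omega
    have e2 : (R : Subgroup G).relIndex R' ≤ 2 := e1 ▸ Subgroup.relIndex_le_of_le_right (hle R') (by omega)
    have e3 : (R : Subgroup G).relIndex R' = 9 := by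
      rw [← S.card_sylow_three R', ← Subgroup.inf_relIndex_right, S.inter_eq_bot (Ne.symm hne),
        Subgroup.relIndex_bot_left]
    omega

theorem identify (hd : Nat.card (Sylow 3 G) ∣ 136) {K : Type*} [Field K] [Fintype K]
    (hK : Fintype.card K = 17) :
    Nonempty (G ≃* Matrix.ProjectiveSpecialLinearGroup (Fin 2) K) ∨
      Nonempty (G ≃* Matrix.ProjGenLinGroup (Fin 2) K) := by
  have hZ := S.isZassenhaus hd
  obtain ⟨a⟩ : Nonempty Ω := (Nat.card_pos_iff.1 (S.card.symm ▸ (by norm_num : 0 < 18))).1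
  obtain ⟨b, hb, -⟩ := S.exists_ne_two a a
  have hab : a ≠ b := Ne.symm hb
  obtain ⟨F, hF, hF17⟩ := S.exists_kernel' a
  have hc : ∀ u v : F, u * v = v * u := by
    have : Fact (Nat.Prime 17) := ⟨by norm_num⟩
    have : IsCyclic F := isCyclic_of_prime_card hF17
    exact fun u v => mul_comm' u v
  rcases card_cases hZ hab hF hc with h | h
  · right
    obtain ⟨L, hL, hLf, hLc, ⟨e⟩⟩ := exists_pgl_of_even hZ hab (by rw [S.card]; omega)
      (by have : Nat.card (pairStab G a b) = 16 := by omega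
          omega)
      (by rw [S.card]; decide +kernel)
    rw [S.card, Nat.card_eq_fintype_card] at hLc
    obtain ⟨e'⟩ := CfsgLib.PSL2.nonempty_pgl_congr (n := Fin 2)
      (FiniteField.ringEquivOfCardEq (K := L) (K' := K) (by omega))
    exact ⟨e.trans e'⟩
  · left
    obtain ⟨L, hL, hLf, -, hLc, ⟨e⟩⟩ := exists_psl hZ hab hF h
    rw [hF17, Nat.card_eq_fintype_card] at hLc
    obtain ⟨e'⟩ := CfsgLib.PSL2.nonempty_psl_congr (n := Fin 2)
      (FiniteField.ringEquivOfCardEq (K := L) (K' := K) (by omega))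
    exact ⟨e.trans e'⟩

end Setup

end CfsgLib.Involutions.Eighteen
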