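import Mathlib
import Cfsg.Agent.Lib.Involutions.Isolated
import Cfsg.Agent.Lib.Involutions.ZStar.Main
import Cfsg.Agent.Lib.Base.Cores
import Cfsg.Prelude.Def_SubgroupEmbedding

/-!
# Extremely closed abelian 2-subgroups

If `H` is an abelian 2-subgroup with `⟨H, H^g⟩ ∩ N(H) = H` for all `g`, then
`G = N(H) O(G)`. Two involutions lying in conjugates of `H` are related when their product has
odd order. The relation is transitive (induction through involution centralisers), so `G`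
permutes the classes, which are labelled by the involutions of `H`; the kernel is proper unless
an involution of `H` is isolated, and then the `Z*`-theorem applies.
-/

set_option autoImplicit false
set_option linter.unusedSectionVars false
set_option linter.style.haveILetI false

namespace CfsgLib.Involutions.ExtremelyClosed

open Subgroup

universe u

variable {G : Type u} [Group G]

/-- The hypothesis. -/
structure EC (H : Subgroup G) : Prop where
  two : IsPGroup 2 H
  comm : IsMulCommutative H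
  closed : Cfsg.IsExtremelyClosed H

/-- The conclusion, in the form used for induction. -/
def Fac (H : Subgroup G) : Prop :=
  ∀ g : G, ∃ k ∈ Cfsg.oddCore G, k⁻¹ * g ∈ normalizer (H : Set G)

/-- The product has odd order. -/
def OddProd (x y : G) : Prop := Odd (orderOf (x * y))

theorem oddProd_symm {x y : G} (h : OddProd x y) : OddProd y x := by
  have e : y * x = y * (x * y) * y⁻¹ := by group
  rw [OddProd, e, orderOf_conj_eq]; exact h

theorem oddProd_conj {x y : G} (g : G) (h : OddProd x y) :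
    OddProd (g * x * g⁻¹) (g * y * g⁻¹) := by
  rw [OddProd, show g * x * g⁻¹ * (g * y * g⁻¹) = g * (x * y) * g⁻¹ by group, orderOf_conj_eq]
  exact h

theorem oddProd_of_conj {x y : G} (g : G) (h : OddProd (g * x * g⁻¹) (g * y * g⁻¹)) :
    OddProd x y := by
  rw [OddProd, show g * x * g⁻¹ * (g * y * g⁻¹) = g * (x * y) * g⁻¹ by group, orderOf_conj_eq] at h
  exact h

/-- An involution lying in a conjugate of `H`. -/
def InD (H : Subgroup G) (x : G) : Prop := orderOf x = 2 ∧ ∃ g : G, g⁻¹ * x * g ∈ H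

theorem inD_conj {H : Subgroup G} {x : G} (h : InD H x) (c : G) : InD H (c * x * c⁻¹) := by
  obtain ⟨h2, g, hg⟩ := h
  refine ⟨by rw [orderOf_conj_eq, h2], c * g, ?_⟩
  rwa [show (c * g)⁻¹ * (c * x * c⁻¹) * (c * g) = g⁻¹ * x * g by group]

theorem inD_mem {H : Subgroup G} {x : G} (hx : x ∈ H) (h2 : orderOf x = 2) : InD H x :=
  ⟨h2, 1, by simpa using hx⟩

theorem oddProd_self {x : G} (h : orderOf x = 2) : OddProd x x := by
  rw [OddProd, invol_mul_self h, orderOf_one]; exact odd_one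

variable [Finite G] {H : Subgroup G}

theorem EC.mul_comm' (hE : EC H) {a b : G} (ha : a ∈ H) (hb : b ∈ H) : a * b = b * a :=
  congrArg Subtype.val (hE.comm.is_comm.comm (⟨a, ha⟩ : H) ⟨b, hb⟩)

/-- The subgroup generated by `H` and a conjugate. -/
def pairGroup (H : Subgroup G) (g : G) : Subgroup G := H ⊔ H.map (MulAut.conj g).toMonoidHom

theorem le_pairGroup (g : G) : H ≤ pairGroup H g := le_sup_left

theorem mem_pairGroup {g x : G} (hx : g⁻¹ * x * g ∈ H) : x ∈ pairGroup H g :=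
  le_sup_right (a := H) ⟨g⁻¹ * x * g, hx, by simp [mul_assoc]⟩

theorem pairGroup_le {g : G} {K : Subgroup G} (h1 : H ≤ K) (h2 : ∀ x, g⁻¹ * x * g ∈ H → x ∈ K) :
    pairGroup H g ≤ K := by
  refine sup_le h1 ?_
  rintro _ ⟨h, hh, rfl⟩
  exact h2 _ (by simpa [mul_assoc] using hh)

theorem EC.mul4 (hE : EC H) (a b c d : H) : a * b * (c * d) = a * c * (b * d) := by
  rw [mul_assoc, ← mul_assoc b c d, hE.comm.is_comm.comm b c, mul_assoc c b d, ← mul_assoc]

theorem EC.le_normalizer_of_mem (hE : EC H) {g x : G} (hx : x ∈ pairGroup H g)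
    (hN : x ∈ normalizer (H : Set G)) : x ∈ H := by
  have := hE.closed g
  exact this ▸ (⟨hx, hN⟩ : x ∈ pairGroup H g ⊓ normalizer (H : Set G))

theorem EC.sylow_pair (hE : EC H) (g : G) :
    ∃ P : Sylow 2 (pairGroup H g), (P : Subgroup (pairGroup H g)) = H.subgroupOf (pairGroup H g) := by
  haveI : Fact (Nat.Prime 2) := ⟨Nat.prime_two⟩
  set X := pairGroup H g with hX
  have hp : IsPGroup 2 (H.subgroupOf X) := hE.two.comap_subtype
  obtain ⟨P, hP⟩ := hp.exists_le_sylow
  refine ⟨P, ?_⟩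
  by_contra hne
  have hlt : H.subgroupOf X < (P : Subgroup X) := lt_of_le_of_ne hP fun h => hne h.symm
  haveI : Group.IsNilpotent (P : Subgroup X) := P.2.isNilpotent
  have hlt' : (H.subgroupOf X).subgroupOf (P : Subgroup X) < ⊤ := by
    rw [lt_top_iff_ne_top, Ne, subgroupOf_eq_top]
    exact not_le_of_gt hlt
  obtain ⟨y, hy, hyH⟩ := SetLike.exists_of_lt
    (Group.normalizerCondition_of_isNilpotent _ hlt')
  refine hyH ?_
  show ((y : X) : G) ∈ H
  refine hE.le_normalizer_of_mem (g := g) (y : X).2 ?_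
  rw [mem_normalizer_iff]
  intro h
  have hmemP : ∀ {v : G} (hv : v ∈ H), (⟨v, le_pairGroup g hv⟩ : X) ∈ (P : Subgroup X) :=
    fun hv => hP hv
  constructor
  · intro hh
    exact (mem_normalizer_iff.1 hy ⟨⟨h, le_pairGroup g hh⟩, hmemP hh⟩).1 hh
  · intro hh
    have h1 := (mem_normalizer_iff.1 (inv_mem hy)
      ⟨⟨_, le_pairGroup g hh⟩, hmemP hh⟩).1 hh
    simpa [mul_assoc, mem_subgroupOf] using h1

/-- A homomorphism onto `H` whose kernel consists of the elements of odd order. -/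
theorem EC.retraction (hE : EC H) (g : G) :
    ∃ ψ : pairGroup H g →* H, ∀ x, ψ x = 1 ↔ Odd (orderOf x) := by
  haveI : Fact (Nat.Prime 2) := ⟨Nat.prime_two⟩
  obtain ⟨P, hP⟩ := hE.sylow_pair g
  have hN : normalizer ((P : Subgroup (pairGroup H g)) : Set (pairGroup H g)) ≤
      centralizer ((P : Subgroup (pairGroup H g)) : Set (pairGroup H g)) := by
    intro x hx
    have hxH : (x : G) ∈ H := by
      refine hE.le_normalizer_of_mem x.2 (mem_normalizer_iff.2 fun h => ⟨fun hh => ?_, fun hh => ?_⟩)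
      · have h1 := (mem_normalizer_iff.1 hx ⟨h, le_pairGroup g hh⟩).1 (by rw [hP]; exact hh)
        rw [hP] at h1
        exact h1
      · have h1 := (mem_normalizer_iff.1 (inv_mem hx) ⟨_, le_pairGroup g hh⟩).1
          (by rw [hP]; exact hh)
        rw [hP] at h1
        simpa [mem_subgroupOf, mul_assoc] using h1
    rw [mem_centralizer_iff]
    intro y hy
    rw [SetLike.mem_coe, hP] at hy
    exact Subtype.ext (hE.mul_comm' hy hxH)
  let e : (P : Subgroup (pairGroup H g)) ≃* H :=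
    (MulEquiv.subgroupCongr hP).trans (subgroupOfEquivOfLe (le_pairGroup g))
  refine ⟨e.toMonoidHom.comp (MonoidHom.transferSylow P hN), fun x => ?_⟩
  have hc := MonoidHom.ker_transferSylow_isComplement' P hN
  have hodd : Odd (Nat.card (MonoidHom.transferSylow P hN).ker) := by
    rw [← hc.index_eq_card, ← Nat.not_even_iff_odd, even_iff_two_dvd]
    exact P.not_dvd_index
  constructor
  · intro h
    have hk : x ∈ (MonoidHom.transferSylow P hN).ker :=
      MonoidHom.mem_ker.2 (e.map_eq_one_iff.1 h)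
    exact hodd.of_dvd_nat (orderOf_dvd_natCard _ hk)
  · intro h
    set u := e.toMonoidHom.comp (MonoidHom.transferSylow P hN) x with hu
    obtain ⟨j, hj⟩ := IsPGroup.iff_orderOf.1 hE.two u
    have hd : orderOf u ∣ orderOf x := orderOf_map_dvd _ x
    rw [hj] at hd
    rcases Nat.eq_zero_or_pos j with rfl | hj0
    · exact orderOf_eq_one_iff.1 (by simpa using hj)
    · exact absurd ((dvd_pow_self 2 hj0.ne').trans hd) (Nat.two_dvd_ne_zero.2 (Nat.odd_iff.1 h))

/-- A 2-subgroup of the pair group can be conjugated into `H`. -/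
theorem EC.conj_into (hE : EC H) {g : G} {T : Subgroup G} (hT : T ≤ pairGroup H g)
    (hT2 : IsPGroup 2 T) : ∃ o ∈ pairGroup H g, ∀ t ∈ T, o⁻¹ * t * o ∈ H := by
  haveI : Fact (Nat.Prime 2) := ⟨Nat.prime_two⟩
  obtain ⟨P, hP⟩ := hE.sylow_pair g
  obtain ⟨Q, hQ⟩ := (hT2.comap_subtype : IsPGroup 2 (T.subgroupOf (pairGroup H g))).exists_le_sylow
  obtain ⟨o, ho⟩ := MulAction.exists_smul_eq (pairGroup H g) P Q
  refine ⟨(o : G), o.2, fun t ht => ?_⟩
  have h1 : (⟨t, hT ht⟩ : pairGroup H g) ∈ Q := hQ ht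
  rw [← ho, mem_smul_sylow_iff'] at h1
  have h2 : (o⁻¹ * ⟨t, hT ht⟩ * o : pairGroup H g) ∈ H.subgroupOf (pairGroup H g) := by
    rw [← hP]; exact h1
  exact h2

/-- The conjugate `H^g` is conjugate to `H` inside the pair group. -/
theorem EC.exists_conj (hE : EC H) (g : G) :
    ∃ o ∈ pairGroup H g, (∀ h ∈ H, o⁻¹ * (g * h * g⁻¹) * o ∈ H) ∧
      o⁻¹ * g ∈ normalizer (H : Set G) := by
  have hT : H.map (MulAut.conj g).toMonoidHom ≤ pairGroup H g := le_sup_right
  obtain ⟨o, ho, hc⟩ := hE.conj_into hT (hE.two.map _)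
  have h1 : ∀ h ∈ H, o⁻¹ * (g * h * g⁻¹) * o ∈ H := fun h hh => hc _ ⟨h, hh, rfl⟩
  refine ⟨o, ho, h1, mem_normalizer_iff.2 fun h => ?_⟩
  have hm : ∀ h ∈ H, (o⁻¹ * g) * h * (o⁻¹ * g)⁻¹ ∈ H := fun h hh => by
    simpa [mul_assoc] using h1 h hh
  refine ⟨hm h, fun hh => ?_⟩
  let f : H → H := fun v => ⟨(o⁻¹ * g) * v * (o⁻¹ * g)⁻¹, hm v v.2⟩
  have hf : Function.Injective f := fun v v' e => Subtype.ext <| by
    exact mul_left_cancel (mul_right_cancel (congrArg Subtype.val e : _))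
  obtain ⟨v, hv⟩ := (Finite.injective_iff_surjective.1 hf) ⟨_, hh⟩
  have : (v : G) = h := by simpa [f] using congrArg Subtype.val hv
  exact this ▸ v.2

/-- A conjugate element of `H` under the pair group is related to the original. -/
theorem EC.oddProd_conj_self (hE : EC H) {g o a : G} (ho : o ∈ pairGroup H g) (ha : a ∈ H)
    (ha2 : orderOf a = 2) : OddProd a (o * a * o⁻¹) := by
  obtain ⟨ψ, hψ⟩ := hE.retraction g
  let a' : pairGroup H g := ⟨a, le_pairGroup g ha⟩
  let o' : pairGroup H g := ⟨o, ho⟩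
  have h1 : ψ (a' * (o' * a' * o'⁻¹)) = 1 := by
    have e : a' * a' = 1 := Subtype.ext (invol_mul_self ha2)
    rw [map_mul, map_mul, map_mul, map_inv, hE.comm.is_comm.comm (ψ o') (ψ a'),
      mul_inv_cancel_right, ← map_mul, e, map_one]
  have h2 := (hψ _).1 h1
  rwa [← Subgroup.orderOf_coe] at h2

/-- Existence of the label. -/
theorem EC.exists_label (hE : EC H) {y : G} (hy : InD H y) :
    ∃ a ∈ H, orderOf a = 2 ∧ OddProd a y := by
  obtain ⟨h2, g, hg⟩ := hy
  obtain ⟨o, ho, hc, -⟩ := hE.exists_conj g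
  have h1 := hc _ hg
  rw [show g * (g⁻¹ * y * g) * g⁻¹ = y by group] at h1
  refine ⟨o⁻¹ * y * o, h1, ?_, ?_⟩
  · have := orderOf_conj_eq o⁻¹ y
    rw [inv_inv] at this
    rw [this, h2]
  · have h3 := hE.oddProd_conj_self ho h1 (by
      have := orderOf_conj_eq o⁻¹ y
      rw [inv_inv] at this
      rw [this, h2])
    rwa [show o * (o⁻¹ * y * o) * o⁻¹ = y by group] at h3

/-- Uniqueness of the label. -/
theorem EC.label_unique (hE : EC H) {a a' y : G} (ha : a ∈ H) (ha' : a' ∈ H) (hy : InD H y)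
    (h : OddProd a y) (h' : OddProd a' y) : a = a' := by
  obtain ⟨-, g, hg⟩ := hy
  obtain ⟨ψ, hψ⟩ := hE.retraction g
  let A : pairGroup H g := ⟨a, le_pairGroup g ha⟩
  let A' : pairGroup H g := ⟨a', le_pairGroup g ha'⟩
  let Y : pairGroup H g := ⟨y, mem_pairGroup hg⟩
  have e1 : ψ (A * Y) = 1 := (hψ _).2 (by rw [← Subgroup.orderOf_coe]; exact h)
  have e2 : ψ (A' * Y) = 1 := (hψ _).2 (by rw [← Subgroup.orderOf_coe]; exact h')
  rw [map_mul] at e1 e2
  have e3 : ψ (A⁻¹ * A') = 1 := by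
    rw [map_mul, map_inv, mul_right_cancel (e1.trans e2.symm), inv_mul_cancel]
  have hodd := (hψ _).1 e3
  rw [← Subgroup.orderOf_coe] at hodd
  obtain ⟨j, hj⟩ := IsPGroup.iff_orderOf.1 hE.two ⟨a⁻¹ * a', mul_mem (inv_mem ha) ha'⟩
  rw [Subgroup.orderOf_mk] at hj
  change Odd (orderOf (a⁻¹ * a')) at hodd
  rcases Nat.eq_zero_or_pos j with rfl | hj0
  · exact inv_mul_eq_one.1 (orderOf_eq_one_iff.1 (by simpa using hj))
  · rw [hj] at hodd
    exact absurd hodd (Nat.not_odd_iff_even.2 (even_iff_two_dvd.2 (dvd_pow_self 2 hj0.ne')))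

/-- Commuting involutions lie in a common conjugate. -/
theorem EC.common_conj (hE : EC H) {x y : G} (hx : InD H x) (hy : InD H y) (hc : Commute x y) :
    ∃ g : G, g⁻¹ * x * g ∈ H ∧ g⁻¹ * y * g ∈ H := by
  obtain ⟨hx2, f, hf⟩ := hx
  obtain ⟨hy2, f', hf'⟩ := hy
  set x₁ := f⁻¹ * x * f with hx₁
  set y₁ := f⁻¹ * y * f with hy₁
  have ho1 : orderOf x₁ = 2 := by
    have := orderOf_conj_eq f⁻¹ x
    rw [inv_inv] at this
    rw [hx₁, this, hx2]
  have ho2 : orderOf y₁ = 2 := by
    have := orderOf_conj_eq f⁻¹ y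
    rw [inv_inv] at this
    rw [hy₁, this, hy2]
  have hc1 : Commute x₁ y₁ := by
    show f⁻¹ * x * f * (f⁻¹ * y * f) = f⁻¹ * y * f * (f⁻¹ * x * f)
    rw [show f⁻¹ * x * f * (f⁻¹ * y * f) = f⁻¹ * (x * y) * f by group, hc.eq]
    group
  have hle : closure ({x₁, y₁} : Set G) ≤ pairGroup H (f⁻¹ * f') := by
    rw [closure_le]
    rintro v (rfl | rfl)
    · exact le_pairGroup _ hf
    · refine mem_pairGroup ?_
      rw [hy₁, show (f⁻¹ * f')⁻¹ * (f⁻¹ * y * f) * (f⁻¹ * f') = f'⁻¹ * y * f' by group]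
      exact hf'
  obtain ⟨o, -, ho⟩ := hE.conj_into hle (isPGroup_closure_pair ho1 ho2 hc1)
  refine ⟨f * o, ?_, ?_⟩
  · have := ho x₁ (subset_closure (by simp))
    rwa [show (f * o)⁻¹ * x * (f * o) = o⁻¹ * (f⁻¹ * x * f) * o by group]
  · have := ho y₁ (subset_closure (by simp))
    rwa [show (f * o)⁻¹ * y * (f * o) = o⁻¹ * (f⁻¹ * y * f) * o by group]

/-- Commuting involutions with the same label are equal. -/
theorem EC.eq_of_commute (hE : EC H) {a y z : G} (ha : InD H a) (hy : InD H y) (hz : InD H z)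
    (hc : Commute y z) (h1 : OddProd a y) (h2 : OddProd a z) : y = z := by
  obtain ⟨g, hgy, hgz⟩ := hE.common_conj hy hz hc
  have e := hE.label_unique hgy hgz (inD_conj ha g⁻¹)
    (by simpa using oddProd_symm (oddProd_conj g⁻¹ h1))
    (by simpa using oddProd_symm (oddProd_conj g⁻¹ h2))
  simpa using congrArg (fun v => g * v * g⁻¹) e

theorem EC.exists_between_aux (hE : EC H) {x y : G} (hxH : x ∈ H) (hx : orderOf x = 2)
    (hy : InD H y) (h : ¬ OddProd x y) :
    ∃ w, InD H w ∧ Commute x w ∧ Commute y w ∧ w ≠ x ∧ w ≠ y ∧ OddProd (x * w) y := by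
  obtain ⟨hy2, g, hg⟩ := hy
  obtain ⟨ψ, hψ⟩ := hE.retraction g
  let A : pairGroup H g := ⟨x, le_pairGroup g hxH⟩
  let Y : pairGroup H g := ⟨y, mem_pairGroup hg⟩
  have hAA : A * A = 1 := Subtype.ext (invol_mul_self hx)
  have hYY : Y * Y = 1 := Subtype.ext (invol_mul_self hy2)
  have hAinv : A⁻¹ = A := inv_eq_of_mul_eq_one_left hAA
  have hYinv : Y⁻¹ = Y := inv_eq_of_mul_eq_one_left hYY
  have hψA : ψ A ≠ 1 := fun e => by
    have := (hψ _).1 e
    rw [← Subgroup.orderOf_coe] at this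
    change Odd (orderOf x) at this
    rw [hx] at this
    exact absurd this (by decide)
  have hψY : ψ Y ≠ 1 := fun e => by
    have := (hψ _).1 e
    rw [← Subgroup.orderOf_coe] at this
    change Odd (orderOf y) at this
    rw [hy2] at this
    exact absurd this (by decide)
  have hAY : ψ (A * Y) ≠ 1 := fun e => h (by
    have := (hψ _).1 e
    rwa [← Subgroup.orderOf_coe] at this)
  have hsq : ψ ((A * Y) ^ 2) = 1 := by
    rw [map_pow, map_mul, sq, hE.mul4,
      ← map_mul, ← map_mul, hAA, hYY, map_one, one_mul]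
  set k := orderOf ((A * Y) ^ 2) with hk
  obtain ⟨m, hm⟩ : Odd k := (hψ _).1 hsq
  set W := (A * Y) ^ k with hW
  have hWW : W * W = 1 := by
    rw [hW, ← pow_add, ← two_mul, pow_mul, hk, pow_orderOf_eq_one]
  have hψW : ψ W = ψ A * ψ Y := by
    rw [hW, hm, pow_succ, pow_mul, map_mul, map_pow, hsq, one_pow, one_mul, map_mul]
  have hW1 : W ≠ 1 := fun e => hAY (by rw [map_mul, ← hψW, e, map_one])
  have hWinv : W⁻¹ = W := inv_eq_of_mul_eq_one_left hWW
  have hinvAY : (A * Y)⁻¹ = Y * A := by rw [mul_inv_rev, hAinv, hYinv]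
  have hYA : (Y * A) ^ k = W := by rw [← hinvAY, inv_pow, ← hW, hWinv]
  have hAW : A * W = W * A := by
    have e : A * W * A⁻¹ = W := by
      rw [hW, ← conj_pow, show A * (A * Y) * A⁻¹ = Y * A by
        rw [← mul_assoc, hAA, one_mul, hAinv], hYA]
    exact mul_inv_eq_iff_eq_mul.1 e
  have hYW : Y * W = W * Y := by
    have e : Y * W * Y⁻¹ = W := by
      rw [hW, ← conj_pow, show Y * (A * Y) * Y⁻¹ = Y * A by
        rw [mul_assoc, mul_assoc A, mul_inv_cancel, mul_one], hYA]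
    exact mul_inv_eq_iff_eq_mul.1 e
  have hW2 : orderOf (W : G) = 2 := by
    rw [Subgroup.orderOf_coe]
    exact orderOf_eq_prime (by rw [pow_two, hWW]) hW1
  obtain ⟨o, -, ho⟩ := hE.conj_into (T := zpowers (W : G)) (zpowers_le.2 W.2)
    (IsPGroup.of_card (n := 1) (by rw [Nat.card_zpowers, hW2, pow_one]))
  refine ⟨W, ⟨hW2, o, ho _ (mem_zpowers _)⟩, congrArg Subtype.val hAW, congrArg Subtype.val hYW,
    ?_, ?_, ?_⟩
  · intro e
    have e' : W = A := Subtype.ext e
    rw [e', left_eq_mul] at hψW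
    exact hψY hψW
  · intro e
    have e' : W = Y := Subtype.ext e
    rw [e', right_eq_mul] at hψW
    exact hψA hψW
  · have h1 : ψ (A * W * Y) = 1 := by
      rw [map_mul, map_mul, hψW, ← mul_assoc (ψ A), ← map_mul, hAA, map_one, one_mul, ← map_mul,
        hYY, map_one]
    have h2 := (hψ _).1 h1
    rwa [← Subgroup.orderOf_coe] at h2

/-- Two involutions with product of even order centralise a common third one. -/
theorem EC.exists_between (hE : EC H) {x y : G} (hx : InD H x) (hy : InD H y)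
    (h : ¬ OddProd x y) :
    ∃ w, InD H w ∧ Commute x w ∧ Commute y w ∧ w ≠ x ∧ w ≠ y ∧ OddProd (x * w) y := by
  obtain ⟨hx2, g, hg⟩ := hx
  have e0 : ∀ v : G, g * (g⁻¹ * v * g) * g⁻¹ = v := fun v => by group
  have h2 : orderOf (g⁻¹ * x * g) = 2 := by
    have := orderOf_conj_eq g⁻¹ x
    rw [inv_inv] at this
    rw [this, hx2]
  obtain ⟨w, hw, c1, c2, n1, n2, hodd⟩ := hE.exists_between_aux hg h2
    (by simpa using inD_conj hy g⁻¹)
    (fun hh => h (by simpa [e0] using oddProd_conj g hh))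
  refine ⟨g * w * g⁻¹, inD_conj hw g, ?_, ?_, ?_, ?_, ?_⟩
  · have := c1.map (MulAut.conj g)
    simpa [e0] using this
  · have := c2.map (MulAut.conj g)
    simpa [e0] using this
  · intro e
    exact n1 (by rw [← e]; group)
  · intro e
    exact n2 (by rw [← e]; group)
  · have h3 := oddProd_conj g hodd
    rwa [show g * (g⁻¹ * x * g * w) * g⁻¹ = x * (g * w * g⁻¹) by group, e0] at h3

theorem ec_subgroupOf (hE : EC H) {C : Subgroup G} (hC : H ≤ C) : EC (H.subgroupOf C) := by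
  refine ⟨hE.two.comap_subtype, ⟨⟨fun a b => Subtype.ext (Subtype.ext (hE.mul_comm' a.2 b.2))⟩⟩,
    fun g => ?_⟩
  apply le_antisymm
  · rintro x ⟨hx, hxN⟩
    refine hE.le_normalizer_of_mem (g := (g : G)) ?_ ?_
    · have hle : H.subgroupOf C ⊔ (H.subgroupOf C).map (MulAut.conj g).toMonoidHom ≤
          (pairGroup H (g : G)).subgroupOf C := by
        refine sup_le (fun v hv => le_pairGroup _ hv) ?_
        rintro _ ⟨v, hv, rfl⟩
        refine mem_pairGroup ?_
        have hv' : (v : G) ∈ H := hv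
        simpa [mul_assoc] using hv'
      exact hle hx
    · rw [mem_normalizer_iff]
      intro h
      constructor
      · intro hh
        exact (mem_normalizer_iff.1 hxN ⟨h, hC hh⟩).1 hh
      · intro hh
        have := (mem_normalizer_iff.1 (inv_mem hxN) ⟨_, hC hh⟩).1 hh
        simpa [mem_subgroupOf, mul_assoc] using this
  · exact le_inf le_sup_left le_normalizer

/-- Factorisation inside a subgroup containing `H`. -/
theorem fac_sub {C : Subgroup G} (hC : H ≤ C) (hF : Fac (H.subgroupOf C)) {c : G} (hc : c ∈ C) :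
    ∃ k ∈ (Cfsg.oddCore C).map C.subtype, k⁻¹ * c ∈ normalizer (H : Set G) := by
  obtain ⟨k, hk, hkN⟩ := hF ⟨c, hc⟩
  refine ⟨k, ⟨k, hk, rfl⟩, mem_normalizer_iff.2 fun h => ⟨fun hh => ?_, fun hh => ?_⟩⟩
  · exact (mem_normalizer_iff.1 hkN ⟨h, hC hh⟩).1 hh
  · have h1 := (mem_normalizer_iff.1 (inv_mem hkN) ⟨_, hC hh⟩).1 hh
    simpa [mem_subgroupOf, mul_assoc] using h1

theorem EC.trans_aux (hE : EC H)
    (ih : ∀ b ∈ H, orderOf b = 2 → Fac (H.subgroupOf (centralizer ({b} : Set G))))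
    {a w z y y' : G} (haH : a ∈ H) (ha2 : orderOf a = 2) (hwH : w ∈ H) (hw2 : orderOf w = 2)
    (hne : a ≠ w) (hz : InD H z) (hzw : Commute z w) (hbz : OddProd (a * w) z)
    (hy : InD H y) (hy' : InD H y') (hyz : Commute y z) (hy'z : Commute y' z)
    (h1 : OddProd a y) (h2 : OddProd a y') : OddProd y y' := by
  set b := a * w with hb
  have hbH : b ∈ H := mul_mem haH hwH
  have haw : Commute a w := hE.mul_comm' haH hwH
  have hbb : b * b = 1 := by
    rw [hb, haw.symm.mul_mul_mul_comm, invol_mul_self ha2, invol_mul_self hw2, one_mul]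
  have hb1 : b ≠ 1 := fun e => hne (by
    have := inv_eq_of_mul_eq_one_right (hb ▸ e : a * w = 1)
    rwa [inv_eq_of_mul_eq_one_left (invol_mul_self ha2)] at this)
  have hb2 : orderOf b = 2 := orderOf_eq_prime (by rw [pow_two, hbb]) hb1
  have hbw : b * w = a := by rw [hb, mul_assoc, invol_mul_self hw2, mul_one]
  -- move `z` to `b` fixing `w`
  obtain ⟨g, hgz, hgw⟩ := hE.common_conj hz (inD_mem hwH hw2) hzw
  obtain ⟨o, ho, hoH, -⟩ := hE.exists_conj g
  have how : o * w * o⁻¹ = w := by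
    have hle : pairGroup H g ≤ centralizer ({w} : Set G) := by
      refine pairGroup_le (fun h hh => mem_centralizer_singleton_iff.2 (hE.mul_comm' hh hwH))
        fun v hv => mem_centralizer_singleton_iff.2 ?_
      have e := hE.mul_comm' hv hgw
      calc v * w = g * ((g⁻¹ * v * g) * (g⁻¹ * w * g)) * g⁻¹ := by group
        _ = w * v := by rw [e]; group
    rw [mem_centralizer_singleton_iff.1 (hle ho), mul_inv_cancel_right]
  have hoz : o * b * o⁻¹ = z := by
    have hm := hoH _ hgz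
    rw [show g * (g⁻¹ * z * g) * g⁻¹ = z by group] at hm
    have h2' : orderOf (o⁻¹ * z * o) = 2 := by
      have := orderOf_conj_eq o⁻¹ z
      rw [inv_inv] at this
      rw [this, hz.1]
    have h3 := hE.oddProd_conj_self ho hm h2'
    rw [show o * (o⁻¹ * z * o) * o⁻¹ = z by group] at h3
    rw [hE.label_unique hbH hm hz hbz h3]
    group
  -- the structure of the translate of any such involution
  have key : ∀ v, InD H v → Commute v z → OddProd a v →
      ∃ k ∈ (Cfsg.oddCore (centralizer ({b} : Set G))).map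
        (centralizer ({b} : Set G)).subtype, o⁻¹ * v * o = k * a * k⁻¹ ∧
        a * k * a⁻¹ * k⁻¹ ∈ (Cfsg.oddCore (centralizer ({b} : Set G))).map
          (centralizer ({b} : Set G)).subtype := by
    intro v hv hvz hav
    set v₁ := o⁻¹ * v * o with hv₁
    have hv₁D : InD H v₁ := by simpa using inD_conj hv o⁻¹
    have hv₁b : Commute v₁ b := by
      have := hvz.map (MulAut.conj o⁻¹)
      simpa [← hoz, mul_assoc, hv₁] using this
    obtain ⟨f, hfv, hfb⟩ := hE.common_conj hv₁D (inD_mem hbH hb2) hv₁b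
    obtain ⟨o₃, ho₃, ho₃H, -⟩ := hE.exists_conj f
    have hle : pairGroup H f ≤ centralizer ({b} : Set G) := by
      refine pairGroup_le (fun h hh => mem_centralizer_singleton_iff.2 (hE.mul_comm' hh hbH))
        fun x hx => mem_centralizer_singleton_iff.2 ?_
      have e := hE.mul_comm' hx hfb
      calc x * b = f * ((f⁻¹ * x * f) * (f⁻¹ * b * f)) * f⁻¹ := by group
        _ = b * x := by rw [e]; group
    have ho₃b : o₃ * b * o₃⁻¹ = b := by
      rw [mem_centralizer_singleton_iff.1 (hle ho₃), mul_inv_cancel_right]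
    have hh := ho₃H _ hfv
    rw [show f * (f⁻¹ * v₁ * f) * f⁻¹ = v₁ by group] at hh
    set h := o₃⁻¹ * v₁ * o₃ with hhdef
    -- the element of the conjugate with label `a`
    have hah : h = a := by
      have hw' : OddProd w ((o * o₃) * w * (o * o₃)⁻¹) := by
        have := oddProd_conj o (hE.oddProd_conj_self ho₃ hwH hw2)
        rw [how] at this
        convert this using 1
        group
      have hz' : (o * o₃) * b * (o * o₃)⁻¹ = z := by
        rw [show (o * o₃) * b * (o * o₃)⁻¹ = o * (o₃ * b * o₃⁻¹) * o⁻¹ by group, ho₃b, hoz]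
      obtain ⟨ψ, hψ⟩ := hE.retraction (o * o₃)
      set u := (o * o₃) * a * (o * o₃)⁻¹ with hu
      have hau : OddProd a u := by
        let B : pairGroup H (o * o₃) := ⟨b, le_pairGroup _ hbH⟩
        let W : pairGroup H (o * o₃) := ⟨w, le_pairGroup _ hwH⟩
        let Z : pairGroup H (o * o₃) := ⟨z, mem_pairGroup (by rw [← hz']; simpa [mul_assoc] using hbH)⟩
        let W' : pairGroup H (o * o₃) :=
          ⟨(o * o₃) * w * (o * o₃)⁻¹, mem_pairGroup (by simpa [mul_assoc] using hwH)⟩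
        have e1 : ψ (B * Z) = 1 := (hψ _).2 (by rw [← Subgroup.orderOf_coe]; exact hbz)
        have e2 : ψ (W * W') = 1 := (hψ _).2 (by rw [← Subgroup.orderOf_coe]; exact hw')
        have e3 : ψ (B * W * (Z * W')) = 1 := by
          rw [map_mul, map_mul, map_mul,
            hE.mul4,
            ← map_mul, ← map_mul, e1, e2, one_mul]
        have h3 := (hψ _).1 e3
        rw [← Subgroup.orderOf_coe] at h3
        change Odd (orderOf (b * w * (z * ((o * o₃) * w * (o * o₃)⁻¹)))) at h3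
        rw [OddProd, hu]
        rw [hbw, show z * ((o * o₃) * w * (o * o₃)⁻¹) = (o * o₃) * (b * w) * (o * o₃)⁻¹ by
          rw [← hz']; group, hbw] at h3
        exact h3
      have hvu : v = u := by
        refine hE.eq_of_commute (inD_mem haH ha2) hv (inD_conj (inD_mem haH ha2) _) ?_ hav hau
        have hvh : v = (o * o₃) * h * (o * o₃)⁻¹ := by rw [hhdef, hv₁]; group
        rw [hvh]
        exact (show Commute h a from hE.mul_comm' hh haH).map (MulAut.conj (o * o₃))
      rw [hhdef, hv₁, hvu, hu]; group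
    have hv₁eq : v₁ = o₃ * a * o₃⁻¹ := by rw [← hah, hhdef]; group
    have hlabel : OddProd a v₁ := hv₁eq ▸ hE.oddProd_conj_self ho₃ haH ha2
    have hHC : H ≤ centralizer ({b} : Set G) := fun x hx =>
      mem_centralizer_singleton_iff.2 (hE.mul_comm' hx hbH)
    obtain ⟨k, hk, hkN⟩ := fac_sub hHC (ih b hbH hb2) (hle ho₃)
    set O := (Cfsg.oddCore (centralizer ({b} : Set G))).map
        (centralizer ({b} : Set G)).subtype with hO
    have ha' : (k⁻¹ * o₃) * a * (k⁻¹ * o₃)⁻¹ ∈ H := (mem_normalizer_iff.1 hkN a).1 haH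
    set a' := (k⁻¹ * o₃) * a * (k⁻¹ * o₃)⁻¹ with ha'def
    have hv₁k : v₁ = k * a' * k⁻¹ := by rw [hv₁eq, ha'def]; group
    have hnO : ∀ c ∈ centralizer ({b} : Set G), ∀ x ∈ O, c * x * c⁻¹ ∈ O := fun c hc x hx =>
      (mem_normalizer_iff.1 (CfsgLib.Base.le_normalizer_map_pPrimeCore _ hc) x).1 hx
    have hcomm : a' * k * a'⁻¹ * k⁻¹ ∈ O := mul_mem (hnO _ (hHC ha') k hk) (inv_mem hk)
    have ha'2 : orderOf a' = 2 := by rw [ha'def, orderOf_conj_eq, ha2]
    have ha'inv : a'⁻¹ = a' := inv_eq_of_mul_eq_one_left (invol_mul_self ha'2)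
    have hlabel' : OddProd a' v₁ := by
      have h3 : a' * v₁ ∈ O := by
        rw [hv₁k, show a' * (k * a' * k⁻¹) = a' * k * a'⁻¹ * k⁻¹ by
          rw [ha'inv]; group]
        exact hcomm
      have hodd : Odd (Nat.card O) := by
        rw [hO, Subgroup.card_subtype]
        exact CfsgLib.Base.odd_card_oddCore _
      exact hodd.of_dvd_nat (Subgroup.orderOf_dvd_natCard _ h3)
    have haa : a' = a := hE.label_unique ha' haH hv₁D hlabel' hlabel
    exact ⟨k, hk, by rw [hv₁k, haa], haa ▸ hcomm⟩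
  obtain ⟨k, hk, ek, hk'⟩ := key y hy hyz h1
  obtain ⟨k', hk2, ek', hk2'⟩ := key y' hy' hy'z h2
  refine oddProd_of_conj o⁻¹ ?_
  rw [inv_inv, ek, ek', OddProd]
  set O := (Cfsg.oddCore (centralizer ({b} : Set G))).map
      (centralizer ({b} : Set G)).subtype with hO
  have hainv : a⁻¹ = a := inv_eq_of_mul_eq_one_left (invol_mul_self ha2)
  have hmem : k * a * k⁻¹ * (k' * a * k'⁻¹) ∈ O := by
    have e : k * a * k⁻¹ * (k' * a * k'⁻¹) = (a * k * a⁻¹ * k⁻¹)⁻¹ * (a * k' * a⁻¹ * k'⁻¹) := by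
      rw [hainv, mul_inv_rev, mul_inv_rev, mul_inv_rev, inv_inv, hainv]
      calc k * a * k⁻¹ * (k' * a * k'⁻¹)
          = k * a * k⁻¹ * (a * a) * (k' * a * k'⁻¹) := by rw [invol_mul_self ha2, mul_one]
        _ = k * (a * (k⁻¹ * a)) * (a * k' * a * k'⁻¹) := by group
    rw [e]
    exact mul_mem (inv_mem hk') hk2'
  have hodd : Odd (Nat.card O) := by
    rw [hO, Subgroup.card_subtype]
    exact CfsgLib.Base.odd_card_oddCore _
  exact hodd.of_dvd_nat (Subgroup.orderOf_dvd_natCard _ hmem)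

/-- Transitivity of the relation. -/
theorem EC.oddProd_trans (hE : EC H)
    (ih : ∀ b ∈ H, orderOf b = 2 → Fac (H.subgroupOf (centralizer ({b} : Set G))))
    {a y y' : G} (ha : InD H a) (hy : InD H y) (hy' : InD H y')
    (h1 : OddProd a y) (h2 : OddProd a y') : OddProd y y' := by
  by_contra h
  obtain ⟨z, hz, cyz, cy'z, hzy, -, -⟩ := hE.exists_between hy hy' h
  have haz : ¬ OddProd a z := fun haz => hzy (hE.eq_of_commute ha hy hz cyz h1 haz).symm
  obtain ⟨w, hw, caw, czw, hwa, -, hbz⟩ := hE.exists_between ha hz haz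
  obtain ⟨g, hga, hgw⟩ := hE.common_conj ha hw caw
  refine h (oddProd_of_conj g⁻¹ ?_)
  have tr : ∀ {u v : G}, OddProd u v → OddProd (g⁻¹ * u * g) (g⁻¹ * v * g) := fun huv => by
    simpa using oddProd_conj g⁻¹ huv
  have trc : ∀ {u v : G}, Commute u v → Commute (g⁻¹ * u * g) (g⁻¹ * v * g) := fun huv => by
    simpa using huv.map (MulAut.conj g⁻¹)
  have ord : ∀ {u : G}, InD H u → InD H (g⁻¹ * u * g) := fun hu => by
    simpa using inD_conj hu g⁻¹
  rw [inv_inv]
  refine hE.trans_aux ih hga (ord ha).1 hgw (ord hw).1 (fun e => hwa ?_) (ord hz)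
    (trc czw) ?_ (ord hy) (ord hy') (trc cyz) (trc cy'z) (tr h1) (tr h2)
  · simpa using (congrArg (fun v => g * v * g⁻¹) e).symm
  · have h3 := tr hbz
    rwa [show g⁻¹ * (a * w) * g = g⁻¹ * a * g * (g⁻¹ * w * g) by group] at h3

theorem fac_of_central (hE : EC H) {z : G} (hzH : z ∈ H) (hz2 : orderOf z = 2)
    (hzc : z ∈ center G)
    (ih : ∀ (K : Type u) [Group K] [Finite K], Nat.card K < Nat.card G →
      ∀ H' : Subgroup K, EC H' → Fac H') : Fac H := by
  haveI : Fact (Nat.Prime 2) := ⟨Nat.prime_two⟩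
  set Z := zpowers z with hZ
  have hZH : Z ≤ H := zpowers_le.2 hzH
  haveI hZn : Z.Normal := ⟨fun v hv g => by
    rw [(mem_center_iff.1 ((zpowers_le.2 hzc) hv) g), mul_inv_cancel_right]; exact hv⟩
  set q := QuotientGroup.mk' Z with hq
  have hqs : Function.Surjective q := QuotientGroup.mk'_surjective Z
  have hcomap : (H.map q).comap q = H := by
    rw [comap_map_eq, QuotientGroup.ker_mk', sup_eq_left.2 hZH]
  have hnorm : ∀ x : G, q x ∈ normalizer ((H.map q : Subgroup _) : Set _) →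
      x ∈ normalizer (H : Set G) := fun x hx => by
    rw [mem_normalizer_iff]
    intro h
    have := mem_normalizer_iff.1 hx (q h)
    rw [← map_inv, ← map_mul, ← map_mul] at this
    rw [← hcomap, mem_comap, mem_comap]
    exact this
  have hE' : EC (H.map q) := by
    refine ⟨hE.two.map q, ⟨⟨?_⟩⟩, fun gb => ?_⟩
    · rintro ⟨_, a, ha, rfl⟩ ⟨_, b, hb, rfl⟩
      exact Subtype.ext (by simp only [Subgroup.coe_mul, ← map_mul, hE.mul_comm' ha hb])
    · obtain ⟨g, rfl⟩ := hqs gb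
      apply le_antisymm
      · rintro xb ⟨hx, hxN⟩
        have e : H.map q ⊔ (H.map q).map (MulAut.conj (q g)).toMonoidHom =
            (pairGroup H g).map q := by
          rw [pairGroup, Subgroup.map_sup, Subgroup.map_map, Subgroup.map_map]
          congr 2
        rw [SetLike.mem_coe, e] at hx
        obtain ⟨x, hx, rfl⟩ := hx
        exact ⟨x, hE.le_normalizer_of_mem hx (hnorm x hxN), rfl⟩
      · exact le_inf le_sup_left le_normalizer
  have hZcard : Nat.card Z = 2 := by rw [hZ, Nat.card_zpowers, hz2]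
  have hlt : Nat.card (G ⧸ Z) < Nat.card G := by
    have := card_eq_card_quotient_mul_card_subgroup Z
    rw [hZcard] at this
    have : 0 < Nat.card (G ⧸ Z) := Nat.card_pos
    omega
  intro g
  obtain ⟨kb, hkb, hkN⟩ := ih _ hlt _ hE' (q g)
  obtain ⟨u, rfl⟩ := hqs kb
  have hu : u ∈ (Cfsg.oddCore (G ⧸ Z)).comap q := hkb
  set U := (Cfsg.oddCore (G ⧸ Z)).comap q with hU
  haveI hUn : U.Normal := (Cfsg.pPrimeCore_normal 2 (G ⧸ Z)).comap q
  have hZU : Z ≤ U := by
    intro v hv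
    rw [hU, mem_comap, show q v = 1 from (QuotientGroup.eq_one_iff v).2 hv]
    exact one_mem _
  -- the odd complement of `Z` in `U`
  have hcop : (Nat.card (Z.subgroupOf U)).Coprime (Z.subgroupOf U).index := by
    have h1 : Nat.card (Z.subgroupOf U) = 2 := by
      rw [CfsgLib.Base.card_subgroupOf hZU, hZcard]
    have h2 : Nat.card U = 2 * Nat.card (Cfsg.oddCore (G ⧸ Z)) := by
      rw [hU, hq, CfsgLib.Base.card_comap_mk', hZcard]
    have h3 := (Z.subgroupOf U).index_mul_card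
    rw [h1, h2, mul_comm 2 (Nat.card _)] at h3
    rw [h1, Nat.eq_of_mul_eq_mul_right two_pos h3]
    exact (Nat.coprime_two_left).2 (CfsgLib.Base.odd_card_oddCore _)
  obtain ⟨C, hC⟩ := exists_right_complement'_of_coprime hcop
  have hCi : C.index = 2 := by
    rw [hC.index_eq_card, CfsgLib.Base.card_subgroupOf hZU, hZcard]
  have hCodd : Odd (Nat.card C) := by
    have h2 : Nat.card U = 2 * Nat.card (Cfsg.oddCore (G ⧸ Z)) := by
      rw [hU, hq, CfsgLib.Base.card_comap_mk', hZcard]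
    have h3 := C.index_mul_card
    rw [hCi, h2] at h3
    rw [Nat.eq_of_mul_eq_mul_left two_pos h3]
    exact CfsgLib.Base.odd_card_oddCore _
  have hodd_mem : ∀ v : U, Odd (orderOf v) → v ∈ C := by
    intro v hv
    obtain ⟨m, hm⟩ := hv
    have h1 : v ^ 2 ∈ C := sq_mem_of_index_two hCi v
    have : (v ^ 2) ^ (m + 1) = v := by
      rw [← pow_mul, show 2 * (m + 1) = orderOf v + 1 by omega, pow_succ, pow_orderOf_eq_one,
        one_mul]
    rw [← this]
    exact pow_mem h1 _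
  have hKn : (C.map U.subtype).Normal := ⟨by
    rintro _ ⟨v, hv, rfl⟩ c
    refine ⟨⟨c * v * c⁻¹, hUn.conj_mem _ v.2 c⟩, hodd_mem _ ?_, rfl⟩
    rw [← Subgroup.orderOf_coe]
    show Odd (orderOf (c * (v : G) * c⁻¹))
    rw [orderOf_conj_eq, Subgroup.orderOf_coe]
    exact hCodd.of_dvd_nat (Subgroup.orderOf_dvd_natCard _ hv)⟩
  have hKO : C.map U.subtype ≤ Cfsg.oddCore G := by
    haveI := hKn
    refine CfsgLib.Base.le_oddCore ?_
    rw [Subgroup.card_subtype]
    exact hCodd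
  obtain ⟨⟨k, hk⟩, hkz⟩ : ∃ k : U, k ∈ C ∧ (k = ⟨u, hu⟩ ∨ k = ⟨z * u, mul_mem (hZU (mem_zpowers z)) hu⟩) := by
    rcases Classical.em ((⟨u, hu⟩ : U) ∈ C) with h | h
    · exact ⟨_, h, Or.inl rfl⟩
    · refine ⟨_, ?_, Or.inr rfl⟩
      have hzC : (⟨z, hZU (mem_zpowers z)⟩ : U) ∉ C := fun hh => by
        have h2 := Subgroup.orderOf_dvd_natCard C hh
        rw [← Subgroup.orderOf_coe] at h2
        change orderOf z ∣ _ at h2
        rw [hz2] at h2
        exact Nat.not_even_iff_odd.2 hCodd (even_iff_two_dvd.2 h2)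
      exact (mul_mem_iff_of_index_two hCi).2 (iff_of_false hzC h)
  refine ⟨k, hKO ⟨_, hkz.1, rfl⟩, ?_⟩
  have hgN : u⁻¹ * g ∈ normalizer (H : Set G) := hnorm _ (by rw [map_mul, map_inv]; exact hkN)
  rcases hkz.2 with e | e <;> cases e
  · exact hgN
  · rw [mul_inv_rev, mem_center_iff.1 (inv_mem hzc) u⁻¹, mul_assoc]
    exact mul_mem (le_normalizer (inv_mem hzH)) hgN

theorem exists_oddCore_mul_centralizer {x : G} (hiso : Cfsg.IsIsolatedInvolution x) (g : G) :
    ∃ k ∈ Cfsg.oddCore G, k⁻¹ * g ∈ centralizer ({x} : Set G) := by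
  have hxx := invol_mul_self hiso.1
  have hxinv : x⁻¹ = x := inv_eq_of_mul_eq_one_left hxx
  set e := g * x * g⁻¹ * x with he
  have heO : e ∈ Cfsg.oddCore G := by
    have h1 := CfsgLib.Involutions.ZStar.centralModCore hiso g
    have : e = (x * g * x⁻¹ * g⁻¹)⁻¹ := by
      rw [he, mul_inv_rev, mul_inv_rev, mul_inv_rev, inv_inv, inv_inv, hxinv]
      group
    rw [this]
    exact inv_mem h1
  obtain ⟨m, hm⟩ : Odd (orderOf e) :=
    (CfsgLib.Base.odd_card_oddCore G).of_dvd_nat (Subgroup.orderOf_dvd_natCard _ heO)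
  set k := e ^ (m + 1) with hk
  have hee : k * k = e := by
    rw [hk, ← pow_add, show m + 1 + (m + 1) = orderOf e + 1 by omega, pow_succ,
      pow_orderOf_eq_one, one_mul]
  have hgg : g * x * g⁻¹ * (g * x * g⁻¹) = 1 := by
    rw [show g * x * g⁻¹ * (g * x * g⁻¹) = g * (x * x) * g⁻¹ by group, hxx, mul_one,
      mul_inv_cancel]
  have hxe : x * e * x⁻¹ = e⁻¹ := by
    rw [he, mul_inv_rev, inv_eq_of_mul_eq_one_left hgg, hxinv, mul_assoc x (g * x * g⁻¹ * x) x,
      mul_assoc _ x x, hxx, mul_one]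
  have hxk : x * k * x⁻¹ = k⁻¹ := by rw [hk, ← conj_pow, hxe, inv_pow]
  refine ⟨k, pow_mem heO _, mem_centralizer_singleton_iff.2 ?_⟩
  have hy : g * x * g⁻¹ = k * x * k⁻¹ := by
    have h1 : x * k⁻¹ * x⁻¹ = k := by
      rw [show x * k⁻¹ * x⁻¹ = (x * k * x⁻¹)⁻¹ by group, hxk, inv_inv]
    calc g * x * g⁻¹ = e * x⁻¹ := by rw [he]; group
      _ = k * k * x := by rw [hee, hxinv]
      _ = k * (x * k⁻¹ * x⁻¹) * x := by rw [h1]
      _ = k * x * k⁻¹ := by group
  calc k⁻¹ * g * x = k⁻¹ * (g * x * g⁻¹) * g := by group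
    _ = x * (k⁻¹ * g) := by rw [hy]; group

theorem fac_aux (n : ℕ) : ∀ (G : Type u) [Group G] [Finite G], Nat.card G = n →
    ∀ H : Subgroup G, EC H → Fac H := by
  induction n using Nat.strong_induction_on with
  | _ n ih =>
  intro G _ _ hn H hE
  haveI : Fact (Nat.Prime 2) := ⟨Nat.prime_two⟩
  subst hn
  have ih' : ∀ (K : Type u) [Group K] [Finite K], Nat.card K < Nat.card G →
      ∀ H' : Subgroup K, EC H' → Fac H' := fun K _ _ hlt => ih _ hlt K rfl
  by_cases hH1 : H = ⊥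
  · intro g
    refine ⟨1, one_mem _, mem_normalizer_iff.2 fun h => ?_⟩
    simp [hH1, mul_inv_eq_one]
  obtain ⟨x, hxH, hx2⟩ : ∃ x ∈ H, orderOf x = 2 := by
    obtain ⟨a, ha⟩ := hE.two.exists_card_eq
    have ha0 : a ≠ 0 := fun h0 => hH1 (card_eq_one.1 (by rw [ha, h0, pow_zero]))
    obtain ⟨v, hv⟩ := exists_prime_orderOf_dvd_card' (G := H) 2 (ha ▸ dvd_pow_self 2 ha0)
    exact ⟨v, v.2, by rw [Subgroup.orderOf_coe, hv]⟩
  by_cases hcen : ∃ z ∈ H, orderOf z = 2 ∧ z ∈ center G
  · obtain ⟨z, h1, h2, h3⟩ := hcen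
    exact fac_of_central hE h1 h2 h3 ih'
  push Not at hcen
  have hsub : ∀ C : Subgroup G, H ≤ C → C ≠ ⊤ → Fac (H.subgroupOf C) := fun C hHC hne =>
    ih' C ((Subgroup.card_le_card_group C).lt_of_ne fun e => hne (eq_top_of_card_eq C e)) _
      (ec_subgroupOf hE hHC)
  have hcent_ne : ∀ b ∈ H, orderOf b = 2 → centralizer ({b} : Set G) ≠ ⊤ := fun b hb hb2 htop =>
    hcen b hb hb2 (mem_center_iff.2 fun v =>
      mem_centralizer_singleton_iff.1 (htop ▸ mem_top v))
  have hHC : ∀ b ∈ H, H ≤ centralizer ({b} : Set G) := fun b hb v hv =>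
    mem_centralizer_singleton_iff.2 (hE.mul_comm' hv hb)
  have ihC : ∀ b ∈ H, orderOf b = 2 → Fac (H.subgroupOf (centralizer ({b} : Set G))) :=
    fun b hb hb2 => hsub _ (hHC b hb) (hcent_ne b hb hb2)
  -- the action on labels
  have lab : ∀ (g : G) (t : {t : G // t ∈ H ∧ orderOf t = 2}),
      ∃ t' : {t : G // t ∈ H ∧ orderOf t = 2}, OddProd t'.1 (g * t.1 * g⁻¹) := fun g t => by
    obtain ⟨a, h1, h2, h3⟩ := hE.exists_label (inD_conj (inD_mem t.2.1 t.2.2) g)
    exact ⟨⟨a, h1, h2⟩, h3⟩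
  choose f hf using lab
  have huniq : ∀ (g : G) (t t' : {t : G // t ∈ H ∧ orderOf t = 2}),
      OddProd t'.1 (g * t.1 * g⁻¹) → f g t = t' := fun g t t' h => Subtype.ext
    (hE.label_unique (f g t).2.1 t'.2.1 (inD_conj (inD_mem t.2.1 t.2.2) g) (hf g t) h)
  have hmul : ∀ g h t, f (g * h) t = f g (f h t) := by
    intro g h t
    refine huniq _ _ _ ?_
    have hd : ∀ (c : G) (s : {t : G // t ∈ H ∧ orderOf t = 2}), InD H (c * s.1 * c⁻¹) :=
      fun c s => inD_conj (inD_mem s.2.1 s.2.2) c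
    have h1 := oddProd_conj g⁻¹ (hf g (f h t))
    rw [inv_inv, show g⁻¹ * (g * (f h t).1 * g⁻¹) * g = (f h t).1 by group] at h1
    have h2 := hE.oddProd_trans ihC (inD_mem (f h t).2.1 (f h t).2.2)
      (by simpa using hd g⁻¹ (f g (f h t))) (hd h t) (oddProd_symm h1) (hf h t)
    have h3 := oddProd_conj g h2
    rwa [show g * (g⁻¹ * (f g (f h t)).1 * g) * g⁻¹ = (f g (f h t)).1 by group,
      show g * (h * t.1 * h⁻¹) * g⁻¹ = g * h * t.1 * (g * h)⁻¹ by group] at h3
  have hone : ∀ t, f 1 t = t := fun t => huniq 1 t t (by simpa using oddProd_self t.2.2)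
  let G₀ : Subgroup G :=
    { carrier := {g | ∀ t, f g t = t}
      one_mem' := hone
      mul_mem' := fun {a b} ha hb t => by rw [hmul, hb, ha]
      inv_mem' := fun {a} ha t => by
        conv_lhs => rw [← ha t]
        rw [← hmul, inv_mul_cancel, hone] }
  haveI hG₀n : G₀.Normal := ⟨fun v hv g t => by
    rw [hmul, hmul, hv, ← hmul, mul_inv_cancel, hone]⟩
  have hHG₀ : H ≤ G₀ := fun h hh t => huniq h t t (by
    rw [hE.mul_comm' hh t.2.1, mul_inv_cancel_right]
    exact oddProd_self t.2.2)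
  by_cases hG₀ : G₀ = ⊤
  · -- an isolated involution
    have hiso : Cfsg.IsIsolatedInvolution x := by
      refine ⟨hx2, fun g hc => ?_⟩
      have hg : g ∈ G₀ := hG₀ ▸ mem_top g
      have h1 : OddProd x (g * x * g⁻¹) := by
        have := hf g ⟨x, hxH, hx2⟩
        rwa [show f g ⟨x, hxH, hx2⟩ = ⟨x, hxH, hx2⟩ from hg _] at this
      exact (hE.eq_of_commute (inD_mem hxH hx2) (inD_mem hxH hx2)
        (inD_conj (inD_mem hxH hx2) g) hc (oddProd_self hx2) h1).symm
    set C := centralizer ({x} : Set G) with hC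
    have hOC : (Cfsg.oddCore C).map C.subtype ≤ Cfsg.oddCore G := by
      let π := (QuotientGroup.mk' (Cfsg.oddCore G)).comp C.subtype
      have hπ : Function.Surjective π := by
        intro v
        obtain ⟨g, rfl⟩ := QuotientGroup.mk'_surjective (Cfsg.oddCore G) v
        obtain ⟨k, hk, hkc⟩ := exists_oddCore_mul_centralizer hiso g
        refine ⟨⟨k⁻¹ * g, hkc⟩, ?_⟩
        show QuotientGroup.mk' (Cfsg.oddCore G) (k⁻¹ * g) = _
        rw [map_mul, show QuotientGroup.mk' (Cfsg.oddCore G) k⁻¹ = 1 from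
          (QuotientGroup.eq_one_iff _).2 (inv_mem hk), one_mul]
      have h1 := CfsgLib.Base.map_pPrimeCore_le (p := 2) π hπ
      rw [show Cfsg.pPrimeCore 2 (G ⧸ Cfsg.oddCore G) = ⊥ from
        CfsgLib.Base.pPrimeCore_quotient_pPrimeCore 2 G, le_bot_iff, Subgroup.map_eq_bot_iff] at h1
      rintro _ ⟨v, hv, rfl⟩
      have := MonoidHom.mem_ker.1 (h1 hv)
      exact (QuotientGroup.eq_one_iff _).1 this
    intro g
    obtain ⟨k, hk, hkc⟩ := exists_oddCore_mul_centralizer hiso g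
    obtain ⟨k', hk', hN⟩ := fac_sub (hHC x hxH) (ihC x hxH hx2) hkc
    refine ⟨k * k', mul_mem hk (hOC hk'), ?_⟩
    rwa [mul_inv_rev, mul_assoc]
  · intro g
    obtain ⟨o, ho, -, hoN⟩ := hE.exists_conj g
    have hoG₀ : o ∈ G₀ := pairGroup_le hHG₀ (fun v hv => by
      have := hG₀n.conj_mem _ (hHG₀ hv) g
      simpa [mul_assoc] using this) ho
    obtain ⟨k, hk, hN⟩ := fac_sub hHG₀ (hsub G₀ hHG₀ hG₀) hoG₀
    refine ⟨k, ?_, ?_⟩
    · exact CfsgLib.Base.map_pPrimeCore_le_of_isSubnormal hG₀n.isSubnormal hk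
    · have := mul_mem hN hoN
      rwa [show k⁻¹ * o * (o⁻¹ * g) = k⁻¹ * g by group] at this

/-- An extremely closed abelian 2-subgroup: `G = N(H) O(G)`. -/
theorem normalizer_sup_oddCore {G : Type u} [Group G] [Finite G] (H : Subgroup G)
    (hE : EC H) : normalizer (H : Set G) ⊔ Cfsg.oddCore G = ⊤ := by
  rw [eq_top_iff]
  intro g _
  obtain ⟨k, hk, hN⟩ := fac_aux _ G rfl H hE g
  rw [← mul_inv_cancel_left k g]
  exact mul_mem (mem_sup_right hk) (mem_sup_left hN)

end CfsgLib.Involutions.ExtremelyClosed
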