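import Cfsg.Agent.Lib.Components.FStar
import Cfsg.Agent.Lib.Components.LocalLayer

/-!
# Centralizers of `p`-subgroups and characteristic `p`
-/

set_option autoImplicit false
set_option linter.style.haveILetI false

namespace CfsgLib.Involutions

open Subgroup Cfsg

variable {p : ℕ} [Fact p.Prime]

theorem isPGroup_fstar_of_equiv {A B : Type*} [Group A] [Finite A] [Group B] [Finite B]
    (e : A ≃* B) (h : IsPGroup p ↥(generalizedFittingSubgroup A)) :
    IsPGroup p ↥(generalizedFittingSubgroup B) := by
  rw [← Components.fstar_map_equiv e]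
  exact h.map _

/-- `F*` is a `p`-group for a normal subgroup of a group in which it is one. -/
theorem isPGroup_fstar_of_normal {G : Type*} [Group G] [Finite G]
    (h : IsPGroup p ↥(generalizedFittingSubgroup G)) (K : Subgroup G) [K.Normal] :
    IsPGroup p ↥(generalizedFittingSubgroup ↥K) := by
  have h1 : IsPGroup p ((generalizedFittingSubgroup ↥K).map K.subtype) := by
    rw [Components.map_fstar_eq_inf]; exact h.to_le inf_le_left
  exact h1.of_equiv ((generalizedFittingSubgroup ↥K).equivMapOfInjective K.subtype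
    K.subtype_injective).symm

/-- ... and conversely when the index is a power of `p`. -/
theorem isPGroup_fstar_of_quotient {G : Type*} [Group G] [Finite G] (K : Subgroup G) [K.Normal]
    (h : IsPGroup p ↥(generalizedFittingSubgroup ↥K)) (hq : IsPGroup p (G ⧸ K)) :
    IsPGroup p ↥(generalizedFittingSubgroup G) := by
  set F := generalizedFittingSubgroup G
  have hK : IsPGroup p ↥(F ⊓ K) := by rw [← Components.map_fstar_eq_inf]; exact h.map _
  intro g
  obtain ⟨a, ha⟩ := hq ((g : G) : G ⧸ K)
  rw [← QuotientGroup.mk_pow, QuotientGroup.eq_one_iff] at ha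
  obtain ⟨b, hb⟩ := hK ⟨(g : G) ^ p ^ a, pow_mem g.2 _, ha⟩
  refine ⟨a + b, Subtype.ext ?_⟩
  rw [Subgroup.coe_pow, pow_add, pow_mul]
  exact congrArg Subtype.val hb

/-- One normal step. -/
theorem isPGroup_fstar_centralizer_step {G : Type*} [Group G] [Finite G] {V W : Subgroup G}
    (hVW : V ≤ W) (hn : W ≤ normalizer (V : Set G)) (hW : IsPGroup p W)
    (hV : IsPGroup p ↥(generalizedFittingSubgroup ↥(centralizer (V : Set G)))) :
    IsPGroup p ↥(generalizedFittingSubgroup ↥(centralizer (W : Set G))) := by
  set C := centralizer (V : Set G)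
  set M := C ⊔ W
  have hMN : M ≤ normalizer (C : Set G) := by
    refine sup_le le_normalizer (fun w hw => ?_)
    rw [mem_normalizer_iff_map_conj_eq]
    refine eq_of_le_of_card_ge ?_ (card_map_of_injective (MulAut.conj w).injective).ge
    rintro _ ⟨c, hc, rfl⟩
    refine mem_centralizer_iff.2 fun v hv => ?_
    show v * (w * c * w⁻¹) = w * c * w⁻¹ * v
    have h1 := mem_centralizer_iff.1 hc _ ((mem_normalizer_iff''.1 (hn hw) v).1 hv)
    calc v * (w * c * w⁻¹) = w * (w⁻¹ * v * w * c) * w⁻¹ := by group
      _ = w * (c * (w⁻¹ * v * w)) * w⁻¹ := by rw [h1]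
      _ = w * c * w⁻¹ * v := by group
  haveI hCn : (C.subgroupOf M).Normal := (normal_subgroupOf_iff_le_normalizer le_sup_left).2 hMN
  have hq : IsPGroup p (↥M ⧸ C.subgroupOf M) := by
    intro q
    obtain ⟨⟨m, hm⟩, rfl⟩ := QuotientGroup.mk'_surjective (C.subgroupOf M) q
    set π := QuotientGroup.mk' (C.subgroupOf M)
    have hle : M ≤ ((W.subgroupOf M).map π |>.comap π).map M.subtype := by
      refine sup_le (fun c hc => ⟨⟨c, mem_sup_left hc⟩, ?_, rfl⟩)
        (fun w hw => ⟨⟨w, mem_sup_right hw⟩, ⟨⟨w, mem_sup_right hw⟩, hw, rfl⟩, rfl⟩)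
      show π (⟨c, mem_sup_left hc⟩ : M) ∈ (W.subgroupOf M).map π
      rw [show π (⟨c, _⟩ : M) = 1 from (QuotientGroup.eq_one_iff (⟨c, _⟩ : M)).2 hc]
      exact one_mem _
    obtain ⟨m', hm', e⟩ := hle hm
    rw [show (⟨m, hm⟩ : M) = m' from Subtype.ext e.symm]
    obtain ⟨k, hk⟩ := ((hW.comap_subtype (K := M)).map π) ⟨_, hm'⟩
    exact ⟨k, congrArg Subtype.val hk⟩
  have hM : IsPGroup p ↥(generalizedFittingSubgroup ↥M) :=
    isPGroup_fstar_of_quotient _
      (isPGroup_fstar_of_equiv (subgroupOfEquivOfLe (le_sup_left : C ≤ M)).symm hV) hq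
  set W' := W.subgroupOf M
  have hN := Components.fstar_normalizer_of_fstar_eq_pCore
    (Components.fstar_eq_pCore_of_isPGroup hM) (hW.comap_subtype (K := M) : IsPGroup p W')
  have hN' : IsPGroup p ↥(generalizedFittingSubgroup ↥(normalizer (W' : Set M))) := by
    exact hN.symm ▸ Base.isPGroup_pCore p _
  haveI hKn : ((centralizer (W' : Set M)).subgroupOf (normalizer (W' : Set M))).Normal := by
    rw [← normalizerMonoidHom_ker]; infer_instance
  have h1 := isPGroup_fstar_of_equiv (subgroupOfEquivOfLe (centralizer_le_normalizer _))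
    (isPGroup_fstar_of_normal hN' ((centralizer (W' : Set M)).subgroupOf (normalizer (W' : Set M))))
  have e1 : centralizer (W' : Set M) = (centralizer (W : Set G)).subgroupOf M := by
    ext m
    simp only [mem_centralizer_iff, mem_subgroupOf]
    exact ⟨fun h w hw => congrArg Subtype.val (h ⟨w, mem_sup_right hw⟩ hw),
      fun h w hw => Subtype.ext (h w hw)⟩
  have hle : centralizer (W : Set G) ≤ M :=
    (centralizer_le (SetLike.coe_subset_coe.2 hVW)).trans le_sup_left
  rw [e1] at h1
  exact isPGroup_fstar_of_equiv (subgroupOfEquivOfLe hle) h1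

/-- The generalized Fitting subgroups of centralizers of larger `p`-groups are again `p`-groups. -/
theorem isPGroup_fstar_centralizer_mono {G : Type*} [Group G] [Finite G] {U V : Subgroup G}
    (hVU : V ≤ U) (hU : IsPGroup p U)
    (hV : IsPGroup p ↥(generalizedFittingSubgroup ↥(centralizer (V : Set G)))) :
    IsPGroup p ↥(generalizedFittingSubgroup ↥(centralizer (U : Set G))) := by
  induction hd : V.relIndex U using Nat.strong_induction_on generalizing V with
  | _ d ih =>
    by_cases hlt : V = U
    · exact hlt ▸ hV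
    set W := U ⊓ normalizer (V : Set G)
    have hVW : V ≤ W := le_inf hVU le_normalizer
    haveI : Group.IsNilpotent U := hU.isNilpotent
    have hne : V ≠ W := by
      intro h
      have h1 : normalizer ((V.subgroupOf U : Subgroup U) : Set U) ≠ V.subgroupOf U := by
        intro h2
        have := Group.normalizerCondition_of_isNilpotent (G := U)
        have h3 : V.subgroupOf U = ⊤ := normalizerCondition_iff_only_full_group_self_normalizing.1
          this _ h2
        exact hlt (le_antisymm hVU (subgroupOf_eq_top.1 h3))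
      refine h1 (le_antisymm (fun a ha => ?_) le_normalizer)
      rw [mem_subgroupOf]
      refine h.ge ⟨a.2, mem_normalizer_iff_map_conj_eq.2 ?_⟩
      refine eq_of_le_of_card_ge ?_ (card_map_of_injective (MulAut.conj (a : G)).injective).ge
      rintro _ ⟨v, hv, rfl⟩
      exact (mem_normalizer_iff.1 ha ⟨v, hVU hv⟩).1 hv
    refine ih (W.relIndex U) ?_ inf_le_left
      (isPGroup_fstar_centralizer_step hVW inf_le_right (hU.to_le inf_le_left) hV) rfl
    rw [← hd, ← relIndex_mul_relIndex V W U hVW inf_le_left]
    have h2 : V.relIndex W ≠ 1 := fun h => hne (le_antisymm hVW (relIndex_eq_one.1 h))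
    have h3 : V.relIndex W ≠ 0 := Subgroup.FiniteIndex.index_ne_zero
    have h4 : 0 < W.relIndex U := Nat.pos_of_ne_zero Subgroup.FiniteIndex.index_ne_zero
    calc W.relIndex U = 1 * W.relIndex U := (one_mul _).symm
      _ < V.relIndex W * W.relIndex U := Nat.mul_lt_mul_of_pos_right (by omega) h4

end CfsgLib.Involutions
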