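import Mathlib
import Cfsg.Agent.Lib.Base.Rank
import Cfsg.Agent.Lib.Small.SylowInter
import Cfsg.Agent.Lib.Involutions.KleinPair
import Cfsg.Agent.Lib.Transfer.Fusion

/-!
# The commuting graph of four-subgroups and the 2-generated core
-/

set_option autoImplicit false

namespace CfsgLib.Involutions

open Subgroup

variable {G : Type*} [Group G]

/-- Adjacency of four-subgroups. -/
def FourAdj (A B : Subgroup G) : Prop :=
  IsKleinFour A ∧ IsKleinFour B ∧ ∀ a ∈ A, ∀ b ∈ B, a * b = b * a

/-- The 2-generated core with respect to `S`. -/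
def twoGenCore (S : Subgroup G) : Subgroup G :=
  ⨆ Q : {Q : Subgroup G // Q ≤ S ∧ ¬ Cfsg.PRankLE 2 1 Q}, normalizer ((Q : Subgroup G) : Set G)

theorem fourAdj_symm {A B : Subgroup G} (h : FourAdj A B) : FourAdj B A :=
  ⟨h.2.1, h.1, fun a ha b hb => (h.2.2 b hb a ha).symm⟩

theorem reflTransGen_fourAdj_symm {A B : Subgroup G} (h : Relation.ReflTransGen FourAdj A B) :
    Relation.ReflTransGen FourAdj B A :=
  haveI : Std.Symm (FourAdj (G := G)) := ⟨fun _ _ => fourAdj_symm⟩
  Std.Symm.symm _ _ h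

theorem isKleinFour_map {H : Type*} [Group H] {f : G →* H} (hf : Function.Injective f) {A : Subgroup G}
    (hA : IsKleinFour A) : IsKleinFour (A.map f) := by
  let e := A.equivMapOfInjective f hf
  haveI := hA
  exact ⟨(Nat.card_congr e.toEquiv).symm.trans IsKleinFour.card_four,
    (Monoid.exponent_eq_of_mulEquiv e).symm.trans IsKleinFour.exponent_two⟩

theorem fourAdj_map {H : Type*} [Group H] {f : G →* H} (hf : Function.Injective f) {A B : Subgroup G}
    (h : FourAdj A B) : FourAdj (A.map f) (B.map f) :=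
  ⟨isKleinFour_map hf h.1, isKleinFour_map hf h.2.1, by
    rintro _ ⟨a, ha, rfl⟩ _ ⟨b, hb, rfl⟩
    rw [← map_mul, ← map_mul, h.2.2 a ha b hb]⟩

theorem reflTransGen_map {H : Type*} [Group H] {f : G →* H} (hf : Function.Injective f)
    {A B : Subgroup G} (h : Relation.ReflTransGen FourAdj A B) :
    Relation.ReflTransGen FourAdj (A.map f) (B.map f) := by
  induction h with
  | refl => exact .refl
  | tail _ h ih => exact ih.tail (fourAdj_map hf h)

theorem not_pRankLE_of_klein {V Q : Subgroup G} (hV : IsKleinFour V) (hVQ : V ≤ Q) :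
    ¬ Cfsg.PRankLE 2 1 Q := by
  intro h
  haveI := hV
  let e := subgroupOfEquivOfLe hVQ
  have hc : Nat.card (V.subgroupOf Q) = 4 := (Nat.card_congr e.toEquiv).trans IsKleinFour.card_four
  have hsq : ∀ v ∈ V.subgroupOf Q, v ^ 2 = 1 := fun v hv => Subtype.ext (by
    have := Monoid.pow_exponent_eq_one (⟨(v : G), mem_subgroupOf.1 hv⟩ : V)
    rw [IsKleinFour.exponent_two] at this
    show ((v : Q) : G) ^ 2 = 1
    have h' := congrArg Subtype.val this
    simpa using h')
  haveI : IsMulCommutative V := ⟨⟨mul_comm_of_exponent_two IsKleinFour.exponent_two⟩⟩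
  have hcomm : IsMulCommutative (V.subgroupOf Q) := ⟨⟨fun a b => e.injective (by
    rw [map_mul, map_mul]
    exact (IsMulCommutative.is_comm.comm (e a) (e b) : _))⟩⟩
  have := h (V.subgroupOf Q) hcomm hsq
  omega

theorem exists_klein_of_not_pRankLE [Finite G] {Q : Subgroup G} (h : ¬ Cfsg.PRankLE 2 1 Q) :
    ∃ V : Subgroup G, IsKleinFour V ∧ V ≤ Q := by
  simp only [Cfsg.PRankLE, not_forall, not_le] at h
  obtain ⟨A, hA, hA2, hcard⟩ := h
  rw [pow_one] at hcard
  obtain ⟨a, ha, ha1⟩ : ∃ a ∈ A, a ≠ 1 := (A.bot_or_exists_ne_one).resolve_left fun e => by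
    rw [e, Subgroup.card_bot] at hcard; omega
  obtain ⟨b, hb, hb1, hba⟩ : ∃ b ∈ A, b ≠ 1 ∧ b ≠ a := by
    by_contra hne
    push Not at hne
    classical
    have hinj : Function.Injective fun u : A => decide ((u : Q) = 1) := by
      intro u v huv
      simp only [decide_eq_decide] at huv
      by_cases hu : (u : Q) = 1
      · exact Subtype.ext (hu.trans (huv.1 hu).symm)
      · exact Subtype.ext ((hne u u.2 hu).trans (hne v v.2 fun hv => hu (huv.2 hv)).symm)
    have := Nat.card_le_card_of_injective _ hinj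
    simp at this
    omega
  have ha2 : orderOf (a : G) = 2 := (orderOf_coe a).trans (orderOf_eq_prime (hA2 a ha) ha1)
  have hb2 : orderOf (b : G) = 2 := (orderOf_coe b).trans (orderOf_eq_prime (hA2 b hb) hb1)
  have hab : Commute (a : G) (b : G) := congrArg Subtype.val
    (congrArg Subtype.val (hA.is_comm.comm ⟨a, ha⟩ ⟨b, hb⟩))
  refine ⟨_, isKleinFour_closure_pair ha2 hb2 hab fun e => hba (Subtype.ext e.symm), ?_⟩
  rw [closure_le]
  rintro x (rfl | rfl)
  exacts [a.2, b.2]

variable [Finite G] (S : Sylow 2 G)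

theorem normalizer_le_twoGenCore {D : Subgroup G} (hD : D ≤ (S : Subgroup G))
    (hr : ¬ Cfsg.PRankLE 2 1 D) : normalizer (D : Set G) ≤ twoGenCore (S : Subgroup G) :=
  le_iSup (fun Q : {Q : Subgroup G // Q ≤ (S : Subgroup G) ∧ ¬ Cfsg.PRankLE 2 1 Q} =>
    normalizer ((Q : Subgroup G) : Set G)) ⟨D, hD, hr⟩

/-- A Sylow subgroup sharing a four-subgroup with `S` is conjugate to `S` inside the core. -/
theorem exists_mem_core_smul_eq (T : Sylow 2 G)
    (h : ∃ V : Subgroup G, IsKleinFour V ∧ V ≤ (S : Subgroup G) ∧ V ≤ (T : Subgroup G)) :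
    ∃ x ∈ twoGenCore (S : Subgroup G), x • S = T := by
  generalize hn : Nat.card (S : Subgroup G) - Nat.card ↥((S : Subgroup G) ⊓ (T : Subgroup G)) = n
  induction n using Nat.strong_induction_on generalizing T with
  | _ n ih =>
    by_cases hTS : T = S
    · exact ⟨1, one_mem _, by rw [one_smul, hTS]⟩
    obtain ⟨V, hV, hVS, hVT⟩ := h
    set D := (S : Subgroup G) ⊓ (T : Subgroup G) with hD
    set K := normalizer (D : Set G) with hK
    have hKΓ : K ≤ twoGenCore (S : Subgroup G) :=
      normalizer_le_twoGenCore S inf_le_left (not_pRankLE_of_klein hV (le_inf hVS hVT))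
    have hS : Nat.card D < Nat.card ↥((S : Subgroup G) ⊓ K) :=
      Small.card_inf_lt_card_inf_normalizer (Ne.symm hTS)
    have hT : Nat.card D < Nat.card ↥((T : Subgroup G) ⊓ K) := by
      have := Small.card_inf_lt_card_inf_normalizer hTS
      rwa [inf_comm (T : Subgroup G) (S : Subgroup G), ← hD] at this
    obtain ⟨R₀, hR₀⟩ := ((S.isPGroup'.to_le (inf_le_left : (S : Subgroup G) ⊓ K ≤ _)).comap_subtype
      (K := K)).exists_le_sylow
    obtain ⟨R₁, hR₁⟩ := ((T.isPGroup'.to_le (inf_le_left : (T : Subgroup G) ⊓ K ≤ _)).comap_subtype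
      (K := K)).exists_le_sylow
    obtain ⟨R, hR⟩ := (R₀.isPGroup'.map K.subtype).exists_le_sylow
    obtain ⟨y, hy⟩ := MulAction.exists_smul_eq K R₁ R₀
    have hSK : (S : Subgroup G) ⊓ K ≤ (R : Subgroup G) := fun s hs =>
      hR ⟨⟨s, hs.2⟩, hR₀ (mem_subgroupOf.2 hs), rfl⟩
    have hVD : V ≤ D := le_inf hVS hVT
    have hVR : V ≤ (R : Subgroup G) := fun v hv => hSK ⟨hVS hv, le_normalizer (hVD hv)⟩
    have hcS : Nat.card ↥((S : Subgroup G) ⊓ (T : Subgroup G)) <
        Nat.card ↥((S : Subgroup G) ⊓ (R : Subgroup G)) :=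
      hS.trans_le (Subgroup.card_le_of_le (le_inf inf_le_left hSK))
    have hbd : ∀ U : Subgroup G, Nat.card ↥((S : Subgroup G) ⊓ U) ≤ Nat.card (S : Subgroup G) :=
      fun U => Subgroup.card_le_of_le inf_le_left
    rw [← hD] at hcS
    obtain ⟨x, hx, hxR⟩ := ih _ (by have := hbd (R : Subgroup G); omega) R ⟨V, hV, hVS, hVR⟩ rfl
    -- the conjugate of `T`
    set T' := (x⁻¹ * (y : G)) • T with hT'
    have hmemT' : ∀ u : G, u ∈ (T : Subgroup G) → x⁻¹ * ((y : G) * u * (y : G)⁻¹) * x ∈ (T' : Subgroup G) := by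
      intro u hu
      rw [hT', Transfer.mem_coe_smul_sylow_iff]
      convert hu using 1
      group
      rfl
    have hmemS : ∀ u ∈ (T : Subgroup G) ⊓ K, x⁻¹ * ((y : G) * u * (y : G)⁻¹) * x ∈ (S : Subgroup G) := by
      intro u hu
      have h1 : (y : G) * u * (y : G)⁻¹ ∈ (R : Subgroup G) := hR ⟨y * ⟨u, hu.2⟩ * y⁻¹, by
        rw [← hy]
        exact ⟨⟨u, hu.2⟩, hR₁ (mem_subgroupOf.2 hu), rfl⟩, rfl⟩
      rw [← hxR, Transfer.mem_coe_smul_sylow_iff] at h1
      exact h1
    let φ : G →* G := (MulAut.conj (x⁻¹ * (y : G))).toMonoidHom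
    have hφ : ∀ u, φ u = x⁻¹ * ((y : G) * u * (y : G)⁻¹) * x := fun u => by
      show x⁻¹ * (y : G) * u * (x⁻¹ * (y : G))⁻¹ = _
      group
    have hle : ((T : Subgroup G) ⊓ K).map φ ≤ (S : Subgroup G) ⊓ (T' : Subgroup G) := by
      rintro _ ⟨u, hu, rfl⟩
      rw [hφ]
      exact ⟨hmemS u hu, hmemT' u hu.1⟩
    have hinj : Function.Injective φ := (MulAut.conj (x⁻¹ * (y : G))).injective
    have hcT : Nat.card ↥((S : Subgroup G) ⊓ (T : Subgroup G)) <
        Nat.card ↥((S : Subgroup G) ⊓ (T' : Subgroup G)) :=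
      hT.trans_le ((card_map_of_injective hinj).symm.trans_le (Subgroup.card_le_of_le hle))
    have hV' : V.map φ ≤ (S : Subgroup G) ⊓ (T' : Subgroup G) :=
      (map_mono (le_inf hVT (hVD.trans le_normalizer))).trans hle
    rw [← hD] at hcT
    obtain ⟨x', hx', hx'T⟩ := ih _ (by have := hbd (T' : Subgroup G); omega) T'
      ⟨V.map φ, isKleinFour_map hinj hV, hV'.trans inf_le_left, hV'.trans inf_le_right⟩ rfl
    refine ⟨(y : G)⁻¹ * x * x', Subgroup.mul_mem _ (Subgroup.mul_mem _ (Subgroup.inv_mem _ (hKΓ y.2)) hx) hx', ?_⟩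
    rw [mul_smul, hx'T, hT', ← mul_smul]
    group
    rw [one_smul]

theorem four_connected_iff (h2 : ¬ Cfsg.PRankLE 2 1 G) (hS : Cfsg.IsFourConnected (S : Subgroup G)) :
    ¬ Cfsg.IsFourConnected G ↔ twoGenCore (S : Subgroup G) ≠ ⊤ := by
  have hS2 : ¬ Cfsg.PRankLE 2 1 (S : Subgroup G) := fun h => h2 ((Base.pRankLE_iff_sylow S).2 h)
  obtain ⟨V₀, hV₀, hV₀S⟩ := exists_klein_of_not_pRankLE hS2
  have inS : ∀ U : Subgroup G, IsKleinFour U → U ≤ (S : Subgroup G) →
      Relation.ReflTransGen FourAdj V₀ U := by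
    intro U hU hUS
    have hk : ∀ W : Subgroup G, IsKleinFour W → W ≤ (S : Subgroup G) → IsKleinFour (W.subgroupOf (S : Subgroup G)) := by
      intro W hW hWS
      haveI := hW
      let e := subgroupOfEquivOfLe hWS
      exact ⟨(Nat.card_congr e.toEquiv).trans IsKleinFour.card_four,
        (Monoid.exponent_eq_of_mulEquiv e).trans IsKleinFour.exponent_two⟩
    have h := reflTransGen_map (subtype_injective (S : Subgroup G)) (hS _ _ (hk _ hV₀ hV₀S) (hk _ hU hUS))
    rwa [map_subgroupOf_eq_of_le hV₀S, map_subgroupOf_eq_of_le hUS] at h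
  constructor
  · intro hnc htop
    refine hnc ?_
    let M : Subgroup G :=
      { carrier := {g | Relation.ReflTransGen FourAdj V₀ (V₀.map (MulAut.conj g).toMonoidHom)}
        one_mem' := by
          show Relation.ReflTransGen _ _ _
          rw [map_one, show ((1 : MulAut G)).toMonoidHom = MonoidHom.id G from rfl, map_id]
        mul_mem' := fun {a b} ha hb => by
          show Relation.ReflTransGen _ _ _
          have h := reflTransGen_map (f := (MulAut.conj a).toMonoidHom) (MulAut.conj a).injective hb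
          rw [Subgroup.map_map] at h
          rw [map_mul]
          exact Relation.ReflTransGen.trans ha h
        inv_mem' := fun {a} ha => by
          show Relation.ReflTransGen _ _ _
          have h := reflTransGen_map (f := (MulAut.conj a⁻¹).toMonoidHom) (MulAut.conj a⁻¹).injective ha
          rw [Subgroup.map_map, show (MulAut.conj a⁻¹).toMonoidHom.comp (MulAut.conj a).toMonoidHom =
            MonoidHom.id G from MonoidHom.ext fun u => by simp [mul_assoc], map_id] at h
          exact reflTransGen_fourAdj_symm h }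
    have hΓM : twoGenCore (S : Subgroup G) ≤ M := by
      refine iSup_le fun Q g hg => ?_
      obtain ⟨V, hV, hVQ⟩ := exists_klein_of_not_pRankLE Q.2.2
      have hgV : V.map (MulAut.conj g).toMonoidHom ≤ (S : Subgroup G) := by
        rintro _ ⟨v, hv, rfl⟩
        exact Q.2.1 ((mem_normalizer_iff.1 hg v).1 (hVQ hv))
      show Relation.ReflTransGen _ _ _
      exact (inS _ (isKleinFour_map (MulAut.conj g).injective hV) hgV).trans
        (reflTransGen_fourAdj_symm (reflTransGen_map (f := (MulAut.conj g).toMonoidHom)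
          (MulAut.conj g).injective (inS V hV (hVQ.trans Q.2.1))))
    have key : ∀ U : Subgroup G, IsKleinFour U → Relation.ReflTransGen FourAdj V₀ U := by
      intro U hU
      haveI := hU
      obtain ⟨R, hR⟩ := (IsPGroup.of_card (p := 2) (n := 2) (G := U)
        (IsKleinFour.card_four.trans (by norm_num))).exists_le_sylow
      obtain ⟨g, hg⟩ := MulAction.exists_smul_eq G R S
      have hgU : U.map (MulAut.conj g).toMonoidHom ≤ (S : Subgroup G) := by
        rintro _ ⟨u, hu, rfl⟩
        rw [← hg]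
        exact ⟨u, hR hu, rfl⟩
      have h := reflTransGen_map (f := (MulAut.conj g⁻¹).toMonoidHom) (MulAut.conj g⁻¹).injective
        (inS _ (isKleinFour_map (MulAut.conj g).injective hU) hgU)
      rw [Subgroup.map_map U, show (MulAut.conj g⁻¹).toMonoidHom.comp (MulAut.conj g).toMonoidHom =
        MonoidHom.id G from MonoidHom.ext fun u => by simp [mul_assoc], map_id] at h
      exact (show Relation.ReflTransGen _ _ _ from hΓM (htop ▸ mem_top g⁻¹)).trans h
    exact fun U V hU hV => (reflTransGen_fourAdj_symm (key U hU)).trans (key V hV)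
  · intro hne hc
    refine hne (eq_top_iff.2 fun g _ => ?_)
    have hgV : IsKleinFour (V₀.map (MulAut.conj g).toMonoidHom) :=
      isKleinFour_map (MulAut.conj g).injective hV₀
    have hstep : ∀ W : Subgroup G, Relation.ReflTransGen FourAdj V₀ W →
        ∀ T : Sylow 2 G, W ≤ (T : Subgroup G) → ∃ x ∈ twoGenCore (S : Subgroup G), x • S = T := by
      intro W hW
      induction hW with
      | refl => exact fun T hT => exists_mem_core_smul_eq S T ⟨V₀, hV₀, hV₀S, hT⟩
      | @tail B C _ hBC ih =>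
        intro T hT
        haveI := hBC.1
        haveI := hBC.2.1
        have hp : IsPGroup 2 ↥(B ⊔ C) := IsPGroup.to_sup_of_normal_left'
          (IsPGroup.of_card (n := 2) (IsKleinFour.card_four.trans (by norm_num)))
          (IsPGroup.of_card (n := 2) (IsKleinFour.card_four.trans (by norm_num)))
          fun c hc => mem_normalizer_iff.2 fun b => ⟨fun hb => by
              rw [← hBC.2.2 b hb c hc, mul_inv_cancel_right]; exact hb,
            fun hb => by
              have h := hBC.2.2 _ hb c hc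
              rw [inv_mul_cancel_right] at h
              have : b = c * b * c⁻¹ := mul_left_cancel h
              rwa [this]⟩
        obtain ⟨R, hR⟩ := hp.exists_le_sylow
        obtain ⟨x, hx, hxR⟩ := ih R (le_sup_left.trans hR)
        obtain ⟨x', hx', hx'T⟩ := exists_mem_core_smul_eq S (x⁻¹ • T)
          ⟨C.map (MulAut.conj x⁻¹).toMonoidHom, isKleinFour_map (MulAut.conj x⁻¹).injective hBC.2.1, by
            rintro _ ⟨c, hc, rfl⟩
            have h := hR (le_sup_right (a := B) hc)
            rw [← hxR, Transfer.mem_coe_smul_sylow_iff] at h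
            show x⁻¹ * c * (x⁻¹)⁻¹ ∈ (S : Subgroup G)
            rw [inv_inv]; exact h, by
            rintro _ ⟨c, hc, rfl⟩
            exact ⟨c, hT hc, rfl⟩⟩
        exact ⟨x * x', Subgroup.mul_mem _ hx hx', by rw [mul_smul, hx'T, smul_inv_smul]⟩
    obtain ⟨x, hx, hxS⟩ := hstep _ (hc V₀ _ hV₀ hgV) (g • S) (by
      rintro _ ⟨v, hv, rfl⟩
      exact ⟨v, hV₀S hv, rfl⟩)
    have hn : x⁻¹ * g ∈ normalizer ((S : Subgroup G) : Set G) :=
      Sylow.smul_eq_iff_mem_normalizer.1 (by rw [mul_smul, ← hxS, inv_smul_smul])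
    have := Subgroup.mul_mem _ hx (normalizer_le_twoGenCore S le_rfl hS2 hn)
    rwa [mul_inv_cancel_left] at this

end CfsgLib.Involutions
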