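import Cfsg.Agent.S0200
import Cfsg.Agent.Lib.Base.Cores
import Cfsg.Agent.Lib.Involutions.Basic

/-!
# A four-group whose involutions' conjugates all commute with one of its involutions
-/

set_option autoImplicit false

open Subgroup

namespace CfsgLib.Involutions

variable {G : Type*} [Group G] [Finite G]

theorem commute_of_commute_pow_of_odd {y k : G} (hy : Odd (orderOf y)) {e : ℕ}
    (h : Commute k (y ^ (2 ^ e))) : Commute k y := by
  obtain ⟨m, hm⟩ := exists_pow_eq_self_of_coprime (x := y) (n := 2 ^ e)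
    ((Nat.coprime_two_left.mpr hy).pow_left e)
  rw [← hm]
  exact h.pow_right m

/-- Every `k` in the set either commutes with `b` or with the odd element `y` inverted by `a`. -/
theorem commute_or_commute {K : Set G} (hKc : ∀ k ∈ K, ∀ g : G, g * k * g⁻¹ ∈ K) {a b : G}
    (hh : ∀ k ∈ K, Commute k a ∨ Commute k b ∨ Commute k (a * b)) (ha : a * a = 1)
    {y : G} (hy : Odd (orderOf y)) (hay : a * y * a⁻¹ = y⁻¹) (hby : Commute b y) {k : G}
    (hk : k ∈ K) : Commute k b ∨ Commute k y := by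
  refine or_iff_not_imp_left.mpr fun hkb => ?_
  have hai : a⁻¹ = a := inv_eq_of_mul_eq_one_right ha
  have key : ∀ m : ℕ, Commute k (y ^ (2 * m) * a) ∨ Commute k (y ^ (2 * m) * a * b) := by
    intro m
    have hd : y ^ m * a * (y ^ m)⁻¹ = y ^ (2 * m) * a := by
      have h1 : a * (y ^ m)⁻¹ * a⁻¹ = y ^ m := by
        calc a * (y ^ m)⁻¹ * a⁻¹ = (a * y ^ m * a⁻¹)⁻¹ := by group
          _ = y ^ m := by rw [← conj_pow, hay, inv_pow, inv_inv]
      calc y ^ m * a * (y ^ m)⁻¹ = y ^ m * (a * (y ^ m)⁻¹ * a⁻¹) * a := by group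
        _ = _ := by rw [h1, ← pow_add, two_mul]
    have hdb : y ^ m * b * (y ^ m)⁻¹ = b := by
      rw [← (hby.pow_right m).eq, mul_inv_cancel_right]
    have hconv : ∀ z, Commute ((y ^ m)⁻¹ * k * (y ^ m)⁻¹⁻¹) z →
        Commute k (y ^ m * z * (y ^ m)⁻¹) := by
      intro z hz
      have := hz.map (MulAut.conj (y ^ m)).toMonoidHom
      simp only [MulEquiv.coe_toMonoidHom, MulAut.conj_apply] at this
      rwa [show y ^ m * ((y ^ m)⁻¹ * k * (y ^ m)⁻¹⁻¹) * (y ^ m)⁻¹ = k by group] at this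
    rcases hh _ (hKc k hk (y ^ m)⁻¹) with h | h | h
    · exact Or.inl (hd ▸ hconv a h)
    · exact absurd (hdb ▸ hconv b h) hkb
    · refine Or.inr ?_
      have h' := hconv _ h
      rwa [show y ^ m * (a * b) * (y ^ m)⁻¹ = (y ^ m * a * (y ^ m)⁻¹) * (y ^ m * b * (y ^ m)⁻¹) by
        group, hd, hdb] at h'
  have hdiff : ∀ i j : ℕ, (Commute k (y ^ (2 * i) * a) ∧ Commute k (y ^ (2 * (i + j)) * a)) ∨
      (Commute k (y ^ (2 * i) * a * b) ∧ Commute k (y ^ (2 * (i + j)) * a * b)) →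
      Commute k (y ^ (2 * j)) := by
    intro i j h
    rcases h with ⟨h1, h2⟩ | ⟨h1, h2⟩ <;>
    · have := h2.mul_right h1.inv_right
      rw [show 2 * (i + j) = 2 * j + 2 * i by ring, pow_add] at this
      simp only [mul_assoc, mul_inv_rev] at this
      simpa [← mul_assoc, ← mul_inv_rev] using this
  rcases key 0 with h0 | h0 <;> rcases key 1 with h1 | h1 <;> rcases key 2 with h2 | h2
  all_goals
    first
    | exact commute_of_commute_pow_of_odd hy (e := 1) (hdiff 0 1 (Or.inl ⟨h0, h1⟩))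
    | exact commute_of_commute_pow_of_odd hy (e := 1) (hdiff 0 1 (Or.inr ⟨h0, h1⟩))
    | exact commute_of_commute_pow_of_odd hy (e := 1) (hdiff 1 1 (Or.inl ⟨h1, h2⟩))
    | exact commute_of_commute_pow_of_odd hy (e := 1) (hdiff 1 1 (Or.inr ⟨h1, h2⟩))
    | exact commute_of_commute_pow_of_odd hy (e := 2) (hdiff 0 2 (Or.inl ⟨h0, h2⟩))
    | exact commute_of_commute_pow_of_odd hy (e := 2) (hdiff 0 2 (Or.inr ⟨h0, h2⟩))

/-- An involution outside `O₂` inverts a nontrivial element of odd order. -/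
theorem exists_inverted_of_not_mem {x : G} (hx : orderOf x = 2) (h : x ∉ Cfsg.pCore 2 G) :
    ∃ y : G, y ≠ 1 ∧ Odd (orderOf y) ∧ x * y * x⁻¹ = y⁻¹ :=
  Cfsg.Agent.S0200.result x hx fun N hN hNp hxN => h ((haveI := hN; CfsgLib.Base.le_pCore hNp) hxN)

theorem sq_ne_of_odd {y : G} (hy : Odd (orderOf y)) (hy1 : y ≠ 1) : y ≠ y⁻¹ := by
  intro h
  have h2 : orderOf y ∣ 2 := orderOf_dvd_of_pow_eq_one (by rw [sq]; nth_rw 2 [h]; exact mul_inv_cancel y)
  rcases (Nat.dvd_prime Nat.prime_two).mp h2 with h' | h'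
  · exact hy1 (orderOf_eq_one_iff.mp h')
  · rw [h'] at hy; exact absurd hy (by decide)

/-- A Klein four-group `A` such that every conjugate of each of its involutions commutes with one
of its involutions meets `O₂(G)`. -/
theorem four_inf_pCore_ne_bot (A : Subgroup G) (hA : IsKleinFour ↥A)
    (h : ∀ a ∈ A, a ≠ 1 → ∀ g : G, A ⊓ centralizer ({g * a * g⁻¹} : Set G) ≠ ⊥) :
    A ⊓ Cfsg.pCore 2 G ≠ ⊥ := by
  classical
  intro hbot
  set K : Set G := {k | ∃ a ∈ A, a ≠ 1 ∧ ∃ g : G, g * a * g⁻¹ = k} with hK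
  have hKc : ∀ k ∈ K, ∀ g : G, g * k * g⁻¹ ∈ K := by
    rintro _ ⟨a, ha, ha1, g', rfl⟩ g
    exact ⟨a, ha, ha1, g * g', by group⟩
  have hsq : ∀ a ∈ A, a * a = 1 := by
    intro a ha
    have hA' := hA.exponent_two
    have := Monoid.pow_exponent_eq_one (G := A) ⟨a, ha⟩
    rw [hA', sq] at this
    exact congrArg Subtype.val this
  have hcomm : ∀ a ∈ A, ∀ b ∈ A, a * b = b * a := by
    intro a ha b hb
    calc a * b = (b * b) * (a * b) * (a * a) := by rw [hsq a ha, hsq b hb]; group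
      _ = b * ((b * a) * (b * a)) * a := by group
      _ = b * a := by rw [hsq _ (mul_mem hb ha), mul_one]
  have hinv : ∀ a ∈ A, a⁻¹ = a := fun a ha => inv_eq_of_mul_eq_one_right (hsq a ha)
  have hord : ∀ a ∈ A, a ≠ 1 → orderOf a = 2 := fun a ha h1 =>
    orderOf_eq_prime (by rw [sq]; exact hsq a ha) h1
  have hdec : ∀ a ∈ A, a ≠ 1 → ∀ b ∈ A, b ≠ 1 → a ≠ b → ∀ e ∈ A,
      e = 1 ∨ e = a ∨ e = b ∨ e = a * b := by
    intro a ha ha1 b hb hb1 hab e he
    haveI : Fintype A := Fintype.ofFinite A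
    let s : Finset A := {1, ⟨a, ha⟩, ⟨b, hb⟩, ⟨a * b, mul_mem ha hb⟩}
    have hc : s.card = 4 := by
      have e1 : a * b ≠ 1 := fun e' => hab ((eq_inv_of_mul_eq_one_left e').trans (hinv b hb))
      have e2 : a * b ≠ a := fun e' => hb1 (mul_eq_left.mp e')
      have e3 : a * b ≠ b := fun e' => ha1 (mul_eq_right.mp e')
      simp [s, Subtype.ext_iff, ha1.symm, hb1.symm, hab, e1.symm, e2.symm, e3.symm]
    have hu : s = Finset.univ := Finset.eq_univ_of_card s (by
      rw [hc, ← Nat.card_eq_fintype_card, hA.card_four])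
    have := Finset.mem_univ (⟨e, he⟩ : A)
    rw [← hu] at this
    simpa [s, Subtype.ext_iff] using this
  -- `a` with a partner: `b` commuting with an odd element inverted by `a`
  have partner : ∀ a ∈ A, a ≠ 1 → ∃ b ∈ A, b ≠ 1 ∧ b ≠ a ∧ ∃ y : G, y ≠ 1 ∧ Odd (orderOf y) ∧
      a * y * a⁻¹ = y⁻¹ ∧ Commute b y := by
    intro a ha ha1
    have hna : a ∉ Cfsg.pCore 2 G := fun h' =>
      ha1 (mem_bot.mp (hbot ▸ mem_inf.mpr ⟨ha, h'⟩))
    obtain ⟨y, hy1, hyo, hay⟩ := exists_inverted_of_not_mem (hord a ha ha1) hna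
    obtain ⟨⟨b, hbA⟩, hb1'⟩ := Subgroup.ne_bot_iff_exists_ne_one.mp (h a ha ha1 y)
    have hb1 : b ≠ 1 := fun e => hb1' (Subtype.ext e)
    obtain ⟨hbA', hbc⟩ := mem_inf.mp hbA
    rw [mem_centralizer_singleton_iff] at hbc
    have hay' : a * y⁻¹ * a⁻¹ = y := by
      calc a * y⁻¹ * a⁻¹ = (a * y * a⁻¹)⁻¹ := by group
        _ = y := by rw [hay, inv_inv]
    have hw : y * a * y⁻¹ = y * y * a := by
      calc y * a * y⁻¹ = y * (a * y⁻¹ * a⁻¹) * a := by group
        _ = _ := by rw [hay']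
    rw [hw] at hbc
    have hbc' : Commute b (y * y) := by
      have h1 : Commute b (y * y * a) := hbc
      have h2 : Commute b a := hcomm b hbA' a ha
      simpa [mul_assoc] using h1.mul_right h2.inv_right
    have hby : Commute b y := commute_of_commute_pow_of_odd hyo (e := 1)
      (by rwa [pow_one, sq])
    refine ⟨b, hbA', hb1, ?_, y, hy1, hyo, hay, hby⟩
    rintro rfl
    refine sq_ne_of_odd hyo hy1 ?_
    rw [← hay, hby.eq, mul_inv_cancel_right]
  haveI : Nontrivial A := Finite.one_lt_card_iff_nontrivial.mp (by rw [hA.card_four]; norm_num)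
  obtain ⟨⟨a, ha⟩, ha1'⟩ := exists_ne (1 : A)
  have ha1 : a ≠ 1 := fun e => ha1' (Subtype.ext e)
  obtain ⟨b, hb, hb1, hba, x, hx1, hxo, hax, hbx⟩ := partner a ha ha1
  obtain ⟨d, hd, hd1, hdb, y, hy1, hyo, hby, hdy⟩ := partner b hb hb1
  have hh : ∀ u ∈ A, u ≠ 1 → ∀ v ∈ A, v ≠ 1 → u ≠ v → ∀ k ∈ K,
      Commute k u ∨ Commute k v ∨ Commute k (u * v) := by
    rintro u hu hu1 v hv hv1 huv _ ⟨e, he, he1, g, rfl⟩
    obtain ⟨⟨f, hfA⟩, hf1'⟩ := Subgroup.ne_bot_iff_exists_ne_one.mp (h e he he1 g)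
    have hf1 : f ≠ 1 := fun e => hf1' (Subtype.ext e)
    obtain ⟨hfA', hfc⟩ := mem_inf.mp hfA
    rw [mem_centralizer_singleton_iff] at hfc
    rcases hdec u hu hu1 v hv hv1 huv f hfA' with rfl | rfl | rfl | rfl
    · exact absurd rfl hf1
    · exact Or.inl hfc.symm
    · exact Or.inr (Or.inl hfc.symm)
    · exact Or.inr (Or.inr hfc.symm)
  have hKA : ∀ u ∈ A, u ≠ 1 → u ∈ K := fun u hu hu1 => ⟨u, hu, hu1, 1, by group⟩
  have L1 : ∀ k ∈ K, Commute k b ∨ Commute k x := fun k hk =>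
    commute_or_commute hKc (hh a ha ha1 b hb hb1 hba.symm) (hsq a ha) hxo hax hbx hk
  have L2 : ∀ k ∈ K, Commute k d ∨ Commute k y := fun k hk =>
    commute_or_commute hKc (hh b hb hb1 d hd hd1 hdb.symm) (hsq b hb) hyo hby hdy hk
  have hbyne : ¬ Commute b y := fun hc => sq_ne_of_odd hyo hy1 (by
    rw [← hby, hc.eq, mul_inv_cancel_right])
  have haxne : ¬ Commute a x := fun hc => sq_ne_of_odd hxo hx1 (by
    rw [← hax, hc.eq, mul_inv_cancel_right])
  -- the conjugate `x a x⁻¹` centralises `b`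
  have hwK : x * a * x⁻¹ ∈ K := hKc _ (hKA a ha ha1) x
  have hwb : Commute (x * a * x⁻¹) b :=
    (hbx.mul_right (hcomm b hb a ha)).mul_right hbx.inv_right |>.symm
  have hda : d = a := by
    rcases hdec a ha ha1 b hb hb1 hba.symm d hd with e | e | e | e
    · exact absurd e hd1
    · exact e
    · exact absurd e hdb
    exfalso
    subst e
    have hay : a * y * a⁻¹ = y⁻¹ := by
      calc a * y * a⁻¹ = a * (b * b * y * (b * b)⁻¹) * a⁻¹ := by rw [hsq b hb]; group
        _ = (a * b) * (b * y * b⁻¹) * (a * b)⁻¹ := by group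
        _ = y⁻¹ := by rw [hby, hdy.inv_right.eq, mul_inv_cancel_right]
    have hwd : ¬ Commute (x * a * x⁻¹) (a * b) := by
      intro hc
      have h1 : Commute (x * a * x⁻¹) a := by
        simpa [mul_assoc] using hc.mul_right hwb.inv_right
      have h2 : x * a * x⁻¹ = x * x * a := by
        calc x * a * x⁻¹ = x * (a * x * a⁻¹)⁻¹ * a := by group
          _ = _ := by rw [hax, inv_inv]
      rw [h2] at h1
      have h3 : Commute (x * x) a := by
        simpa [mul_assoc] using h1.mul_left (Commute.refl a).inv_left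
      exact haxne (commute_of_commute_pow_of_odd hxo (e := 1)
        (by rw [pow_one, sq]; exact h3.symm))
    have hwy : Commute (x * a * x⁻¹) y := (L2 _ hwK).resolve_left hwd
    -- so `x * x` inverts `y`
    have e4 : (x * x) * y⁻¹ * (x * x)⁻¹ = y := by
      calc (x * x) * y⁻¹ * (x * x)⁻¹ = x * (a * x * a⁻¹)⁻¹ * (a * y * a⁻¹) * (a * x * a⁻¹) * x⁻¹ := by
            rw [hax, hay]; group
        _ = (x * a * x⁻¹) * y * (x * a * x⁻¹)⁻¹ := by group
        _ = y := by rw [hwy.eq, mul_inv_cancel_right]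
    have e5 : Commute ((x * x) ^ 2) y⁻¹ := by
      show (x * x) ^ 2 * y⁻¹ = y⁻¹ * (x * x) ^ 2
      rw [← mul_inv_eq_iff_eq_mul]
      calc (x * x) ^ 2 * y⁻¹ * ((x * x) ^ 2)⁻¹
          = (x * x) * ((x * x) * y⁻¹ * (x * x)⁻¹) * (x * x)⁻¹ := by rw [sq]; group
        _ = (x * x) * y * (x * x)⁻¹ := by rw [e4]
        _ = ((x * x) * y⁻¹ * (x * x)⁻¹)⁻¹ := by simp only [mul_inv_rev, inv_inv, mul_assoc]
        _ = y⁻¹ := by rw [e4]
    have e6 : Commute x y⁻¹ := (commute_of_commute_pow_of_odd hxo (e := 2)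
      (by rw [show (2 : ℕ) ^ 2 = 2 * 2 from rfl, pow_mul, sq x]; exact e5.symm)).symm
    rw [(e6.mul_left e6).eq, mul_inv_cancel_right] at e4
    exact sq_ne_of_odd hyo hy1 e4.symm
  subst hda
  -- `x` and `y` commute
  have hwy : Commute (x * d * x⁻¹) y := by
    refine (L2 _ hwK).resolve_left fun hc => haxne ?_
    have h2 : x * d * x⁻¹ = x * x * d := by
      calc x * d * x⁻¹ = x * (d * x * d⁻¹)⁻¹ * d := by group
        _ = _ := by rw [hax, inv_inv]
    rw [h2] at hc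
    have h3 : Commute (x * x) d := by
      simpa [mul_assoc] using hc.mul_left (Commute.refl d).inv_left
    exact commute_of_commute_pow_of_odd hxo (e := 1) (by rw [pow_one, sq]; exact h3.symm)
  have hxy : Commute x y := by
    have h2 : x * d * x⁻¹ = x * x * d := by
      calc x * d * x⁻¹ = x * (d * x * d⁻¹)⁻¹ * d := by group
        _ = _ := by rw [hax, inv_inv]
    rw [h2] at hwy
    have h3 : Commute (x * x) y := by simpa [mul_assoc] using hwy.mul_left hdy.inv_left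
    exact (commute_of_commute_pow_of_odd hxo (e := 1) (by rw [pow_one, sq]; exact h3.symm)).symm
  set t := x * y with ht
  have hk : t * (d * b) * t⁻¹ ∈ K := hKc _ (hKA _ (mul_mem hd hb) fun e => hba
    (((eq_inv_of_mul_eq_one_left e).trans (hinv b hb)).symm)) t
  have hdb_x : (d * b) * x * (d * b)⁻¹ = x⁻¹ := by
    calc (d * b) * x * (d * b)⁻¹ = d * (b * x * b⁻¹) * d⁻¹ := by group
      _ = _ := by rw [hbx.eq, mul_inv_cancel_right, hax]
  have hdb_y : (d * b) * y * (d * b)⁻¹ = y⁻¹ := by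
    calc (d * b) * y * (d * b)⁻¹ = d * (b * y * b⁻¹) * d⁻¹ := by group
      _ = _ := by rw [hby, hdy.inv_right.eq, mul_inv_cancel_right]
  rcases L1 _ hk with hc | hc
  · have h1 := hc.map (MulAut.conj t⁻¹).toMonoidHom
    simp only [MulEquiv.coe_toMonoidHom, MulAut.conj_apply] at h1
    rw [show t⁻¹ * (t * (d * b) * t⁻¹) * t⁻¹⁻¹ = d * b by group] at h1
    have e1 : t⁻¹ * b * t⁻¹⁻¹ = b * (y * y) * 1 := by
      rw [mul_one, inv_inv]
      calc t⁻¹ * b * t = y⁻¹ * (x⁻¹ * b * x) * y := by rw [ht]; group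
        _ = y⁻¹ * b * y := by rw [mul_assoc x⁻¹, hbx.eq, inv_mul_cancel_left]
        _ = (b * y * b⁻¹) * b * y := by rw [hby]
        _ = b * (y * y) := by group
    rw [e1, mul_one] at h1
    have hdbb : Commute (d * b) b :=
      (show Commute d b from hcomm d hd b hb).mul_left (Commute.refl b)
    have h2 : Commute (d * b) (y * y) := by
      simpa [← mul_assoc] using hdbb.inv_right.mul_right h1
    have h3 : Commute (d * b) y := commute_of_commute_pow_of_odd hyo (e := 1)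
      (by rw [pow_one, sq]; exact h2)
    rw [h3.eq, mul_inv_cancel_right] at hdb_y
    exact sq_ne_of_odd hyo hy1 hdb_y
  · have h1 := hc.map (MulAut.conj t⁻¹).toMonoidHom
    simp only [MulEquiv.coe_toMonoidHom, MulAut.conj_apply] at h1
    have htx : Commute t x := (Commute.refl x).mul_left hxy.symm
    rw [show t⁻¹ * (t * (d * b) * t⁻¹) * t⁻¹⁻¹ = d * b by group, inv_inv,
      htx.inv_left.eq, inv_mul_cancel_right] at h1
    rw [h1.eq, mul_inv_cancel_right] at hdb_x
    exact sq_ne_of_odd hxo hx1 hdb_x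

end CfsgLib.Involutions
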