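import Cfsg.Agent.Lib.Involutions.FusionSimpleParabolic
import Cfsg.Agent.Lib.PGroups.Basic

/-!
The parabolic simplicity criterion for the quotient by a centre without `p`-elements, with all the hypotheses
stated in the covering group.
-/

set_option autoImplicit false

namespace CfsgLib.Involutions.FusionSimpleQuotient

open CfsgLib.Involutions.FusionSimpleParabolic

variable {G : Type*} [Group G] [Finite G] {p : ℕ} [Fact p.Prime] {ι : Type*}

omit [Finite G] [Fact p.Prime] in
/-- Elements of `p`-power order with the same image in the central quotient are equal. -/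
theorem eq_of_mk_eq (hz : ∀ z ∈ Subgroup.center G, ∀ k : ℕ, z ^ p ^ k = 1 → z = 1) {a b : G} {k l : ℕ}
    (ha : a ^ p ^ k = 1) (hb : b ^ p ^ l = 1)
    (h : (QuotientGroup.mk a : G ⧸ Subgroup.center G) = QuotientGroup.mk b) : a = b := by
  have hzc : a⁻¹ * b ∈ Subgroup.center G := QuotientGroup.eq.1 h
  have hc : Commute a (a⁻¹ * b) := Subgroup.mem_center_iff.1 hzc a
  have ha' : a ^ p ^ max k l = 1 := by
    obtain ⟨d, hd⟩ := Nat.exists_eq_add_of_le (le_max_left k l)
    rw [hd, pow_add, pow_mul, ha, one_pow]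
  have hb' : b ^ p ^ max k l = 1 := by
    obtain ⟨d, hd⟩ := Nat.exists_eq_add_of_le (le_max_right k l)
    rw [hd, pow_add, pow_mul, hb, one_pow]
  have h1 : b ^ p ^ max k l = a ^ p ^ max k l * (a⁻¹ * b) ^ p ^ max k l := by
    rw [← hc.mul_pow, mul_inv_cancel_left]
  rw [ha', hb', one_mul] at h1
  exact inv_mul_eq_one.1 (hz _ hzc _ h1.symm)

/-- A `p`-subgroup containing every `p`-element of its normaliser is a Sylow subgroup. -/
theorem exists_sylow_eq (U : Subgroup G) (hU : IsPGroup p U)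
    (hmax : ∀ g ∈ Subgroup.normalizer (U : Set G), ∀ k : ℕ, g ^ p ^ k = 1 → g ∈ U) :
    ∃ P : Sylow p G, (P : Subgroup G) = U := by
  obtain ⟨P, hP⟩ := hU.exists_le_sylow
  refine ⟨P, le_antisymm ?_ hP⟩
  by_contra hne
  have : Group.IsNilpotent (P : Subgroup G) := P.2.isNilpotent
  have hlt : U.subgroupOf (P : Subgroup G) < ⊤ := lt_top_iff_ne_top.2 fun h => hne (Subgroup.subgroupOf_eq_top.1 h)
  obtain ⟨x, hx, hxn⟩ := SetLike.exists_of_lt (Group.normalizerCondition_of_isNilpotent _ hlt)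
  obtain ⟨k, hk⟩ := P.2 x
  refine hxn (hmax x ?_ k (congrArg Subtype.val hk))
  rw [Subgroup.mem_normalizer_iff] at hx ⊢
  intro y
  constructor
  · intro hy
    exact (hx ⟨y, hP hy⟩).1 hy
  · intro hy
    have hyP : y ∈ (P : Subgroup G) := by
      have h1 := (P : Subgroup G).mul_mem ((P : Subgroup G).mul_mem ((P : Subgroup G).inv_mem x.2) (hP hy)) x.2
      simpa [mul_assoc] using h1
    exact (hx ⟨y, hyP⟩).2 hy

/-- The criterion. -/
theorem isSimple_quotient (hz : ∀ z ∈ Subgroup.center G, ∀ k : ℕ, z ^ p ^ k = 1 → z = 1)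
    (U : Subgroup G) (hU : IsPGroup p U) (hU1 : U ≠ ⊥)
    (hmax : ∀ g ∈ Subgroup.normalizer (U : Set G), ∀ k : ℕ, g ^ p ^ k = 1 → g ∈ U)
    (hT : ∀ T : Subgroup G, T ≤ U → (∀ x ∈ T, ∀ g : G, g * x * g⁻¹ ∈ U → g * x * g⁻¹ ∈ T) →
      T = ⊥ ∨ T = U)
    (R : ι → Subgroup G) (hle : ∀ i, R i ≤ U)
    (hn : ∀ i, U ≤ Subgroup.normalizer (R i : Set G))
    (hC : ∀ i, Subgroup.centralizer (R i : Set G) ≤ R i ⊔ Subgroup.center G)
    (hR : ∀ i, ∃ w ∈ Subgroup.normalizer (R i : Set G), ∀ x ∈ U, w * x * w⁻¹ ∈ U → x ∈ R i)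
    (hN : Subgroup.normalizer (U : Set G) ≤
      (U ⊔ ⨆ i, pGen p (R i) ⊓ Subgroup.normalizer (U : Set G)) ⊔ Subgroup.center G)
    (S : Sylow p (G ⧸ Subgroup.center G)) :
    (Cfsg.groupFusionSystem (S : Subgroup (G ⧸ Subgroup.center G))).IsSimple p := by
  set π : G →* G ⧸ Subgroup.center G := QuotientGroup.mk' _ with hπ
  have hsurj : Function.Surjective π := QuotientGroup.mk'_surjective _
  have hpow : ∀ u ∈ U, ∃ k : ℕ, u ^ p ^ k = 1 := fun u hu => by
    obtain ⟨k, hk⟩ := hU ⟨u, hu⟩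
    exact ⟨k, congrArg Subtype.val hk⟩
  have hlift : ∀ (a : G) (k : ℕ), a ^ p ^ k = 1 → π a ∈ U.map π → a ∈ U := by
    rintro a k ha ⟨u, hu, he⟩
    obtain ⟨l, hl⟩ := hpow u hu
    exact (eq_of_mk_eq hz ha hl he.symm) ▸ hu
  have hlc : ∀ (g : G) (x : G), x ∈ U → π (g * x * g⁻¹) ∈ U.map π → g * x * g⁻¹ ∈ U := by
    intro g x hx hm
    obtain ⟨k, hk⟩ := hpow x hx
    exact hlift _ k (by rw [conj_pow, hk, mul_one, mul_inv_cancel]) hm
  obtain ⟨P, hP⟩ := exists_sylow_eq U hU hmax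
  let Q : Sylow p (G ⧸ Subgroup.center G) := P.mapSurjective hsurj
  have hQ : (Q : Subgroup (G ⧸ Subgroup.center G)) = U.map π := by
    show (P : Subgroup G).map π = _
    rw [hP]
  have hnorm : ∀ H : Subgroup G, (Subgroup.normalizer (H : Set G)).map π ≤
      Subgroup.normalizer ((H.map π : Subgroup (G ⧸ Subgroup.center G)) : Set (G ⧸ Subgroup.center G)) :=
    fun H => Subgroup.le_normalizer_map π
  refine isSimple_of_parabolic Q ?_ ?_ (fun i => (R i).map π) ?_ ?_ ?_ ?_ ?_ S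
  · rw [hQ]
    intro h
    apply hU1
    refine (Subgroup.eq_bot_iff_forall _).2 fun u hu => ?_
    obtain ⟨k, hk⟩ := hpow u hu
    have h1 : π u = 1 := by
      have := Subgroup.mem_map_of_mem π hu
      rwa [h, Subgroup.mem_bot] at this
    exact eq_of_mk_eq hz hk (one_pow (p ^ 0)) h1
  · rw [hQ]
    intro T hTle hTc
    have h1 : (U ⊓ T.comap π).map π = T := by
      refine le_antisymm ((Subgroup.map_mono inf_le_right).trans (Subgroup.map_comap_le _ _)) fun y hy => ?_
      obtain ⟨u, hu, rfl⟩ := hTle hy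
      exact ⟨u, ⟨hu, hy⟩, rfl⟩
    rcases hT (U ⊓ T.comap π) inf_le_left (fun x hx g hg => ⟨hg, by
        have hm := Subgroup.mem_map_of_mem π hg
        rw [map_mul, map_mul, map_inv] at hm
        show π (g * x * g⁻¹) ∈ T
        rw [map_mul, map_mul, map_inv]
        exact hTc (π x) hx.2 (π g) hm⟩) with h | h
    · left; rw [← h1, h, Subgroup.map_bot]
    · right; rw [← h1, h]
  · intro i; rw [hQ]; exact Subgroup.map_mono (hle i)
  · intro i; rw [hQ]; exact (Subgroup.map_mono (hn i)).trans (hnorm _)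
  · intro i y hy
    obtain ⟨g, rfl⟩ := hsurj y
    have hg : g ∈ Subgroup.centralizer (R i : Set G) := by
      refine Subgroup.mem_centralizer_iff.2 fun x hx => ?_
      obtain ⟨k, hk⟩ := hpow x (hle i hx)
      have h1 : π x * π g = π g * π x :=
        Subgroup.mem_centralizer_iff.1 hy _ (Subgroup.mem_map_of_mem π hx)
      have h2 : g * x * g⁻¹ = x := by
        refine eq_of_mk_eq hz (k := k) (l := k) (by rw [conj_pow, hk, mul_one, mul_inv_cancel]) hk ?_
        show π (g * x * g⁻¹) = π x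
        rw [map_mul, map_mul, map_inv, ← h1, mul_inv_cancel_right]
      calc x * g = g * x * g⁻¹ * g := by rw [h2]
        _ = g * x := inv_mul_cancel_right _ _
    have := Subgroup.mem_map_of_mem π (hC i hg)
    rwa [Subgroup.map_sup, QuotientGroup.map_mk'_self, sup_bot_eq] at this
  · intro i
    obtain ⟨w, hwN, hw⟩ := hR i
    refine ⟨π w, hnorm _ (Subgroup.mem_map_of_mem π hwN), ?_⟩
    rw [hQ]
    rintro _ ⟨x, hx, rfl⟩ hmem
    rw [← map_inv, ← map_mul, ← map_mul] at hmem
    exact Subgroup.mem_map_of_mem π (hw x hx (hlc w x hx hmem))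
  · rw [hQ]
    intro y hy
    obtain ⟨g, rfl⟩ := hsurj y
    have hg : g ∈ Subgroup.normalizer (U : Set G) := by
      rw [Subgroup.mem_normalizer_iff]
      intro x
      constructor
      · intro hx
        refine hlc g x hx ?_
        rw [map_mul, map_mul, map_inv]
        exact (Subgroup.mem_normalizer_iff.1 hy _).1 (Subgroup.mem_map_of_mem π hx)
      · intro hx
        have h1 := hlc g⁻¹ _ hx (by
          rw [map_mul, map_mul, map_inv, map_inv]
          exact (Subgroup.mem_normalizer_iff.1 (Subgroup.inv_mem _ hy) _).1 (Subgroup.mem_map_of_mem π hx))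
        simpa [mul_assoc] using h1
    have h1 := Subgroup.mem_map_of_mem π (hN hg)
    rw [Subgroup.map_sup, QuotientGroup.map_mk'_self, sup_bot_eq, Subgroup.map_sup, Subgroup.map_iSup] at h1
    refine sup_le_sup (le_refl (U.map π)) (iSup_mono fun i => ?_) h1
    refine (Subgroup.map_inf_le _ _ _).trans (inf_le_inf ?_ (hnorm U))
    rw [pGen, MonoidHom.map_closure, pGen]
    refine Subgroup.closure_mono ?_
    rintro _ ⟨x, ⟨hx, k, hk⟩, rfl⟩
    obtain ⟨l, -, hl⟩ := (Nat.dvd_prime_pow (Fact.out : p.Prime)).1 (hk ▸ orderOf_map_dvd π x)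
    exact ⟨hnorm _ (Subgroup.mem_map_of_mem π hx), l, hl⟩

end CfsgLib.Involutions.FusionSimpleQuotient

namespace CfsgLib.Involutions.FusionSimpleQuotient

open CfsgLib.Involutions.FusionSimpleParabolic

variable {G K : Type*} [Group G] [Group K] [Finite G] [Finite K] {p : ℕ} [Fact p.Prime] {ι : Type*}

/-- The criterion, with the hypotheses stated in an isomorphic copy of the group. -/
theorem isSimple_quotient_equiv (e : K ≃* G) (hz : ∀ z ∈ Subgroup.center K, ∀ k : ℕ, z ^ p ^ k = 1 → z = 1)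
    (U : Subgroup K) (hU : IsPGroup p U) (hU1 : U ≠ ⊥)
    (hmax : ∀ g ∈ Subgroup.normalizer (U : Set K), ∀ k : ℕ, g ^ p ^ k = 1 → g ∈ U)
    (hT : ∀ T : Subgroup K, T ≤ U → (∀ x ∈ T, ∀ g : K, g * x * g⁻¹ ∈ U → g * x * g⁻¹ ∈ T) →
      T = ⊥ ∨ T = U)
    (R : ι → Subgroup K) (hle : ∀ i, R i ≤ U)
    (hn : ∀ i, U ≤ Subgroup.normalizer (R i : Set K))
    (hC : ∀ i, Subgroup.centralizer (R i : Set K) ≤ R i ⊔ Subgroup.center K)
    (hR : ∀ i, ∃ w ∈ Subgroup.normalizer (R i : Set K), ∀ x ∈ U, w * x * w⁻¹ ∈ U → x ∈ R i)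
    (hN : Subgroup.normalizer (U : Set K) ≤
      (U ⊔ ⨆ i, pGen p (R i) ⊓ Subgroup.normalizer (U : Set K)) ⊔ Subgroup.center K)
    (S : Sylow p (G ⧸ Subgroup.center G)) :
    (Cfsg.groupFusionSystem (S : Subgroup (G ⧸ Subgroup.center G))).IsSimple p := by
  have hinj : Function.Injective e.toMonoidHom := e.injective
  have hnor : ∀ H : Subgroup K, Subgroup.normalizer (H.map e.toMonoidHom : Set G) =
      (Subgroup.normalizer (H : Set K)).map e.toMonoidHom := fun H =>
    (Subgroup.map_equiv_normalizer_eq H e).symm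
  have hcen : (Subgroup.center K).map e.toMonoidHom = Subgroup.center G := by
    ext y
    constructor
    · rintro ⟨z, hz', rfl⟩
      refine Subgroup.mem_center_iff.2 fun g => ?_
      obtain ⟨k, rfl⟩ := e.surjective g
      exact (map_mul e k z).symm.trans ((congrArg e (Subgroup.mem_center_iff.1 hz' k)).trans (map_mul e z k))
    · intro hy
      refine ⟨e.symm y, Subgroup.mem_center_iff.2 fun k => e.injective ?_, e.apply_symm_apply y⟩
      rw [map_mul, map_mul, e.apply_symm_apply]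
      exact Subgroup.mem_center_iff.1 hy (e k)
  refine isSimple_quotient ?_ (U.map e.toMonoidHom) (hU.map _) ?_ ?_ ?_ (fun i => (R i).map e.toMonoidHom)
    (fun i => Subgroup.map_mono (hle i)) ?_ ?_ ?_ ?_ S
  · intro z hzc k hk
    rw [← hcen] at hzc
    obtain ⟨z, hzc, rfl⟩ := hzc
    rw [← map_pow, ← map_one e.toMonoidHom] at hk
    rw [hz z hzc k (hinj hk), map_one]
  · rw [Ne, Subgroup.map_eq_bot_iff_of_injective _ hinj]
    exact hU1
  · intro g hg k hk
    rw [hnor] at hg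
    obtain ⟨g, hg, rfl⟩ := hg
    rw [← map_pow, ← map_one e.toMonoidHom] at hk
    exact Subgroup.mem_map_of_mem _ (hmax g hg k (hinj hk))
  · intro T hTle hTc
    have h1 : (T.comap e.toMonoidHom).map e.toMonoidHom = T :=
      Subgroup.map_comap_eq_self_of_surjective e.surjective T
    have hle₀ : T.comap e.toMonoidHom ≤ U := by
      rw [← Subgroup.comap_map_eq_self_of_injective hinj U]
      exact Subgroup.comap_mono hTle
    rcases hT (T.comap e.toMonoidHom) hle₀ fun x hx g hg => by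
        show e.toMonoidHom (g * x * g⁻¹) ∈ T
        have h2 := hTc (e x) hx (e g) ⟨g * x * g⁻¹, hg, by simp⟩
        simpa using h2 with h | h
    · left; rw [← h1, h, Subgroup.map_bot]
    · right; rw [← h1, h]
  · intro i; rw [hnor]; exact Subgroup.map_mono (hn i)
  · rintro i y hy
    rw [← hcen, ← Subgroup.map_sup]
    refine ⟨e.symm y, hC i (Subgroup.mem_centralizer_iff.2 fun x hx => e.injective ?_), e.apply_symm_apply y⟩
    rw [map_mul, map_mul, e.apply_symm_apply]
    exact Subgroup.mem_centralizer_iff.1 hy (e x) ⟨x, hx, rfl⟩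
  · intro i
    obtain ⟨w, hwN, hw⟩ := hR i
    rw [hnor]
    refine ⟨e w, ⟨w, hwN, rfl⟩, ?_⟩
    rintro _ ⟨x, hx, rfl⟩ ⟨z, hz', hze⟩
    have : z = w * x * w⁻¹ := e.injective (by simpa using hze)
    exact ⟨x, hw x hx (this ▸ hz'), rfl⟩
  · rw [hnor, ← hcen]
    refine (Subgroup.map_mono hN).trans ?_
    rw [Subgroup.map_sup, Subgroup.map_sup, Subgroup.map_iSup]
    refine sup_le_sup (sup_le_sup le_rfl (iSup_mono fun i => ?_)) le_rfl
    refine (Subgroup.map_inf_le _ _ _).trans (inf_le_inf ?_ le_rfl)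
    rw [pGen, MonoidHom.map_closure, pGen, hnor]
    refine Subgroup.closure_mono ?_
    rintro _ ⟨g, ⟨hg, k, hk⟩, rfl⟩
    exact ⟨⟨g, hg, rfl⟩, k, (orderOf_injective e.toMonoidHom hinj g).trans hk⟩

end CfsgLib.Involutions.FusionSimpleQuotient
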