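import Mathlib
import Cfsg.Agent.Lib.Fusion.SimpleCriterion
import Cfsg.Agent.Lib.Base.Cores

/-!
Simplicity of the fusion system of a group whose Sylow subgroup has inner automizer and no proper
strongly closed subgroup.
-/

set_option autoImplicit false

namespace CfsgLib.Involutions.FusionSimpleTwo

open Cfsg Cfsg.FusionSystem CfsgLib.Fusion

variable {G : Type*} [Group G] [Finite G] {p : ℕ} [Fact p.Prime]

omit [Fact p.Prime] in
theorem mem_sylow_of_pow {S : Sylow p G} {x : G}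
    (hx : x ∈ Subgroup.normalizer ((S : Subgroup G) : Set G)) {k : ℕ} (h : x ^ p ^ k = 1) :
    x ∈ (S : Subgroup G) := by
  have hp : IsPGroup p (Subgroup.zpowers x) := by
    rintro ⟨y, hy⟩
    obtain ⟨i, rfl⟩ := Subgroup.mem_zpowers_iff.1 hy
    refine ⟨k, Subtype.ext ?_⟩
    show (x ^ i) ^ p ^ k = 1
    rw [← zpow_natCast, ← zpow_mul, mul_comm, zpow_mul, zpow_natCast, h, one_zpow]
  have hsup := IsPGroup.to_sup_of_normal_right' hp S.2 (Subgroup.zpowers_le.2 hx)
  exact S.3 hsup le_sup_right ▸ Subgroup.mem_sup_left (Subgroup.mem_zpowers x)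

theorem exists_decomp (g : G) : ∃ (u : G) (v : G) (k : ℕ), g = u * v ∧ u ∈ Subgroup.zpowers g ∧
    v ∈ Subgroup.zpowers g ∧ u ^ p ^ k = 1 ∧ ¬ p ∣ orderOf v := by
  obtain ⟨k, m, hm, hn⟩ := Nat.exists_eq_pow_mul_and_not_dvd (orderOf_pos g).ne' p
    (Fact.out : p.Prime).ne_one
  have hg : g ^ ((p ^ k * m : ℕ) : ℤ) = 1 := by rw [zpow_natCast, ← hn, pow_orderOf_eq_one]
  have hcop : Nat.Coprime (p ^ k) m := Nat.Coprime.pow_left k ((Fact.out : p.Prime).coprime_iff_not_dvd.2 hm)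
  obtain ⟨a, b, hab⟩ : ∃ a b : ℤ, (m : ℤ) * a + ((p ^ k : ℕ) : ℤ) * b = 1 :=
    ⟨_, _, ((Nat.gcd_eq_gcd_ab m (p ^ k)).symm.trans (by rw [hcop.symm]; rfl))⟩
  refine ⟨g ^ ((m : ℤ) * a), g ^ (((p ^ k : ℕ) : ℤ) * b), k, ?_, ⟨_, rfl⟩, ⟨_, rfl⟩, ?_, ?_⟩
  · rw [← zpow_add, hab, zpow_one]
  · rw [← zpow_natCast, ← zpow_mul,
      show (m : ℤ) * a * ((p ^ k : ℕ) : ℤ) = ((p ^ k * m : ℕ) : ℤ) * a by push_cast; ring,
      zpow_mul, hg, one_zpow]
  · intro hd
    apply hm
    refine hd.trans (orderOf_dvd_of_pow_eq_one ?_)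
    rw [← zpow_natCast, ← zpow_mul,
      show ((p ^ k : ℕ) : ℤ) * b * (m : ℤ) = ((p ^ k * m : ℕ) : ℤ) * b by push_cast; ring,
      zpow_mul, hg, one_zpow]

/-- The criterion. -/
theorem isSimple_of_inner (S0 : Sylow p G) (hS0 : (S0 : Subgroup G) ≠ ⊥)
    (hT : ∀ T : Subgroup G, T ≤ (S0 : Subgroup G) →
      (∀ x ∈ T, ∀ g : G, g * x * g⁻¹ ∈ (S0 : Subgroup G) → g * x * g⁻¹ ∈ T) →
        T = ⊥ ∨ T = (S0 : Subgroup G))
    (hN : ∀ g ∈ Subgroup.normalizer ((S0 : Subgroup G) : Set G), ¬ p ∣ orderOf g →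
      g ∈ Subgroup.centralizer ((S0 : Subgroup G) : Set G))
    (S : Sylow p G) : (groupFusionSystem (S : Subgroup G)).IsSimple p := by
  obtain ⟨a, rfl⟩ := MulAction.exists_smul_eq G S0 S
  set S : Sylow p G := a • S0 with hSdef
  have hmem : ∀ x, x ∈ (S : Subgroup G) ↔ a⁻¹ * x * a ∈ (S0 : Subgroup G) := by
    intro x
    rw [hSdef, Sylow.coe_subgroup_smul, Subgroup.mem_pointwise_smul_iff_inv_smul_mem]
    simp [MulAut.smul_def]
  have hSne : (S : Subgroup G) ≠ ⊥ := by
    intro h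
    apply hS0
    refine (Subgroup.eq_bot_iff_forall _).2 fun x hx => ?_
    have : a * x * a⁻¹ ∈ (S : Subgroup G) := by rw [hmem]; simpa [mul_assoc] using hx
    rw [h, Subgroup.mem_bot, conj_eq_one_iff] at this
    exact this
  have hnorm : ∀ g ∈ Subgroup.normalizer ((S : Subgroup G) : Set G), ¬ p ∣ orderOf g →
      g ∈ Subgroup.centralizer ((S : Subgroup G) : Set G) := by
    intro g hg hgp
    have h1 : a⁻¹ * g * a ∈ Subgroup.normalizer ((S0 : Subgroup G) : Set G) := by
      rw [Subgroup.mem_normalizer_iff]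
      intro x
      have hx : x ∈ (S0 : Subgroup G) ↔ a * x * a⁻¹ ∈ (S : Subgroup G) := by
        rw [hmem]; simp [mul_assoc]
      rw [hx, Subgroup.mem_normalizer_iff.1 hg, hmem]
      simp [mul_assoc]
    have h2 : ¬ p ∣ orderOf (a⁻¹ * g * a) := by
      have hmap : orderOf (MulAut.conj a⁻¹ g) = orderOf g :=
        orderOf_injective (MulAut.conj a⁻¹).toMonoidHom (MulAut.conj a⁻¹).injective g
      rw [MulAut.conj_apply, inv_inv] at hmap
      rwa [hmap]
    have h3 := Subgroup.mem_centralizer_iff.1 (hN _ h1 h2)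
    rw [Subgroup.mem_centralizer_iff]
    intro x hx
    have h4 := h3 _ ((hmem x).1 hx)
    calc x * g = a * (a⁻¹ * x * a * (a⁻¹ * g * a)) * a⁻¹ := by group
      _ = g * x := by rw [h4]; group
  have hclosed : ∀ T : Subgroup G, (groupFusionSystem (S : Subgroup G)).StronglyClosed T →
      T = ⊥ ∨ T = (S : Subgroup G) := by
    rintro T ⟨hTS, hT'⟩
    let T0 : Subgroup G := T.comap (MulAut.conj a).toMonoidHom
    have hT0 : ∀ x, x ∈ T0 ↔ a * x * a⁻¹ ∈ T := fun x => Iff.rfl
    have hle : T0 ≤ (S0 : Subgroup G) := fun x hx => by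
      have := (hmem _).1 (hTS ((hT0 x).1 hx))
      simpa [mul_assoc] using this
    have key := hT T0 hle fun x hx g hg => by
      rw [hT0] at hx ⊢
      have hin : a * (g * x * g⁻¹) * a⁻¹ ∈ (S : Subgroup G) := by
        rw [hmem]; simpa [mul_assoc] using hg
      have hX : Subgroup.zpowers (a * x * a⁻¹) ≤ T := Subgroup.zpowers_le.2 hx
      have hcj : ∀ y ∈ Subgroup.zpowers (a * x * a⁻¹), cj (a * g * a⁻¹) y ∈ (S : Subgroup G) := by
        rintro y ⟨i, rfl⟩
        show a * g * a⁻¹ * (a * x * a⁻¹) ^ i * (a * g * a⁻¹)⁻¹ ∈ (S : Subgroup G)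
        rw [← conj_zpow, show a * g * a⁻¹ * (a * x * a⁻¹) * (a * g * a⁻¹)⁻¹ = a * (g * x * g⁻¹) * a⁻¹ by group]
        exact Subgroup.zpow_mem _ hin i
      obtain ⟨φ, hφ, hφe⟩ := id (isMor_group.mpr ⟨hX.trans hTS, hcj, a * g * a⁻¹, fun _ _ => rfl⟩ :
        IsMor (groupFusionSystem (S : Subgroup G)) (Subgroup.zpowers (a * x * a⁻¹)) (cj (a * g * a⁻¹)))
      have := hT' _ hX φ hφ ⟨_, Subgroup.mem_zpowers _⟩
      rw [hφe] at this
      simpa [cj, mul_assoc] using this
    rcases key with h | h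
    · left
      refine (Subgroup.eq_bot_iff_forall _).2 fun y hy => ?_
      have h1 : a⁻¹ * y * a ∈ T0 := by rw [hT0]; simpa [mul_assoc] using hy
      rw [h, Subgroup.mem_bot] at h1
      calc y = a * (a⁻¹ * y * a) * a⁻¹ := by group
        _ = 1 := by rw [h1]; group
    · right
      refine le_antisymm hTS fun y hy => ?_
      have h1 : a⁻¹ * y * a ∈ T0 := by rw [h]; exact (hmem y).1 hy
      simpa [hT0, mul_assoc] using h1
  have hS := S.2
  have hF := groupFusion_isSaturated S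
  set F := groupFusionSystem (S : Subgroup G) with hFdef
  -- every automorphism of `S` in `G` is induced by an element of `S`
  have hinner : ∀ g ∈ Subgroup.normalizer ((S : Subgroup G) : Set G), ∃ s ∈ (S : Subgroup G),
      ∀ x ∈ (S : Subgroup G), cj g x = cj s x := by
    intro g hg
    obtain ⟨u, v, k, he, hu, hv, huk, hvp⟩ := exists_decomp (p := p) g
    have hle : Subgroup.zpowers g ≤ Subgroup.normalizer ((S : Subgroup G) : Set G) :=
      Subgroup.zpowers_le.2 hg
    refine ⟨u, mem_sylow_of_pow (hle hu) huk, fun x hx => ?_⟩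
    have h1 := Subgroup.mem_centralizer_iff.1 (hnorm v (hle hv) hvp) x hx
    rw [he]
    show u * v * x * (u * v)⁻¹ = u * x * u⁻¹
    rw [mul_assoc u v x, ← h1]
    group
  have haut : F.autGroup (S : Subgroup G) = autInducedBy (S : Subgroup G) (S : Subgroup G) := by
    refine le_antisymm (fun α hα => ?_) (autInducedBy_le F le_rfl)
    have hαm := isMor_autFun le_rfl hα
    obtain ⟨-, -, g, hg⟩ := isMor_group.mp hαm
    have hgn : g ∈ Subgroup.normalizer ((S : Subgroup G) : Set G) := by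
      rw [Subgroup.mem_normalizer_iff_map_conj_eq]
      exact (img_cj _ g).symm.trans ((img_congr hg).symm.trans (img_autFun α))
    obtain ⟨s, hs, he⟩ := hinner g hgn
    exact mem_autInducedBy.mpr ⟨s, hs, Subgroup.le_normalizer hs, fun x hx => (hg x hx).trans (he x hx)⟩
  have hconj : ∀ Q : Subgroup G, F.IsConj (S : Subgroup G) Q → Q = (S : Subgroup G) := by
    intro Q hQ
    obtain ⟨-, hQS, g, rfl⟩ := isConj_group_iff.1 hQ
    exact Subgroup.eq_of_le_of_card_ge hQS (card_img_cj _ g).ge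
  refine groupFusion_isSimple_of_generation S hSne hclosed (le_antisymm ?_ ?_)
  · intro α hα
    obtain ⟨g, -, hgn, hge⟩ := mem_autInducedBy.mp hα
    obtain ⟨s, hs, he⟩ := hinner g hgn
    have hR : F.IsFullyNormalized (S : Subgroup G) ∧ F.IsRadical p (S : Subgroup G) ∧
        F.IsCentric (S : Subgroup G) := by
      refine ⟨⟨le_rfl, fun Q hQ => by rw [hconj Q hQ]⟩, ⟨le_rfl, ?_⟩, le_rfl, fun Q hQ => ?_⟩
      · have hp : IsPGroup p (F.autGroup (S : Subgroup G)) := by
          rw [haut]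
          intro β
          obtain ⟨s', hs', -, hs'e⟩ := mem_autInducedBy.mp β.2
          obtain ⟨j, hj⟩ := hS ⟨s', hs'⟩
          have hj' : s' ^ p ^ j = 1 := congrArg Subtype.val hj
          refine ⟨j, Subtype.ext (autFun_inj fun x hx => ?_)⟩
          have hpow : ∀ n : ℕ, ∀ y ∈ (S : Subgroup G),
              autFun ((β : MulAut (S : Subgroup G)) ^ n) y = cj (s' ^ n) y := by
            intro n
            induction n with
            | zero => intro y hy; rw [pow_zero, pow_zero, autFun_one hy, cj_one]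
            | succ n ih =>
              intro y hy
              rw [pow_succ', pow_succ', autFun_mul _ _ hy, hs'e _ (autFun_mem _ hy), ih y hy, cj_mul]
          rw [SubmonoidClass.coe_pow, hpow _ x hx, hj', cj_one, OneMemClass.coe_one, autFun_one hx]
        rw [CfsgLib.Base.pCore_eq_top_iff.2 hp, inn_eq_autInducedBy, ← haut, ← MonoidHom.range_eq_map,
          Subgroup.range_subtype]
      · rw [hconj Q hQ]
        exact inf_le_left
    refine le_iSup₂ (f := fun (R : Subgroup G) (_ : F.IsFullyNormalized R ∧ F.IsRadical p R ∧ F.IsCentric R) => autInducedBy (Subgroup.closure {g : G | g ∈ Subgroup.normalizer (R : Set G) ∧ ∃ k : ℕ, orderOf g = p ^ k}) (S : Subgroup G)) (S : Subgroup G) hR ?_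
    obtain ⟨j, hj⟩ := IsPGroup.iff_orderOf.1 hS ⟨s, hs⟩
    refine mem_autInducedBy.mpr ⟨s, Subgroup.subset_closure ⟨Subgroup.le_normalizer hs, j, ?_⟩,
      Subgroup.le_normalizer hs, fun x hx => (hge x hx).trans (he x hx)⟩
    rw [← hj, Subgroup.orderOf_mk]
  · refine iSup₂_le fun R _ α hα => ?_
    obtain ⟨g, -, hgn, hge⟩ := mem_autInducedBy.mp hα
    exact mem_autInducedBy.mpr ⟨g, Subgroup.mem_top g, hgn, hge⟩

end CfsgLib.Involutions.FusionSimpleTwo
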