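import Cfsg.Agent.Lib.Involutions.G2SylowTwo
import Cfsg.Agent.Lib.Classical.Order

/-!
The Sylow two-subgroup of `G₂(q)`, `q` odd, and the squares of its elements.
-/

set_option autoImplicit false
set_option linter.unusedSectionVars false

namespace CfsgLib.Involutions.G2Two

open Matrix
open CfsgLib.Involutions.PSpFour (SData av neg_coe)
open scoped Pointwise commutatorElement

variable {F : Type*} [Field F] [Fintype F] [NeZero (2 : F)]

local notation "M2" => Matrix (Fin 2) (Fin 2) F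
local notation "SL2" => Matrix.SpecialLinearGroup (Fin 2) F
local notation "GL2" => GL (Fin 2) F
set_option quotPrecheck false in
local notation "G" => ↥(Cfsg.Lie.G2 F)

theorem card_H2 : Nat.card (H2 F) = (Nat.card F - 1) * Nat.card SL2 * Nat.card SL2 := by
  classical
  let f : H2 F →* GL2 := (MonoidHom.fst GL2 GL2).comp (H2 F).subtype
  have hf : Function.Surjective f := by
    intro c
    refine ⟨⟨(c, c), mem_H2.2 rfl⟩, rfl⟩
  let e : f.ker ≃ (Matrix.GeneralLinearGroup.det : GL2 →* Fˣ).ker :=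
    { toFun := fun v => ⟨v.1.1.2, by
        have h1 : v.1.1.1 = 1 := v.2
        have h2 := v.1.2
        have h3 : Matrix.GeneralLinearGroup.det v.1.1.1 = Matrix.GeneralLinearGroup.det v.1.1.2 := h2
        rw [MonoidHom.mem_ker, ← h3, h1, map_one]⟩
      invFun := fun p => ⟨⟨(1, p.1), show Matrix.GeneralLinearGroup.det (1 : GL2) =
          Matrix.GeneralLinearGroup.det p.1 by rw [map_one, MonoidHom.mem_ker.1 p.2]⟩, rfl⟩
      left_inv := fun v => by
        have h1 : v.1.1.1 = 1 := v.2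
        refine Subtype.ext (Subtype.ext (Prod.ext ?_ rfl))
        exact h1.symm
      right_inv := fun p => rfl }
  rw [Subgroup.card_eq_card_quotient_mul_card_subgroup f.ker,
    Nat.card_congr (QuotientGroup.quotientKerEquivOfSurjective f hf).toEquiv,
    CfsgLib.Classical.card_GL_eq_mul_card_SL, Nat.card_congr e, CfsgLib.Classical.card_det_ker]

theorem card_ker_phi : Nat.card (phi F).ker = Nat.card F - 1 := by
  classical
  let i : Fˣ → GL2 := fun s => Units.map (algebraMap F M2).toMonoidHom s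
  have hi : ∀ s : Fˣ, (i s).1 = (s : F) • (1 : M2) := fun s => by
    simp [i, Algebra.algebraMap_eq_smul_one]
  let f : Fˣ → (phi F).ker := fun s => ⟨⟨(i s, i s), mem_H2.2 rfl⟩, by
    rw [MonoidHom.mem_ker]
    exact Subtype.ext (by rw [phi_coe]; exact phiGL_scalar _ s.ne_zero (hi s))⟩
  have hb : Function.Bijective f := by
    constructor
    · intro s t h
      have h' : (i s).1 = (i t).1 := congrArg (fun v : (phi F).ker => v.1.1.1.1) h
      rw [hi, hi] at h'
      have := congrFun (congrFun h' 0) 0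
      exact Units.ext (by simpa using this)
    · rintro ⟨⟨⟨c, p⟩, hm⟩, hv⟩
      have h1 : phiGL F (c, p) = phiGL F (1, 1) := by
        rw [show ((1, 1) : GL2 × GL2) = 1 from rfl, map_one]
        exact congrArg Subtype.val (MonoidHom.mem_ker.1 hv)
      obtain ⟨s, hc, hp⟩ := phiGL_eq h1.symm
      rw [Units.val_one] at hc hp
      have hs : s ≠ 0 := by
        rintro rfl
        exact c.det_ne_zero (by rw [hc, zero_smul, Matrix.det_zero])
      refine ⟨Units.mk0 s hs, Subtype.ext (Subtype.ext (Prod.ext (Units.ext ?_) (Units.ext ?_)))⟩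
      · exact (hi _).trans hc.symm
      · exact (hi _).trans hp.symm
  rw [← Nat.card_congr (Equiv.ofBijective f hb), CfsgLib.Classical.card_units_field]

theorem card_range_phi : Nat.card (phi F).range = Nat.card SL2 * Nat.card SL2 := by
  have h := Subgroup.card_eq_card_quotient_mul_card_subgroup (phi F).ker
  rw [Nat.card_congr (QuotientGroup.quotientKerEquivRange (phi F)).toEquiv, card_H2, card_ker_phi,
    mul_assoc, mul_comm] at h
  have hq : 0 < Nat.card F - 1 := by
    have := Finite.one_lt_card (α := F)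
    omega
  exact (Nat.eq_of_mul_eq_mul_right hq h).symm

/-- The special linear pairs. -/
noncomputable def psi (F : Type*) [Field F] :
    Matrix.SpecialLinearGroup (Fin 2) F × Matrix.SpecialLinearGroup (Fin 2) F →* Cfsg.Lie.G2 F :=
  (phi F).comp
    ((MonoidHom.prodMap Matrix.SpecialLinearGroup.toGL Matrix.SpecialLinearGroup.toGL).codRestrict
      (H2 F) fun v => mem_H2.2 (by simp))

theorem psi_coe (x y : SL2) : (psi F (x, y) : GL (Fin 8) F) =
    phiGL F (Matrix.SpecialLinearGroup.toGL x, Matrix.SpecialLinearGroup.toGL y) := rfl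

theorem psi_eq {x y x' y' : SL2} (h : psi F (x, y) = psi F (x', y')) :
    (x' = x ∧ y' = y) ∨ (x' = -x ∧ y' = -y) := by
  have h' := congrArg Subtype.val h
  rw [psi_coe, psi_coe] at h'
  obtain ⟨s, hc, hp⟩ := phiGL_eq h'
  have hc' : x'.1 = s • x.1 := hc
  have hp' : y'.1 = s • y.1 := hp
  have hd := x'.2
  rw [hc', Matrix.det_smul, x.2, mul_one, Fintype.card_fin, pow_two] at hd
  rcases mul_self_eq_one_iff.1 hd with rfl | rfl
  · exact Or.inl ⟨Subtype.ext (by rw [hc', one_smul]), Subtype.ext (by rw [hp', one_smul])⟩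
  · exact Or.inr ⟨Subtype.ext (by rw [hc', neg_coe, neg_one_smul]),
      Subtype.ext (by rw [hp', neg_coe, neg_one_smul])⟩

theorem psi_neg (x y : SL2) : psi F (-x, -y) = psi F (x, y) := by
  refine Subtype.ext (ap_ext fun v => ?_)
  have hn : (-x)⁻¹ = -x⁻¹ := inv_eq_of_mul_eq_one_right (by simp)
  have i1 : (Matrix.SpecialLinearGroup.toGL (-x))⁻¹ = Matrix.SpecialLinearGroup.toGL (-x⁻¹) := by
    rw [← map_inv, hn]
  have i2 : (Matrix.SpecialLinearGroup.toGL x)⁻¹ = Matrix.SpecialLinearGroup.toGL x⁻¹ :=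
    (map_inv _ _).symm
  rw [psi_coe, psi_coe, ap_phiGL, ap_phiGL, i1, i2]
  show asm ((-x).1 * Mp v * (-x⁻¹).1) ((-y).1 * Yp v * (-x⁻¹).1) =
    asm (x.1 * Mp v * (x⁻¹).1) (y.1 * Yp v * (x⁻¹).1)
  simp only [neg_coe, Matrix.neg_mul, Matrix.mul_neg, neg_neg]

theorem zG_eq : zG F = psi F (1, -1) := by
  refine Subtype.ext (ap_ext fun v => ?_)
  rw [ap_zG, psi_coe, map_one, ap_phiGL]
  simp

theorem zG_ne_one : zG F ≠ 1 := by
  intro h
  rw [zG_eq, ← map_one (psi F), show (1 : SL2 × SL2) = (1, 1) from rfl] at h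
  rcases psi_eq h with ⟨-, e⟩ | ⟨e, -⟩
  · exact CfsgLib.Involutions.PSpFour.ne_neg (1 : SL2) e
  · exact CfsgLib.Involutions.PSpFour.ne_neg (1 : SL2) e

theorem phi_mem_centralizer (v : H2 F) : phi F v * zG F = zG F * phi F v := by
  refine Subtype.ext (ap_ext fun x => ?_)
  rw [Subgroup.coe_mul, Subgroup.coe_mul, ap_mul, ap_mul, ap_zG, ap_zG, phi_coe]
  obtain ⟨⟨c, p⟩, h⟩ := v
  simp [ap_phiGL, Mp_asm, Yp_asm]

theorem range_phi : (phi F).range = Subgroup.centralizer ({zG F} : Set G) := by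
  ext g
  rw [Subgroup.mem_centralizer_singleton_iff]
  constructor
  · rintro ⟨v, rfl⟩
    exact phi_mem_centralizer v
  · exact fun h => centralizer_zG (NeZero.ne (2 : F)) g h

/-- Conjugation of `SL₂` by an element of `GL₂`. -/
noncomputable def cjA (F : Type*) [Field F] :
    GL (Fin 2) F →* MulAut (Matrix.SpecialLinearGroup (Fin 2) F) where
  toFun c :=
    { toFun := fun x => ⟨c.1 * x.1 * (c⁻¹).1, by
        rw [Matrix.det_units_conj, x.2]⟩
      invFun := fun x => ⟨(c⁻¹).1 * x.1 * c.1, by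
        rw [Matrix.det_units_conj', x.2]⟩
      left_inv := fun x => Subtype.ext (by simp [mul_assoc])
      right_inv := fun x => Subtype.ext (by simp [mul_assoc])
      map_mul' := fun x y => Subtype.ext
        (show c.1 * (x.1 * y.1) * (c⁻¹).1 = c.1 * x.1 * (c⁻¹).1 * (c.1 * y.1 * (c⁻¹).1) by
          simp [mul_assoc]) }
  map_one' := MulEquiv.ext fun x => Subtype.ext
    (show (1 : GL (Fin 2) F).1 * x.1 * ((1 : GL (Fin 2) F)⁻¹).1 = x.1 by simp)
  map_mul' c d := MulEquiv.ext fun x => Subtype.ext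
    (show (c * d).1 * x.1 * ((c * d)⁻¹).1 = c.1 * (d.1 * x.1 * (d⁻¹).1) * (c⁻¹).1 by
      simp [mul_assoc])

theorem cjA_coe (c : GL2) (x : SL2) : (cjA F c x).1 = c.1 * x.1 * (c⁻¹).1 := rfl

/-- A Sylow subgroup of `SL₂` is normalised by a matrix with non-square determinant and scalar
square. -/
theorem exists_normalising (d : SData F) : ∃ (c : GL2) (δ : F), ¬ IsSquare δ ∧ c.1.det = δ ∧
    c.1 * c.1 = (-δ) • (1 : M2) ∧ ∀ x ∈ (d.Q : Subgroup SL2), cjA F c x ∈ (d.Q : Subgroup SL2) := by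
  classical
  haveI : Fact (Nat.Prime 2) := ⟨Nat.prime_two⟩
  obtain ⟨δ, hδ⟩ := FiniteField.exists_nonsquare (F := F)
    (fun h => by
      haveI := ringChar.charP F
      have h2 := NeZero.ne (2 : F)
      exact h2 (by
        have := CharP.cast_eq_zero F (ringChar F)
        rw [h] at this
        exact_mod_cast this))
  have hd0 : δ ≠ 0 := fun h => hδ (h ▸ IsSquare.zero)
  let c0 : GL2 := Matrix.GeneralLinearGroup.mkOfDetNeZero !![0, -δ; 1, 0]
    (by simp [Matrix.det_fin_two_of, hd0])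
  have hc0 : c0.1 * c0.1 = (-δ) • (1 : M2) := by
    ext i j; fin_cases i <;> fin_cases j <;> simp [c0, Matrix.mul_apply, Fin.sum_univ_two]
  have hsq : cjA F (c0 * c0) = 1 := by
    refine MulEquiv.ext fun x => Subtype.ext ?_
    have hinv : ((c0 * c0)⁻¹).1 = (-δ)⁻¹ • (1 : M2) := by
      refine Units.inv_eq_of_mul_eq_one_right ?_
      rw [Units.val_mul, hc0, Matrix.smul_mul, Matrix.mul_smul, one_mul, smul_smul,
        mul_inv_cancel₀ (neg_ne_zero.2 hd0), one_smul]
    rw [cjA_coe, hinv, Units.val_mul, hc0]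
    simp only [Matrix.smul_mul, Matrix.mul_smul, one_mul, mul_one, smul_smul]
    rw [inv_mul_cancel₀ (neg_ne_zero.2 hd0), one_smul]
    rfl
  let σ : Equiv.Perm (Sylow 2 SL2) := MulAction.toPerm (cjA F c0)
  have hσ : σ ^ (2 ^ 1) = 1 := by
    refine Equiv.ext fun Q => ?_
    show cjA F c0 • (cjA F c0 • Q) = Q
    rw [smul_smul, ← map_mul, hsq, one_smul]
  haveI : Fintype (Sylow 2 SL2) := Fintype.ofFinite _
  have hodd : ¬ 2 ∣ Fintype.card (Sylow 2 SL2) := by
    rw [← Nat.card_eq_fintype_card]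
    exact not_dvd_card_sylow 2 SL2
  obtain ⟨Q1, hQ1⟩ := Equiv.Perm.exists_fixed_point_of_prime hodd hσ
  obtain ⟨h, rfl⟩ := MulAction.exists_smul_eq SL2 d.Q Q1
  set g : GL2 := Matrix.SpecialLinearGroup.toGL h with hg
  have hconj : ∀ x : Sylow 2 SL2, h • x = cjA F g • x := by
    intro x
    have : MulAut.conj h = cjA F g := MulEquiv.ext fun y => Subtype.ext (by
      rw [cjA_coe, hg, ← map_inv]
      rfl)
    rw [← this]
    rfl
  refine ⟨g⁻¹ * c0 * g, δ, hδ, ?_, ?_, ?_⟩
  · rw [Units.val_mul, Units.val_mul, Matrix.det_mul, Matrix.det_mul, mul_right_comm,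
      ← Matrix.det_mul, Units.inv_mul, Matrix.det_one, one_mul]
    simp [c0, Matrix.det_fin_two_of]
  · simp only [Units.val_mul, mul_assoc, Units.mul_inv_cancel_left]
    rw [← mul_assoc c0.1 c0.1, hc0]
    simp
  · intro x hx
    have e : cjA F (g⁻¹ * c0 * g) • d.Q = d.Q := by
      have h1 : cjA F c0 • (h • d.Q) = h • d.Q := hQ1
      rw [hconj] at h1
      rw [map_mul, map_mul, mul_smul, mul_smul, h1, smul_smul, ← map_mul, inv_mul_cancel, map_one,
        one_smul]
    have h' := Subgroup.smul_mem_pointwise_smul x (cjA F (g⁻¹ * c0 * g)) _ hx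
    have e' : cjA F (g⁻¹ * c0 * g) • (d.Q : Subgroup SL2) = (d.Q : Subgroup SL2) :=
      congrArg (fun S : Sylow 2 SL2 => (S : Subgroup SL2)) e
    rw [e'] at h'
    exact h'

/-- A matrix commuting with both elements of order four is scalar. -/
theorem scalar_of_commute (d : SData F) {M : M2} (h1 : M * (av F).1 = (av F).1 * M)
    (h2 : M * d.b.1 = d.b.1 * M) : M = M 0 0 • (1 : M2) := by
  have e01 := congrArg (fun M : M2 => M 0 1) h1
  have e00 := congrArg (fun M : M2 => M 0 0) h1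
  simp [av, Matrix.mul_apply, Fin.sum_univ_two] at e00 e01
  have f00 := congrArg (fun M : M2 => M 0 0) h2
  have f01 := congrArg (fun M : M2 => M 0 1) h2
  simp [Matrix.mul_apply, Fin.sum_univ_two] at f00 f01
  have hb := CfsgLib.Involutions.PSpFour.trace_zero_of_mul_self d.hb
  have e3 := congrArg Subtype.val d.hab
  simp only [Matrix.SpecialLinearGroup.coe_mul, neg_coe] at e3
  have g00 := congrArg (fun M : M2 => M 0 0) e3
  simp [av, Matrix.mul_apply, Fin.sum_univ_two] at g00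
  have hd := d.b.2
  rw [Matrix.det_fin_two] at hd
  have hw : M 0 1 = 0 := by
    have k1 : (2 : F) * (M 0 1 * d.b.1 1 0) = 0 := by
      linear_combination f00 + d.b.1 0 1 * e00.symm + M 0 1 * g00
    have k2 : (2 : F) * (M 0 1 * d.b.1 0 0) = 0 := by
      linear_combination -f01 + M 0 1 * hb - d.b.1 0 1 * e01.symm
    rcases mul_eq_zero.1 ((mul_eq_zero.1 k1).resolve_left (NeZero.ne (2 : F))) with h | h
    · exact h
    rcases mul_eq_zero.1 ((mul_eq_zero.1 k2).resolve_left (NeZero.ne (2 : F))) with h' | h'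
    · exact h'
    rw [h, h'] at hd
    simp at hd
  have h11 : M 1 1 = M 0 0 := by linear_combination -e01
  have h10 : M 1 0 = 0 := by linear_combination e00.symm - hw
  ext i j
  fin_cases i <;> fin_cases j <;> simp [hw, h11, h10]

/-- The data for the Sylow subgroup. -/
structure PData (F : Type*) [Field F] [Fintype F] [NeZero (2 : F)] where
  d : SData F
  c : GL (Fin 2) F
  δ : F
  hδ : ¬ IsSquare δ
  hdet : c.1.det = δ
  hsq : c.1 * c.1 = (-δ) • (1 : Matrix (Fin 2) (Fin 2) F)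
  hc : ∀ x ∈ (d.Q : Subgroup (Matrix.SpecialLinearGroup (Fin 2) F)),
    cjA F c x ∈ (d.Q : Subgroup (Matrix.SpecialLinearGroup (Fin 2) F))

theorem nonempty_pData (hodd : Fintype.card F % 2 = 1) : Nonempty (PData F) := by
  obtain ⟨d⟩ := CfsgLib.Involutions.PSpFour.nonempty_sData hodd
  obtain ⟨c, δ, h1, h2, h3, h4⟩ := exists_normalising d
  exact ⟨⟨d, c, δ, h1, h2, h3, h4⟩⟩

variable (D : PData F)

/-- The element exchanging nothing, of non-square type. -/
noncomputable def PData.t : G := phi F ⟨(D.c, D.c), mem_H2.2 rfl⟩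

theorem PData.t_mul_self : D.t * D.t = 1 := by
  rw [PData.t, ← map_mul]
  refine Subtype.ext ?_
  rw [phi_coe]
  exact phiGL_scalar _ (neg_ne_zero.2 fun (h : D.δ = 0) => D.hδ (by rw [h]; exact IsSquare.zero))
    (by rw [Units.val_mul, D.hsq])

theorem PData.t_psi (x y : SL2) :
    D.t * psi F (x, y) = psi F (cjA F D.c x, cjA F D.c y) * D.t := by
  refine Subtype.ext ?_
  rw [Subgroup.coe_mul, Subgroup.coe_mul, psi_coe, psi_coe, PData.t, phi_coe, ← map_mul, ← map_mul]
  congr 1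
  refine Prod.ext (Units.ext ?_) (Units.ext ?_) <;>
    simp [cjA_coe, mul_assoc]

theorem PData.psi_ne_psi_t (x y x' y' : SL2) : psi F (x, y) ≠ psi F (x', y') * D.t := by
  intro h
  have h' := congrArg Subtype.val h
  rw [Subgroup.coe_mul, psi_coe, psi_coe, PData.t, phi_coe, ← map_mul] at h'
  obtain ⟨s, hc, -⟩ := phiGL_eq h'
  have hd := congrArg Matrix.det hc
  simp [D.hdet] at hd
  exact D.hδ ⟨s, by rw [hd]; ring⟩

/-- The Sylow two-subgroup. -/
def PData.P0 : Subgroup G where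
  carrier := {g | ∃ x ∈ (D.d.Q : Subgroup SL2), ∃ y ∈ (D.d.Q : Subgroup SL2),
    g = psi F (x, y) ∨ g = psi F (x, y) * D.t}
  one_mem' := ⟨1, one_mem _, 1, one_mem _, Or.inl (map_one (psi F)).symm⟩
  mul_mem' := by
    rintro _ _ ⟨x, hx, y, hy, hg⟩ ⟨x', hx', y', hy', hg'⟩
    rcases hg with rfl | rfl <;> rcases hg' with rfl | rfl
    · exact ⟨_, mul_mem hx hx', _, mul_mem hy hy', Or.inl (map_mul (psi F) _ _).symm⟩
    · exact ⟨_, mul_mem hx hx', _, mul_mem hy hy',
        Or.inr (by rw [← mul_assoc, ← map_mul]; rfl)⟩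
    · exact ⟨_, mul_mem hx (D.hc _ hx'), _, mul_mem hy (D.hc _ hy'),
        Or.inr (by rw [mul_assoc, D.t_psi, ← mul_assoc, ← map_mul]; rfl)⟩
    · exact ⟨_, mul_mem hx (D.hc _ hx'), _, mul_mem hy (D.hc _ hy'),
        Or.inl (by
          rw [mul_assoc, ← mul_assoc D.t, D.t_psi, mul_assoc, D.t_mul_self, mul_one, ← map_mul]
          rfl)⟩
  inv_mem' := by
    rintro _ ⟨x, hx, y, hy, rfl | rfl⟩
    · exact ⟨_, inv_mem hx, _, inv_mem hy, Or.inl (map_inv (psi F) _).symm⟩
    · refine ⟨_, D.hc _ (inv_mem hx), _, D.hc _ (inv_mem hy), Or.inr ?_⟩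
      rw [_root_.mul_inv_rev, ← map_inv, inv_eq_of_mul_eq_one_right D.t_mul_self]
      exact D.t_psi x⁻¹ y⁻¹

theorem PData.psi_mem {x y : SL2} (hx : x ∈ (D.d.Q : Subgroup SL2))
    (hy : y ∈ (D.d.Q : Subgroup SL2)) : psi F (x, y) ∈ D.P0 := ⟨x, hx, y, hy, Or.inl rfl⟩

theorem PData.t_mem : D.t ∈ D.P0 :=
  ⟨1, one_mem _, 1, one_mem _, Or.inr (by
    rw [show ((1, 1) : SL2 × SL2) = 1 from rfl, map_one, one_mul])⟩

theorem PData.zG_mem : zG F ∈ D.P0 := zG_eq (F := F) ▸ D.psi_mem (one_mem _) D.d.neg_one_mem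

theorem PData.card_P0 : Nat.card D.P0 =
    Nat.card (D.d.Q : Subgroup SL2) * Nat.card (D.d.Q : Subgroup SL2) := by
  classical
  set A : Subgroup G := (Subgroup.prod (D.d.Q : Subgroup SL2) (D.d.Q : Subgroup SL2)).map (psi F)
  have hA : A ≤ D.P0 := by
    rintro _ ⟨⟨x, y⟩, hxy, rfl⟩
    exact D.psi_mem hxy.1 hxy.2
  have hindex : (A.subgroupOf D.P0).index = 2 := by
    refine Subgroup.index_eq_two_iff.2 ⟨⟨D.t, D.t_mem⟩, ?_⟩
    rintro ⟨b, x, hx, y, hy, rfl | rfl⟩
    · refine Or.inr ⟨⟨(x, y), ⟨hx, hy⟩, rfl⟩, ?_⟩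
      rintro ⟨⟨x', y'⟩, -, e⟩
      exact D.psi_ne_psi_t x' y' x y e
    · refine Or.inl ⟨⟨(x, y), ⟨hx, hy⟩, ?_⟩, ?_⟩
      · show psi F (x, y) = psi F (x, y) * D.t * D.t
        rw [mul_assoc, D.t_mul_self, mul_one]
      · rintro ⟨⟨x', y'⟩, -, e⟩
        exact D.psi_ne_psi_t x' y' x y e
  have h1 := (A.subgroupOf D.P0).card_mul_index
  rw [hindex, Nat.card_congr (Subgroup.subgroupOfEquivOfLe hA).toEquiv] at h1
  let f := (psi F).subgroupMap (Subgroup.prod (D.d.Q : Subgroup SL2) (D.d.Q : Subgroup SL2))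
  have hf : Function.Surjective f := MonoidHom.subgroupMap_surjective _ _
  have h2 := Subgroup.card_eq_card_quotient_mul_card_subgroup f.ker
  rw [Nat.card_congr (QuotientGroup.quotientKerEquivOfSurjective f hf).toEquiv,
    Nat.card_congr (Subgroup.prodEquiv _ _).toEquiv, Nat.card_prod] at h2
  have hm : ((-1, -1) : SL2 × SL2) ∈ Subgroup.prod (D.d.Q : Subgroup SL2) D.d.Q :=
    ⟨D.d.neg_one_mem, D.d.neg_one_mem⟩
  have hk : Nat.card f.ker = 2 := by
    have hn : (⟨_, hm⟩ : Subgroup.prod (D.d.Q : Subgroup SL2) (D.d.Q : Subgroup SL2)) ∈ f.ker := by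
      rw [MonoidHom.mem_ker]
      refine Subtype.ext ?_
      show psi F (-1, -1) = 1
      rw [psi_neg, show ((1, 1) : SL2 × SL2) = 1 from rfl, map_one]
    rw [Nat.card_eq_two_iff]
    refine ⟨1, ⟨_, hn⟩, ?_, ?_⟩
    · intro e
      have := congrArg (fun v : f.ker => v.1.1.1) e
      exact CfsgLib.Involutions.PSpFour.ne_neg (1 : SL2) this
    · rw [Set.eq_univ_iff_forall]
      rintro ⟨⟨⟨x, y⟩, hxy⟩, hv⟩
      have e : psi F (x, y) = psi F (1, 1) :=
        (congrArg Subtype.val (MonoidHom.mem_ker.1 hv)).trans (map_one (psi F)).symm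
      rcases psi_eq e.symm with ⟨a, b⟩ | ⟨a, b⟩
      · left; exact Subtype.ext (Subtype.ext (Prod.ext a b))
      · right; exact Subtype.ext (Subtype.ext (Prod.ext a b))
  rw [hk] at h2
  rw [← h1, h2]

theorem PData.isPGroup_P0 : IsPGroup 2 D.P0 := by
  haveI : Fact (Nat.Prime 2) := ⟨Nat.prime_two⟩
  obtain ⟨n, hn⟩ := IsPGroup.iff_card.1 D.d.Q.2
  exact IsPGroup.of_card (n := n + n) (by rw [D.card_P0, hn, pow_add])

theorem PData.P0_le : D.P0 ≤ Subgroup.centralizer ({zG F} : Set G) := by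
  rw [← range_phi]
  rintro _ ⟨x, -, y, -, rfl | rfl⟩
  · exact ⟨_, rfl⟩
  · exact mul_mem ⟨_, rfl⟩ ⟨_, rfl⟩

theorem PData.max_centralizer {R : Subgroup G} (hR : IsPGroup 2 R) (hle : D.P0 ≤ R)
    (hc : R ≤ Subgroup.centralizer ({zG F} : Set G)) : R = D.P0 := by
  haveI : Fact (Nat.Prime 2) := ⟨Nat.prime_two⟩
  obtain ⟨m, hm⟩ := IsPGroup.iff_card.1 hR
  have h1 : Nat.card R ∣ Nat.card SL2 * Nat.card SL2 := by
    rw [← card_range_phi, range_phi]
    exact Subgroup.card_dvd_of_le hc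
  have hodd : ¬ 2 ∣ (D.d.Q : Subgroup SL2).index := D.d.Q.not_dvd_index
  have hcop : Nat.Coprime (2 ^ m) ((D.d.Q : Subgroup SL2).index * (D.d.Q : Subgroup SL2).index) := by
    apply Nat.Coprime.pow_left
    have := (Nat.prime_two.coprime_iff_not_dvd).2 hodd
    exact this.mul_right this
  rw [hm, ← (D.d.Q : Subgroup SL2).card_mul_index,
    show ∀ a b : ℕ, a * b * (a * b) = (a * a) * (b * b) from fun a b => by ring] at h1
  have h2 := hcop.dvd_of_dvd_mul_right h1
  rw [← D.card_P0, ← hm] at h2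
  exact (Subgroup.eq_of_le_of_card_ge hle (Nat.le_of_dvd Nat.card_pos h2)).symm

theorem PData.central {u : G} (hu : u ∈ D.P0) (h : ∀ v ∈ D.P0, u * v = v * u) :
    u = 1 ∨ u = zG F := by
  have key : ∀ {c p : GL2} {hm : (c, p) ∈ H2 F}, u = phi F ⟨(c, p), hm⟩ →
      ∀ w : SL2, w ∈ (D.d.Q : Subgroup SL2) → c.1 * w.1 = w.1 * c.1 ∧ p.1 * w.1 = w.1 * p.1 := by
    intro c p hm e w hw
    constructor
    · have h1 := congrArg Subtype.val (h _ (D.psi_mem hw (one_mem _)))
      rw [e, Subgroup.coe_mul, Subgroup.coe_mul, psi_coe, phi_coe, map_one, ← map_mul, ← map_mul]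
        at h1
      obtain ⟨s, a, b⟩ := phiGL_eq h1
      simp only [Prod.snd_mul, Prod.fst_mul, Units.val_mul, Units.val_one, mul_one, one_mul,
        Matrix.SpecialLinearGroup.toGL] at a b
      have hs : s = 1 := by
        by_contra hne
        have : (s - 1) • p.1 = 0 := by rw [sub_smul, one_smul, ← b, sub_self]
        rcases smul_eq_zero.1 this with h0 | h0
        · exact hne (sub_eq_zero.1 h0)
        · exact p.det_ne_zero (by rw [h0, Matrix.det_zero])
      rw [hs, one_smul] at a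
      exact a.symm
    · have h1 := congrArg Subtype.val (h _ (D.psi_mem (one_mem _) hw))
      rw [e, Subgroup.coe_mul, Subgroup.coe_mul, psi_coe, phi_coe, map_one, ← map_mul, ← map_mul]
        at h1
      obtain ⟨s, a, b⟩ := phiGL_eq h1
      simp only [Prod.snd_mul, Prod.fst_mul, Units.val_mul, Units.val_one, mul_one, one_mul,
        Matrix.SpecialLinearGroup.toGL] at a b
      have hs : s = 1 := by
        by_contra hne
        have : (s - 1) • c.1 = 0 := by rw [sub_smul, one_smul, ← a, sub_self]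
        rcases smul_eq_zero.1 this with h0 | h0
        · exact hne (sub_eq_zero.1 h0)
        · exact c.det_ne_zero (by rw [h0, Matrix.det_zero])
      rw [hs, one_smul] at b
      exact b.symm
  obtain ⟨x, hx, y, hy, e | e⟩ := hu
  · have hm : (Matrix.SpecialLinearGroup.toGL x, Matrix.SpecialLinearGroup.toGL y) ∈ H2 F :=
      mem_H2.2 (by simp)
    have k := key (hm := hm) (e.trans rfl)
    have kx : x = 1 ∨ x = -1 := D.d.eq_one_or_of_commute
      (Subtype.ext (k _ D.d.ha).1) (Subtype.ext (k _ D.d.hbQ).1)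
    have ky : y = 1 ∨ y = -1 := D.d.eq_one_or_of_commute
      (Subtype.ext (k _ D.d.ha).2) (Subtype.ext (k _ D.d.hbQ).2)
    rcases kx with rfl | rfl <;> rcases ky with rfl | rfl
    · exact Or.inl (e.trans (map_one (psi F)))
    · exact Or.inr (e.trans zG_eq.symm)
    · refine Or.inr ?_
      rw [e, zG_eq, ← psi_neg (1 : SL2), neg_neg]
    · refine Or.inl ?_
      rw [e, psi_neg, show ((1, 1) : SL2 × SL2) = 1 from rfl, map_one]
  · exfalso
    rw [PData.t, show psi F (x, y) = phi F _ from rfl, ← map_mul] at e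
    have ha := (key e _ D.d.ha).1
    have hb := (key e _ D.d.hbQ).1
    have hsc := scalar_of_commute D.d ha hb
    have hd := congrArg Matrix.det hsc
    simp [D.hdet] at hd
    have hx1 : (Matrix.SpecialLinearGroup.toGL x).1.det = 1 := by simp
    exact D.hδ ⟨_, by
      have hd' := congrArg Matrix.det hsc
      simp [D.hdet, Matrix.SpecialLinearGroup.toGL] at hd'
      rw [hd', pow_two]⟩

theorem PData.exists_sylow : ∃ S : Sylow 2 G, (S : Subgroup G) = D.P0 := by
  haveI : Fact (Nat.Prime 2) := ⟨Nat.prime_two⟩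
  obtain ⟨S, hS⟩ := D.isPGroup_P0.exists_le_sylow
  refine ⟨S, ?_⟩
  by_contra hne
  have hnil : Group.IsNilpotent S := S.2.isNilpotent
  have hlt : D.P0.subgroupOf S < ⊤ := by
    refine lt_of_le_of_ne le_top fun h => hne ?_
    exact le_antisymm (Subgroup.subgroupOf_eq_top.1 h) hS
  obtain ⟨g, hgN, hgP⟩ := SetLike.exists_of_lt
    (normalizerCondition_of_isNilpotent _ hlt)
  rw [Subgroup.mem_normalizer_iff] at hgN
  have hconj : ∀ v, v ∈ D.P0 → (g : G) * v * (g : G)⁻¹ ∈ D.P0 := by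
    intro v hv
    exact (hgN ⟨v, hS hv⟩).1 hv
  have hconj' : ∀ v, v ∈ D.P0 → (g : G)⁻¹ * v * (g : G) ∈ D.P0 := by
    intro v hv
    refine (hgN ⟨(g : G)⁻¹ * v * (g : G), mul_mem (mul_mem (inv_mem g.2) (hS hv)) g.2⟩).2 ?_
    show (g : G) * ((g : G)⁻¹ * v * (g : G)) * (g : G)⁻¹ ∈ D.P0
    rwa [show (g : G) * ((g : G)⁻¹ * v * (g : G)) * (g : G)⁻¹ = v by group]
  have hz : (g : G) * zG F * (g : G)⁻¹ = zG F := by
    rcases D.central (hconj _ D.zG_mem) (fun v hv => by
      have := Subgroup.mem_centralizer_singleton_iff.1 (D.P0_le (hconj' v hv))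
      calc (g : G) * zG F * (g : G)⁻¹ * v
          = (g : G) * (zG F * ((g : G)⁻¹ * v * (g : G))) * (g : G)⁻¹ := by group
        _ = (g : G) * (((g : G)⁻¹ * v * (g : G)) * zG F) * (g : G)⁻¹ := by rw [this]
        _ = v * ((g : G) * zG F * (g : G)⁻¹) := by group) with h | h
    · exact absurd (conj_eq_one_iff.1 h) zG_ne_one
    · exact h
  have hgc : (g : G) ∈ Subgroup.centralizer ({zG F} : Set G) :=
    Subgroup.mem_centralizer_singleton_iff.2 (mul_inv_eq_iff_eq_mul.1 hz)
  set R := (S : Subgroup G) ⊓ Subgroup.centralizer ({zG F} : Set G)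
  have hR : IsPGroup 2 R := S.2.to_le inf_le_left
  have := D.max_centralizer hR (le_inf hS D.P0_le) inf_le_right
  exact hgP (show (g : G) ∈ D.P0 from this ▸ ⟨g.2, hgc⟩)

theorem PData.sq_mem (u : D.P0) : u ^ 2 ∈ commutator D.P0 := by
  let f : D.P0 →* Abelianization D.P0 :=
    (powMonoidHom 2).comp (Abelianization.of : D.P0 →* Abelianization D.P0)
  suffices hall : D.P0 ≤ f.ker.map D.P0.subtype by
    obtain ⟨w, hw, e⟩ := hall u.2
    have hwu : w = u := Subtype.ext e
    rw [hwu, SetLike.mem_coe, MonoidHom.mem_ker] at hw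
    rw [← Abelianization.ker_of, MonoidHom.mem_ker, map_pow]
    exact hw
  have mem_of : ∀ (v : G) (hv : v ∈ D.P0), (⟨v, hv⟩ : D.P0) ^ 2 ∈ commutator D.P0 →
      v ∈ f.ker.map D.P0.subtype := by
    intro v hv h
    refine ⟨⟨v, hv⟩, ?_, rfl⟩
    rw [SetLike.mem_coe, MonoidHom.mem_ker]
    rw [← Abelianization.ker_of, MonoidHom.mem_ker, map_pow] at h
    exact h
  have hcomm : (⟨psi F (-1, 1), D.psi_mem D.d.neg_one_mem (one_mem _)⟩ : D.P0) ∈
      commutator D.P0 := by
    have ha : psi F (av F, 1) ∈ D.P0 := D.psi_mem D.d.ha (one_mem _)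
    have hb : psi F (D.d.b, 1) ∈ D.P0 := D.psi_mem D.d.hbQ (one_mem _)
    have := Subgroup.commutator_mem_commutator (Subgroup.mem_top (⟨_, ha⟩ : D.P0))
      (Subgroup.mem_top (⟨_, hb⟩ : D.P0))
    rw [← _root_.commutator_def] at this
    convert this using 1
    refine Subtype.ext ?_
    show psi F (-1, 1) = ⁅psi F (av F, 1), psi F (D.d.b, 1)⁆
    rw [← map_commutatorElement]
    congr 1
    refine Prod.ext ?_ ?_
    · show (-1 : SL2) = av F * D.d.b * (av F)⁻¹ * D.d.b⁻¹
      rw [D.d.hab]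
      simp [mul_assoc]
    · show (1 : SL2) = 1 * 1 * 1⁻¹ * 1⁻¹
      group
  have hl : (D.d.Q : Subgroup SL2) ≤
      (f.ker.map D.P0.subtype).comap ((psi F).comp (MonoidHom.inl SL2 SL2)) := by
    refine D.d.le_of_mul_self fun v hv hvv => ?_
    refine mem_of _ (D.psi_mem hv (one_mem _)) ?_
    convert hcomm using 1
    refine Subtype.ext ?_
    show psi F (v, 1) ^ 2 = _
    rw [← map_pow, Prod.pow_mk, pow_two, hvv, one_pow]
  have hr : (D.d.Q : Subgroup SL2) ≤
      (f.ker.map D.P0.subtype).comap ((psi F).comp (MonoidHom.inr SL2 SL2)) := by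
    refine D.d.le_of_mul_self fun v hv hvv => ?_
    refine mem_of _ (D.psi_mem (one_mem _) hv) ?_
    convert hcomm using 1
    refine Subtype.ext ?_
    show psi F (1, v) ^ 2 = psi F (-1, 1)
    rw [← map_pow, Prod.pow_mk, pow_two v, hvv, one_pow, ← psi_neg (1 : SL2), neg_neg]
  have ht : D.t ∈ f.ker.map D.P0.subtype := by
    refine mem_of _ D.t_mem ?_
    have : (⟨D.t, D.t_mem⟩ : D.P0) ^ 2 = 1 := Subtype.ext (by
      show D.t ^ 2 = 1
      rw [pow_two, D.t_mul_self])
    rw [this]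
    exact one_mem _
  rintro _ ⟨x, hx, y, hy, rfl | rfl⟩ <;>
    [skip; refine mul_mem ?_ ht] <;>
    · have : ((x, y) : SL2 × SL2) = (x, 1) * (1, y) := by simp
      rw [this, map_mul]
      exact mul_mem (hl hx) (hr hy)

theorem sylow_sq_mem (hodd : Fintype.card F % 2 = 1) (P : Sylow 2 G)
    (x : (P : Subgroup G)) : x ^ 2 ∈ commutator (P : Subgroup G) := by
  haveI : Fact (Nat.Prime 2) := ⟨Nat.prime_two⟩
  obtain ⟨D⟩ := nonempty_pData (F := F) hodd
  obtain ⟨S, hS⟩ := D.exists_sylow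
  let e : D.P0 ≃* (P : Subgroup G) := (MulEquiv.subgroupCongr hS.symm).trans (S.equiv P)
  obtain ⟨u, rfl⟩ := e.surjective x
  have h : (commutator D.P0).map e.toMonoidHom = commutator (P : Subgroup G) := by
    rw [_root_.commutator_def, _root_.commutator_def, Subgroup.map_commutator,
      Subgroup.map_top_of_surjective _ e.surjective]
  rw [← h, ← map_pow]
  exact Subgroup.mem_map_of_mem e.toMonoidHom (D.sq_mem u)

end CfsgLib.Involutions.G2Two
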