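import Cfsg.Agent.Lib.Involutions.QuasiDihedral

/-!
# Four-groups and quaternion subgroups of a quasi-dihedral group
-/

set_option autoImplicit false

namespace CfsgLib.Involutions.QD

open Subgroup

variable {S : Type*} [Group S] [Finite S] (d : QD S)

theorem mem_centralizer_refl {i : ℤ} {g : S} :
    g ∈ centralizer ({d.x ^ i * d.y} : Set S) ↔
      g = 1 ∨ g = d.z ∨ g = d.x ^ i * d.y ∨ g = d.x ^ i * d.y * d.z := by
  refine ⟨fun h => d.commute_refl (mem_centralizer_singleton_iff.1 h), fun h => ?_⟩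
  rw [mem_centralizer_singleton_iff]
  rcases h with rfl | rfl | rfl | rfl
  · rw [one_mul, mul_one]
  · exact (d.commute_z _).eq.symm
  · rfl
  · exact ((Commute.refl _).mul_left (d.commute_z _).symm).eq

theorem refl_mul_z_ne (i : ℤ) : d.x ^ i * d.y * d.z ≠ d.x ^ i * d.y := fun h =>
  d.z_ne_one (mul_eq_left.1 h)

theorem card_centralizer_refl (i : ℤ) :
    Nat.card (centralizer ({d.x ^ i * d.y} : Set S)) = 4 := by
  classical
  have hset : (centralizer ({d.x ^ i * d.y} : Set S) : Set S)
      = ↑({1, d.z, d.x ^ i * d.y, d.x ^ i * d.y * d.z} : Finset S) := by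
    ext g
    simp [d.mem_centralizer_refl]
  show Nat.card (centralizer ({d.x ^ i * d.y} : Set S) : Set S) = 4
  rw [Nat.card_coe_set_eq, hset, Set.ncard_coe_finset]
  have h1 : d.x ^ i * d.y ≠ 1 := fun h => d.refl_not_mem i (h ▸ one_mem _)
  have h2 : d.x ^ i * d.y ≠ d.z := fun h => d.refl_not_mem i (h ▸ zpow_mem (mem_zpowers _) _)
  have h3 : d.x ^ i * d.y * d.z ≠ 1 := fun h => d.refl_not_mem i (by
    rw [eq_inv_of_mul_eq_one_left h]; exact inv_mem (zpow_mem (mem_zpowers _) _))
  have h4 : d.x ^ i * d.y * d.z ≠ d.z := fun h => h1 (mul_eq_right.1 h)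
  rw [Finset.card_insert_of_notMem, Finset.card_insert_of_notMem, Finset.card_insert_of_notMem,
    Finset.card_singleton]
  · simp only [Finset.mem_singleton]; exact (d.refl_mul_z_ne i).symm
  · simp only [Finset.mem_insert, Finset.mem_singleton, not_or]
    exact ⟨h2.symm, h4.symm⟩
  · simp only [Finset.mem_insert, Finset.mem_singleton, not_or]
    exact ⟨d.z_ne_one.symm, h1.symm, h3.symm⟩

/-- Every four-subgroup is the centralizer of a non-central involution. -/
theorem exists_klein_eq {T : Subgroup S} (hT : IsKleinFour T) :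
    ∃ i : ℤ, Even i ∧ d.x ^ i * d.y ∈ T ∧ T = centralizer ({d.x ^ i * d.y} : Set S) := by
  have hsq : ∀ g ∈ T, g * g = 1 := fun g hg => by
    have := IsKleinFour.mul_self (G := T) ⟨g, hg⟩
    exact congrArg Subtype.val this
  have hcomm : ∀ a ∈ T, ∀ b ∈ T, a * b = b * a := fun a ha b hb =>
    congrArg Subtype.val (mul_comm_of_exponent_two (IsKleinFour.exponent_two) (⟨a, ha⟩ : T) ⟨b, hb⟩)
  have hcard : Nat.card T = 4 := IsKleinFour.card_four
  obtain ⟨t, htT, ht1, htz⟩ : ∃ t ∈ T, t ≠ 1 ∧ t ≠ d.z := by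
    by_contra hno
    push Not at hno
    have hle : T ≤ zpowers d.z := fun g hg => by
      by_cases h : g = 1
      · exact h ▸ one_mem _
      · rw [hno g hg h]; exact mem_zpowers _
    have := card_le_of_le hle
    rw [hcard, Nat.card_zpowers, d.orderOf_z] at this
    omega
  rcases d.invol_cases (invol_iff.2 ⟨hsq t htT, ht1⟩) with h | ⟨i, hi, rfl⟩
  · exact absurd h htz
  refine ⟨i, hi, htT, eq_of_le_of_card_ge (fun g hg => mem_centralizer_singleton_iff.2
    (hcomm g hg _ htT)) (by rw [card_centralizer_refl, hcard])⟩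

theorem q8_commute (a b : QuaternionGroup 2) : a * a = 1 → a * b = b * a := by
  revert a b
  decide

theorem q8_pow_four (a : QuaternionGroup 2) : a ^ 4 = 1 := by
  revert a
  decide

/-- A quaternion subgroup of order eight is generated by `q` and an element of order four
outside the cyclic subgroup. -/
theorem exists_quat_eq {Q : Subgroup S} (e : Q ≃* QuaternionGroup 2) :
    ∃ i : ℤ, Odd i ∧ d.x ^ i * d.y ∈ Q ∧ d.q ∈ Q ∧
      Q = closure {d.q, d.x ^ i * d.y} := by
  have hcard : Nat.card Q = 8 := by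
    rw [Nat.card_congr e.toEquiv, Nat.card_eq_fintype_card, QuaternionGroup.card]
  have hfour : ∀ a ∈ Q, ∀ b ∈ Q, a * b ≠ b * a → orderOf a = 4 := by
    intro a ha b hb hne
    refine orderOf_eq_prime_pow (p := 2) (n := 1) (fun h => hne ?_) ?_
    · have h1 : e ⟨a, ha⟩ * e ⟨a, ha⟩ = 1 := by
        rw [← map_mul, ← map_one e]
        refine congrArg e (Subtype.ext ?_)
        rw [pow_one, sq] at h
        exact h
      have h2 := q8_commute _ (e ⟨b, hb⟩) h1
      rw [← map_mul, ← map_mul] at h2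
      exact congrArg Subtype.val (e.injective h2)
    · have h1 := q8_pow_four (e ⟨a, ha⟩)
      rw [← map_pow, ← map_one e] at h1
      exact congrArg Subtype.val (e.injective h1)
  obtain ⟨u, hu, v, hv, huv⟩ : ∃ u ∈ Q, ∃ v ∈ Q, u * v ≠ v * u := by
    refine ⟨_, (e.symm (.a 1)).2, _, (e.symm (.xa 0)).2, fun h => ?_⟩
    have h1 : e.symm (.a 1) * e.symm (.xa 0) = e.symm (.xa 0) * e.symm (.a 1) := Subtype.ext h
    rw [← map_mul, ← map_mul] at h1
    exact absurd (e.symm.injective h1) (by decide)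
  -- one of them lies outside the cyclic subgroup
  wlog hu' : u ∉ zpowers d.x generalizing u v
  · refine this v hv u hu (Ne.symm huv) fun hv' => huv ?_
    obtain ⟨i, rfl⟩ := not_not.1 hu'
    obtain ⟨j, rfl⟩ := hv'
    exact ((Commute.refl d.x).zpow_zpow i j).eq
  have huo := hfour u hu v hv huv
  obtain ⟨i, hi, rfl⟩ : ∃ i : ℤ, Odd i ∧ u = d.x ^ i * d.y := by
    rcases d.four_cases huo with rfl | rfl | h
    · exact absurd (zpow_mem (mem_zpowers _) _) hu'
    · exact absurd (mul_mem (zpow_mem (mem_zpowers _) _) (zpow_mem (mem_zpowers _) _)) hu'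
    · exact h
  obtain ⟨w, hw, hwne, hwx⟩ : ∃ w ∈ Q, w * (d.x ^ i * d.y) ≠ d.x ^ i * d.y * w ∧
      w ∈ zpowers d.x := by
    by_cases hv' : v ∈ zpowers d.x
    · exact ⟨v, hv, Ne.symm huv, hv'⟩
    · refine ⟨v * (d.x ^ i * d.y), mul_mem hv hu, fun h => huv ?_,
        (mul_mem_iff_of_index_two d.index_zpowers).2 (iff_of_false hv' hu')⟩
      have h' : v * (d.x ^ i * d.y) * (d.x ^ i * d.y) = d.x ^ i * d.y * v * (d.x ^ i * d.y) :=
        h.trans (mul_assoc _ _ _).symm
      exact (mul_right_cancel h').symm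
  have hqQ : d.q ∈ Q := by
    rcases d.four_cases (hfour w hw _ hu hwne) with rfl | rfl | ⟨j, -, rfl⟩
    · exact hw
    · rw [← d.q_eq_inv] at hw; exact inv_mem_iff.1 hw
    · exact absurd hwx (d.refl_not_mem j)
  refine ⟨i, hi, hu, hqQ, (eq_of_le_of_card_ge ((closure_le _).2 ?_) ?_).symm⟩
  · rintro a (rfl | rfl) <;> assumption
  · -- the closure has more than four elements
    have hqm : d.q ∈ closure {d.q, d.x ^ i * d.y} := subset_closure (by simp)
    have htm : d.x ^ i * d.y ∈ closure {d.q, d.x ^ i * d.y} := subset_closure (by simp)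
    have hlt : zpowers d.q < closure {d.q, d.x ^ i * d.y} := by
      refine lt_of_le_of_ne (zpowers_le.2 hqm) fun h => d.refl_not_mem i ?_
      have h1 : d.x ^ i * d.y ∈ zpowers d.q := h ▸ htm
      exact (zpowers_le.2 (zpow_mem (mem_zpowers _) _) : zpowers d.q ≤ zpowers d.x) h1
    have h4 : 4 < Nat.card (closure {d.q, d.x ^ i * d.y}) := by
      by_contra hle
      exact hlt.ne (eq_of_le_of_card_ge hlt.le (by rw [Nat.card_zpowers, d.orderOf_q]; omega))
    have hdvd : Nat.card (closure {d.q, d.x ^ i * d.y}) ∣ 2 ^ 3 := by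
      rw [show 2 ^ 3 = 8 by norm_num, ← hcard]
      refine card_dvd_of_le ((closure_le _).2 ?_)
      rintro a (rfl | rfl) <;> assumption
    obtain ⟨k, hk, hk'⟩ := (Nat.dvd_prime_pow Nat.prime_two).1 hdvd
    rw [hk'] at h4 ⊢
    interval_cases k <;> omega

/-- Conjugates of the generator of order four inside its quaternion group. -/
theorem conj_refl_mem_quat {i : ℤ} {g : S} (hg : g ∈ closure {d.q, d.x ^ i * d.y}) :
    g * (d.x ^ i * d.y) * g⁻¹ = d.x ^ i * d.y ∨
      g * (d.x ^ i * d.y) * g⁻¹ = d.x ^ i * d.y * d.z := by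
  have hzt := (d.commute_z (d.x ^ i * d.y))
  induction hg using closure_induction with
  | mem a ha =>
    rcases ha with rfl | rfl
    · right
      have h := d.conj_q_refl i
      calc d.q * (d.x ^ i * d.y) * d.q⁻¹
          = d.q * (d.x ^ i * d.y * d.q * (d.x ^ i * d.y)⁻¹)⁻¹ * (d.x ^ i * d.y) := by group
        _ = d.x ^ i * d.y * d.z := by
            rw [h, mul_inv_rev, invol_inv d.orderOf_z, ← (d.commute_z d.q⁻¹).eq,
              mul_inv_cancel_left, ← hzt.eq]
    · left; rw [mul_inv_cancel_right]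
  | one => left; rw [one_mul, inv_one, mul_one]
  | mul a b _ _ ha hb =>
    have hz : a * d.z * a⁻¹ = d.z := by rw [(d.commute_z a).eq, mul_inv_cancel_right]
    have e : a * b * (d.x ^ i * d.y) * (a * b)⁻¹ = a * (b * (d.x ^ i * d.y) * b⁻¹) * a⁻¹ := by group
    rw [e]
    rcases hb with hb | hb <;> rw [hb]
    · exact ha
    · rw [← conj_mul, hz]
      rcases ha with ha | ha <;> rw [ha]
      · exact Or.inr rfl
      · left; rw [mul_assoc, invol_mul_self d.orderOf_z, mul_one]
  | inv a _ ha =>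
    have hz : a⁻¹ * d.z * a = d.z := by rw [(d.commute_z a⁻¹).eq, inv_mul_cancel_right]
    rw [inv_inv]
    rcases ha with ha | ha
    · left
      calc a⁻¹ * (d.x ^ i * d.y) * a = a⁻¹ * (a * (d.x ^ i * d.y) * a⁻¹) * a := by rw [ha]
        _ = d.x ^ i * d.y := by group
    · right
      calc a⁻¹ * (d.x ^ i * d.y) * a = a⁻¹ * (d.x ^ i * d.y * d.z) * a * (a⁻¹ * d.z * a)⁻¹ := by
            group
        _ = a⁻¹ * (a * (d.x ^ i * d.y) * a⁻¹) * a * d.z⁻¹ := by rw [hz, ha]
        _ = _ := by rw [invol_inv d.orderOf_z]; group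

theorem centralizer_quat (i : ℤ) :
    centralizer ((closure {d.q, d.x ^ i * d.y} : Subgroup S) : Set S) = zpowers d.z := by
  rw [centralizer_closure]
  refine le_antisymm (fun g hg => ?_) (zpowers_le.2 ?_)
  · rw [mem_centralizer_iff] at hg
    have h1 := hg d.q (by simp)
    have h2 := hg (d.x ^ i * d.y) (by simp)
    rcases d.commute_refl (i := i) (g := g) h2.symm with rfl | rfl | rfl | rfl
    · exact one_mem _
    · exact mem_zpowers _
    · exact absurd h1.symm (d.not_commute_q_refl i)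
    · refine absurd ?_ (d.not_commute_q_refl i)
      have h3 : Commute (d.x ^ i * d.y * d.z) d.q := h1.symm
      have := h3.mul_left (d.commute_z d.q).symm
      rwa [mul_assoc (d.x ^ i * d.y), invol_mul_self d.orderOf_z, mul_one] at this
  · rw [mem_centralizer_iff]
    exact fun a _ => (d.commute_z a).eq

end CfsgLib.Involutions.QD
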