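import Cfsg.Agent.Lib.Involutions.Wreathed
import Cfsg.Agent.Lib.Involutions.StrongEmb
import Cfsg.Agent.Lib.Involutions.QuasiDihedralSub
import Cfsg.Agent.Lib.PGroups.UniqueOrderP

/-!
# Distinguished subgroups of a wreathed group
-/

set_option autoImplicit false

namespace CfsgLib.Involutions.WR

open Subgroup

variable {S : Type*} [Group S] (d : WR S)

/-- The four-group `Ω₁ U`. -/
def T0 : Subgroup S where
  carrier := {g | g ∈ d.U ∧ g * g = 1}
  mul_mem' := by
    rintro _ _ ⟨⟨i, j, rfl⟩, h1⟩ ⟨⟨a, b, rfl⟩, h2⟩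
    refine ⟨⟨_, _, d.u_mul i j a b⟩, ?_⟩
    rw [u_mul, u_eq_one] at h1 h2
    rw [u_mul, u_mul, u_eq_one]
    exact ⟨(dvd_add h1.1 h2.1).trans (dvd_of_eq (by ring)),
      (dvd_add h1.2 h2.2).trans (dvd_of_eq (by ring))⟩
  one_mem' := ⟨one_mem _, one_mul 1⟩
  inv_mem' := by
    rintro g ⟨hg, h⟩
    exact ⟨inv_mem hg, by rw [← mul_inv_rev, h, inv_one]⟩

variable [Finite S]

theorem T0_normal : d.T0.Normal := by
  have := normal_of_index_eq_two d.index_U
  refine ⟨fun g hg s => ⟨this.conj_mem g hg.1 s, ?_⟩⟩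
  rw [conj_mul, hg.2, mul_one, mul_inv_cancel]

theorem mem_T0 {g : S} : g ∈ d.T0 ↔
    g = 1 ∨ g = d.u d.half d.half ∨ g = d.u d.half 0 ∨ g = d.u 0 d.half := by
  constructor
  · rintro ⟨hU, hg⟩
    by_cases h1 : g = 1
    · exact Or.inl h1
    rcases d.invol_cases (invol_iff.2 ⟨hg, h1⟩) with h | h | h | ⟨i, j, -, rfl⟩
    · exact Or.inr (Or.inl h)
    · exact Or.inr (Or.inr (Or.inl h))
    · exact Or.inr (Or.inr (Or.inr h))
    · exact absurd hU (d.refl_not_mem i j)
  · rintro (rfl | rfl | rfl | rfl)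
    · exact one_mem _
    · exact ⟨d.u_mem _ _, invol_mul_self d.orderOf_u_half.1⟩
    · exact ⟨d.u_mem _ _, invol_mul_self d.orderOf_u_half.2.1⟩
    · exact ⟨d.u_mem _ _, invol_mul_self d.orderOf_u_half.2.2⟩

theorem isKleinFour_T0 : IsKleinFour d.T0 := by
  classical
  have hset : (d.T0 : Set S)
      = ↑({1, d.u d.half d.half, d.u d.half 0, d.u 0 d.half} : Finset S) := by
    ext g
    simp [d.mem_T0]
  have hne := fun {i j a b : ℤ} (h : d.u i j = d.u a b) => d.u_inj.1 h
  have hd := d.not_N_dvd_half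
  have hcard : Nat.card d.T0 = 4 := by
    show Nat.card (d.T0 : Set S) = 4
    rw [Nat.card_coe_set_eq, hset, Set.ncard_coe_finset]
    rw [Finset.card_insert_of_notMem, Finset.card_insert_of_notMem, Finset.card_insert_of_notMem,
      Finset.card_singleton]
    · simp only [Finset.mem_singleton]
      exact fun h => hd (by simpa using (hne h).1)
    · simp only [Finset.mem_insert, Finset.mem_singleton, not_or]
      exact ⟨fun h => hd (by simpa using (hne h).2), fun h => hd (by simpa using (hne h).1)⟩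
    · simp only [Finset.mem_insert, Finset.mem_singleton, not_or]
      exact ⟨(invol_ne_one d.orderOf_u_half.1).symm, (invol_ne_one d.orderOf_u_half.2.1).symm,
        (invol_ne_one d.orderOf_u_half.2.2).symm⟩
  refine ⟨hcard, Nat.dvd_antisymm ?_ ?_⟩
  · exact Monoid.exponent_dvd_of_forall_pow_eq_one fun g => Subtype.ext (by
      rw [sq]; exact g.2.2)
  · have h1 : orderOf (⟨_, d.mem_T0.2 (Or.inr (Or.inl rfl))⟩ : d.T0) = 2 := by
      rw [← Subgroup.orderOf_coe]; exact d.orderOf_u_half.1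
    rw [← h1]
    exact Monoid.order_dvd_exponent _

/-- A four-group other than `T0` is `{1, c, t, t * c}` with `c` the central involution. -/
theorem exists_klein_eq {T : Subgroup S} (hT : IsKleinFour T) (hne : T ≠ d.T0) :
    ∃ i j, d.N ∣ i + j ∧ T = closure {d.u d.half d.half, d.u i j * d.z} := by
  have hsq : ∀ g ∈ T, g * g = 1 := fun g hg =>
    congrArg Subtype.val (IsKleinFour.mul_self (G := T) ⟨g, hg⟩)
  have hcard : Nat.card T = 4 := IsKleinFour.card_four
  have hT0 := d.isKleinFour_T0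
  obtain ⟨t, htT, htU⟩ : ∃ t ∈ T, t ∉ d.U := by
    by_contra hno
    push Not at hno
    exact hne (eq_of_le_of_card_ge (fun g hg => ⟨hno g hg, hsq g hg⟩)
      (by rw [hcard]; exact (IsKleinFour.card_four (G := d.T0)).le))
  obtain ⟨i, j, hij, rfl⟩ : ∃ i j, d.N ∣ i + j ∧ t = d.u i j * d.z := by
    have ht1 : t ≠ 1 := fun h => htU (h ▸ one_mem _)
    rcases d.invol_cases (invol_iff.2 ⟨hsq t htT, ht1⟩) with h | h | h | h
    · exact absurd (h ▸ d.u_mem _ _) htU
    · exact absurd (h ▸ d.u_mem _ _) htU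
    · exact absurd (h ▸ d.u_mem _ _) htU
    · exact h
  -- a non-identity element of `T ∩ U`
  obtain ⟨c, hcT, hcU, hc1⟩ : ∃ c ∈ T, c ∈ d.U ∧ c ≠ 1 := by
    obtain ⟨s, hs, hst⟩ : ∃ s ∈ T, s ∉ zpowers (d.u i j * d.z) := by
      by_contra hno
      push Not at hno
      have := card_le_of_le (show T ≤ zpowers (d.u i j * d.z) from hno)
      rw [hcard, Nat.card_zpowers, d.orderOf_refl hij] at this
      omega
    by_cases hsU : s ∈ d.U
    · exact ⟨s, hs, hsU, fun h => hst (h ▸ one_mem _)⟩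
    · refine ⟨s * (d.u i j * d.z), mul_mem hs htT,
        (mul_mem_iff_of_index_two d.index_U).2 (iff_of_false hsU htU), fun h => hst ?_⟩
      rw [eq_inv_of_mul_eq_one_left h]
      exact inv_mem (mem_zpowers _)
  have hcomm : Commute c (d.u i j * d.z) := congrArg Subtype.val
    (mul_comm_of_exponent_two (IsKleinFour.exponent_two) (⟨c, hcT⟩ : T) ⟨_, htT⟩)
  have hc : c = d.u d.half d.half := by
    rcases d.mem_T0.1 (⟨hcU, hsq c hcT⟩ : c ∈ d.T0) with h | h | h | h
    · exact absurd h hc1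
    · exact h
    · exact absurd ((dvd_of_eq rfl).trans ((d.commute_u_refl.1 (h ▸ hcomm)).trans (dvd_of_eq (sub_zero _)))) d.not_N_dvd_half
    · exact absurd (dvd_neg.1 ((d.commute_u_refl.1 (h ▸ hcomm)).trans (dvd_of_eq (zero_sub _)))) d.not_N_dvd_half
  subst hc
  refine ⟨i, j, hij, (eq_of_le_of_card_ge ((closure_le _).2 ?_) ?_).symm⟩
  · rintro a (rfl | rfl) <;> assumption
  · have hlt : zpowers (d.u i j * d.z) < closure {d.u d.half d.half, d.u i j * d.z} := by
      refine lt_of_le_of_ne (zpowers_le.2 (subset_closure (by simp))) fun h => hc1 ?_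
      have h1 : d.u d.half d.half ∈ zpowers (d.u i j * d.z) := h ▸ subset_closure (by simp)
      obtain ⟨k, hk⟩ := h1
      rcases Int.even_or_odd' k with ⟨m, rfl | rfl⟩
      · have e : (d.u i j * d.z) ^ (2 * m) = 1 := by
          rw [zpow_mul, zpow_two, invol_mul_self (d.orderOf_refl hij), one_zpow]
        exact hk.symm.trans e
      · have e : (d.u i j * d.z) ^ (2 * m + 1) = d.u i j * d.z := by
          rw [zpow_add, zpow_mul, zpow_two, invol_mul_self (d.orderOf_refl hij), one_zpow, one_mul,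
            zpow_one]
        exact absurd (d.u_mem _ _) (show d.u d.half d.half ∉ d.U by
          rw [← hk]; show (d.u i j * d.z) ^ (2 * m + 1) ∉ d.U
          rw [e]; exact htU)
    have h2 : 2 < Nat.card (closure {d.u d.half d.half, d.u i j * d.z}) := by
      by_contra hle
      exact hlt.ne (eq_of_le_of_card_ge hlt.le (by rw [Nat.card_zpowers, d.orderOf_refl hij]; omega))
    have hdvd : Nat.card (closure {d.u d.half d.half, d.u i j * d.z}) ∣ 4 := by
      rw [← hcard]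
      refine card_dvd_of_le ((closure_le _).2 ?_)
      rintro a (rfl | rfl) <;> assumption
    have := Nat.le_of_dvd (by norm_num) hdvd
    rw [hcard]
    interval_cases Nat.card (closure {d.u d.half d.half, d.u i j * d.z})
    all_goals omega

/-- The generalized quaternion subgroup of order `2 ^ (n + 1)`. -/
def Y0 : Subgroup S where
  carrier := {g | (∃ i j, d.N ∣ i + j ∧ g = d.u i j) ∨
    ∃ i j, d.N ∣ i + j - d.half ∧ g = d.u i j * d.z}
  mul_mem' := by
    rintro _ _ (⟨i, j, h, rfl⟩ | ⟨i, j, h, rfl⟩) (⟨a, b, h', rfl⟩ | ⟨a, b, h', rfl⟩)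
    · exact Or.inl ⟨_, _, (dvd_add h h').trans (dvd_of_eq (by ring)), d.u_mul i j a b⟩
    · exact Or.inr ⟨i + a, j + b, (dvd_add h h').trans (dvd_of_eq (by ring)),
        by rw [← mul_assoc, u_mul]⟩
    · exact Or.inr ⟨i + b, j + a, (dvd_add h h').trans (dvd_of_eq (by ring)),
        by rw [mul_assoc, z_mul_u, ← mul_assoc, u_mul]⟩
    · refine Or.inl ⟨i + b, j + a, ?_, by
        rw [mul_assoc, ← mul_assoc d.z, z_mul_u, mul_assoc (d.u b a), invol_mul_self d.orderOf_z,
          mul_one, u_mul]⟩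
      have := dvd_add (dvd_add h h') (show d.N ∣ 2 * d.half from dvd_of_eq d.N_eq)
      exact this.trans (dvd_of_eq (by ring))
  one_mem' := Or.inl ⟨0, 0, by simp, d.u_zero.symm⟩
  inv_mem' := by
    rintro _ (⟨i, j, h, rfl⟩ | ⟨i, j, h, rfl⟩)
    · exact Or.inl ⟨_, _, (dvd_neg.2 h).trans (dvd_of_eq (by ring)), d.u_inv i j⟩
    · refine Or.inr ⟨-j, -i, ?_, by rw [mul_inv_rev, u_inv, invol_inv d.orderOf_z, z_mul_u]⟩
      have := dvd_add (dvd_neg.2 h) (show d.N ∣ -(2 * d.half) from dvd_neg.2 (dvd_of_eq d.N_eq))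
      exact this.trans (dvd_of_eq (by ring))

theorem pow_sub_two : (2 : ℕ) * 2 ^ (d.n - 1) = 2 ^ d.n := by
  have := d.two_le
  rw [← pow_succ']
  congr 1
  omega

omit [Finite S] in
theorem u_neg_pow_half : d.u 1 (-1) ^ (2 ^ (d.n - 1) : ℕ) = d.u d.half d.half := by
  rw [← zpow_natCast, u_zpow, u_inj]
  push_cast
  rw [one_mul, half, sub_self]
  exact ⟨dvd_zero _, dvd_neg.1 (dvd_of_eq (by rw [N_eq, half]; ring))⟩

theorem orderOf_u_neg : orderOf (d.u 1 (-1)) = 2 ^ d.n := by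
  refine Nat.dvd_antisymm (orderOf_dvd_of_pow_eq_one ?_) ?_
  · rw [← pow_sub_two d, mul_comm 2, pow_mul, u_neg_pow_half, sq,
      invol_mul_self d.orderOf_u_half.1]
  · have h := (d.u_eq_one.1 (show d.u (1 * (orderOf (d.u 1 (-1)) : ℤ))
        (-1 * (orderOf (d.u 1 (-1)) : ℤ)) = 1 by
      rw [← u_zpow, zpow_natCast, pow_orderOf_eq_one])).1
    rw [one_mul, N] at h
    exact_mod_cast h

theorem mem_zpowers_neg {i j : ℤ} : d.u i j ∈ zpowers (d.u 1 (-1)) ↔ d.N ∣ i + j := by
  constructor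
  · rintro ⟨k, hk⟩
    have h : d.u 1 (-1) ^ k = d.u i j := hk
    rw [u_zpow, u_inj] at h
    have := dvd_add h.1 h.2
    exact (dvd_neg.2 this).trans (dvd_of_eq (by ring))
  · intro h
    refine ⟨i, ?_⟩
    show d.u 1 (-1) ^ i = d.u i j
    rw [u_zpow, u_inj]
    exact ⟨by simp, (dvd_neg.2 h).trans (dvd_of_eq (by ring))⟩

theorem Y0_cases {g : S} (hg : g ∈ d.Y0) :
    g ∈ zpowers (d.u 1 (-1)) ∨ (d.u d.half 0 * d.z)⁻¹ * g ∈ zpowers (d.u 1 (-1)) := by
  rcases hg with ⟨i, j, h, rfl⟩ | ⟨i, j, h, rfl⟩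
  · exact Or.inl (d.mem_zpowers_neg.2 h)
  · refine Or.inr ?_
    rw [mul_inv_rev, u_inv, mul_assoc d.z⁻¹, ← mul_assoc (d.u _ _) (d.u i j), u_mul,
      invol_inv d.orderOf_z, ← mul_assoc, z_mul_u, mul_assoc, invol_mul_self d.orderOf_z, mul_one,
      mem_zpowers_neg]
    exact h.trans (dvd_of_eq (by ring))

theorem Y0_quat : Nonempty (d.Y0 ≃* QuaternionGroup (2 ^ (d.n - 1))) := by
  have : NeZero (2 ^ (d.n - 1)) := ⟨(pow_pos two_pos _).ne'⟩
  refine CfsgLib.PGroups.nonempty_mulEquiv_quaternionGroup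
    (x := ⟨d.u 1 (-1), Or.inl ⟨1, -1, by simp, rfl⟩⟩)
    (g := ⟨d.u d.half 0 * d.z, Or.inr ⟨d.half, 0, by simp, rfl⟩⟩) ?_ ?_ ?_ ?_ ?_
  · rw [← Subgroup.orderOf_coe, pow_sub_two d]
    exact d.orderOf_u_neg
  · refine Subtype.ext ?_
    show d.u d.half 0 * d.z * d.u 1 (-1) * (d.u d.half 0 * d.z)⁻¹ = (d.u 1 (-1))⁻¹
    rw [mul_assoc _ d.z, z_mul_u, ← mul_assoc, u_mul, mul_inv_rev, ← mul_assoc,
      mul_inv_cancel_right, u_inv, u_inv, u_mul]
    congr 1 <;> ring
  · refine Subtype.ext ?_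
    show (d.u d.half 0 * d.z) ^ 2 = d.u 1 (-1) ^ 2 ^ (d.n - 1)
    rw [sq, sq_refl, u_neg_pow_half, add_zero]
  · rintro ⟨g, hg⟩
    rcases d.Y0_cases hg with ⟨k, hk⟩ | ⟨k, hk⟩
    · exact Or.inl ⟨k, Subtype.ext hk⟩
    · exact Or.inr ⟨k, Subtype.ext hk⟩
  · rintro ⟨k, hk⟩
    have h : d.u 1 (-1) ^ k = d.u d.half 0 * d.z := congrArg Subtype.val hk
    exact d.refl_not_mem d.half 0 (h ▸ zpow_mem (d.u_mem _ _) k)

theorem card_quat : Nat.card (QuaternionGroup (2 ^ (d.n - 1))) = 2 ^ (d.n + 1) := by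
  have : NeZero (2 ^ (d.n - 1)) := ⟨(pow_pos two_pos _).ne'⟩
  rw [Nat.card_eq_fintype_card, QuaternionGroup.card, show (4 : ℕ) = 2 * 2 by norm_num, mul_assoc,
    pow_sub_two d, ← pow_succ']

end CfsgLib.Involutions.WR

namespace CfsgLib.Involutions.WR

open Subgroup

variable {S : Type*} [Group S] [Finite S] (d : WR S)

/-- Any subgroup isomorphic to that quaternion group equals `Y0`. -/
theorem eq_Y0 {Y : Subgroup S} (e : Y ≃* QuaternionGroup (2 ^ (d.n - 1))) : Y = d.Y0 := by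
  have : NeZero (2 ^ (d.n - 1)) := ⟨(pow_pos two_pos _).ne'⟩
  obtain ⟨a, g, hoa, hga, hg2, hgen⟩ : ∃ a g : S, orderOf a = 2 ^ d.n ∧ g * a * g⁻¹ = a⁻¹ ∧
      g ^ 2 = a ^ (2 ^ (d.n - 1) : ℕ) ∧ Y ≤ closure {a, g} := by
    have hm : ∀ p q : QuaternionGroup (2 ^ (d.n - 1)),
        ((e.symm (p * q) : Y) : S) = (e.symm p : S) * (e.symm q : S) := fun p q => by
      rw [map_mul, Subgroup.coe_mul]
    refine ⟨(e.symm (.a 1) : Y), (e.symm (.xa 0) : Y), ?_, ?_, ?_, ?_⟩
    · rw [Subgroup.orderOf_coe, MulEquiv.orderOf_eq, QuaternionGroup.orderOf_a_one, pow_sub_two d]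
    · rw [mul_inv_eq_iff_eq_mul, ← Subgroup.coe_inv, ← map_inv, ← hm, ← hm]
      refine congrArg (fun q => ((e.symm q : Y) : S)) ?_
      rw [eq_inv_mul_iff_mul_eq, QuaternionGroup.xa_mul_a, QuaternionGroup.a_mul_xa]
      simp
    · rw [← Subgroup.coe_pow, ← Subgroup.coe_pow, ← map_pow, ← map_pow, QuaternionGroup.xa_sq,
        QuaternionGroup.a_one_pow]
    · intro y hy
      have ha : ∀ i : ZMod (2 * 2 ^ (d.n - 1)), ((e.symm (.a i) : Y) : S)
          = ((e.symm (.a 1) : Y) : S) ^ i.val := fun i => by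
        rw [← Subgroup.coe_pow, ← map_pow, QuaternionGroup.a_one_pow, ZMod.natCast_zmod_val]
      have hy' : ((e.symm (e ⟨y, hy⟩) : Y) : S) = y := by rw [e.symm_apply_apply]
      rw [← hy']
      rcases e ⟨y, hy⟩ with i | i
      · rw [ha i]
        exact Subgroup.pow_mem _ (subset_closure (Set.mem_insert _ _)) _
      · have hxa : (QuaternionGroup.xa i : QuaternionGroup (2 ^ (d.n - 1)))
            = QuaternionGroup.xa 0 * QuaternionGroup.a i := by
          rw [QuaternionGroup.xa_mul_a, zero_add]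
        rw [hxa, hm, ha i]
        exact Subgroup.mul_mem _ (subset_closure (Set.mem_insert_of_mem _ rfl)) (Subgroup.pow_mem _ (subset_closure (Set.mem_insert _ _)) _)
  -- the cyclic generator may be taken in `U`
  obtain ⟨a', g', hoa', hga', hg2', hgen', haU⟩ : ∃ a' g' : S, orderOf a' = 2 ^ d.n ∧
      g' * a' * g'⁻¹ = a'⁻¹ ∧ g' ^ 2 = a' ^ (2 ^ (d.n - 1) : ℕ) ∧ Y ≤ closure {a', g'} ∧
      a' ∈ d.U := by
    by_cases haU : a ∈ d.U
    · exact ⟨a, g, hoa, hga, hg2, hgen, haU⟩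
    -- then `n = 2`
    have hn2 : d.n = 2 := by
      rcases d.cover a with ⟨i, j, rfl⟩ | ⟨i, j, rfl⟩
      · exact absurd (d.u_mem i j) haU
      have hc : (d.u i j * d.z) ^ 2 ∈ center S := by
        rw [sq, sq_refl]; exact d.u_mem_center (by simp)
      have h2 : g * (d.u i j * d.z) ^ 2 * g⁻¹ = ((d.u i j * d.z) ^ 2)⁻¹ := by
        rw [← conj_pow, hga, inv_pow]
      rw [mem_center_iff.1 hc g, mul_inv_cancel_right] at h2
      have h4 : (d.u i j * d.z) ^ 4 = 1 := by
        rw [show 4 = 2 + 2 by norm_num, pow_add]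
        exact mul_eq_one_iff_eq_inv.2 h2
      have h5 := orderOf_dvd_of_pow_eq_one h4
      rw [hoa, show 4 = 2 ^ 2 by norm_num, Nat.pow_dvd_pow_iff_le_right (by norm_num)] at h5
      have := d.two_le
      omega
    rw [hn2] at hoa hg2
    norm_num at hoa hg2
    have ha4 : a ^ 4 = 1 := hoa ▸ pow_orderOf_eq_one a
    have ha2 : a ^ 2 ≠ 1 := fun h => by
      have := orderOf_dvd_of_pow_eq_one h
      rw [hoa] at this
      norm_num at this
    have hag : g * a = a⁻¹ * g := by rw [← hga]; group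
    have hga' : a * g = g * a⁻¹ := by
      calc a * g = a * (g * a) * a⁻¹ := by group
        _ = g * a⁻¹ := by rw [hag]; group
    by_cases hgU : g ∈ d.U
    · refine ⟨g, a, ?_, ?_, ?_, ?_, hgU⟩
      · rw [hn2]
        refine orderOf_eq_prime_pow (p := 2) (n := 1) ?_ ?_
        · rw [pow_one, hg2]; exact ha2
        · rw [show (2 : ℕ) ^ (1 + 1) = 2 * 2 by norm_num, pow_mul, hg2, ← pow_mul]; exact ha4
      · calc a * g * a⁻¹ = g * (a ^ 2)⁻¹ := by rw [hga', sq]; group
          _ = g⁻¹ := by rw [← hg2, sq]; group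
      · rw [hn2]; norm_num; exact hg2.symm
      · rwa [Set.pair_comm]
    · have hsq : (g * a) ^ 2 = a ^ 2 := by
        rw [sq, show g * a * (g * a) = (g * a * g⁻¹) * g ^ 2 * a by rw [sq]; group, hga, hg2]
        group
      refine ⟨g * a, g, ?_, ?_, ?_, ?_,
        (mul_mem_iff_of_index_two d.index_U).2 (iff_of_false hgU haU)⟩
      · rw [hn2]
        refine orderOf_eq_prime_pow (p := 2) (n := 1) ?_ ?_
        · rw [pow_one, hsq]; exact ha2
        · rw [show (2 : ℕ) ^ (1 + 1) = 2 * 2 by norm_num, pow_mul, hsq, ← pow_mul]; exact ha4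
      · calc g * (g * a) * g⁻¹ = g * (g * a * g⁻¹) := by group
          _ = a * g * (a * a⁻¹) := by rw [hga, hga', mul_inv_cancel, mul_one]
          _ = a⁻¹ * (a ^ 2) * g * (a * a⁻¹) := by rw [sq, inv_mul_cancel_left]
          _ = a⁻¹ * (g ^ 2) * g := by rw [hg2, mul_inv_cancel, mul_one]
          _ = a⁻¹ * g⁻¹ := by
              have hg4 : g ^ 4 = 1 := by
                rw [show 4 = 2 * 2 by norm_num, pow_mul, hg2, ← pow_mul]; exact ha4
              rw [mul_assoc, show g ^ 2 * g = g ^ 4 * g⁻¹ by group, hg4, one_mul]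
          _ = (g * a)⁻¹ := (mul_inv_rev _ _).symm
      · rw [hn2]; norm_num; rw [hsq]; exact hg2
      · refine hgen.trans ((closure_le _).2 ?_)
        rintro b (rfl | rfl)
        · have h1 : g⁻¹ * (g * b) ∈ closure {g * b, g} :=
            mul_mem (inv_mem (subset_closure (by simp))) (subset_closure (by simp))
          rwa [inv_mul_cancel_left] at h1
        · exact subset_closure (by simp)
  have hgU : g' ∉ d.U := fun h => by
    have hc : g' * a' = a' * g' :=
      congrArg Subtype.val (d.isMulCommutative_U.is_comm.comm ⟨g', h⟩ ⟨a', haU⟩)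
    rw [hc, mul_inv_cancel_right] at hga'
    have h2 := orderOf_dvd_of_pow_eq_one (x := a') (n := 2)
      (by rw [sq]; exact mul_eq_one_iff_eq_inv.2 hga')
    rw [hoa'] at h2
    have := Nat.le_of_dvd two_pos h2
    have := Nat.pow_le_pow_right (n := 2) two_pos d.two_le
    omega
  obtain ⟨p, r, rfl⟩ := haU
  rcases d.cover g' with ⟨i, j, rfl⟩ | ⟨i, j, rfl⟩
  · exact absurd (d.u_mem i j) hgU
  have hpr : d.N ∣ p + r := by
    have h : d.u i j * d.z * d.u p r * (d.u i j * d.z)⁻¹ = d.u r p := by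
      rw [mul_assoc _ d.z, z_mul_u, ← mul_assoc, u_mul, mul_inv_rev, ← mul_assoc,
        mul_inv_cancel_right, u_inv, u_mul]
      congr 1 <;> ring
    rw [h, u_inv, u_inj] at hga'
    exact hga'.1.trans (dvd_of_eq (by ring))
  have hsum : d.N ∣ i + j - d.half := by
    rw [sq, sq_refl, ← zpow_natCast, u_zpow, u_inj] at hg2'
    push_cast at hg2'
    -- `p` is odd
    have hp : Odd p := by
      by_contra hne
      obtain ⟨k, rfl⟩ := Int.not_odd_iff_even.1 hne
      have h : d.u (k + k) r ^ (2 ^ (d.n - 1) : ℕ) = 1 := by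
        obtain ⟨c, hc⟩ := hpr
        rw [← zpow_natCast, u_zpow, u_eq_one]
        push_cast
        refine ⟨⟨k, by rw [N_eq, half]; ring⟩, ⟨c * d.half - k, ?_⟩⟩
        rw [show r = d.N * c - (k + k) by linarith, N_eq, half]
        ring
      have h2 := orderOf_dvd_of_pow_eq_one h
      rw [hoa', Nat.pow_dvd_pow_iff_le_right (by norm_num)] at h2
      have := d.two_le
      omega
    obtain ⟨k, rfl⟩ := hp
    obtain ⟨c, hc⟩ := hg2'.1
    exact ⟨c + k, by
      have e : ((2 : ℤ) * k + 1) * 2 ^ (d.n - 1) = d.N * k + d.half := by rw [N_eq, half]; ring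
      linarith⟩
  refine eq_of_le_of_card_ge (hgen'.trans ((closure_le _).2 ?_)) ?_
  · rintro b (rfl | rfl)
    · exact Or.inl ⟨p, r, hpr, rfl⟩
    · exact Or.inr ⟨i, j, hsum, rfl⟩
  · rw [Nat.card_congr d.Y0_quat.some.toEquiv, Nat.card_congr e.toEquiv]

/-- The subgroup generated by the involutions. -/
def Omega : Subgroup S where
  carrier := {g | ∃ i j, d.half ∣ i + j ∧ (g = d.u i j ∨ g = d.u i j * d.z)}
  mul_mem' := by
    rintro _ _ ⟨i, j, h, rfl | rfl⟩ ⟨a, b, h', rfl | rfl⟩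
    · exact ⟨_, _, (dvd_add h h').trans (dvd_of_eq (by ring)), Or.inl (d.u_mul i j a b)⟩
    · exact ⟨i + a, j + b, (dvd_add h h').trans (dvd_of_eq (by ring)),
        Or.inr (by rw [← mul_assoc, u_mul])⟩
    · exact ⟨i + b, j + a, (dvd_add h h').trans (dvd_of_eq (by ring)),
        Or.inr (by rw [mul_assoc, z_mul_u, ← mul_assoc, u_mul])⟩
    · exact ⟨i + b, j + a, (dvd_add h h').trans (dvd_of_eq (by ring)), Or.inl (by
        rw [mul_assoc, ← mul_assoc d.z, z_mul_u, mul_assoc (d.u b a), invol_mul_self d.orderOf_z,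
          mul_one, u_mul])⟩
  one_mem' := ⟨0, 0, by simp, Or.inl d.u_zero.symm⟩
  inv_mem' := by
    rintro _ ⟨i, j, h, rfl | rfl⟩
    · exact ⟨_, _, (dvd_neg.2 h).trans (dvd_of_eq (by ring)), Or.inl (d.u_inv i j)⟩
    · exact ⟨-j, -i, (dvd_neg.2 h).trans (dvd_of_eq (by ring)),
        Or.inr (by rw [mul_inv_rev, u_inv, invol_inv d.orderOf_z, z_mul_u])⟩

theorem u_mem_Omega {i j : ℤ} : d.u i j ∈ d.Omega ↔ d.half ∣ i + j := by
  refine ⟨?_, fun h => ⟨i, j, h, Or.inl rfl⟩⟩
  rintro ⟨a, b, h, e | e⟩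
  · rw [u_inj, N_eq] at e
    exact (dvd_add (dvd_add ((Dvd.intro_left _ rfl).trans e.1) ((Dvd.intro_left _ rfl).trans e.2))
      h).trans (dvd_of_eq (by ring))
  · exact absurd (e ▸ d.u_mem i j) (d.refl_not_mem a b)

theorem refl_mem_Omega {i j : ℤ} : d.u i j * d.z ∈ d.Omega ↔ d.half ∣ i + j := by
  have hz : d.z ∈ d.Omega := ⟨0, 0, by simp, Or.inr (by rw [u_zero, one_mul])⟩
  rw [mul_mem_cancel_right hz, u_mem_Omega]

theorem closure_invol : closure {g : S | orderOf g = 2} = d.Omega := by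
  refine le_antisymm ((closure_le _).2 fun g hg => ?_) ?_
  · rcases d.invol_cases hg with rfl | rfl | rfl | ⟨i, j, h, rfl⟩
    · exact d.u_mem_Omega.2 (dvd_add_self_left.2 dvd_rfl)
    · exact d.u_mem_Omega.2 (by simp)
    · exact d.u_mem_Omega.2 (by simp)
    · exact d.refl_mem_Omega.2 ((Dvd.intro_left _ d.N_eq.symm).trans h)
  · have hmem : ∀ g : S, orderOf g = 2 → g ∈ closure {g : S | orderOf g = 2} :=
      fun g hg => subset_closure hg
    have hz := hmem _ d.orderOf_z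
    have hu : ∀ i j, d.half ∣ i + j → d.u i j ∈ closure {g : S | orderOf g = 2} := by
      intro i j h
      have h0 : ∀ i j, d.N ∣ i + j → d.u i j ∈ closure {g : S | orderOf g = 2} := fun i j h => by
        have := mul_mem (hmem _ (d.orderOf_refl h)) hz
        rwa [mul_assoc, invol_mul_self d.orderOf_z, mul_one] at this
      obtain ⟨c, hc⟩ := h
      rcases Int.even_or_odd' c with ⟨m, rfl | rfl⟩
      · exact h0 i j ⟨m, by rw [hc, N_eq]; ring⟩
      · have := mul_mem (h0 (i - d.half) j ⟨m, by rw [N_eq]; linarith⟩)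
          (hmem _ d.orderOf_u_half.2.1)
        rwa [u_mul, sub_add_cancel, add_zero] at this
    rintro _ ⟨i, j, h, rfl | rfl⟩
    · exact hu i j h
    · exact mul_mem (hu i j h) hz

theorem card_Omega : Nat.card d.Omega = 2 ^ (d.n + 2) := by
  have h2 := d.two_le
  have hidx : d.Omega.index = 2 ^ (d.n - 1) := by
    rw [index_eq_card, ← Nat.card_fin (2 ^ (d.n - 1))]
    refine (Nat.card_congr (Equiv.ofBijective
      (fun t : Fin (2 ^ (d.n - 1)) => (d.u (t : ℕ) 0 : S ⧸ d.Omega)) ⟨?_, ?_⟩)).symm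
    · intro s t h
      simp only [QuotientGroup.eq, u_inv, u_mul, u_mem_Omega, neg_zero, add_zero] at h
      have hlt : |(-(s : ℤ) + (t : ℤ))| < d.half := by
        have h1 : ((s : ℕ) : ℤ) < d.half := by rw [half]; exact_mod_cast s.2
        have h3 : ((t : ℕ) : ℤ) < d.half := by rw [half]; exact_mod_cast t.2
        rw [abs_lt]; constructor <;> omega
      have := Int.eq_zero_of_abs_lt_dvd h hlt
      exact Fin.ext (by omega)
    · intro q
      induction q using QuotientGroup.induction_on with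
      | H g =>
        have hlt : ∀ a : ℤ, (a % d.half).toNat < 2 ^ (d.n - 1) := fun a => by
          have h1 := Int.emod_lt_of_pos a d.half_pos
          have h3 := Int.emod_nonneg a d.half_pos.ne'
          zify
          rw [Int.toNat_of_nonneg h3]
          exact h1
        rcases d.cover g with ⟨i, j, rfl⟩ | ⟨i, j, rfl⟩
        all_goals
          refine ⟨⟨_, hlt (i + j)⟩, ?_⟩
          simp only [QuotientGroup.eq]
          rw [Int.toNat_of_nonneg (Int.emod_nonneg _ d.half_pos.ne'), u_inv]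
        · rw [u_mul, u_mem_Omega]
          exact ⟨(i + j) / d.half, by rw [Int.emod_def]; ring⟩
        · rw [← mul_assoc, u_mul, refl_mem_Omega]
          exact ⟨(i + j) / d.half, by rw [Int.emod_def]; ring⟩
  have h := card_mul_index d.Omega
  rw [hidx, d.card_eq, show 2 * d.n + 1 = d.n + 2 + (d.n - 1) by omega, pow_add] at h
  exact Nat.eq_of_mul_eq_mul_right (pow_pos two_pos _) h

end CfsgLib.Involutions.WR
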