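import Cfsg.Agent.Lib.Involutions.ZStar.Main
import Cfsg.Agent.Lib.Involutions.WreathedSub
import Cfsg.Agent.Lib.Involutions.QuasiDihedralMax
import Cfsg.Agent.Lib.Transfer.Alperin

/-!
# The centre of a Sylow 2-subgroup of rank two under an isolated involution

If the involution `z` of the Sylow 2-subgroup `P` is central in `G` and `P` has no elementary
abelian subgroup of order 8, then every element of `Z(P)` is weakly closed in `P`, and so central
in `G` when `O(G) = 1`.
-/

set_option autoImplicit false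

namespace CfsgLib.Involutions

open Subgroup Cfsg

universe u

variable {G : Type u} [Group G]

/-- All commuting involutions of `P` other than `z` differ by `z`. -/
def RankTwoAt (P : Subgroup G) (z : G) : Prop :=
  ∀ a ∈ P, ∀ b ∈ P, orderOf a = 2 → orderOf b = 2 → Commute a b → a ≠ z → b ≠ z → a ≠ b →
    b = a * z

/-- An element of odd order that normalizes an abelian 2-group `A` and fixes its involutions
centralises `A`. -/
theorem commute_of_fixes_involutions {A : Subgroup G} {x : G} (hx : Odd (orderOf x))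
    (hA : ∀ a ∈ A, ∀ b ∈ A, Commute a b) (hnorm : ∀ a ∈ A, x * a * x⁻¹ ∈ A)
    (hfix : ∀ a ∈ A, orderOf a = 2 → Commute x a) :
    ∀ k : ℕ, ∀ a ∈ A, a ^ 2 ^ k = 1 → Commute x a := by
  intro k
  induction k with
  | zero => intro a _ h; rw [pow_zero, pow_one] at h; rw [h]; exact Commute.one_right x
  | succ k ih =>
    intro a ha h
    have h2 : Commute x (a * a) := ih _ (mul_mem ha ha) (by rw [← sq, ← pow_mul, ← pow_succ', h])
    set b := x * a * x⁻¹ * a⁻¹ with hb
    have hbA : b ∈ A := mul_mem (hnorm a ha) (inv_mem ha)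
    have hbb : b * b = 1 := by
      have hc : Commute (x * a * x⁻¹) a⁻¹ := hA _ (hnorm a ha) _ (inv_mem ha)
      calc b * b = x * a * x⁻¹ * (a⁻¹ * (x * a * x⁻¹)) * a⁻¹ := by rw [hb]; group
        _ = x * a * x⁻¹ * ((x * a * x⁻¹) * a⁻¹) * a⁻¹ := by rw [hc.symm.eq]
        _ = x * (a * a) * x⁻¹ * (a * a)⁻¹ := by group
        _ = 1 := by rw [h2.eq, mul_inv_cancel_right, mul_inv_cancel]
    have hcb : Commute x b := by
      by_cases hb1 : b = 1
      · rw [hb1]; exact Commute.one_right x
      · exact hfix b hbA (invol_iff.2 ⟨hbb, hb1⟩)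
    have hn : ∀ n : ℕ, x ^ n * a * (x ^ n)⁻¹ = b ^ n * a := by
      intro n
      induction n with
      | zero => simp
      | succ n ihn =>
        calc x ^ (n + 1) * a * (x ^ (n + 1))⁻¹ = x * (x ^ n * a * (x ^ n)⁻¹) * x⁻¹ := by
              rw [pow_succ']; group
          _ = x * b ^ n * x⁻¹ * (x * a * x⁻¹) := by rw [ihn]; group
          _ = b ^ n * (b * a) := by
              rw [(hcb.pow_right n).eq, mul_inv_cancel_right]
              congr 1
              rw [hb]; group
          _ = b ^ (n + 1) * a := by rw [← mul_assoc, ← pow_succ]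
    have hbn : b ^ orderOf x = 1 := by
      simpa [pow_orderOf_eq_one] using (hn (orderOf x)).symm
    have hb1 : b = 1 :=
      eq_one_of_eq_inv_of_odd (eq_inv_of_mul_eq_one_left hbb)
        (Odd.of_dvd_nat hx (orderOf_dvd_of_pow_eq_one hbn))
    rw [hb, mul_inv_eq_one, mul_inv_eq_iff_eq_mul] at hb1
    exact hb1

/-- Normalizers of subgroups of `P` containing enough of `P` centralise the elements of `Z(P)`. -/
theorem normalizer_le_centralizer_center [Finite G] (P : Sylow 2 G) {z e : G}
    (hr : RankTwoAt (P : Subgroup G) z) (hzc : ∀ g : G, Commute z g) (hz : orderOf z = 2)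
    (he : ∀ s ∈ (P : Subgroup G), Commute e s) {D : Subgroup G} (hDP : D ≤ (P : Subgroup G))
    (heD : e ∈ D)
    (hidx : ¬ 2 ∣ ((P : Subgroup G) ⊓ normalizer (D : Set G)).relIndex (normalizer (D : Set G)))
    {x : G} (hx : x ∈ normalizer (D : Set G)) : Commute x e := by
  set N := normalizer (D : Set G) with hN
  set A := D ⊓ centralizer (D : Set G) with hAdef
  have hA : ∀ a ∈ A, ∀ b ∈ A, Commute a b := fun a ha b hb =>
    (mem_centralizer_iff.1 hb.2 a ha.1)
  have hnorm : ∀ y ∈ N, ∀ a ∈ A, y * a * y⁻¹ ∈ A := by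
    intro y hy a ha
    refine ⟨(mem_normalizer_iff.1 hy a).1 ha.1, mem_centralizer_iff.2 fun d hd => ?_⟩
    have hd' : y⁻¹ * d * y ∈ D := (mem_normalizer_iff.1 hy _).2 (by
      simpa [mul_assoc] using hd)
    have := mem_centralizer_iff.1 ha.2 _ hd'
    calc d * (y * a * y⁻¹) = y * ((y⁻¹ * d * y) * a) * y⁻¹ := by group
      _ = y * (a * (y⁻¹ * d * y)) * y⁻¹ := by rw [this]
      _ = y * a * y⁻¹ * d := by group
  have hAP : A ≤ (P : Subgroup G) := inf_le_left.trans hDP
  have heA : e ∈ A := ⟨heD, mem_centralizer_iff.2 fun d hd => (he d (hDP hd)).eq.symm⟩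
  -- elements of odd order centralise `A`
  have hodd : ∀ y ∈ N, Odd (orderOf y) → ∀ a ∈ A, Commute y a := by
    intro y hy hyo a ha
    obtain ⟨k, hk⟩ := P.isPGroup' ⟨a, hAP ha⟩
    refine commute_of_fixes_involutions hyo hA (hnorm y hy) (fun b hb hb2 => ?_) k a ha
      (congrArg Subtype.val hk)
    by_cases hbz : b = z
    · rw [hbz]; exact (hzc y).symm
    have hb' := hnorm y hy b hb
    by_cases hfix : y * b * y⁻¹ = b
    · exact mul_inv_eq_iff_eq_mul.1 hfix
    exfalso
    have hne : y * b * y⁻¹ ≠ z := fun h => hbz <| by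
      have h1 : b = y⁻¹ * z * y := by rw [← h]; group
      rw [h1, mul_assoc, (hzc y).eq, inv_mul_cancel_left]
    have h1 := hr b (hAP hb) _ (hAP hb') hb2 (conj_invol y hb2) (hA b hb _ hb') hbz hne
      (fun h => hfix h.symm)
    -- `y` moves `b` to `b * z`, so odd powers of `y` do the same
    have key : ∀ n : ℕ, y ^ n * b * (y ^ n)⁻¹ = b * z ^ n := by
      intro n
      induction n with
      | zero => simp
      | succ n ihn =>
        calc y ^ (n + 1) * b * (y ^ (n + 1))⁻¹ = y * (y ^ n * b * (y ^ n)⁻¹) * y⁻¹ := by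
              rw [pow_succ']; group
          _ = y * b * (z ^ n * y⁻¹) := by rw [ihn]; group
          _ = y * b * y⁻¹ * z ^ n := by rw [((hzc y⁻¹).pow_left n).eq]; group
          _ = b * z ^ (n + 1) := by rw [h1, mul_assoc, ← pow_succ']
    have := key (orderOf y)
    rw [pow_orderOf_eq_one] at this
    obtain ⟨r, hr'⟩ := hyo
    rw [hr', pow_succ, pow_mul, sq, invol_mul_self hz, one_pow, one_mul, one_mul, inv_one, mul_one,
      left_eq_mul] at this
    exact invol_ne_one hz this
  -- the centraliser of `A` in `N` has 2-power index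
  set K := centralizer (A : Set G) ⊓ N with hK
  set L := centralizer ({e} : Set G) ⊓ N with hL
  haveI hKn : (K.subgroupOf N).Normal := by
    refine ⟨fun k hk y => ?_⟩
    rw [mem_subgroupOf] at hk ⊢
    refine ⟨mem_centralizer_iff.2 fun a ha => ?_, (y * k * y⁻¹).2⟩
    have ha' : (y : G)⁻¹ * a * y ∈ A := by
      simpa using hnorm _ (N.inv_mem y.2) a ha
    have := mem_centralizer_iff.1 hk.1 _ ha'
    push_cast
    calc a * ((y : G) * k * (y : G)⁻¹)
        = (y : G) * (((y : G)⁻¹ * a * y) * k) * (y : G)⁻¹ := by group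
      _ = (y : G) * (k * ((y : G)⁻¹ * a * y)) * (y : G)⁻¹ := by rw [this]
      _ = (y : G) * k * (y : G)⁻¹ * a := by group
  have hp : IsPGroup 2 (↥N ⧸ K.subgroupOf N) := by
    intro q
    obtain ⟨⟨y, hy⟩, rfl⟩ := QuotientGroup.mk'_surjective (K.subgroupOf N) q
    obtain ⟨k, m, hm2, hk⟩ :=
      Nat.exists_eq_pow_mul_and_not_dvd (orderOf_pos y).ne' 2 (by norm_num)
    refine ⟨k, ?_⟩
    rw [← map_pow, QuotientGroup.mk'_apply, QuotientGroup.eq_one_iff, mem_subgroupOf]
    refine ⟨mem_centralizer_iff.2 fun a ha => ?_, (⟨y, hy⟩ ^ 2 ^ k : ↥N).2⟩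
    push_cast
    refine (hodd _ (pow_mem hy _) ?_ a ha).eq.symm
    refine Odd.of_dvd_nat (Nat.odd_iff.2 (Nat.two_dvd_ne_zero.1 hm2)) ?_
    exact orderOf_dvd_of_pow_eq_one (by rw [← pow_mul, ← hk, pow_orderOf_eq_one])
  obtain ⟨j, hj⟩ := IsPGroup.iff_card.1 hp
  have hKL : K ≤ L := inf_le_inf_right _ (centralizer_le (Set.singleton_subset_iff.2 heA))
  have hPL : (P : Subgroup G) ⊓ N ≤ L := inf_le_inf_right _ fun s hs =>
    mem_centralizer_singleton_iff.2 (he s hs).eq.symm
  have h1 : L.relIndex N ∣ 2 ^ j := (relIndex_dvd_of_le_left N hKL).trans (by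
    rw [← hj]; exact dvd_of_eq rfl)
  have h2 : ¬ 2 ∣ L.relIndex N := fun h => hidx (h.trans (relIndex_dvd_of_le_left N hPL))
  have h3 : L.relIndex N = 1 := by
    obtain ⟨i, -, hi⟩ := (Nat.dvd_prime_pow Nat.prime_two).1 h1
    rcases Nat.eq_zero_or_pos i with rfl | hi0
    · simpa using hi
    · exact absurd (hi ▸ dvd_pow_self 2 hi0.ne') h2
  exact mem_centralizer_singleton_iff.1 ((relIndex_eq_one.1 h3) hx).1

/-- The elements of `Z(P)` are weakly closed in `P`. -/
theorem weaklyClosed_of_mem_center [Finite G] (P : Sylow 2 G) {z e : G}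
    (hr : RankTwoAt (P : Subgroup G) z) (hzc : ∀ g : G, Commute z g) (hz : orderOf z = 2)
    (heP : e ∈ (P : Subgroup G)) (he : ∀ s ∈ (P : Subgroup G), Commute e s) {g : G}
    (hg : g * e * g⁻¹ ∈ (P : Subgroup G)) : g * e * g⁻¹ = e := by
  have key : ∀ (A : Set G) (h : G), Transfer.FusionChain P A h → e ∈ A → h⁻¹ * e * h = e := by
    intro A h hch
    induction hch with
    | nil A => intro _; group
    | @cons A h Q n hnN hP _ hA _ ih =>
      intro heA
      have hn : n⁻¹ * e * n = e := by
        rw [mul_assoc, inv_mul_eq_iff_eq_mul]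
        exact (normalizer_le_centralizer_center P hr hzc hz he inf_le_left (hA heA) hP hnN).eq.symm
      calc (n * h)⁻¹ * e * (n * h) = h⁻¹ * (n⁻¹ * e * n) * h := by group
        _ = e := by rw [hn]; exact ih ⟨e, heA, hn⟩
  have := key {e} g⁻¹
    (Transfer.fusionChain P (fun a ha => (Set.mem_singleton_iff.1 ha) ▸ heP) (by simpa using hg)) rfl
  simpa using this

/-- With `O(G) = 1` and a central involution, the centre of a rank two Sylow 2-subgroup is
central. -/
theorem mem_center_of_mem_center_sylow [Finite G] (hO : oddCore G = ⊥) (P : Sylow 2 G) {z : G}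
    (hr : RankTwoAt (P : Subgroup G) z) (hzc : ∀ g : G, Commute z g) (hz : orderOf z = 2) :
    ∀ k : ℕ, ∀ e ∈ (P : Subgroup G), (∀ s ∈ (P : Subgroup G), Commute e s) → e ^ 2 ^ k = 1 →
      e ∈ center G := by
  intro k
  induction k with
  | zero => intro e _ _ h; rw [pow_zero, pow_one] at h; rw [h]; exact one_mem _
  | succ k ih =>
    intro e heP he h
    have h2 : e * e ∈ center G :=
      ih _ (mul_mem heP heP) (fun s hs => (he s hs).mul_left (he s hs))
        (by rw [← sq, ← pow_mul, ← pow_succ', h])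
    set M := zpowers (e * e) with hM
    have hMc : M ≤ center G := zpowers_le.2 h2
    by_cases heM : e ∈ M
    · exact hMc heM
    haveI hMn : M.Normal := ⟨fun w hw g => by
      rw [mem_center_iff.1 (hMc hw) g, mul_inv_cancel_right]; exact hw⟩
    have hMP : M ≤ (P : Subgroup G) := zpowers_le.2 (mul_mem heP heP)
    set π := QuotientGroup.mk' M with hπ
    have hq2 : orderOf (π e) = 2 := by
      refine invol_iff.2 ⟨?_, fun h1 => heM ((QuotientGroup.eq_one_iff e).1 h1)⟩
      rw [← map_mul, hπ, QuotientGroup.mk'_apply, QuotientGroup.eq_one_iff]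
      exact mem_zpowers _
    have hwc : ∀ g : G, π (g * e * g⁻¹) ∈ (P : Subgroup G).map π → g * e * g⁻¹ = e := by
      intro g hg
      refine weaklyClosed_of_mem_center P hr hzc hz heP he ?_
      obtain ⟨p, hp, hpe⟩ := hg
      have : p⁻¹ * (g * e * g⁻¹) ∈ M := (QuotientGroup.eq).1 hpe
      simpa using mul_mem hp (hMP this)
    have hsurj : Function.Surjective π := QuotientGroup.mk'_surjective M
    have hiso : IsIsolatedInvolution (π e) := by
      refine isolated_of_sylow (P.mapSurjective hsurj) hq2 fun q hq => ?_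
      obtain ⟨g, rfl⟩ := hsurj q
      rw [← map_inv, ← map_mul, ← map_mul] at hq ⊢
      rw [hwc g (by rw [← Sylow.coe_mapSurjective]; exact hq)]
    have hOq : oddCore (G ⧸ M) = ⊥ := by
      haveI : (oddCore (G ⧸ M)).Normal := pPrimeCore_normal 2 _
      haveI : ((oddCore (G ⧸ M)).comap π).Normal := inferInstance
      have hle : (oddCore (G ⧸ M)).comap π ≤ M := by
        refine PLocal.le_of_central_of_pPrimeCore_eq_bot (p := 2) hO
          (QuotientGroup.le_comap_mk' M _) ?_ (P.isPGroup'.to_le hMP) ?_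
        · intro x _
          exact mem_centralizer_iff.2 fun y hy => (mem_center_iff.1 (hMc hy) x).symm
        · have hM0 : M = (⊥ : Subgroup (G ⧸ M)).comap π := by
            rw [MonoidHom.comap_bot, hπ, QuotientGroup.ker_mk']
          rw [show M.relIndex ((oddCore (G ⧸ M)).comap π) =
              ((⊥ : Subgroup (G ⧸ M)).comap π).relIndex ((oddCore (G ⧸ M)).comap π) by rw [← hM0],
            relIndex_comap, map_comap_eq_self_of_surjective hsurj, relIndex_bot_left]
          exact Base.pPrimeCore_coprime 2 _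
      rw [eq_bot_iff]
      intro q hq
      obtain ⟨g, rfl⟩ := hsurj q
      exact (QuotientGroup.eq_one_iff g).2 (hle hq)
    have hcen := ZStar.mem_center_of_oddCore_eq_bot hiso hOq
    rw [mem_center_iff]
    intro g
    refine mul_inv_eq_iff_eq_mul.1 (hwc g ⟨e, heP, ?_⟩)
    rw [map_mul, map_mul, map_inv, mem_center_iff.1 hcen, mul_inv_cancel_right]

namespace WR

variable {S : Type*} [Group S] [Finite S] (d : WR S)

/-- In a wreathed group the involution of the centre is the only central one. -/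
theorem eq_u_half_of_central {c : S} (hc : orderOf c = 2) (hcc : c ∈ center S) :
    c = d.u d.half d.half := by
  rcases d.invol_cases hc with h | rfl | rfl | ⟨i, j, -, rfl⟩
  · exact h
  · refine absurd ((d.commute_u_refl (i := 0) (j := 0)).1 (mem_center_iff.1 hcc _).symm) ?_
    rw [sub_zero]; exact d.not_N_dvd_half
  · refine absurd ((d.commute_u_refl (i := 0) (j := 0)).1 (mem_center_iff.1 hcc _).symm) ?_
    rw [zero_sub, dvd_neg]; exact d.not_N_dvd_half
  · refine absurd ((d.commute_u_refl (a := d.half) (b := 0)).1 (mem_center_iff.1 hcc _)) ?_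
    rw [sub_zero]; exact d.not_N_dvd_half

/-- A wreathed group has rank two. -/
theorem rankTwoAt : RankTwoAt (⊤ : Subgroup S) (d.u d.half d.half) := by
  intro a _ b _ ha hb hab haz hbz hne
  set w := a * b with hw
  by_cases hwz : w = d.u d.half d.half
  · rw [← hwz, hw, ← mul_assoc, invol_mul_self ha, one_mul]
  exfalso
  have hw2 : orderOf w = 2 := invol_iff.2 ⟨by
      rw [hw, hab.symm.mul_mul_mul_comm, invol_mul_self ha, invol_mul_self hb, one_mul],
    fun h => hne (by rw [← invol_inv hb]; exact eq_inv_of_mul_eq_one_left h)⟩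
  have haw : Commute a w := (Commute.refl a).mul_right hab
  have hbw : Commute b w := hab.symm.mul_right (Commute.refl b)
  have hna : w ≠ a := fun h => invol_ne_one hb (mul_left_cancel (h.trans (mul_one a).symm))
  have hnb : w ≠ b := fun h => invol_ne_one ha (mul_right_cancel (h.trans (one_mul b).symm))
  have hTR : ∀ {i j : ℤ} {t : S}, (t = d.u d.half 0 ∨ t = d.u 0 d.half) →
      ¬ Commute t (d.u i j * d.z) := by
    rintro i j t (rfl | rfl) h
    · exact d.not_N_dvd_half (by simpa using d.commute_u_refl.1 h)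
    · exact d.not_N_dvd_half (by simpa using d.commute_u_refl.1 h)
  have cases3 : ∀ {g : S}, orderOf g = 2 → g ≠ d.u d.half d.half →
      (g = d.u d.half 0 ∨ g = d.u 0 d.half) ∨ ∃ i j, g = d.u i j * d.z := by
    intro g hg hgz
    rcases d.invol_cases hg with h | h | h | ⟨i, j, -, h⟩
    · exact absurd h hgz
    · exact Or.inl (Or.inl h)
    · exact Or.inl (Or.inr h)
    · exact Or.inr ⟨i, j, h⟩
  rcases cases3 ha haz with hA | ⟨i, j, hA⟩
  · have hB : b = d.u d.half 0 ∨ b = d.u 0 d.half := by
      rcases cases3 hb hbz with h | ⟨k, l, h⟩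
      · exact h
      · exact absurd (h ▸ hab) (hTR hA)
    have hW : w = d.u d.half 0 ∨ w = d.u 0 d.half := by
      rcases cases3 hw2 hwz with h | ⟨k, l, h⟩
      · exact h
      · exact absurd (h ▸ haw) (hTR hA)
    rcases hA with h1 | h1 <;> rcases hB with h2 | h2 <;> rcases hW with h3 | h3 <;>
      first
      | exact hne (h1.trans h2.symm)
      | exact hna (h3.trans h1.symm)
      | exact hnb (h3.trans h2.symm)
  · have hB : ∃ k l, b = d.u k l * d.z := by
      rcases cases3 hb hbz with h | h
      · exact absurd (hA ▸ hab.symm) (hTR h)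
      · exact h
    obtain ⟨k, l, hB⟩ := hB
    rcases cases3 hw2 hwz with h | ⟨r, t, h⟩
    · exact hTR h (hA ▸ haw.symm)
    · refine d.refl_not_mem r t (h ▸ ?_)
      rw [hw, mul_mem_iff_of_index_two d.index_U]
      exact iff_of_false (hA ▸ d.refl_not_mem i j) (hB ▸ d.refl_not_mem k l)

end WR

/-- If a quasi-dihedral or wreathed Sylow 2-subgroup `S` contains an isolated involution, then
`O(X) Z(S)` is normal. -/
theorem normal_oddCore_sup_center {X : Type u} [Group X] [Finite X] (S : Sylow 2 X)
    (hS : IsQuasiDihedral (S : Subgroup X) ∨ IsWreathed (S : Subgroup X)) {z : X} (hzS : z ∈ S)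
    (hz : IsIsolatedInvolution z) :
    (oddCore X ⊔ (center (S : Subgroup X)).map (S : Subgroup X).subtype).Normal := by
  haveI : (oddCore X).Normal := pPrimeCore_normal 2 X
  set π := QuotientGroup.mk' (oddCore X) with hπ
  have hsurj : Function.Surjective π := QuotientGroup.mk'_surjective _
  have hinj : ∀ a ∈ (S : Subgroup X), π a = 1 → a = 1 := by
    intro a ha h
    have h1 : a ∈ (S : Subgroup X) ⊓ oddCore X := ⟨ha, (QuotientGroup.eq_one_iff a).1 h⟩
    rw [Base.inf_eq_bot_of_isPGroup_of_coprime S.isPGroup' (Base.pPrimeCore_coprime 2 X)] at h1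
    exact h1
  have hinj' : ∀ a ∈ (S : Subgroup X), ∀ b ∈ (S : Subgroup X), π a = π b → a = b :=
    fun a ha b hb h => by
      have := hinj _ (mul_mem (inv_mem ha) hb) (by rw [map_mul, map_inv, h, inv_mul_cancel])
      exact inv_mul_eq_one.1 this
  have hO : oddCore (X ⧸ oddCore X) = ⊥ := Base.pPrimeCore_quotient_pPrimeCore 2 X
  have hzO : z ∉ oddCore X := fun h => invol_ne_one hz.1 (hinj z hzS ((QuotientGroup.eq_one_iff z).2 h))
  have hiso := ZStar.isolated_quotient hz (oddCore X) hzO
  have hzc : ∀ q, Commute (π z) q := fun q =>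
    (mem_center_iff.1 (ZStar.mem_center_of_oddCore_eq_bot hiso hO) q).symm
  set zS : (S : Subgroup X) := ⟨z, hzS⟩
  have hzS2 : orderOf zS = 2 := by rw [← Subgroup.orderOf_coe]; exact hz.1
  have hzSc : zS ∈ center (S : Subgroup X) := mem_center_iff.2 fun s => Subtype.ext <|
    hinj' ((s : X) * z) (mul_mem s.2 hzS) (z * (s : X)) (mul_mem hzS s.2)
      (by rw [map_mul, map_mul, (hzc (π s)).eq])
  have hcent : ∀ c ∈ center (S : Subgroup X), π (c : X) ∈ center (X ⧸ oddCore X) := by
    intro c hc
    rcases hS with h | h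
    · obtain ⟨d⟩ := nonempty_qd h
      rw [d.center_eq] at hc hzSc
      have hzd : zS = d.z := by
        obtain ⟨k, hk⟩ := hzSc
        rcases Int.even_or_odd k with hk' | hk'
        · exact absurd ((hk.symm.trans (d.z_zpow_of_even hk'))) (invol_ne_one hzS2)
        · exact hk.symm.trans (d.z_zpow_of_odd hk')
      obtain ⟨k, rfl⟩ := hc
      show π ((d.z ^ k : (S : Subgroup X)) : X) ∈ _
      rw [← hzd, SubgroupClass.coe_zpow, map_zpow]
      exact zpow_mem (mem_center_iff.2 fun q => (hzc q).eq.symm) k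
    · obtain ⟨d⟩ := nonempty_wr h
      have hzd := d.eq_u_half_of_central hzS2 hzSc
      set P := S.mapSurjective hsurj
      have hPmem : ∀ q ∈ (P : Subgroup (X ⧸ oddCore X)), ∃ a : (S : Subgroup X), π a = q := by
        intro q hq
        rw [Sylow.coe_mapSurjective] at hq
        obtain ⟨a, ha, rfl⟩ := hq
        exact ⟨⟨a, ha⟩, rfl⟩
      have hr : RankTwoAt (P : Subgroup (X ⧸ oddCore X)) (π z) := by
        intro a ha b hb ha2 hb2 hab haz hbz hne
        obtain ⟨a, rfl⟩ := hPmem a ha
        obtain ⟨b, rfl⟩ := hPmem b hb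
        have hord : ∀ s : (S : Subgroup X), orderOf (π (s : X)) = 2 → orderOf s = 2 := fun s hs =>
          invol_iff.2 ⟨Subtype.ext (hinj ((s : X) * s) (mul_mem s.2 s.2) (by rw [map_mul, invol_mul_self hs])),
            fun h1 => invol_ne_one hs (by rw [h1, OneMemClass.coe_one, map_one])⟩
        have hab' : Commute a b := Subtype.ext <|
          hinj' ((a : X) * b) (mul_mem a.2 b.2) ((b : X) * a) (mul_mem b.2 a.2)
            (by rw [map_mul, map_mul, hab.eq])
        have h1 := d.rankTwoAt a (mem_top a) b (mem_top b) (hord a ha2) (hord b hb2) hab'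
          (fun h => haz (by rw [h, ← hzd])) (fun h => hbz (by rw [h, ← hzd]))
          (fun h => hne (by rw [h]))
        rw [h1, ← hzd, Subgroup.coe_mul, map_mul]
      obtain ⟨k, hk⟩ := S.isPGroup' c
      refine mem_center_of_mem_center_sylow hO P hr hzc hiso.1 k _ ?_ ?_ ?_
      · rw [Sylow.coe_mapSurjective]; exact mem_map_of_mem π c.2
      · intro q hq
        obtain ⟨s, rfl⟩ := hPmem q hq
        exact Commute.map (congrArg Subtype.val (mem_center_iff.1 hc s).symm) π
      · rw [← map_pow, ← Subgroup.coe_pow, hk, OneMemClass.coe_one, map_one]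
  set Z := (center (S : Subgroup X)).map (S : Subgroup X).subtype with hZ
  have hle : Z.map π ≤ center (X ⧸ oddCore X) := by
    rintro _ ⟨_, ⟨c, hc, rfl⟩, rfl⟩
    exact hcent c hc
  haveI : (Z.map π).Normal := ⟨fun w hw g => by
    rw [mem_center_iff.1 (hle hw) g, mul_inv_cancel_right]; exact hw⟩
  have e : oddCore X ⊔ Z = (Z.map π).comap π := by
    rw [comap_map_eq, hπ, QuotientGroup.ker_mk', sup_comm]
  rw [e]
  infer_instance

end CfsgLib.Involutions
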