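import Mathlib
import Cfsg.Prelude.Def_TwoFusion
import Cfsg.Agent.Lib.Coprime.Action
import Cfsg.Agent.Lib.Involutions.ZStar.Main

/-!
# An automorphism of coprime order centralising an involution centraliser

Let `α` be an automorphism of `G` of coprime order fixing `C_G(τ)` for an involution `τ`, and let
`C` be its fixed point group.  Every conjugate of `τ` fixes exactly one point of `G ⧸ C`, and two
of them agreeing on some point fix the same point.  Counting agreements gives `m ≤ 1`.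
-/

set_option autoImplicit false

open scoped Pointwise

namespace CfsgLib.Involutions.IsolatedPoint

section ambient

variable {X : Type*} [Group X] [Finite X]

theorem exists_conj_centralized {A K N : Subgroup X} (hAK : A ≤ Subgroup.normalizer (K : Set X))
    (hcop : (Nat.card A).Coprime (Nat.card K)) (hA : Group.IsSolvable A)
    (S : Sylow 2 K) (hS : (S : Subgroup K).map K.subtype ≤ Subgroup.centralizer (A : Set X))
    (hNK : N ≤ K) (hAN : A ≤ Subgroup.normalizer (N : Set X)) {u : X} (hu : u ∈ N)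
    (hu2 : orderOf u = 2) : ∃ x ∈ N, x * u * x⁻¹ ∈ Subgroup.centralizer (A : Set X) := by
  obtain ⟨P, hP⟩ := CfsgLib.Coprime.exists_invariant_sylow (p := 2) hAN
    (hcop.coprime_dvd_right (Subgroup.card_dvd_of_le hNK)) (Or.inl hA)
  obtain ⟨Q, hPQ, hQ⟩ := CfsgLib.Coprime.exists_invariant_sylow_ge (p := 2) hAK hcop (Or.inl hA)
    ((Subgroup.map_subtype_le (P : Subgroup N)).trans hNK) (P.2.map _) hP
  have hSA : A ≤ Subgroup.normalizer ((S : Subgroup K).map K.subtype : Set X) := by
    intro a ha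
    rw [Subgroup.mem_normalizer_iff]
    intro y
    constructor
    · intro hy
      have := Subgroup.mem_centralizer_iff.1 (hS hy) a ha
      rwa [this, mul_inv_cancel_right]
    · intro hy
      have h1 := Subgroup.mem_centralizer_iff.1 (hS hy) a⁻¹ (A.inv_mem ha)
      have h2 : y = a * y * a⁻¹ :=
        calc y = a⁻¹ * (a * y * a⁻¹) * a := by group
          _ = (a * y * a⁻¹) * a⁻¹ * a := by rw [h1]
          _ = a * y * a⁻¹ := by group
      rw [h2]; exact hy
  obtain ⟨c, hc, hcS⟩ := CfsgLib.Coprime.invariant_sylow_conj hAK hcop (Or.inl hA) S Q hSA hQ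
  have hQC : (Q : Subgroup K).map K.subtype ≤ Subgroup.centralizer (A : Set X) := by
    rintro _ ⟨z, hz, rfl⟩
    rw [← hcS] at hz
    obtain ⟨w, hw, rfl⟩ := (hz : z ∈ MulAut.conj c • (S : Subgroup K))
    show (c : X) * (w : X) * (c : X)⁻¹ ∈ _
    exact mul_mem (mul_mem hc (hS ⟨w, hw, rfl⟩)) (inv_mem hc)
  have hu' : orderOf (⟨u, hu⟩ : N) = 2 := by rwa [Subgroup.orderOf_mk]
  obtain ⟨x, hx⟩ := CfsgLib.Involutions.exists_conj_mem_sylow_one P hu'
  exact ⟨x, x.2, hQC (hPQ ⟨_, hx, rfl⟩)⟩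

end ambient

variable {G : Type*} [Group G] [Finite G]

/-- The fixed point subgroup of `α`. -/
def fixedSubgroup (α : MulAut G) : Subgroup G where
  carrier := {g | α g = g}
  mul_mem' {a b} (ha : α a = a) (hb : α b = b) := show α (a * b) = a * b by rw [map_mul, ha, hb]
  one_mem' := map_one α
  inv_mem' {a} (ha : α a = a) := show α a⁻¹ = a⁻¹ by rw [map_inv, ha]

theorem mem_fixedSubgroup {α : MulAut G} {g : G} : g ∈ fixedSubgroup α ↔ α g = g := Iff.rfl

theorem pow_apply_fixed {α : MulAut G} {g : G} (hg : α g = g) : ∀ k : ℕ, (α ^ k) g = g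
  | 0 => rfl
  | k + 1 => by rw [pow_succ, MulAut.mul_apply, hg, pow_apply_fixed hg k]

theorem exists_conj_fixed {α : MulAut G} (hcop : (orderOf α).Coprime (Nat.card G))
    (S : Sylow 2 G) (hS : (S : Subgroup G) ≤ fixedSubgroup α) (N : Subgroup G)
    (hN : ∀ g ∈ N, α g ∈ N) {u : G} (hu : u ∈ N) (hu2 : orderOf u = 2) :
    ∃ x ∈ N, α (x * u * x⁻¹) = x * u * x⁻¹ := by
  classical
  let φ : ↥(Subgroup.zpowers α) →* MulAut G := (Subgroup.zpowers α).subtype
  let X := G ⋊[φ] ↥(Subgroup.zpowers α)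
  let ι : G →* X := SemidirectProduct.inl
  let a₀ : ↥(Subgroup.zpowers α) := ⟨α, Subgroup.mem_zpowers α⟩
  set A : Subgroup X := (SemidirectProduct.inr (φ := φ)).range with hA
  have hconj : ∀ (a : ↥(Subgroup.zpowers α)) (g : G),
      SemidirectProduct.inr a * ι g * (SemidirectProduct.inr a)⁻¹ = ι ((a : MulAut G) g) :=
    fun a g => by
      rw [← map_inv]; exact (SemidirectProduct.inl_aut a g).symm
  haveI : Finite X := Finite.of_equiv _ SemidirectProduct.equivProd.symm
  have hNinv : ∀ M : Subgroup G, (∀ g ∈ M, α g ∈ M) → ∀ (a : ↥(Subgroup.zpowers α)),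
      ∀ g ∈ M, (a : MulAut G) g ∈ M := by
    intro M hM a
    obtain ⟨k, hk⟩ := mem_powers_iff_mem_zpowers.2 a.2
    rw [← hk]
    clear hk
    induction k with
    | zero => exact fun g hg => hg
    | succ k ih => intro g hg; show (α ^ (k + 1)) g ∈ M; rw [pow_succ]; exact ih _ (hM g hg)
  have hnorm : ∀ M : Subgroup G, (∀ g ∈ M, α g ∈ M) →
      A ≤ Subgroup.normalizer (M.map ι : Set X) := by
    rintro M hM _ ⟨a, rfl⟩
    refine Subgroup.mem_normalizer_fintype fun y hy => ?_
    obtain ⟨g, hg, rfl⟩ := hy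
    exact ⟨_, hNinv M hM a g hg, (hconj a g).symm⟩
  have hAK : A ≤ Subgroup.normalizer ((ι.range : Subgroup X) : Set X) := by
    rw [MonoidHom.range_eq_map]
    exact hnorm ⊤ fun g _ => Subgroup.mem_top _
  have hcardA : Nat.card A = orderOf α := by
    rw [← Nat.card_zpowers]
    exact (Nat.card_congr (MonoidHom.ofInjective SemidirectProduct.inr_injective).toEquiv).symm
  have hcardK : Nat.card ι.range = Nat.card G :=
    (Nat.card_congr (MonoidHom.ofInjective SemidirectProduct.inl_injective).toEquiv).symm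
  have hsol : Group.IsSolvable A := by
    haveI : Group.IsSolvable ↥(Subgroup.zpowers α) := inferInstance
    exact solvable_of_surjective (SemidirectProduct.inr (φ := φ)).rangeRestrict_surjective
  obtain ⟨_, ⟨x, hx, rfl⟩, hxc⟩ := exists_conj_centralized (A := A) (K := ι.range) (N := N.map ι)
    hAK (hcardA ▸ hcardK ▸ hcop) hsol (S.mapSurjective ι.rangeRestrict_surjective)
    (by
      rintro _ ⟨⟨_, hy⟩, hs, rfl⟩
      obtain ⟨g, hg, hgy⟩ := hs
      rw [Subgroup.mem_centralizer_iff]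
      rintro _ ⟨a, rfl⟩
      have h1 : ι g = _ := congrArg Subtype.val hgy
      show SemidirectProduct.inr a * _ = _ * SemidirectProduct.inr a
      simp only [Subgroup.coe_subtype] at *
      rw [← h1, ← mul_inv_eq_iff_eq_mul, hconj]
      obtain ⟨k, hk⟩ := mem_powers_iff_mem_zpowers.2 a.2
      rw [← hk, pow_apply_fixed (hS hg) k])
    (MonoidHom.range_eq_map ι ▸ Subgroup.map_mono le_top) (hnorm N hN) ⟨u, hu, rfl⟩
    (by rw [orderOf_injective ι SemidirectProduct.inl_injective, hu2])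
  refine ⟨x, hx, SemidirectProduct.inl_injective (φ := φ) ?_⟩
  rw [← map_inv, ← map_mul, ← map_mul] at hxc
  have h2 := Subgroup.mem_centralizer_iff.1 hxc _ ⟨a₀, rfl⟩
  rw [← mul_inv_eq_iff_eq_mul, hconj] at h2
  exact h2

theorem eq_one_of_isolatedPoint [IsSimpleGroup G] (hG : ¬ IsMulCommutative G) {τ : G}
    (hτ : orderOf τ = 2) {α : MulAut G} (hcop : (orderOf α).Coprime (Nat.card G))
    (hfix : ∀ c ∈ Subgroup.centralizer ({τ} : Set G), α c = c) : α = 1 := by
  classical
  by_contra hα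
  set C := fixedSubgroup α with hC
  have hτC : τ ∈ C := hfix τ (Subgroup.mem_centralizer_singleton_iff.2 rfl)
  have hiso : ∀ g : G, g * τ * g⁻¹ ∈ C → g ∈ C := by
    intro g hg
    have h1 : α g * τ * (α g)⁻¹ = g * τ * g⁻¹ := by
      conv_rhs => rw [← mem_fixedSubgroup.1 hg]
      rw [map_mul, map_mul, map_inv, mem_fixedSubgroup.1 hτC]
    set c := g⁻¹ * α g with hc
    have hcc : α c = c := hfix c (Subgroup.mem_centralizer_singleton_iff.2 (by
      calc c * τ = g⁻¹ * (α g * τ * (α g)⁻¹) * α g := by rw [hc]; group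
        _ = τ * c := by rw [h1, hc]; group))
    have hk : ∀ k : ℕ, (α ^ k) g = g * c ^ k := by
      intro k
      induction k with
      | zero => simp
      | succ k ih =>
        rw [pow_succ', MulAut.mul_apply, ih, map_mul, map_pow, hcc,
          show α g = g * c by rw [hc]; group, mul_assoc, pow_succ']
    have hr := hk (orderOf α)
    rw [pow_orderOf_eq_one, MulAut.one_apply, left_eq_mul] at hr
    have hc1 : c = 1 := orderOf_eq_one_iff.1 (Nat.eq_one_of_dvd_coprimes hcop
      (orderOf_dvd_of_pow_eq_one hr) (orderOf_dvd_natCard c))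
    rw [hc, inv_mul_eq_one] at hc1
    exact hc1.symm
  have hCtop : C ≠ ⊤ := fun h => hα (MulEquiv.ext fun g =>
    mem_fixedSubgroup.1 (h ▸ Subgroup.mem_top g : g ∈ C))
  have hcore : C.normalCore = ⊥ := (IsSimpleGroup.eq_bot_or_eq_top_of_normal _ inferInstance).resolve_right
    fun h => hCtop (top_le_iff.1 (h ▸ C.normalCore_le))
  haveI : Fintype G := Fintype.ofFinite G
  haveI : Fintype (G ⧸ C) := Fintype.ofFinite _
  let T : Finset G := Finset.univ.filter (IsConj τ)
  have hmemT : ∀ u, u ∈ T ↔ ∃ x, x * τ * x⁻¹ = u := fun u => by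
    simp [T, isConj_iff]
  have hTconj : ∀ u ∈ T, ∀ g : G, g * u * g⁻¹ ∈ T := by
    intro u hu g
    obtain ⟨x, rfl⟩ := (hmemT u).1 hu
    exact (hmemT _).2 ⟨g * x, by group⟩
  have hsmul : ∀ u g : G, u • (g : G ⧸ C) = g ↔ g⁻¹ * u * g ∈ C := by
    intro u g
    rw [MulAction.Quotient.smul_coe, smul_eq_mul, eq_comm, QuotientGroup.eq, mul_assoc]
  have hpt : ∀ u ∈ T, ∃! p : G ⧸ C, u • p = p := by
    intro u hu
    obtain ⟨x, rfl⟩ := (hmemT u).1 hu
    refine ⟨x, (hsmul _ _).2 (by simpa [mul_assoc] using hτC), fun p hp => ?_⟩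
    obtain ⟨g, rfl⟩ := QuotientGroup.mk_surjective p
    have h := (hsmul _ _).1 hp
    have h2 : g⁻¹ * x ∈ C := hiso _ (by
      rwa [show g⁻¹ * x * τ * (g⁻¹ * x)⁻¹ = g⁻¹ * (x * τ * x⁻¹) * g by group])
    exact QuotientGroup.eq.2 h2
  have hT2 : ∀ u ∈ T, orderOf u = 2 := by
    intro u hu
    obtain ⟨x, rfl⟩ := (hmemT u).1 hu
    exact CfsgLib.Involutions.conj_invol x hτ
  have hτT : τ ∈ T := (hmemT τ).2 ⟨1, by group⟩
  -- the index is odd, so `C` contains a Sylow 2-subgroup
  have hodd : ¬ 2 ∣ Nat.card (G ⧸ C) := by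
    have hP : IsPGroup 2 (Subgroup.zpowers τ) :=
      IsPGroup.of_card (n := 1) (by rw [Nat.card_zpowers, hτ, pow_one])
    intro h2
    have h := hP.card_modEq_card_fixedPoints (G ⧸ C)
    obtain ⟨p, hp, huniq⟩ := hpt τ hτT
    have hone : Nat.card (MulAction.fixedPoints (Subgroup.zpowers τ) (G ⧸ C)) = 1 := by
      rw [Nat.card_eq_one_iff_unique]
      refine ⟨⟨fun a b => Subtype.ext ((huniq _ (a.2 ⟨τ, Subgroup.mem_zpowers τ⟩)).trans
        (huniq _ (b.2 ⟨τ, Subgroup.mem_zpowers τ⟩)).symm)⟩, ⟨⟨p, ?_⟩⟩⟩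
      intro g
      obtain ⟨k, hk⟩ := Subgroup.mem_zpowers_iff.1 g.2
      show (g : G) • p = p
      rw [← hk]
      exact MulAction.mem_stabilizer_iff.1
        (zpow_mem (MulAction.mem_stabilizer_iff.2 hp : τ ∈ MulAction.stabilizer G p) k)
    rw [hone] at h
    unfold Nat.ModEq at h
    omega
  obtain ⟨S, hS⟩ : ∃ S : Sylow 2 G, (S : Subgroup G) ≤ C := by
    obtain ⟨S₀⟩ : Nonempty (Sylow 2 G) := inferInstance
    have h := S₀.2.card_modEq_card_fixedPoints (G ⧸ C)
    obtain ⟨⟨p, hp⟩⟩ : Nonempty (MulAction.fixedPoints (S₀ : Subgroup G) (G ⧸ C)) := by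
      by_contra hne
      rw [not_nonempty_iff] at hne
      rw [Nat.card_of_isEmpty (α := MulAction.fixedPoints _ _)] at h
      exact hodd (Nat.modEq_zero_iff_dvd.1 h)
    obtain ⟨g, rfl⟩ := QuotientGroup.mk_surjective p
    refine ⟨g⁻¹ • S₀, ?_⟩
    intro y hy
    have hy' := CfsgLib.Involutions.mem_smul_sylow_iff'.1 hy
    rw [inv_inv] at hy'
    have h1 : (g * y * g⁻¹) • (g : G ⧸ C) = g := hp ⟨_, hy'⟩
    have := (hsmul _ _).1 h1
    rwa [show g⁻¹ * (g * y * g⁻¹) * g = y by group] at this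
  -- the key property
  have hkey₀ : ∀ u ∈ T, ∀ j ∈ C, u * j * u⁻¹ = j⁻¹ →
      ∀ p : G ⧸ C, u • p = p → j • p = p := by
    intro u hu j hj huj p hp
    set N := Subgroup.normalizer (Subgroup.zpowers j : Set G) with hN
    have hNα : ∀ g ∈ N, α g ∈ N := by
      intro g hg
      refine Subgroup.mem_normalizer_fintype fun y hy => ?_
      obtain ⟨k, rfl⟩ := Subgroup.mem_zpowers_iff.1 hy
      obtain ⟨l, hl⟩ := Subgroup.mem_zpowers_iff.1 ((Subgroup.mem_normalizer_iff.1 hg _).1 hy)
      refine Subgroup.mem_zpowers_iff.2 ⟨l, ?_⟩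
      calc j ^ l = α (j ^ l) := (mem_fixedSubgroup.1 (C.zpow_mem hj l)).symm
        _ = _ := by rw [hl, map_mul, map_mul, map_inv, mem_fixedSubgroup.1 (C.zpow_mem hj k)]
    have huN : u ∈ N := by
      refine Subgroup.mem_normalizer_fintype fun y hy => ?_
      obtain ⟨k, rfl⟩ := Subgroup.mem_zpowers_iff.1 hy
      rw [← conj_zpow, huj]
      exact Subgroup.zpow_mem _ (inv_mem (Subgroup.mem_zpowers j)) k
    obtain ⟨x, hx, hxu⟩ := exists_conj_fixed hcop S hS N hNα huN (hT2 u hu)
    have h1 : u • ((x⁻¹ : G) : G ⧸ C) = ((x⁻¹ : G) : G ⧸ C) := (hsmul _ _).2 (by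
      rw [inv_inv]; exact hxu)
    obtain rfl : p = ((x⁻¹ : G) : G ⧸ C) := (hpt u hu).unique hp h1
    refine (hsmul _ _).2 ?_
    rw [inv_inv]
    obtain ⟨l, hl⟩ := Subgroup.mem_zpowers_iff.1
      ((Subgroup.mem_normalizer_iff.1 hx j).1 (Subgroup.mem_zpowers j))
    rw [← hl]
    exact C.zpow_mem hj l
  have hkey : ∀ u ∈ T, ∀ v ∈ T, ∀ y : G ⧸ C, u • y = v • y →
      ∀ p : G ⧸ C, u • p = p → v • p = p := by
    intro u hu v hv y huv p hp
    obtain ⟨g, rfl⟩ := QuotientGroup.mk_surjective y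
    set j := g⁻¹ * (v * u) * g with hj
    have hvv : v * v = 1 := CfsgLib.Involutions.invol_mul_self (hT2 v hv)
    have huu : u * u = 1 := CfsgLib.Involutions.invol_mul_self (hT2 u hu)
    have hjC : j ∈ C := (hsmul _ _).1 (by rw [mul_smul, huv, smul_smul, hvv, one_smul])
    have hu' : g⁻¹ * u * g ∈ T := by simpa using hTconj u hu g⁻¹
    have h := hkey₀ _ hu' j hjC (by
      rw [hj]
      calc g⁻¹ * u * g * (g⁻¹ * (v * u) * g) * (g⁻¹ * u * g)⁻¹ = g⁻¹ * (u * v) * g := by group
        _ = (g⁻¹ * (v * u) * g)⁻¹ := by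
          rw [mul_inv_rev, mul_inv_rev, mul_inv_rev, inv_inv,
            CfsgLib.Involutions.invol_inv (hT2 u hu), CfsgLib.Involutions.invol_inv (hT2 v hv)]
          group) (g⁻¹ • p) (by
      rw [smul_smul, show g⁻¹ * u * g * g⁻¹ = g⁻¹ * u by group, mul_smul, hp])
    rw [hj, smul_smul, show g⁻¹ * (v * u) * g * g⁻¹ = g⁻¹ * (v * u) by group, mul_smul,
      smul_left_cancel_iff, mul_smul, hp] at h
    exact h
  -- the numbers
  let F : G ⧸ C → Finset G := fun p => T.filter fun u => u • p = p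
  set m := (F (1 : G)).card with hm
  have hFm : ∀ p, (F p).card = m := by
    intro p
    obtain ⟨g, rfl⟩ := QuotientGroup.mk_surjective p
    refine Finset.card_bij' (fun u _ => g⁻¹ * u * g) (fun u _ => g * u * g⁻¹) ?_ ?_ ?_ ?_
    · intro u hu
      simp only [F, Finset.mem_filter] at hu ⊢
      exact ⟨by simpa using hTconj u hu.1 g⁻¹, (hsmul _ _).2 (by simpa using (hsmul _ _).1 hu.2)⟩
    · intro u hu
      simp only [F, Finset.mem_filter] at hu ⊢
      refine ⟨hTconj u hu.1 g, (hsmul _ _).2 ?_⟩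
      rw [show g⁻¹ * (g * u * g⁻¹) * g = u by group]
      simpa using (hsmul _ _).1 hu.2
    · intro u _; group
    · intro u _; group
  set n := Fintype.card (G ⧸ C) with hn
  have hTcard : T.card = n * m := by
    have h := Finset.card_eq_sum_ones T
    have h2 : T.card = ∑ p : G ⧸ C, (F p).card := by
      simp only [F, Finset.card_filter]
      rw [Finset.sum_comm, Finset.card_eq_sum_ones]
      refine Finset.sum_congr rfl fun u hu => ?_
      obtain ⟨p, hp, huniq⟩ := hpt u hu
      rw [Finset.sum_eq_single p (fun q _ hq => if_neg fun h => hq (huniq q h))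
        (fun h => absurd (Finset.mem_univ p) h), if_pos hp]
    rw [h2, Finset.sum_congr rfl fun p _ => hFm p, Finset.sum_const, Finset.card_univ, smul_eq_mul]
  have hm2 : 2 ≤ m := by
    by_contra hlt
    have hτF : τ ∈ F (1 : G) := Finset.mem_filter.2 ⟨hτT, (hsmul _ _).2 (by simpa using hτC)⟩
    have hz : Cfsg.IsIsolatedInvolution τ := by
      refine ⟨hτ, fun g hc => ?_⟩
      have h1 : g * τ * g⁻¹ ∈ C := hfix _ (Subgroup.mem_centralizer_singleton_iff.2 hc.eq.symm)
      exact Finset.card_le_one.1 (show (F (1 : G)).card ≤ 1 by omega) _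
        (Finset.mem_filter.2 ⟨(hmemT _).2 ⟨g, rfl⟩, (hsmul _ _).2 (by simpa using h1)⟩) _ hτF
    have hO : Cfsg.oddCore G = ⊥ := by
      haveI : (Cfsg.oddCore G).Normal := Cfsg.pPrimeCore_normal 2 G
      rcases IsSimpleGroup.eq_bot_or_eq_top_of_normal (Cfsg.oddCore G) inferInstance with h | h
      · exact h
      · exfalso
        have h2 := CfsgLib.Base.pPrimeCore_coprime 2 G
        rw [show Cfsg.pPrimeCore 2 G = ⊤ from h, Subgroup.card_top] at h2
        have := Nat.eq_one_of_dvd_coprimes h2 (hτ ▸ orderOf_dvd_natCard τ) dvd_rfl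
        omega
    have hcen := CfsgLib.Involutions.ZStar.mem_center_of_oddCore_eq_bot hz hO
    rcases IsSimpleGroup.eq_bot_or_eq_top_of_normal (Subgroup.center G) inferInstance with h | h
    · rw [h, Subgroup.mem_bot] at hcen
      rw [hcen, orderOf_one] at hτ
      omega
    · exact hG ⟨⟨fun a b => Subgroup.mem_center_iff.1 (h ▸ Subgroup.mem_top b) a⟩⟩
  -- upper bound on agreements
  have hup : ∀ u ∈ T, ∑ v ∈ T, (Finset.univ.filter fun y : G ⧸ C => u • y = v • y).card
      ≤ n + (m - 1) * (n - 1) := by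
    intro u hu
    obtain ⟨p, hp, -⟩ := hpt u hu
    rw [← Finset.add_sum_erase _ _ hu]
    refine Nat.add_le_add (Finset.card_le_univ _) ?_
    have hsub : (F p).erase u ⊆ T.erase u :=
      Finset.erase_subset_erase _ (Finset.filter_subset _ _)
    rw [← Finset.sum_subset hsub ?_]
    · refine (Finset.sum_le_card_nsmul _ _ (n - 1) fun v hv => ?_).trans_eq ?_
      · rw [Finset.mem_erase] at hv
        suffices h : (Finset.univ.filter fun y : G ⧸ C => u • y = v • y).card < n by omega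
        rw [hn, Finset.card_lt_iff_ne_univ]
        intro hall
        refine hv.1 ?_
        have h1 : v⁻¹ * u ∈ C.normalCore := by
          intro g
          have hy : ((g⁻¹ : G) : G ⧸ C) ∈ Finset.univ.filter fun y : G ⧸ C => u • y = v • y := by
            rw [hall]; exact Finset.mem_univ _
          have := (hsmul (v⁻¹ * u) g⁻¹).1 (by
            rw [mul_smul, (Finset.mem_filter.1 hy).2, inv_smul_smul])
          rwa [inv_inv] at this
        rw [hcore, Subgroup.mem_bot, inv_mul_eq_one] at h1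
        exact h1
      · rw [smul_eq_mul, Finset.card_erase_of_mem (Finset.mem_filter.2 ⟨hu, hp⟩), hFm]
    · intro v hv hvF
      rw [Finset.mem_erase] at hv hvF
      rw [Finset.card_eq_zero, Finset.filter_eq_empty_iff]
      exact fun y _ huv => hvF ⟨hv.1, Finset.mem_filter.2 ⟨hv.2, hkey u hu v hv.2 y huv p hp⟩⟩
  -- lower bound
  have hlow : ∀ y : G ⧸ C, n * m ^ 2 ≤
      ∑ u ∈ T, (T.filter fun v => u • y = v • y).card := by
    intro y
    let e : G ⧸ C → ℕ := fun z => (T.filter fun u => u • y = z).card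
    have he : e y = m := hFm y
    have hsum : ∑ z, e z = n * m := by
      rw [← hTcard]
      exact (Finset.card_eq_sum_card_fiberwise fun u _ => Finset.mem_univ _).symm
    have heq : ∑ u ∈ T, (T.filter fun v => u • y = v • y).card = ∑ z, e z ^ 2 := by
      rw [← Finset.sum_fiberwise T (fun u => u • y)]
      refine Finset.sum_congr rfl fun z _ => ?_
      rw [sq]
      refine (Finset.sum_congr rfl fun u hu => ?_).trans (by rw [Finset.sum_const, smul_eq_mul])
      rw [(Finset.mem_filter.1 hu).2]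
      exact congrArg Finset.card (Finset.filter_congr fun v _ => eq_comm)
    rw [heq, ← Finset.add_sum_erase _ _ (Finset.mem_univ y), he]
    have hcs := sq_sum_le_card_mul_sum_sq (s := Finset.univ.erase y) (f := e)
    rw [← Finset.add_sum_erase _ _ (Finset.mem_univ y), he] at hsum
    rw [Finset.card_erase_of_mem (Finset.mem_univ y), Finset.card_univ, ← hn] at hcs
    have hn1 : 1 ≤ n := Fintype.card_pos
    obtain ⟨k, hk⟩ : ∃ k, n = k + 1 := ⟨n - 1, by omega⟩
    rw [hk, Nat.add_sub_cancel] at hcs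
    have hS' : ∑ z ∈ Finset.univ.erase y, e z = k * m := by rw [hk] at hsum; linarith
    rw [hS'] at hcs
    rw [hk]
    rcases Nat.eq_zero_or_pos k with rfl | hk0
    · simp
    · have h3 : k * m ^ 2 ≤ ∑ z ∈ Finset.univ.erase y, e z ^ 2 :=
        Nat.le_of_mul_le_mul_left (by linarith [hcs]) hk0
      linarith
  have hswap : ∑ y : G ⧸ C, ∑ u ∈ T, (T.filter fun v => u • y = v • y).card
      = ∑ u ∈ T, ∑ v ∈ T, (Finset.univ.filter fun y : G ⧸ C => u • y = v • y).card := by
    rw [Finset.sum_comm]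
    refine Finset.sum_congr rfl fun u _ => ?_
    simp only [Finset.card_filter]
    rw [Finset.sum_comm]
  have h1 : n * (n * m ^ 2) ≤ T.card * (n + (m - 1) * (n - 1)) := by
    calc n * (n * m ^ 2) = ∑ _y : G ⧸ C, n * m ^ 2 := by
          rw [Finset.sum_const, Finset.card_univ, smul_eq_mul]
      _ ≤ _ := Finset.sum_le_sum fun y _ => hlow y
      _ = _ := hswap
      _ ≤ T.card * (n + (m - 1) * (n - 1)) :=
          (Finset.sum_le_card_nsmul _ _ _ hup).trans_eq (smul_eq_mul _ _)
  rw [hTcard] at h1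
  obtain ⟨a, ha⟩ : ∃ a, m = a + 2 := ⟨m - 2, by omega⟩
  obtain ⟨b, hb⟩ : ∃ b, n = b + 1 := ⟨n - 1, by have : 1 ≤ n := Fintype.card_pos; omega⟩
  rw [ha, hb, show a + 2 - 1 = a + 1 by omega, Nat.add_sub_cancel] at h1
  have h2 : (b + 1) * (a + 2) ≤ b + 1 + (a + 1) * b :=
    le_of_mul_le_mul_left (a := (b + 1) * (a + 2)) (by linarith) (by positivity)
  linarith

end CfsgLib.Involutions.IsolatedPoint
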