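import Cfsg.Agent.Lib.Blocks.AbelianAutInner
import Cfsg.Agent.Lib.Fusion.SimpleTwoRankLie
import Cfsg.Agent.Lib.Classical.SL2Sylow
import Cfsg.Agent.Lib.Classical.PSLSimple
import Cfsg.Agent.Lib.Transfer.CentralTransfer
import Cfsg.Agent.Lib.Transfer.Fusion

/-!
# Simple groups with abelian Sylow `2`-subgroups and `C(t) = ⟨t⟩ × E`, `PSL₂(q) ⊴ E`

Such a group has no perfect central extension by a nontrivial `2`-group, and every automorphism of
`2`-power order fixing a Sylow `2`-subgroup is inner.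
-/

set_option autoImplicit false
set_option linter.style.haveILetI false
set_option linter.unusedSectionVars false

namespace CfsgLib.JankoRee

open Cfsg Subgroup
open scoped commutatorElement

/-- A dihedral group of order at least `6` is not commutative. -/
theorem dihedral_not_comm {m : ℕ} (hm : 3 ≤ m) :
    ¬ ∀ a b : DihedralGroup m, a * b = b * a := by
  intro h
  have h1 := h (DihedralGroup.r 1) (DihedralGroup.sr 0)
  rw [DihedralGroup.r_mul_sr, DihedralGroup.sr_mul_r, zero_sub, zero_add,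
    DihedralGroup.sr.injEq] at h1
  have h2 : ((2 : ℕ) : ZMod m) = 0 := by
    push_cast
    linear_combination -h1
  have := Nat.le_of_dvd two_pos ((ZMod.natCast_eq_zero_iff 2 m).1 h2)
  omega

/-- An abelian Sylow `2`-subgroup of `PSL₂(q)`, `q` odd, is a Klein four-group. -/
theorem sylow_psl_klein {F : Type*} [Field F] [Finite F] (hodd : Odd (Nat.card F))
    (P : Sylow 2 (Matrix.ProjectiveSpecialLinearGroup (Fin 2) F))
    (hab : IsMulCommutative (P : Subgroup (Matrix.ProjectiveSpecialLinearGroup (Fin 2) F))) :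
    IsKleinFour (P : Subgroup (Matrix.ProjectiveSpecialLinearGroup (Fin 2) F)) := by
  by_cases h : Nat.card F % 8 = 3 ∨ Nat.card F % 8 = 5
  · exact Classical.sylow_two_PSL2_isKleinFour h P
  · exfalso
    obtain ⟨j, hj⟩ := hodd
    have h8 : Nat.card F % 8 = 1 ∨ Nat.card F % 8 = 7 := by omega
    have h16 : 16 ∣ Nat.card F ^ 2 - 1 := by
      set q := Nat.card F with hq
      obtain ⟨k, hk⟩ : ∃ k, q = 8 * k + 1 ∨ q = 8 * k + 7 := ⟨q / 8, by omega⟩
      rcases hk with hk | hk <;> rw [hk]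
      · refine ⟨4 * k * k + k, ?_⟩
        have : (8 * k + 1) ^ 2 = 16 * (4 * k * k + k) + 1 := by ring
        omega
      · refine ⟨4 * k * k + 7 * k + 3, ?_⟩
        have : (8 * k + 7) ^ 2 = 16 * (4 * k * k + 7 * k + 3) + 1 := by ring
        omega
    obtain ⟨m, hm, ⟨e⟩⟩ := Fusion.sylow_PSL2_dihedral ⟨j, hj⟩ h16 P
    exact dihedral_not_comm (by omega) fun a b =>
      e.symm.injective (by rw [map_mul, map_mul]; exact hab.is_comm.comm _ _)

theorem sylow_structure {G : Type*} [Group G] [Finite G]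
    (hab : ∀ S : Sylow 2 G, IsMulCommutative ↥(S : Subgroup G))
    (t : G) (ht : orderOf t = 2)
    (E : Subgroup G) (hE : IsInternalDirectProduct (zpowers t) E (centralizer ({t} : Set G)))
    {F : Type*} [Field F] [Fintype F] (hFo : Odd (Fintype.card F)) (hF3 : 3 < Fintype.card F)
    (N : Subgroup ↥E) [N.Normal]
    (hN : Nonempty (↥N ≃* Matrix.ProjectiveSpecialLinearGroup (Fin 2) F))
    (hNc : centralizer (N : Set ↥E) = ⊥) :
    ∃ (S : Sylow 2 G) (M P : Subgroup G), ⁅M, M⁆ = M ∧ M ≤ centralizer ({t} : Set G) ∧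
      P ≤ M ∧ P ≤ S ∧ t ∈ (S : Subgroup G) ∧ IsKleinFour ↥P ∧
      (S : Subgroup G) ≤ zpowers t ⊔ P := by
  classical
  haveI : Fact (Nat.Prime 2) := ⟨Nat.prime_two⟩
  haveI : Finite F := inferInstance
  obtain ⟨e⟩ := hN
  have hcard : Nat.card F = Fintype.card F := Nat.card_eq_fintype_card
  haveI : IsSimpleGroup (Matrix.ProjectiveSpecialLinearGroup (Fin 2) F) :=
    Classical.isSimpleGroup_PSL_fin 2 le_rfl fun _ => by omega
  haveI hNs : IsSimpleGroup ↥N := e.isSimpleGroup
  have hncomm : ¬ ∀ a b : ↥N, a * b = b * a := by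
    intro h
    have hle : N ≤ centralizer (N : Set ↥E) := fun x hx => mem_centralizer_iff.2 fun y hy =>
      congrArg Subtype.val (h ⟨y, hy⟩ ⟨x, hx⟩)
    rw [hNc, le_bot_iff] at hle
    exact not_nontrivial_iff_subsingleton.2 (by rw [hle]; infer_instance) (inferInstance : Nontrivial ↥N)
  have hZ : center ↥N = ⊥ := (Subgroup.Normal.eq_bot_or_eq_top inferInstance).resolve_right fun h =>
    hncomm fun a b => mem_center_iff.1 (h.symm ▸ mem_top b) a
  have hperfN : commutator ↥N = ⊤ :=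
    (Subgroup.Normal.eq_bot_or_eq_top inferInstance).resolve_left fun h => hncomm fun a b => by
      rw [← commutatorElement_eq_one_iff_mul_comm, ← mem_bot, ← h]
      exact commutator_mem_commutator (mem_top a) (mem_top b)
  set f : ↥N →* G := E.subtype.comp N.subtype with hf
  have hfinj : Function.Injective f := E.subtype_injective.comp N.subtype_injective
  set M := f.range with hM
  have hfC : ∀ x, f x ∈ centralizer ({t} : Set G) := fun x => hE.2.1 (x : ↥E).2
  have hMC : M ≤ centralizer ({t} : Set G) := by rintro _ ⟨x, rfl⟩; exact hfC x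
  obtain ⟨PN⟩ : Nonempty (Sylow 2 ↥N) := inferInstance
  set P := (PN : Subgroup ↥N).map f with hP
  have htz : IsPGroup 2 ↥(zpowers t) := IsPGroup.of_card (n := 1) (by rw [Nat.card_zpowers, ht, pow_one])
  have hQ : IsPGroup 2 ↥(zpowers t ⊔ P) := by
    refine IsPGroup.to_sup_of_normal_left' htz (PN.2.map f) ?_
    rintro _ ⟨x, -, rfl⟩
    refine centralizer_le_normalizer _ ?_
    rw [zpowers_eq_closure, centralizer_closure]; exact hfC x
  obtain ⟨S, hS⟩ := hQ.exists_le_sylow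
  haveI := hab S
  have htS : t ∈ (S : Subgroup G) := hS (mem_sup_left (mem_zpowers t))
  have hPS : P ≤ (S : Subgroup G) := le_sup_right.trans hS
  have hcomap : (S : Subgroup G).comap f = (PN : Subgroup ↥N) :=
    PN.is_maximal' (S.2.comap_of_injective f hfinj) fun x hx => hPS (mem_map_of_mem f hx)
  have hPab : ∀ a b : (PN : Subgroup ↥N), a * b = b * a := fun a b => by
    refine Subtype.ext (hfinj ?_)
    simp only [Subgroup.coe_mul, map_mul]
    exact congrArg Subtype.val (IsMulCommutative.is_comm.comm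
      (⟨f a, hPS (mem_map_of_mem f a.2)⟩ : (S : Subgroup G)) ⟨f b, hPS (mem_map_of_mem f b.2)⟩)
  haveI hKl : IsKleinFour ↥P := by
    haveI hK4 : IsKleinFour ↥((PN : Subgroup ↥N).map e.toMonoidHom) := sylow_psl_klein (hcard ▸ hFo) (PN.mapSurjective (f := e.toMonoidHom) e.surjective) (by
      refine ⟨⟨fun a b => ?_⟩⟩
      obtain ⟨x, hx, hxa⟩ := a.2
      obtain ⟨y, hy, hyb⟩ := b.2
      refine Subtype.ext ?_
      show (a : Matrix.ProjectiveSpecialLinearGroup (Fin 2) F) * b = b * a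
      rw [← hxa, ← hyb, ← map_mul, ← map_mul]
      exact congrArg _ (congrArg Subtype.val (hPab ⟨x, hx⟩ ⟨y, hy⟩)))
    let e1 := (PN : Subgroup ↥N).equivMapOfInjective e.toMonoidHom e.injective
    let e2 := (PN : Subgroup ↥N).equivMapOfInjective f hfinj
    let e3 : ↥((PN : Subgroup ↥N).map e.toMonoidHom) ≃* ↥P :=
      e1.symm.trans e2
    exact ⟨by rw [← Nat.card_congr e3.toEquiv]; exact IsKleinFour.card_four,
      by rw [← Monoid.exponent_eq_of_mulEquiv e3]; exact IsKleinFour.exponent_two⟩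
  refine ⟨S, M, P, ?_, hMC, ?_, hPS, htS, hKl, ?_⟩
  · rw [hM, MonoidHom.range_eq_map, ← map_commutator]
    exact congrArg _ ((_root_.commutator_def ↥N).symm.trans hperfN)
  · rintro _ ⟨x, -, rfl⟩; exact ⟨x, rfl⟩
  intro x hx
  have hxC : x ∈ centralizer ({t} : Set G) := mem_centralizer_singleton_iff.2
    (congrArg Subtype.val (IsMulCommutative.is_comm.comm
      (⟨x, hx⟩ : (S : Subgroup G)) ⟨t, htS⟩))
  rw [← hE.2.2.2.2, sup_comm] at hxC
  obtain ⟨y, hyE, z, hz, rfl⟩ : ∃ y ∈ E, ∃ z ∈ zpowers t, y * z = x := by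
    have hn : zpowers t ≤ normalizer (E : Set G) := by
      refine zpowers_le.2 (centralizer_le_normalizer _ ?_)
      exact mem_centralizer_iff.2 fun b hb => (hE.2.2.1 t (mem_zpowers t) b hb).symm
    rw [← SetLike.mem_coe, coe_mul_of_right_le_normalizer_left E (zpowers t) hn] at hxC
    exact Set.mem_mul.1 hxC
  have hzS : z ∈ (S : Subgroup G) := (zpowers_le.2 htS) hz
  have hyS : y ∈ (S : Subgroup G) := (mul_mem_cancel_right hzS).1 hx
  refine mul_mem ?_ (mem_sup_left hz)
  -- the conjugation of `N` by `y` is inner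
  set y' : ↥E := ⟨y, hyE⟩ with hy'
  set φ : MulAut ↥N := MulAut.conjNormal y' with hφ
  have h2 : ∃ j : ℕ, orderOf φ = 2 ^ j := by
    obtain ⟨k, hk⟩ := S.2 ⟨y, hyS⟩
    have hy2 : y' ^ 2 ^ k = 1 := Subtype.ext (by
      rw [SubmonoidClass.coe_pow]; exact congrArg Subtype.val hk)
    obtain ⟨j, -, hj⟩ := (Nat.dvd_prime_pow Nat.prime_two).1
      (orderOf_dvd_of_pow_eq_one (x := φ) (by rw [hφ, ← map_pow, hy2, map_one]))
    exact ⟨j, hj⟩
  obtain ⟨n, hn⟩ := Blocks.exists_inner_of_fix_abelian_sylow hZ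
    (fun K hK hodd => by
      haveI := hK
      refine (Subgroup.Normal.eq_bot_or_eq_top inferInstance).resolve_right fun h => ?_
      subst h
      rw [card_top] at hodd
      have h4 := card_subgroup_dvd_card (PN : Subgroup ↥N)
      rw [Nat.card_congr ((PN : Subgroup ↥N).equivMapOfInjective f hfinj).toEquiv,
        IsKleinFour.card_four] at h4
      exact Nat.not_even_iff_odd.2 hodd (even_iff_two_dvd.2 ((by norm_num : 2 ∣ 4).trans h4)))
    PN hPab φ h2 (fun w hw => by
      refine Subtype.ext (Subtype.ext ?_)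
      rw [hφ, MulAut.conjNormal_apply]
      show y * f w * y⁻¹ = f w
      rw [mul_inv_eq_iff_eq_mul]
      exact congrArg Subtype.val (IsMulCommutative.is_comm.comm
        (⟨y, hyS⟩ : (S : Subgroup G)) ⟨f w, hPS (mem_map_of_mem f hw)⟩))
  have hc : (n : ↥E)⁻¹ * y' ∈ centralizer (N : Set ↥E) := by
    refine mem_centralizer_iff.2 fun w hw => ?_
    have h := congrArg Subtype.val (hn ⟨w, hw⟩)
    rw [hφ, MulAut.conjNormal_apply] at h
    simp only [Subgroup.coe_mul, Subgroup.coe_inv] at h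
    calc w * ((n : ↥E)⁻¹ * y') = (n : ↥E)⁻¹ * (n * w * (n : ↥E)⁻¹) * y' := by group
      _ = (n : ↥E)⁻¹ * (y' * w * y'⁻¹) * y' := by rw [h]
      _ = (n : ↥E)⁻¹ * y' * w := by group
  rw [hNc, mem_bot, inv_mul_eq_one] at hc
  have hyn : f n = y := congrArg Subtype.val hc
  refine mem_sup_right ⟨n, ?_, hyn⟩
  rw [← hcomap]
  show f n ∈ (S : Subgroup G)
  rw [hyn]; exact hyS

/-- The Sylow `2`-subgroup of a perfect central extension is abelian, so the kernel is trivial. -/
theorem no_cover {G : Type*} [Group G] [Finite G] [IsSimpleGroup G] (hG : ¬ IsMulCommutative G)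
    (t : G) (ht : orderOf t = 2) (S : Sylow 2 G) (hab : IsMulCommutative ↥(S : Subgroup G))
    (M P : Subgroup G) (hM : ⁅M, M⁆ = M) (hMC : M ≤ centralizer ({t} : Set G))
    (hPM : P ≤ M) (hPS : P ≤ S) (htS : t ∈ (S : Subgroup G)) [IsKleinFour ↥P]
    (hSle : (S : Subgroup G) ≤ zpowers t ⊔ P)
    {L : Type*} [Group L] [Finite L] (π : L →* G) (hπ : Function.Surjective π)
    (hker : π.ker ≤ center L) (hk2 : IsPGroup 2 ↥π.ker) (hL : commutator L = ⊤) :
    π.ker = ⊥ := by
  classical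
  haveI : Fact (Nat.Prime 2) := ⟨Nat.prime_two⟩
  set K := (S : Subgroup G).comap π with hK
  have hK2 : IsPGroup 2 ↥K := S.2.comap_of_ker_isPGroup π hk2
  have hidx : ¬ 2 ∣ K.index := by
    rw [hK, index_comap_of_surjective _ hπ]; exact S.not_dvd_index
  have hkerK : π.ker ≤ K := fun x hx => by
    show π x ∈ (S : Subgroup G); rw [show π x = 1 from hx]; exact one_mem _
  have hkc : ∀ x ∈ π.ker, ∀ y, Commute x y := fun x hx y => (mem_center_iff.1 (hker hx) y).symm
  -- the normalizer moves `t`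
  obtain ⟨n, hn, hnt⟩ : ∃ n ∈ normalizer ((S : Subgroup G) : Set G), n * t * n⁻¹ ≠ t := by
    by_contra h
    push Not at h
    set H := normalizer ((S : Subgroup G) : Set G) with hH
    have hSH : (S : Subgroup G) ≤ H := le_normalizer
    have htc : (⟨t, hSH htS⟩ : H) ∈ center H := mem_center_iff.2 fun g => Subtype.ext
      (mul_inv_eq_iff_eq_mul.1 (h g g.2))
    have hfoc : (S : Subgroup G) ≤ ⁅(S : Subgroup G), H⁆ := by
      rw [← Transfer.focalSubgroup_eq_of_isMulCommutative S hab]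
      intro x hx
      rw [← Subgroup.commutator_inf_eq_focalSubgroup S]
      refine ⟨?_, hx⟩
      rcases (inferInstance : (commutator G).Normal).eq_bot_or_eq_top with h' | h'
      · exact absurd ⟨⟨fun a b => by
          rw [← commutatorElement_eq_one_iff_mul_comm, ← mem_bot, ← h']
          exact commutator_mem_commutator (mem_top a) (mem_top b)⟩⟩ hG
      · rw [h']; exact mem_top x
    have htcom : (⟨t, hSH htS⟩ : H) ∈ commutator H := by
      have h1 : ⁅(S : Subgroup G), H⁆ ≤ (commutator H).map H.subtype := by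
        rw [_root_.commutator_def, Subgroup.map_commutator, ← MonoidHom.range_eq_map, range_subtype]
        exact commutator_mono hSH le_rfl
      obtain ⟨w, hw, hwt⟩ := h1 (hfoc htS)
      rwa [show w = ⟨t, hSH htS⟩ from Subtype.ext hwt] at hw
    have hb := Transfer.inf_commutator_inf_center_eq_bot ((S : Subgroup G).subgroupOf H)
      ⟨⟨fun a b => Subtype.ext (Subtype.ext (show ((a : H) : G) * ((b : H) : G) = (b : H) * (a : H)
        from congrArg Subtype.val
          (hab.is_comm.comm (⟨((a : H) : G), a.2⟩ : (S : Subgroup G)) ⟨((b : H) : G), b.2⟩)))⟩⟩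
      (by
        obtain ⟨k, hk⟩ := IsPGroup.iff_card.1 (S.2.comap_subtype (K := H))
        rw [show (S : Subgroup G).subgroupOf H = (S : Subgroup G).comap H.subtype from rfl, hk]
        refine Nat.Coprime.pow_left k ((Nat.prime_two.coprime_iff_not_dvd).2 fun hd => ?_)
        exact S.not_dvd_index (hd.trans (Dvd.intro _ (relIndex_mul_index hSH))))
    have : (⟨t, hSH htS⟩ : H) = 1 := mem_bot.1 (hb ▸ ⟨⟨(htS : t ∈ _), htcom⟩, htc⟩)
    have h1 : t = 1 := congrArg Subtype.val this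
    rw [h1, orderOf_one] at ht
    exact absurd ht (by norm_num)
  obtain ⟨t₀, ht₀⟩ := hπ t
  obtain ⟨n₀, hn₀⟩ := hπ n
  set Mt := M.comap π with hMt
  have hone : ∀ a b : L, Commute (π a) (π b) → ⁅a, b⁆ ∈ π.ker := fun a b h => by
    rw [MonoidHom.mem_ker, map_commutatorElement]
    exact commutatorElement_eq_one_iff_commute.2 h
  have htM : Mt ≤ centralizer (zpowers t₀ : Set L) := by
    have h1 : ⁅zpowers t₀, Mt⁆ ≤ π.ker := by
      rw [Subgroup.commutator_le]
      rintro a ha b hb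
      obtain ⟨k, rfl⟩ := mem_zpowers_iff.1 ha
      refine hone _ _ ?_
      rw [map_zpow, ht₀]
      exact (show Commute (π b) t from mem_centralizer_singleton_iff.1 (hMC hb)).symm.zpow_left k
    have hc : ⁅⁅zpowers t₀, Mt⁆, Mt⁆ = ⊥ :=
      commutator_eq_bot_iff_le_centralizer.2 fun x hx =>
        mem_centralizer_iff.2 fun y _ => (hkc x (h1 hx) y).symm
    have h3 := commutator_commutator_eq_bot_of_rotate (H₁ := Mt) (H₂ := Mt) (H₃ := zpowers t₀)
      (by rw [commutator_comm Mt (zpowers t₀)]; exact hc) hc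
    rw [commutator_eq_bot_iff_le_centralizer] at h3
    intro m hm
    obtain ⟨c, hc', hcm⟩ : ∃ c ∈ ⁅Mt, Mt⁆, π c = π m := by
      have : π m ∈ (⁅Mt, Mt⁆).map π := by
        rw [map_commutator, hMt, map_comap_eq_self_of_surjective hπ, hM]; exact hm
      exact this
    have hd : c⁻¹ * m ∈ π.ker := by rw [MonoidHom.mem_ker, map_mul, map_inv, hcm, inv_mul_cancel]
    rw [show m = c * (c⁻¹ * m) by group]
    refine mul_mem (h3 hc') ?_
    exact mem_centralizer_iff.2 fun y _ => (hkc _ hd y).symm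
  have ht₀M : ∀ b ∈ Mt, Commute t₀ b := fun b hb =>
    mem_centralizer_iff.1 (htM hb) t₀ (mem_zpowers t₀)
  have hsplit : ∀ y ∈ K, ∃ (i : ℤ) (m : L), m ∈ Mt ∧ π m ∈ P ∧ y = t₀ ^ i * m := by
    intro y hy
    have h := hSle hy
    have hn' : P ≤ normalizer (zpowers t : Set G) := fun p hp => by
      refine centralizer_le_normalizer _ ?_
      rw [zpowers_eq_closure, centralizer_closure]; exact hMC (hPM hp)
    rw [← SetLike.mem_coe, coe_mul_of_right_le_normalizer_left (zpowers t) P hn'] at h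
    obtain ⟨a, ha, b, hb, hab'⟩ := Set.mem_mul.1 h
    obtain ⟨i, rfl⟩ := mem_zpowers_iff.1 ha
    have hm : π ((t₀ ^ i)⁻¹ * y) = b := by
      rw [map_mul, map_inv, map_zpow, ht₀, ← hab', inv_mul_cancel_left]
    refine ⟨i, (t₀ ^ i)⁻¹ * y, ?_, hm ▸ hb, by group⟩
    show π _ ∈ M
    rw [hm]; exact hPM hb
  set Z₁ := K ⊓ centralizer (K : Set L) with hZ₁
  have hker₁ : π.ker ≤ Z₁ := fun x hx =>
    mem_inf.2 ⟨hkerK hx, mem_centralizer_iff.2 fun y _ => (hkc x hx y).symm⟩
  have ht₁ : t₀ ∈ Z₁ := by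
    refine mem_inf.2 ⟨show π t₀ ∈ _ from ht₀.symm ▸ htS, mem_centralizer_iff.2 fun y hy => ?_⟩
    obtain ⟨i, m, hm, -, rfl⟩ := hsplit y hy
    exact (((Commute.refl t₀).zpow_right i).mul_right (ht₀M m hm)).symm.eq
  have hnK : ∀ y, y ∈ K ↔ n₀ * y * n₀⁻¹ ∈ K := fun y => by
    show π y ∈ (S : Subgroup G) ↔ π (n₀ * y * n₀⁻¹) ∈ (S : Subgroup G)
    rw [map_mul, map_mul, map_inv, hn₀]
    exact mem_normalizer_iff.1 hn (π y)
  have ht₂ : n₀ * t₀ * n₀⁻¹ ∈ Z₁ := by
    refine mem_inf.2 ⟨(hnK _).1 ht₁.1, mem_centralizer_iff.2 fun y hy => ?_⟩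
    have hy' : n₀⁻¹ * y * n₀ ∈ K := (hnK _).2 (by simpa [mul_assoc] using hy)
    have h := mem_centralizer_iff.1 ht₁.2 _ hy'
    calc y * (n₀ * t₀ * n₀⁻¹) = n₀ * (n₀⁻¹ * y * n₀ * t₀) * n₀⁻¹ := by group
      _ = n₀ * (t₀ * (n₀⁻¹ * y * n₀)) * n₀⁻¹ := by rw [h]
      _ = n₀ * t₀ * n₀⁻¹ * y := by group
  obtain ⟨i, s₀, -, hsP, hs⟩ := hsplit _ ht₂.1
  have hs₁ : s₀ ∈ Z₁ := by
    have h : s₀ = (t₀ ^ i)⁻¹ * (n₀ * t₀ * n₀⁻¹) := by rw [hs]; group
    rw [h]
    exact mul_mem (inv_mem (zpow_mem ht₁ i)) ht₂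
  have hs1 : π s₀ ≠ 1 := by
    intro h
    have h' : n * t * n⁻¹ = t ^ i := by
      have := congrArg π hs
      rwa [map_mul, map_mul, map_inv, map_mul, map_zpow, hn₀, ht₀, h, mul_one] at this
    have ht2 : t ^ (2 : ℤ) = 1 := by
      rw [show (2 : ℤ) = ((2 : ℕ) : ℤ) from rfl, zpow_natCast, ← ht, pow_orderOf_eq_one]
    rcases Int.even_or_odd i with ⟨j, rfl⟩ | ⟨j, rfl⟩
    · rw [← two_mul, zpow_mul, ht2, one_zpow] at h'
      have h1 : t = 1 := by
        calc t = n⁻¹ * (n * t * n⁻¹) * n := by group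
          _ = 1 := by rw [h']; group
      rw [h1, orderOf_one] at ht
      exact absurd ht (by norm_num)
    · rw [zpow_add, zpow_mul, ht2, one_zpow, one_mul, zpow_one] at h'
      exact hnt h'
  -- a second generator of the four-group
  obtain ⟨v, hv1, hvs⟩ : ∃ v : ↥P, v ≠ 1 ∧ v ≠ ⟨π s₀, hsP⟩ := by
    haveI := Fintype.ofFinite ↥P
    have h4 : Fintype.card ↥P = 4 := by rw [← Nat.card_eq_fintype_card]; exact IsKleinFour.card_four
    by_contra h
    push Not at h
    have hle : (Finset.univ : Finset ↥P) ⊆ {1, ⟨π s₀, hsP⟩} := fun v _ => by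
      by_cases hv : v = 1
      · simp [hv]
      · simp [h v hv]
    have := (Finset.card_le_card hle).trans Finset.card_le_two
    rw [Finset.card_univ, h4] at this
    omega
  obtain ⟨v₀, hv₀⟩ := hπ v
  have hv₀K : v₀ ∈ K := show π v₀ ∈ _ from hv₀.symm ▸ hPS v.2
  have hKle : K ≤ Z₁ ⊔ zpowers v₀ := by
    intro y hy
    obtain ⟨j, m, -, hmP, rfl⟩ := hsplit y hy
    refine mul_mem (mem_sup_left (zpow_mem ht₁ j)) ?_
    have hZm : ∀ w, π w = π m → w ∈ Z₁ ⊔ zpowers v₀ → m ∈ Z₁ ⊔ zpowers v₀ := fun w hw hmem => by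
      have hd : w⁻¹ * m ∈ π.ker := by rw [MonoidHom.mem_ker, map_mul, map_inv, hw, inv_mul_cancel]
      simpa using mul_mem hmem (mem_sup_left (hker₁ hd))
    haveI := Fintype.ofFinite ↥P
    have hall : ∀ w : ↥P, w = 1 ∨ w = ⟨π s₀, hsP⟩ ∨ w = v ∨ w = ⟨π s₀, hsP⟩ * v := by
      intro w
      by_contra h
      push Not at h
      obtain ⟨h1, h2, h3, h4⟩ := h
      exact h4 (IsKleinFour.eq_mul_of_ne_all (fun hh => hs1 (congrArg Subtype.val hh)) hv1 hvs.symm h1 h2 h3)
    rcases hall ⟨π m, hmP⟩ with h | h | h | h <;> have h' := congrArg Subtype.val h <;>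
      simp only [Subgroup.coe_one, Subgroup.coe_mul] at h'
    · exact hZm 1 (by rw [map_one]; exact h'.symm) (one_mem _)
    · exact hZm s₀ h'.symm (mem_sup_left hs₁)
    · exact hZm v₀ (hv₀.trans h'.symm) (mem_sup_right (mem_zpowers v₀))
    · exact hZm (s₀ * v₀) (by rw [map_mul, hv₀]; exact h'.symm)
        (mul_mem (mem_sup_left hs₁) (mem_sup_right (mem_zpowers v₀)))
  have hKab : IsMulCommutative ↥K := by
    have hvc : Z₁ ⊔ zpowers v₀ ≤ centralizer ({v₀} : Set L) := sup_le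
      (fun z hz => mem_centralizer_singleton_iff.2 (mem_centralizer_iff.1 hz.2 v₀ hv₀K).symm)
      (zpowers_le.2 (mem_centralizer_singleton_iff.2 rfl))
    have hall : ∀ a ∈ K, Z₁ ⊔ zpowers v₀ ≤ centralizer ({a} : Set L) := fun a ha => sup_le
      (fun z hz => mem_centralizer_singleton_iff.2 (mem_centralizer_iff.1 hz.2 a ha).symm)
      (zpowers_le.2 (mem_centralizer_singleton_iff.2
        (mem_centralizer_singleton_iff.1 (hvc (hKle ha))).symm))
    exact ⟨⟨fun a b => Subtype.ext (mem_centralizer_singleton_iff.1 (hall b b.2 (hKle a.2)))⟩⟩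
  have hb := Transfer.inf_commutator_inf_center_eq_bot K hKab (by
    obtain ⟨k, hk⟩ := IsPGroup.iff_card.1 hK2
    rw [hk]
    exact Nat.Coprime.pow_left k ((Nat.prime_two.coprime_iff_not_dvd).2 hidx))
  refine le_bot_iff.1 (le_trans ?_ hb.le)
  intro x hx
  exact ⟨⟨hkerK hx, hL ▸ mem_top x⟩, hker hx⟩

end CfsgLib.JankoRee
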