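import Mathlib
import Cfsg.Prelude.Def_Balance
import Cfsg.Agent.Lib.Components.Signalizer
import Cfsg.Agent.Lib.Components.LocalBalance

/-!
The signalizer functor of `k`-balance: fixed points of hyperplanes inside a solvable group generated by
pieces of the groups `Δ(H)` stay inside `Δ(H)`. The proof runs down the derived series.
-/

set_option autoImplicit false
set_option linter.style.haveILetI false
set_option linter.unusedSectionVars false

namespace CfsgLib.Involutions.KBalanceFunctor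

open Subgroup Cfsg
open scoped commutatorElement

variable {G : Type*} [Group G] [Finite G] {p k : ℕ} [Fact p.Prime]

theorem conj_mem_of_mem_normalizer {X : Subgroup G} {a x : G} (ha : a ∈ normalizer (X : Set G))
    (hx : x ∈ X) : a * x * a⁻¹ ∈ X := (mem_normalizer_iff.1 ha x).1 hx

theorem le_normalizer_inf' {A X Y : Subgroup G} (hX : A ≤ normalizer (X : Set G))
    (hY : A ≤ normalizer (Y : Set G)) : A ≤ normalizer ((X ⊓ Y : Subgroup G) : Set G) :=
  (le_inf hX hY).trans inf_normalizer_le_normalizer_inf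

theorem le_normalizer_commutator {A X : Subgroup G} (hX : A ≤ normalizer (X : Set G)) :
    A ≤ normalizer ((⁅X, X⁆ : Subgroup G) : Set G) := by
  rw [← CfsgLib.Signalizer.conj_invariant_iff]
  intro b hb x hx
  have : ⁅X, X⁆ ≤ (⁅X, X⁆ : Subgroup G).comap (MulAut.conj b).toMonoidHom := by
    refine Subgroup.commutator_le.2 fun u hu v hv => ?_
    show b * ⁅u, v⁆ * b⁻¹ ∈ ⁅X, X⁆
    rw [show b * ⁅u, v⁆ * b⁻¹ = ⁅b * u * b⁻¹, b * v * b⁻¹⁆ by simp only [commutatorElement_def]; group]
    exact commutator_mem_commutator (conj_mem_of_mem_normalizer (hX hb) hu) (conj_mem_of_mem_normalizer (hX hb) hv)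
  exact this hx

theorem le_normalizer_sup' {A X Y : Subgroup G} (hX : A ≤ normalizer (X : Set G))
    (hY : A ≤ normalizer (Y : Set G)) : A ≤ normalizer ((X ⊔ Y : Subgroup G) : Set G) := by
  rw [← CfsgLib.Signalizer.conj_invariant_iff]
  intro b hb x hx
  have : X ⊔ Y ≤ (X ⊔ Y).comap (MulAut.conj b).toMonoidHom :=
    sup_le (fun u hu => mem_sup_left (conj_mem_of_mem_normalizer (hX hb) hu))
      fun u hu => mem_sup_right (conj_mem_of_mem_normalizer (hY hb) hu)
  exact this hx

/-- A subgroup between a group and its derived group is normalized by the group. -/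
theorem le_normalizer_of_commutator_le {R X : Subgroup G} (h1 : ⁅R, R⁆ ≤ X) (h2 : X ≤ R) :
    R ≤ normalizer (X : Set G) := by
  rw [← CfsgLib.Signalizer.conj_invariant_iff]
  intro b hb x hx
  rw [show b * x * b⁻¹ = ⁅b, x⁆ * x by simp only [commutatorElement_def]; group]
  exact mul_mem (h1 (commutator_mem_commutator hb (h2 hx))) hx

/-- The elements whose commutator with `c` lies in a normalized subgroup `V`. -/
theorem commutator_mem_closure {V : Subgroup G} {c : G} {s : Set G}
    (hs : s ⊆ normalizer (V : Set G)) (h : ∀ x ∈ s, ⁅x, c⁆ ∈ V) {x : G} (hx : x ∈ closure s) :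
    ⁅x, c⁆ ∈ V := by
  have hN : ∀ y ∈ closure s, y ∈ normalizer (V : Set G) := fun y hy => (closure_le _).2 hs hy
  induction hx using closure_induction with
  | mem y hy => exact h y hy
  | one => simp
  | mul y z hy hz ihy ihz =>
    rw [show ⁅y * z, c⁆ = y * ⁅z, c⁆ * y⁻¹ * ⁅y, c⁆ by simp only [commutatorElement_def]; group]
    exact mul_mem (conj_mem_of_mem_normalizer (hN y hy) ihz) ihy
  | inv y hy ihy =>
    rw [show ⁅y⁻¹, c⁆ = y⁻¹ * ⁅y, c⁆⁻¹ * y⁻¹⁻¹ by simp only [commutatorElement_def]; group]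
    exact conj_mem_of_mem_normalizer (inv_mem (hN y hy)) (inv_mem ihy)

theorem commutator_mem_swap {V : Subgroup G} {a b : G} (h : ⁅a, b⁆ ∈ V) : ⁅b, a⁆ ∈ V := by
  rw [← commutatorElement_inv]; exact inv_mem h

theorem signalizerDelta_anti {B C : Subgroup G} (h : B ≤ C) :
    signalizerDelta p C ≤ signalizerDelta p B :=
  le_iInf fun a => iInf_le_of_le ⟨a.1, h a.2.1, a.2.2⟩ le_rfl

/-- A subgroup centralizing `B` normalizes `Δ(B)`. -/
theorem le_normalizer_delta {A B : Subgroup G} (h : A ≤ centralizer (B : Set G)) :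
    A ≤ normalizer (signalizerDelta p B : Set G) := by
  rw [← CfsgLib.Signalizer.conj_invariant_iff]
  intro b hb x hx
  simp only [signalizerDelta, mem_iInf] at hx ⊢
  rintro ⟨a, ha, ha1⟩
  have hbC : b ∈ centralizer ({a} : Set G) :=
    mem_centralizer_singleton_iff.2 (mem_centralizer_iff.1 (h hb) a ha).symm
  exact conj_mem_of_mem_normalizer (CfsgLib.Base.le_normalizer_map_pPrimeCore _ hbC) (hx ⟨a, ha, ha1⟩)

/-- The good part of a subgroup. -/
noncomputable def goodPart (p k : ℕ) (A R : Subgroup G) : Subgroup G :=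
  (⨆ D : {D : Subgroup G // D ≤ A ∧ p ^ k ≤ Nat.card ↥D}, R ⊓ signalizerDelta p (D : Subgroup G)) ⊔ ⁅R, R⁆

theorem inter_le_goodPart {A R D : Subgroup G} (hD : D ≤ A) (hDk : p ^ k ≤ Nat.card D) :
    R ⊓ signalizerDelta p D ≤ goodPart p k A R :=
  le_sup_of_le_left (le_iSup (fun D : {D : Subgroup G // D ≤ A ∧ p ^ k ≤ Nat.card ↥D} =>
    R ⊓ signalizerDelta p (D : Subgroup G)) ⟨D, hD, hDk⟩)

theorem goodPart_le (A R : Subgroup G) : goodPart p k A R ≤ R :=
  sup_le (iSup_le fun _ => inf_le_left) (commutator_le_self R)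

/-- Fixed points of hyperplanes in a solvable group generated by good pieces are good. -/
theorem fixed_le_delta {A M : Subgroup G} (hA : IsElementaryAbelian p A) (hAk : p ^ (k + 2) ≤ Nat.card A)
    (hbal : ∀ D : Subgroup G, D ≤ A → p ^ k ≤ Nat.card D → ∀ b ∈ A, b ≠ 1 →
      signalizerDelta p D ⊓ centralizer {b} ≤ centralizerPPrimeCore p b)
    (hAM : A ≤ normalizer (M : Set G)) (hM : ¬ p ∣ Nat.card M) (hsolv : Group.IsSolvable M)
    (hgen : M ≤ ⨆ H : {H : Subgroup G // H ≤ A ∧ H.relIndex A = p},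
      M ⊓ signalizerDelta p (H : Subgroup G) ⊓ centralizer ((H : Subgroup G) : Set G))
    {H : Subgroup G} (hH : H ≤ A) (hHi : H.relIndex A = p) :
    M ⊓ centralizer (H : Set G) ≤ signalizerDelta p H := by
  have hp0 : 0 < p := (Fact.out : p.Prime).pos
  let W : Subgroup G → Subgroup G := fun H => M ⊓ signalizerDelta p H ⊓ centralizer (H : Set G)
  have hcard : ∀ K : Subgroup G, K ≤ A → K.relIndex A = p → p ^ (k + 1) ≤ Nat.card K := by
    intro K hK hKi
    rw [← CfsgLib.Signalizer.card_mul_relIndex hK, hKi, show k + 2 = k + 1 + 1 by ring, pow_succ] at hAk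
    exact Nat.le_of_mul_le_mul_right hAk hp0
  have hcard2 : ∀ K L : Subgroup G, K ≤ A → K.relIndex A = p → L ≤ A → L.relIndex A = p →
      p ^ k ≤ Nat.card ↥(K ⊓ L) := by
    intro K L hK hKi hL hLi
    have h1 : Nat.card ↥(K ⊓ L) * (K ⊓ L).relIndex A = Nat.card A :=
      CfsgLib.Signalizer.card_mul_relIndex (inf_le_left.trans hK)
    have h2 : (K ⊓ L).relIndex A ≤ p * p := by
      have := relIndex_inf_le (H := K) (K := L) (L := A)
      rwa [hKi, hLi] at this
    have h3 : p ^ k * (p * p) ≤ Nat.card ↥(K ⊓ L) * (p * p) := by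
      calc p ^ k * (p * p) = p ^ (k + 2) := by ring
        _ ≤ Nat.card A := hAk
        _ = _ := h1.symm
        _ ≤ _ := Nat.mul_le_mul_left _ h2
    exact Nat.le_of_mul_le_mul_right h3 (Nat.mul_pos hp0 hp0)
  have hdeltaA : ∀ D : Subgroup G, D ≤ A → A ≤ normalizer (signalizerDelta p D : Set G) := fun D hD =>
    le_normalizer_delta fun a ha => mem_centralizer_iff.2 fun d hd =>
      CfsgLib.Signalizer.elemAb_comm hA (hD hd) ha
  -- balance inside `M`
  have hbalW : ∀ (D K : Subgroup G), D ≤ A → p ^ k ≤ Nat.card D → K ≤ A →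
      M ⊓ signalizerDelta p D ⊓ centralizer (K : Set G) ≤ W K := by
    intro D K hD hDk hK
    refine le_inf (le_inf (inf_le_left.trans inf_le_left) (le_iInf ?_)) inf_le_right
    rintro ⟨b, hb, hb1⟩
    exact le_trans (inf_le_inf inf_le_right (centralizer_le (Set.singleton_subset_iff.2 hb)))
      (hbal D hD hDk b (hK hb) hb1)
  -- commutators of a layer with `M` are good
  have hcommM : ∀ R : Subgroup G, R ≤ M → A ≤ normalizer (R : Set G) → M ≤ normalizer (R : Set G) →
      M ≤ normalizer (goodPart p k A R : Set G) ∧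
      ∀ r ∈ R, ∀ m ∈ M, ⁅r, m⁆ ∈ goodPart p k A R := by
    intro R hRM hAR hMR
    set V := goodPart p k A R with hV
    have hRV : R ≤ normalizer (V : Set G) :=
      le_normalizer_of_commutator_le le_sup_right (goodPart_le A R)
    have hz : ∀ K : {K : Subgroup G // K ≤ A ∧ K.relIndex A = p}, ∀ z ∈ W K, ∀ r ∈ R, ⁅r, z⁆ ∈ V := by
      rintro ⟨K, hK, hKi⟩ z hz r hr
      have hzM : z ∈ M := hz.1.1
      have hgenR : R ≤ closure {x | x ∈ R ∧ ∃ L : Subgroup G, L ≤ A ∧ L.relIndex A = p ∧ x ∈ centralizer (L : Set G)} :=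
        CfsgLib.Signalizer.le_of_hyperplanes hA (CfsgLib.Signalizer.ne_bot_of_pow_le (by omega) hAk) hAR
          (fun h => hM (h.trans (card_dvd_of_le hRM)))
          fun L hL hLi x hx => subset_closure ⟨hx.1, L, hL, hLi, hx.2⟩
      refine commutator_mem_closure (fun x hx => hRV hx.1) ?_ (hgenR hr)
      rintro c ⟨hc, L, hL, hLi, hcL⟩
      have hD := hcard2 K L hK hKi hL hLi
      refine inter_le_goodPart (D := K ⊓ L) (inf_le_left.trans hK) hD ⟨?_, ?_⟩
      · rw [show ⁅c, z⁆ = c * (z * c⁻¹ * z⁻¹) by simp only [commutatorElement_def]; group]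
        exact mul_mem hc (conj_mem_of_mem_normalizer (hMR hzM) (inv_mem hc))
      · have hzD : z ∈ signalizerDelta p (K ⊓ L) := signalizerDelta_anti inf_le_left hz.1.2
        have hcD : c ∈ normalizer (signalizerDelta p (K ⊓ L) : Set G) :=
          le_normalizer_delta (A := centralizer (L : Set G)) (centralizer_le (inf_le_right : K ⊓ L ≤ L)) hcL
        show ⁅c, z⁆ ∈ signalizerDelta p (K ⊓ L)
        rw [show ⁅c, z⁆ = (c * z * c⁻¹) * z⁻¹ by simp only [commutatorElement_def]]
        exact mul_mem (conj_mem_of_mem_normalizer hcD hzD) (inv_mem hzD)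
    have hMV : M ≤ normalizer (V : Set G) := by
      refine hgen.trans (iSup_le fun K => ?_)
      rw [← CfsgLib.Signalizer.conj_invariant_iff]
      intro z hzW v hv
      rw [show z * v * z⁻¹ = ⁅v, z⁆⁻¹ * v by simp only [commutatorElement_def]; group]
      exact mul_mem (inv_mem (hz K z hzW v (goodPart_le A R hv))) hv
    refine ⟨hMV, fun r hr m hm => commutator_mem_swap ?_⟩
    have hm' : m ∈ closure (⋃ K : {K : Subgroup G // K ≤ A ∧ K.relIndex A = p}, (W K : Set G)) := by
      rw [Subgroup.closure_iUnion]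
      simpa using hgen hm
    refine commutator_mem_closure (fun x hx => ?_) (fun x hx => ?_) hm'
    · obtain ⟨K, hK⟩ := Set.mem_iUnion.1 hx
      exact hMV hK.1.1
    · obtain ⟨K, hK⟩ := Set.mem_iUnion.1 hx
      exact commutator_mem_swap (hz K x hK r hr)
  -- descend the derived series
  suffices key : ∀ R : Subgroup G, R ≤ M → A ≤ normalizer (R : Set G) → M ≤ normalizer (R : Set G) →
      R ≤ goodPart p k A R →
      (∀ K : Subgroup G, K ≤ A → K.relIndex A = p → M ⊓ centralizer (K : Set G) ≤ W K ⊔ R) →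
      M ⊓ centralizer (H : Set G) ≤ W H by
    refine (key M le_rfl hAM le_normalizer ?_ fun K _ _ => inf_le_left.trans le_sup_right).trans
      (inf_le_left.trans inf_le_right)
    refine hgen.trans (iSup_le fun K => ?_)
    exact inf_le_left.trans (inter_le_goodPart K.2.1
      ((Nat.pow_le_pow_right hp0 (by omega)).trans (hcard K K.2.1 K.2.2)))
  intro R
  induction R using WellFoundedLT.induction with
  | _ R ih =>
  intro hRM hAR hMR hRgood hP
  rcases eq_or_ne R ⊥ with rfl | hR
  · simpa using hP H hH hHi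
  set R' : Subgroup G := ⁅R, R⁆ with hR'
  have hR'R : R' ≤ R := commutator_le_self R
  have hlt : R' < R := by
    haveI : Group.IsSolvable ↥R :=
      haveI := hsolv; Group.isSolvable_of_isSolvable_injective (inclusion_injective hRM)
    haveI : Nontrivial ↥R := (nontrivial_iff_ne_bot R).2 hR
    have hne := (Group.IsSolvable.commutator_lt_top_of_nontrivial ↥R).ne
    refine lt_of_le_of_ne hR'R fun he => hne (map_injective R.subtype_injective ?_)
    rw [map_subtype_commutator, ← MonoidHom.range_eq_map, range_subtype]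
    exact he
  have hAR' : A ≤ normalizer (R' : Set G) := le_normalizer_commutator hAR
  have hMR' : M ≤ normalizer (R' : Set G) := le_normalizer_commutator hMR
  -- the step
  have hP' : ∀ K : Subgroup G, K ≤ A → K.relIndex A = p → M ⊓ centralizer (K : Set G) ≤ W K ⊔ R' := by
    intro K hK hKi x hx
    have hsub : R ⊓ centralizer (K : Set G) ≤ W K ⊔ R' := by
      classical
      haveI : Fintype {D : Subgroup G // D ≤ A ∧ p ^ k ≤ Nat.card ↥D} := Fintype.ofFinite _
      let f : {D : Subgroup G // D ≤ A ∧ p ^ k ≤ Nat.card ↥D} → Subgroup G := fun D =>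
        R ⊓ signalizerDelta p (D : Subgroup G)
      have hs : ∀ s : Finset {D : Subgroup G // D ≤ A ∧ p ^ k ≤ Nat.card ↥D},
          (R' ⊔ s.sup f) ⊓ centralizer (K : Set G) ≤ W K ⊔ R' ∧ A ≤ normalizer ((R' ⊔ s.sup f : Subgroup G) : Set G) := by
        intro s
        induction s using Finset.induction_on with
        | empty => exact ⟨by simpa using inf_le_left.trans le_sup_right, by simpa using hAR'⟩
        | @insert D s _ ihs =>
          have hAD : A ≤ normalizer (f D : Set G) := le_normalizer_inf' hAR (hdeltaA _ D.2.1)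
          have he : R' ⊔ (insert D s).sup f = (R' ⊔ s.sup f) ⊔ f D := by
            rw [Finset.sup_insert, sup_comm (f D), sup_assoc]
          rw [he]
          refine ⟨?_, le_normalizer_sup' ihs.2 hAD⟩
          haveI : IsMulCommutative K := (CfsgLib.Signalizer.elemAb_of_le hA hK).1
          rw [CfsgLib.Signalizer.inf_centralizer_sup_eq (hK.trans ihs.2) (hK.trans hAD)
            (inf_le_left.trans (le_normalizer_of_commutator_le le_sup_left
              (sup_le hR'R (Finset.sup_le fun _ _ => inf_le_left))))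
            (CfsgLib.Signalizer.coprime_of_not_dvd (CfsgLib.Signalizer.elemAb_of_le hA hK)
              fun h => hM (h.trans (card_dvd_of_le (inf_le_left.trans hRM))))
            (Or.inl (Group.isSolvable_of_comm fun a b => mul_comm' a b))]
          exact sup_le ihs.1 ((inf_le_inf_right _ (inf_le_inf_right _ hRM)).trans
            ((hbalW _ K D.2.1 D.2.2 hK).trans le_sup_left))
      refine le_trans (inf_le_inf_right _ ?_) (hs Finset.univ).1
      refine hRgood.trans (sup_le (iSup_le fun D => le_sup_of_le_right (Finset.le_sup (f := f) (Finset.mem_univ D))) le_sup_left)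
    have hx' := hP K hK hKi hx
    have hWR : W K ≤ normalizer (R : Set G) := (inf_le_left.trans inf_le_left).trans hMR
    rw [← SetLike.mem_coe, coe_mul_of_left_le_normalizer_right (W K) R hWR] at hx'
    obtain ⟨w, hw, r, hr, rfl⟩ := Set.mem_mul.1 hx'
    refine mul_mem (mem_sup_left hw) (hsub ⟨hr, ?_⟩)
    have hw2 : w ∈ centralizer (K : Set G) := hw.2
    have hx2 : w * r ∈ centralizer (K : Set G) := hx.2
    have := mul_mem (inv_mem hw2) hx2
    rwa [inv_mul_cancel_left] at this
  refine ih R' hlt (hR'R.trans hRM) hAR' hMR' ?_ hP'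
  -- the next layer is good
  obtain ⟨hMV, hcomm⟩ := hcommM R' (hR'R.trans hRM) hAR' hMR'
  set V := goodPart p k A R' with hV
  have hgenR : R ≤ closure {x | x ∈ R ∧ ∃ L : Subgroup G, L ≤ A ∧ L.relIndex A = p ∧ x ∈ centralizer (L : Set G)} :=
    CfsgLib.Signalizer.le_of_hyperplanes hA (CfsgLib.Signalizer.ne_bot_of_pow_le (by omega) hAk) hAR
      (fun h => hM (h.trans (card_dvd_of_le hRM)))
      fun L hL hLi x hx => subset_closure ⟨hx.1, L, hL, hLi, hx.2⟩
  refine (commutator_le (H₁ := R) (H₂ := R)).2 fun u hu v hv => ?_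
  refine commutator_mem_closure (fun x hx => hMV (hRM hx.1)) ?_ (hgenR hu)
  rintro c₁ ⟨hc₁, L₁, hL₁, hL₁i, hc₁L⟩
  refine commutator_mem_swap (commutator_mem_closure (fun x hx => hMV (hRM hx.1)) ?_ (hgenR hv))
  rintro c₂ ⟨hc₂, L₂, hL₂, hL₂i, hc₂L⟩
  refine commutator_mem_swap ?_
  have hdec : ∀ (c : G) (L : Subgroup G), c ∈ R → L ≤ A → L.relIndex A = p → c ∈ centralizer (L : Set G) →
      ∃ g ∈ W L, g ∈ R ∧ ∃ r ∈ R', c = g * r := by
    intro c L hc hL hLi hcL
    have hcx := hP' L hL hLi ⟨hRM hc, hcL⟩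
    have hWR : W L ≤ normalizer (R' : Set G) := (inf_le_left.trans inf_le_left).trans hMR'
    rw [← SetLike.mem_coe, coe_mul_of_left_le_normalizer_right (W L) R' hWR] at hcx
    obtain ⟨g, hg, r, hr, rfl⟩ := Set.mem_mul.1 hcx
    refine ⟨g, hg, ?_, r, hr, rfl⟩
    have := mul_mem hc (inv_mem (hR'R hr))
    rwa [mul_inv_cancel_right] at this
  obtain ⟨g₁, hg₁, hg₁R, r₁, hr₁, rfl⟩ := hdec c₁ L₁ hc₁ hL₁ hL₁i hc₁L
  obtain ⟨g₂, hg₂, hg₂R, r₂, hr₂, rfl⟩ := hdec c₂ L₂ hc₂ hL₂ hL₂i hc₂L
  have hg : ⁅g₁, g₂⁆ ∈ V := by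
    refine inter_le_goodPart (D := L₁ ⊓ L₂) (inf_le_left.trans hL₁) (hcard2 L₁ L₂ hL₁ hL₁i hL₂ hL₂i) ⟨?_, ?_⟩
    · exact commutator_mem_commutator hg₁R hg₂R
    · have a1 : g₁ ∈ signalizerDelta p (L₁ ⊓ L₂) := signalizerDelta_anti inf_le_left hg₁.1.2
      have a2 : g₂ ∈ signalizerDelta p (L₁ ⊓ L₂) := signalizerDelta_anti inf_le_right hg₂.1.2
      show ⁅g₁, g₂⁆ ∈ signalizerDelta p (L₁ ⊓ L₂)
      rw [commutatorElement_def]
      exact mul_mem (mul_mem (mul_mem a1 a2) (inv_mem a1)) (inv_mem a2)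
  have n1 : ∀ x ∈ R, x ∈ normalizer (V : Set G) := fun x hx => hMV (hRM hx)
  rw [show ⁅g₁ * r₁, g₂ * r₂⁆ = g₁ * ⁅r₁, g₂ * r₂⁆ * g₁⁻¹ * (⁅g₁, g₂⁆ * (g₂ * ⁅g₁, r₂⁆ * g₂⁻¹)) by
    simp only [commutatorElement_def]; group]
  exact mul_mem (conj_mem_of_mem_normalizer (n1 g₁ hg₁R) (hcomm r₁ hr₁ _ (hRM hc₂)))
    (mul_mem hg (conj_mem_of_mem_normalizer (n1 g₂ hg₂R) (commutator_mem_swap (hcomm r₂ hr₂ g₁ (hRM hg₁R)))))

end CfsgLib.Involutions.KBalanceFunctor
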