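import Cfsg.Agent.Lib.Involutions.QuasiDihedralSub
import Cfsg.Agent.Lib.Involutions.KleinSylow
import Cfsg.Prelude.Def_CaseTheorems
import Cfsg.Prelude.Def_Transfer

/-!
# Self-centralizing four-groups in dihedral and quasi-dihedral quotients
-/

set_option autoImplicit false
set_option linter.style.haveILetI false

namespace CfsgLib.Involutions

open Subgroup

theorem mem_klein_of_dihedral {m : ℕ} [NeZero m] {K : Subgroup (DihedralGroup m)}
    (hK : IsKleinFour K) {g : DihedralGroup m} (hg : ∀ k ∈ K, g * k = k * g) : g ∈ K := by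
  have hK4 : Nat.card K = 4 := hK.card_four
  -- `K` contains a reflection
  obtain ⟨i, hi⟩ : ∃ i, DihedralGroup.sr i ∈ K := by
    by_contra h
    push Not at h
    have hle : ∀ k ∈ K, k ∈ zpowers (DihedralGroup.r (1 : ZMod m)) := fun k hk => by
      rcases k with j | j
      · refine ⟨j.val, ?_⟩
        show DihedralGroup.r (1 : ZMod m) ^ (j.val : ℤ) = .r j
        rw [zpow_natCast, DihedralGroup.r_one_pow, ZMod.natCast_zmod_val]
      · exact absurd hk (h j)
    haveI : IsCyclic K := isCyclic_of_le hle
    exact IsKleinFour.not_isCyclic (G := K) inferInstance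
  -- its centralizer has at most four elements
  set C := centralizer ({DihedralGroup.sr i} : Set (DihedralGroup m))
  have hKC : K ≤ C := fun k hk => mem_centralizer_singleton_iff.2 (klein_comm hK hk hi)
  set T : Finset (ZMod m) := Finset.univ.filter (fun j => j + j = 0) with hT
  have hsub : ∀ h ∈ C, ∃ j ∈ T, h = .r j ∨ h = .sr (i + j) := by
    rintro (j | j) hj <;> rw [mem_centralizer_singleton_iff] at hj <;> simp at hj
    · refine ⟨j, ?_, Or.inl rfl⟩
      simp only [hT, Finset.mem_filter, Finset.mem_univ, true_and]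
      linear_combination -hj
    · refine ⟨j - i, ?_, Or.inr (by rw [add_sub_cancel])⟩
      simp only [hT, Finset.mem_filter, Finset.mem_univ, true_and]
      linear_combination -hj
  have hTcard : T.card ≤ 2 := by
    refine (Finset.card_le_card (t := ({0, ((m / 2 : ℕ) : ZMod m)} : Finset (ZMod m))) ?_).trans
      Finset.card_le_two
    intro j hj
    simp only [hT, Finset.mem_filter, Finset.mem_univ, true_and] at hj
    rcases (ZMod.neg_eq_self_iff j).1 (neg_eq_of_add_eq_zero_left hj) with h | h
    · simp [h]
    · simp only [Finset.mem_insert, Finset.mem_singleton]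
      refine Or.inr ?_
      rw [← ZMod.natCast_zmod_val j]
      congr 1
      omega
  have hC : Nat.card C ≤ 4 := by
    classical
    have : (C : Set (DihedralGroup m)) ⊆
        ↑(T.image DihedralGroup.r ∪ T.image (fun j => DihedralGroup.sr (i + j))) := by
      intro h hh
      obtain ⟨j, hj, rfl | rfl⟩ := hsub h hh <;> simp [hj]
    refine (Nat.card_mono (Finset.finite_toSet _) this).trans ?_
    rw [Nat.card_coe_set_eq, Set.ncard_coe_finset]
    refine (Finset.card_union_le _ _).trans ?_
    have := Finset.card_image_le (s := T) (f := DihedralGroup.r)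
    have := Finset.card_image_le (s := T) (f := fun j => DihedralGroup.sr (i + j))
    omega
  have e : K = C := eq_of_le_of_card_ge hKC (hK4.symm ▸ hC)
  exact e ▸ mem_centralizer_singleton_iff.2 (hg _ hi)

theorem mem_klein_of_qd {S : Type*} [Group S] [Finite S] (hS : Cfsg.IsQuasiDihedral S)
    {K : Subgroup S} (hK : IsKleinFour K) {g : S} (hg : ∀ k ∈ K, g * k = k * g) : g ∈ K := by
  obtain ⟨d⟩ := nonempty_qd hS
  obtain ⟨i, -, hi, hC⟩ := d.exists_klein_eq hK
  rw [hC]
  exact mem_centralizer_singleton_iff.2 (hg _ hi)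

/-- An elementary abelian subgroup of order 8 over a central involution is self-centralizing. -/
theorem centralizer_eq_of_quotient {R : Type*} [Group R] [Finite R] (t : R) (ht : orderOf t = 2)
    [(zpowers t).Normal]
    (hq : (∃ m : ℕ, 2 ≤ m ∧ Nonempty (R ⧸ zpowers t ≃* DihedralGroup m)) ∨
      Cfsg.IsQuasiDihedral (R ⧸ zpowers t))
    (A : Subgroup R) (hA : Cfsg.IsElementaryAbelian 2 A) (hA8 : Nat.card A = 8) (htA : t ∈ A) :
    centralizer (A : Set R) = A := by
  obtain ⟨hcomm, hexp⟩ := hA
  refine le_antisymm (fun g hg => ?_) (fun a ha => mem_centralizer_iff.2 fun b hb =>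
    congrArg Subtype.val (hcomm.is_comm.comm ⟨b, hb⟩ ⟨a, ha⟩))
  set π := QuotientGroup.mk' (zpowers t)
  have hle : zpowers t ≤ A := zpowers_le.2 htA
  set K := A.map π
  have hK : IsKleinFour K := by
    have h4 : Nat.card K = 4 := by
      have h1 := (zpowers t).subgroupOf A |>.card_mul_index
      have h2 : ((zpowers t).subgroupOf A).index = Nat.card K := by
        rw [show (zpowers t).subgroupOf A = (π.comp A.subtype).ker by
          ext; simp [π, mem_subgroupOf], index_ker, MonoidHom.range_comp, range_subtype]
      rw [Nat.card_congr (subgroupOfEquivOfLe hle).toEquiv, Nat.card_zpowers, ht, hA8, h2] at h1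
      omega
    refine ⟨h4, ?_⟩
    have hdvd : Monoid.exponent K ∣ 2 := Monoid.exponent_dvd_of_forall_pow_eq_one fun k => by
      obtain ⟨a, ha, hk⟩ := k.2
      refine Subtype.ext ?_
      rw [Subgroup.coe_pow, ← hk, ← map_pow, hexp a ha, map_one]
      rfl
    rcases (Nat.dvd_prime Nat.prime_two).1 hdvd with h | h
    · haveI := Monoid.exp_eq_one_iff.1 h
      rw [Nat.card_of_subsingleton (1 : K)] at h4
      omega
    · exact h
  have hg' : ∀ k ∈ K, π g * k = k * π g := by
    rintro _ ⟨a, ha, rfl⟩
    rw [← map_mul, ← map_mul, mem_centralizer_iff.1 hg a ha]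
  have hgK : π g ∈ K := by
    rcases hq with ⟨m, hm, ⟨e⟩⟩ | h
    · haveI : NeZero m := ⟨by omega⟩
      have hK' : IsKleinFour (K.map e.toMonoidHom) := ⟨by
          rw [card_map_of_injective e.injective]; exact hK.card_four, by
          rw [← hK.exponent_two]
          exact (Monoid.exponent_eq_of_mulEquiv (K.equivMapOfInjective _ e.injective)).symm⟩
      obtain ⟨k, hk, hke⟩ := mem_klein_of_dihedral hK' (g := e (π g))
        (by rintro _ ⟨k, hk, rfl⟩; show e (π g) * e k = e k * e (π g)
            rw [← map_mul, ← map_mul, hg' k hk])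
      rwa [e.injective hke] at hk
    · exact mem_klein_of_qd h hK hg'
  obtain ⟨a, ha, hag⟩ := hgK
  have := hle ((QuotientGroup.eq).1 hag)
  exact (mul_mem_cancel_left (A.inv_mem ha)).1 this

end CfsgLib.Involutions
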