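import Cfsg.Agent.Lib.KnownA.MathieuOut.Main
import Cfsg.Agent.Lib.Involutions.FusionSimpleTwo
import Cfsg.Agent.Lib.PGroups.Basic
import Cfsg.Agent.Lib.Coprime.Action2

/-!
A certificate that the `2`-fusion system of a stabiliser in `Cfsg.M24` is simple.
The Sylow subgroup is given by the list `F` of elements of a normal subgroup and a list `R` of coset
representatives together with their inverses, all as packed permutations.
-/

set_option autoImplicit false
set_option linter.unusedSectionVars false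

namespace CfsgLib.Involutions.MathieuSylow

open Cfsg CfsgLib.Spor CfsgLib.MathieuOut

theorem compP_canon (σ τ : Equiv.Perm GolayPt) : compP (canon σ) (canon τ) = canon (σ * τ) := by
  rw [compP, canon_def (σ * τ)]
  refine congrArg packL (List.map_congr_left fun i hi => ?_)
  rw [rep_canon τ i (List.mem_range.1 hi), (rep_canon σ).get]
  rfl

theorem canon_one : canon (1 : Equiv.Perm GolayPt) = idP := by
  rw [canon_eq_normP rep_idP]; decide +kernel

/-- membership in the listed subgroup -/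
def memF (F : List ℕ) (c : ℕ) : Bool := F.any fun f => Nat.beq c f

theorem memF_iff {F : List ℕ} {c : ℕ} : memF F c = true ↔ c ∈ F := by
  simp [memF]

/-- membership in the Sylow subgroup -/
def inS (F : List ℕ) (R : List (ℕ × ℕ)) (c : ℕ) : Bool := R.any fun p => memF F (compP p.2 c)

/-- a canonical code of an element of the stabiliser -/
def elemB (masks prev : List ℕ) (a : ℕ) : Bool := inStabP masks prev a && Nat.beq (normP a) a

/-- group axioms -/
def grpOK (masks prev F : List ℕ) (R : List (ℕ × ℕ)) : Bool :=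
  (F.all fun f => elemB masks prev f)
    && (R.all fun p => elemB masks prev p.1 && elemB masks prev p.2 && Nat.beq (compP p.2 p.1) idP)
    && memF F idP && (R.any fun p => Nat.beq p.1 idP)
    && (F.all fun a => F.all fun b => memF F (compP a b))
    && (R.all fun p => F.all fun f => memF F (compP p.2 (compP f p.1)))
    && (R.all fun p => R.all fun q => inS F R (compP p.1 q.1))
    && decide F.Nodup && decide (R.map Prod.fst).Nodup
    && (R.all fun p => R.all fun q => Nat.beq p.1 q.1 || !memF F (compP p.2 q.1))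

/-- the centre of the Sylow subgroup has order two -/
def cenOK (F : List ℕ) (R : List (ℕ × ℕ)) (z : ℕ) : Bool :=
  R.all fun p => F.all fun f =>
    !((R.all fun q => Nat.beq (compP (compP p.1 f) q.1) (compP q.1 (compP p.1 f)))
        && F.all fun g => Nat.beq (compP (compP p.1 f) g) (compP g (compP p.1 f)))
      || Nat.beq (compP p.1 f) idP || Nat.beq (compP p.1 f) z

/-- each new entry is a conjugate, lying in the Sylow subgroup, of a product of two earlier ones -/
def deriveOK (masks prev F : List ℕ) (R : List (ℕ × ℕ)) :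
    List (ℕ × ℕ × ℕ × ℕ × ℕ) → List ℕ → Bool
  | [], acc => (R.all fun p => memF acc p.1) && F.all fun f => memF acc f
  | (a, g, gi, i, j) :: r, acc =>
    elemB masks prev g && elemB masks prev gi && Nat.beq (compP gi g) idP && inS F R a
      && Nat.beq a (compP (compP g (compP (acc.getD i idP) (acc.getD j idP))) gi)
      && deriveOK masks prev F R r (a :: acc)

/-- product of squares -/
def prodSq : List ℕ → ℕ
  | [] => idP
  | s :: l => compP (compP s s) (prodSq l)

/-- the listed subgroup is generated by the squares -/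
def sqOK (masks prev F : List ℕ) (R : List (ℕ × ℕ)) (W : List (ℕ × List ℕ)) : Bool :=
  (R.all fun p => F.all fun f => memF F (compP (compP p.1 f) (compP p.1 f)))
    && F.all fun f => W.any fun e => Nat.beq e.1 f &&
      (e.2.all fun s => elemB masks prev s && inS F R s) && Nat.beq f (prodSq e.2)

/-- number of fixed points -/
def fixN (x : ℕ) : ℕ := ((List.range 24).map fun i => if Nat.beq (getP x i) i then 1 else 0).sum

/-- weight of an element -/
def wt (useC : Bool) (F : List ℕ) (x : ℕ) : ℕ :=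
  if useC then (fixN x ^ 3 + 1000000 * fixN (compP x x) ^ 2) * 1000
    + (F.map fun f => if Nat.beq (compP x f) (compP f x) then 1 else 0).sum ^ 2
  else fixN x ^ 3 + 1000000 * fixN (compP x x) ^ 2

/-- weight of a coset -/
def cosetWt (useC : Bool) (F : List ℕ) (r : ℕ) : ℕ := (F.map fun f => wt useC F (compP r f)).sum

/-- product of the listed good representatives -/
def prodW (good : List ((ℕ × ℕ) × (ℕ × ℕ))) : List ℕ → ℕ
  | [] => idP
  | i :: l => compP (good.getD i ((idP, idP), (idP, idP))).1.1 (prodW good l)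

/-- rigidity of the quotient by the listed subgroup -/
def rigidOK (useC : Bool) (F : List ℕ) (R : List (ℕ × ℕ)) (good : List ((ℕ × ℕ) × (ℕ × ℕ)))
    (gw : List (List ℕ)) : Bool :=
  (good.all fun e => (R.any fun p => Nat.beq p.1 e.1.1 && Nat.beq p.2 e.1.2)
      && (R.any fun p => Nat.beq p.1 e.2.1 && Nat.beq p.2 e.2.2)
      && R.all fun p => !Nat.beq (cosetWt useC F p.1) (cosetWt useC F e.1.1)
        || memF F (compP e.1.2 p.1) || memF F (compP e.2.2 p.1))
    && R.all fun p => gw.any fun w =>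
      (w.all fun i => Nat.blt i good.length) && memF F (compP p.2 (prodW good w))

section
variable {masks prev : List ℕ}

/-- the code of an element -/
noncomputable def code (σ : stabG masks prev) : ℕ := canon σ.1

theorem code_mul (σ τ : stabG masks prev) : code (σ * τ) = compP (code σ) (code τ) :=
  (compP_canon σ.1 τ.1).symm

theorem code_one : code (1 : stabG masks prev) = idP := canon_one

theorem code_injective : Function.Injective (code (masks := masks) (prev := prev)) :=
  canon_injective.comp Subtype.val_injective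

theorem exists_code (hprev : ∀ b ∈ prev, b < 24) {a : ℕ} (h : elemB masks prev a = true) :
    ∃ σ : stabG masks prev, code σ = a := by
  simp only [elemB, Bool.and_eq_true, Nat.beq_eq] at h
  obtain ⟨σ, hσ, hσa⟩ := repIn_of_inStabP hprev h.1
  exact ⟨⟨σ, hσ⟩, (canon_eq_normP hσa).trans h.2⟩

theorem fixN_code (σ : stabG masks prev) :
    fixN (code σ) = ∑ p : GolayPt, if (σ : Equiv.Perm GolayPt) p = p then 1 else 0 := by
  show ((List.range 24).map _).sum = _
  rw [show ((List.range 24).map fun i => if Nat.beq (getP (code σ) i) i then 1 else 0).sum =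
    ∑ i ∈ Finset.range 24, (if Nat.beq (getP (code σ) i) i then 1 else 0 : ℕ) from rfl]
  refine Finset.sum_nbij' pt idx (fun i _ => Finset.mem_univ _)
    (fun p _ => Finset.mem_range.2 (idx_lt p)) (fun i hi => idx_pt (Finset.mem_range.1 hi))
    (fun p _ => pt_idx p) fun i hi => ?_
  have h := Rep.fix_iff (rep_canon σ.1) (Finset.mem_range.1 hi)
  refine if_congr ?_ rfl rfl
  rw [Nat.beq_eq]
  exact h.symm

theorem fixN_conj (γ σ : stabG masks prev) : fixN (code (γ * σ * γ⁻¹)) = fixN (code σ) := by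
  rw [fixN_code, fixN_code]
  refine Fintype.sum_equiv (γ⁻¹ : stabG masks prev).1 _ _ fun p => ?_
  refine if_congr ?_ rfl rfl
  simp only [Subgroup.coe_mul, Subgroup.coe_inv, Equiv.Perm.mul_apply]
  exact ⟨fun h => by
    have := congrArg (γ.1⁻¹ : Equiv.Perm GolayPt) h
    simpa using this, fun h => by rw [h]; simp⟩

/-- a subgroup from a predicate closed under products -/
noncomputable def subgroupOfMul (P : stabG masks prev → Prop) (h1 : P 1)
    (hmul : ∀ σ τ, P σ → P τ → P (σ * τ)) : Subgroup (stabG masks prev) where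
  carrier := {σ | P σ}
  one_mem' := h1
  mul_mem' := hmul _ _
  inv_mem' := by
    intro σ hσ
    have hpow : ∀ n : ℕ, P (σ ^ n) := by
      intro n
      induction n with
      | zero => rw [pow_zero]; exact h1
      | succ n ih => rw [pow_succ]; exact hmul _ _ ih hσ
    show P σ⁻¹
    have h : σ⁻¹ = σ ^ (orderOf σ - 1) := by
      refine inv_eq_of_mul_eq_one_right ?_
      rw [← pow_succ', Nat.sub_add_cancel (orderOf_pos σ), pow_orderOf_eq_one]
    rw [h]
    exact hpow _

set_option maxHeartbeats 1000000 in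
/-- The certificate theorem. -/
theorem isSimple_of_cert {M : Subgroup (Equiv.Perm GolayPt)} (hM : stabG masks prev = M)
    (hprev : (prev.all fun b => Nat.blt b 24) = true) {F : List ℕ} {R : List (ℕ × ℕ)} {k N : ℕ}
    (hcardM : Nat.card M = N) (hk : N.factorization 2 = k) (hsize : R.length * F.length = 2 ^ k)
    (hk1 : 0 < k) (hgrp : grpOK masks prev F R = true)
    {z : ℕ} (hz : inS F R z = true) (hzel : elemB masks prev z = true) (hcen : cenOK F R z = true)
    (steps : List (ℕ × ℕ × ℕ × ℕ × ℕ)) (hder : deriveOK masks prev F R steps [z, idP] = true)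
    (W : List (ℕ × List ℕ)) (hsq : sqOK masks prev F R W = true)
    (useC : Bool) (good : List ((ℕ × ℕ) × (ℕ × ℕ))) (gw : List (List ℕ))
    (hrig : rigidOK useC F R good gw = true)
    (S : Sylow 2 M) : (groupFusionSystem (S : Subgroup M)).IsSimple 2 := by
  classical
  subst hM
  have hprev' : ∀ b ∈ prev, b < 24 :=
    fun b hb => by simpa [Nat.blt_eq] using List.all_eq_true.1 hprev b hb
  simp only [grpOK, Bool.and_eq_true, List.all_eq_true, List.any_eq_true, Bool.or_eq_true,
    decide_eq_true_eq, Nat.beq_eq, memF_iff, Bool.not_eq_true'] at hgrp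
  obtain ⟨⟨⟨⟨⟨⟨⟨⟨⟨hFel, hRel⟩, hF1⟩, hR1⟩, hFmul⟩, hFconj⟩, hRmul⟩, hFnd⟩, hRnd⟩, hRF⟩ := hgrp
  let Fs : Subgroup (stabG masks prev) := subgroupOfMul (fun σ => code σ ∈ F) (code_one ▸ hF1)
    fun σ τ hσ hτ => code_mul σ τ ▸ hFmul _ hσ _ hτ
  have hFs : ∀ σ, σ ∈ Fs ↔ code σ ∈ F := fun σ => Iff.rfl
  have hrep : ∀ p ∈ R, ∃ ρ : stabG masks prev, code ρ = p.1 ∧ code ρ⁻¹ = p.2 := by
    intro p hp
    obtain ⟨⟨h1, h2⟩, h3⟩ := hRel p hp
    obtain ⟨ρ, hρ⟩ := exists_code hprev' h1
    obtain ⟨τ, hτ⟩ := exists_code hprev' h2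
    refine ⟨ρ, hρ, ?_⟩
    have : τ * ρ = 1 := code_injective (by rw [code_mul, hτ, hρ, code_one, h3])
    rw [← eq_inv_of_mul_eq_one_left this, hτ]
  have hinS : ∀ σ, inS F R (code σ) = true ↔
      ∃ p ∈ R, ∃ ρ : stabG masks prev, code ρ = p.1 ∧ ρ⁻¹ * σ ∈ Fs := by
    intro σ
    simp only [inS, List.any_eq_true, memF_iff]
    constructor
    · rintro ⟨p, hp, h⟩
      obtain ⟨ρ, hρ, hρi⟩ := hrep p hp
      exact ⟨p, hp, ρ, hρ, by rwa [hFs, code_mul, hρi]⟩
    · rintro ⟨p, hp, ρ, hρ, h⟩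
      obtain ⟨ρ', hρ', hρi⟩ := hrep p hp
      obtain rfl : ρ = ρ' := code_injective (hρ.trans hρ'.symm)
      exact ⟨p, hp, by rwa [hFs, code_mul, hρi] at h⟩
  obtain ⟨p₁, hp₁, hp₁e⟩ := hR1
  have hone : inS F R (code (1 : stabG masks prev)) = true :=
    (hinS 1).2 ⟨p₁, hp₁, 1, code_one.trans hp₁e.symm, by simp⟩
  have hmul : ∀ σ τ : stabG masks prev, inS F R (code σ) = true → inS F R (code τ) = true →
      inS F R (code (σ * τ)) = true := by
    intro σ τ hσ hτ
    obtain ⟨p, hp, ρ, hρ, h1⟩ := (hinS σ).1 hσ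
    obtain ⟨q, hq, π, hπ, h2⟩ := (hinS τ).1 hτ
    have h3 : inS F R (code (ρ * π)) = true := by rw [code_mul, hρ, hπ]; exact hRmul p hp q hq
    obtain ⟨u, hu, μ, hμ, h4⟩ := (hinS (ρ * π)).1 h3
    refine (hinS (σ * τ)).2 ⟨u, hu, μ, hμ, ?_⟩
    obtain ⟨π', hπ', hπi⟩ := hrep q hq
    obtain rfl : π = π' := code_injective (hπ.trans hπ'.symm)
    have h5 : π⁻¹ * (ρ⁻¹ * σ) * π ∈ Fs := by
      rw [hFs, mul_assoc, code_mul, code_mul, hπi, hπ]
      exact hFconj q hq _ h1
    rw [show μ⁻¹ * (σ * τ) = μ⁻¹ * (ρ * π) * (π⁻¹ * (ρ⁻¹ * σ) * π) * (π⁻¹ * τ) by group]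
    exact Fs.mul_mem (Fs.mul_mem h4 h5) h2
  let S₀ : Subgroup (stabG masks prev) := subgroupOfMul (fun σ => inS F R (code σ) = true) hone hmul
  have hS₀ : ∀ σ, σ ∈ S₀ ↔ inS F R (code σ) = true := fun σ => Iff.rfl
  have hFS : Fs ≤ S₀ := fun σ hσ => (hinS σ).2 ⟨p₁, hp₁, 1, code_one.trans hp₁e.symm, by simpa using hσ⟩
  have hRS : ∀ p ∈ R, ∀ ρ : stabG masks prev, code ρ = p.1 → ρ ∈ S₀ :=
    fun p hp ρ hρ => (hinS ρ).2 ⟨p, hp, ρ, hρ, by simp⟩
  have hdec : ∀ σ ∈ S₀, ∃ p ∈ R, ∃ ρ : stabG masks prev, code ρ = p.1 ∧ ρ⁻¹ * σ ∈ Fs :=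
    fun σ hσ => (hinS σ).1 hσ
  -- the order
  have hcard : Nat.card S₀ = 2 ^ k := by
    choose ρ hρ _ using fun i : Fin R.length => hrep R[i] (List.getElem_mem i.2)
    choose φ hφ using fun j : Fin F.length => exists_code hprev' (hFel F[j] (List.getElem_mem j.2))
    have hφF : ∀ j, φ j ∈ Fs := fun j => by rw [hFs, hφ]; exact List.getElem_mem j.2
    let m : Fin R.length × Fin F.length → S₀ := fun x =>
      ⟨ρ x.1 * φ x.2, S₀.mul_mem (hRS _ (List.getElem_mem x.1.2) _ (hρ x.1)) (hFS (hφF x.2))⟩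
    have hm : Function.Bijective m := by
      constructor
      · rintro ⟨i, j⟩ ⟨i', j'⟩ h
        have h' : ρ i * φ j = ρ i' * φ j' := congrArg Subtype.val h
        have hin : (ρ i)⁻¹ * ρ i' ∈ Fs := by
          have : (ρ i)⁻¹ * ρ i' = φ j * (φ j')⁻¹ := by
            rw [eq_mul_inv_iff_mul_eq, mul_assoc, ← h', inv_mul_cancel_left]
          rw [this]; exact Fs.mul_mem (hφF j) (Fs.inv_mem (hφF j'))
        obtain ⟨ρ'', hρ'', hρi⟩ := hrep R[i] (List.getElem_mem i.2)
        obtain rfl : ρ i = ρ'' := code_injective ((hρ i).trans hρ''.symm)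
        rw [hFs, code_mul, hρi, hρ] at hin
        have hi : R[i].1 = R[i'].1 := by
          rcases hRF R[i] (List.getElem_mem i.2) R[i'] (List.getElem_mem i'.2) with h0 | h0
          · exact h0
          · rw [memF_iff.2 hin] at h0; exact absurd h0 (by decide)
        obtain rfl : i = i' := Fin.ext ((hRnd.getElem_inj_iff (hi := by simp) (hj := by simp)).1
          (by simpa using hi))
        have hj : φ j = φ j' := mul_left_cancel h'
        exact Prod.ext rfl (Fin.ext ((hFnd.getElem_inj_iff).1 ((hφ j).symm.trans ((congrArg code hj).trans (hφ j')))))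
      · rintro ⟨σ, hσ⟩
        obtain ⟨p, hp, π, hπ, h⟩ := hdec σ hσ
        obtain ⟨i, hi, rfl⟩ := List.getElem_of_mem hp
        obtain ⟨j, hj, hje⟩ := List.getElem_of_mem ((hFs _).1 h)
        refine ⟨(⟨i, hi⟩, ⟨j, hj⟩), Subtype.ext ?_⟩
        have h1 : ρ ⟨i, hi⟩ = π := code_injective ((hρ ⟨i, hi⟩).trans hπ.symm)
        have h2 : φ ⟨j, hj⟩ = π⁻¹ * σ := code_injective ((hφ ⟨j, hj⟩).trans hje)
        show ρ ⟨i, hi⟩ * φ ⟨j, hj⟩ = σ
        rw [h1, h2, mul_inv_cancel_left]
    rw [← hsize, ← Nat.card_congr (Equiv.ofBijective m hm), Nat.card_prod, Nat.card_fin, Nat.card_fin]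
  let P₀ : Sylow 2 (stabG masks prev) := Sylow.ofCard S₀ (by rw [hcard, hcardM, hk])
  have hP₀ : (P₀ : Subgroup (stabG masks prev)) = S₀ := rfl
  have hp2 : IsPGroup 2 S₀ := IsPGroup.of_card hcard
  have hne : S₀ ≠ ⊥ := fun h => by
    rw [h, Subgroup.card_bot] at hcard
    exact absurd hcard (Nat.one_lt_two_pow hk1.ne').ne
  refine FusionSimpleTwo.isSimple_of_inner P₀ (hP₀ ▸ hne) ?_ ?_ S
  · -- strongly closed subgroups
    rw [hP₀]
    intro T hTS hT
    rw [or_iff_not_imp_left]
    intro hTne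
    haveI : (T.subgroupOf S₀).Normal := ⟨fun n hn s => by
      rw [Subgroup.mem_subgroupOf] at hn ⊢
      refine hT _ hn s ?_
      exact S₀.mul_mem (S₀.mul_mem s.2 n.2) (S₀.inv_mem s.2)⟩
    have hne' : T.subgroupOf S₀ ≠ ⊥ := by
      rw [Ne, Subgroup.subgroupOf_eq_bot, disjoint_iff, inf_eq_left.2 hTS]
      exact hTne
    obtain ⟨w, hw, hw1⟩ := ((T.subgroupOf S₀ ⊓ Subgroup.center S₀).bot_or_exists_ne_one).resolve_left
      (CfsgLib.PGroups.inf_center_ne_bot hp2 hne')
    obtain ⟨hwT, hwc⟩ := Subgroup.mem_inf.1 hw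
    rw [Subgroup.mem_center_iff] at hwc
    obtain ⟨ζ, hζ⟩ := exists_code hprev' hzel
    have hζT : ζ ∈ T := by
      obtain ⟨p, hp, ρ, hρ, hφ⟩ := hdec w.1 w.2
      simp only [cenOK, List.all_eq_true, Bool.or_eq_true, Nat.beq_eq, Bool.not_eq_true'] at hcen
      have hcode : compP p.1 (code (ρ⁻¹ * (w : stabG masks prev))) = code (w : stabG masks prev) := by
        rw [← hρ, ← code_mul, mul_inv_cancel_left]
      have h0 := hcen p hp _ ((hFs _).1 hφ)
      rw [hcode] at h0
      rcases h0 with (h1 | h1) | h1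
      · exfalso
        rw [← Bool.not_eq_true] at h1
        refine h1 ?_
        simp only [Bool.and_eq_true, List.all_eq_true, Nat.beq_eq]
        constructor
        · intro q hq
          obtain ⟨π, hπ, -⟩ := hrep q hq
          rw [← hπ, ← code_mul, ← code_mul]
          exact congrArg code (congrArg Subtype.val (hwc ⟨π, hRS q hq π hπ⟩)).symm
        · intro f hf
          obtain ⟨π, hπ⟩ := exists_code hprev' (hFel f hf)
          rw [← hπ, ← code_mul, ← code_mul]
          exact congrArg code (congrArg Subtype.val (hwc ⟨π, hFS ((hFs π).2 (hπ ▸ hf))⟩)).symm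
      · exact absurd (Subtype.ext (code_injective (h1.trans code_one.symm))) hw1
      · rw [← code_injective (h1.trans hζ.symm)]
        exact hwT
    suffices hmain : ∀ (st : List (ℕ × ℕ × ℕ × ℕ × ℕ)) (acc : List ℕ),
        deriveOK masks prev F R st acc = true → (∀ a ∈ acc, ∃ σ ∈ T, code σ = a) →
          (∀ p ∈ R, ∃ σ ∈ T, code σ = p.1) ∧ ∀ f ∈ F, ∃ σ ∈ T, code σ = f by
      obtain ⟨hR', hF'⟩ := hmain steps _ hder (by
        simp only [List.mem_cons, List.not_mem_nil, or_false]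
        rintro a (rfl | rfl)
        · exact ⟨ζ, hζT, hζ⟩
        · exact ⟨1, T.one_mem, code_one⟩)
      refine le_antisymm hTS fun σ hσ => ?_
      obtain ⟨p, hp, ρ, hρ, hφ⟩ := hdec σ hσ
      obtain ⟨σ₁, h1, e1⟩ := hR' p hp
      obtain ⟨σ₂, h2, e2⟩ := hF' _ ((hFs _).1 hφ)
      have := T.mul_mem h1 h2
      rwa [code_injective (e1.trans hρ.symm), code_injective e2, mul_inv_cancel_left] at this
    intro st
    induction st with
    | nil =>
      intro acc h hacc
      simp only [deriveOK, Bool.and_eq_true, List.all_eq_true, memF_iff] at h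
      exact ⟨fun p hp => hacc _ (h.1 p hp), fun f hf => hacc _ (h.2 f hf)⟩
    | cons x r ih =>
      obtain ⟨a, g, gi, i, j⟩ := x
      intro acc h hacc
      simp only [deriveOK, Bool.and_eq_true, Nat.beq_eq] at h
      obtain ⟨⟨⟨⟨⟨hg, hgi⟩, hgg⟩, haS⟩, hae⟩, hrest⟩ := h
      have hget : ∀ m, ∃ σ ∈ T, code σ = acc.getD m idP := fun m => by
        by_cases hm : m < acc.length
        · rw [List.getD_eq_getElem _ _ hm]; exact hacc _ (List.getElem_mem hm)
        · rw [List.getD_eq_default _ _ (not_lt.1 hm)]; exact ⟨1, T.one_mem, code_one⟩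
      obtain ⟨σ₁, h1, e1⟩ := hget i
      obtain ⟨σ₂, h2, e2⟩ := hget j
      obtain ⟨γ, hγ⟩ := exists_code hprev' hg
      obtain ⟨γ', hγ'⟩ := exists_code hprev' hgi
      have hγe : γ' = γ⁻¹ := eq_inv_of_mul_eq_one_left
        (code_injective (by rw [code_mul, hγ', hγ, code_one, hgg]))
      have hea : code (γ * (σ₁ * σ₂) * γ⁻¹) = a := by
        rw [code_mul, code_mul, code_mul, e1, e2, hγ, ← hγe, hγ', hae]
      refine ih _ hrest fun b hb => ?_
      rcases List.mem_cons.1 hb with rfl | hb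
      · exact ⟨_, hT _ (T.mul_mem h1 h2) γ (by rw [hS₀, hea]; exact haS), hea⟩
      · exact hacc b hb
  · -- elements of odd order normalising the subgroup centralise it
    rw [hP₀]
    intro γ hγ hodd
    simp only [sqOK, Bool.and_eq_true, List.all_eq_true, List.any_eq_true, memF_iff, Nat.beq_eq] at hsq
    have hsqF : ∀ σ ∈ S₀, σ * σ ∈ Fs := by
      intro σ hσ
      obtain ⟨p, hp, ρ, hρ, hφ⟩ := hdec σ hσ
      have hcode : compP p.1 (code (ρ⁻¹ * σ)) = code σ := by rw [← hρ, ← code_mul, mul_inv_cancel_left]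
      have := hsq.1 p hp _ ((hFs _).1 hφ)
      rw [hcode, ← code_mul] at this
      exact (hFs _).2 this
    have hgen : ∀ φ ∈ Fs, ∃ L : List S₀, φ = ((L.map fun s => s * s).prod : S₀).1 := by
      intro φ hφ
      obtain ⟨e, -, ⟨he, hse⟩, hprod⟩ := hsq.2 _ ((hFs φ).1 hφ)
      have : ∀ l : List ℕ, (∀ s ∈ l, elemB masks prev s = true ∧ inS F R s = true) →
          ∃ L : List S₀, code ((L.map fun s => s * s).prod : S₀).1 = prodSq l := by
        intro l hl
        induction l with
        | nil => exact ⟨[], code_one⟩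
        | cons s l ih =>
          obtain ⟨L, hL⟩ := ih fun t ht => hl t (List.mem_cons_of_mem _ ht)
          obtain ⟨σ, hσ⟩ := exists_code hprev' (hl s List.mem_cons_self).1
          refine ⟨⟨σ, (hS₀ σ).2 (hσ ▸ (hl s List.mem_cons_self).2)⟩ :: L, ?_⟩
          rw [List.map_cons, List.prod_cons, Subgroup.coe_mul, code_mul, Subgroup.coe_mul, code_mul, hσ,
            hL, prodSq]
      obtain ⟨L, hL⟩ := this e.2 hse
      exact ⟨L, code_injective (hprod.trans hL.symm)⟩
    have hconjS : ∀ δ ∈ Subgroup.normalizer (S₀ : Set (stabG masks prev)), ∀ σ ∈ S₀, δ * σ * δ⁻¹ ∈ S₀ :=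
      fun δ hδ σ hσ => (Subgroup.mem_normalizer_iff.1 hδ σ).1 hσ
    have hconjF : ∀ δ ∈ Subgroup.normalizer (S₀ : Set (stabG masks prev)), ∀ φ ∈ Fs, δ * φ * δ⁻¹ ∈ Fs := by
      intro δ hδ φ hφ
      obtain ⟨L, rfl⟩ := hgen φ hφ
      induction L with
      | nil => simp
      | cons s L ih =>
        have h2 : δ * ((L.map fun s => s * s).prod : S₀).1 * δ⁻¹ ∈ Fs := ih (by
          have : ∀ L : List S₀, ((L.map fun s => s * s).prod : S₀).1 ∈ Fs := by
            intro L
            induction L with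
            | nil => exact Fs.one_mem
            | cons s L ih => exact Fs.mul_mem (hsqF s.1 s.2) ih
          exact this L)
        rw [List.map_cons, List.prod_cons, Subgroup.coe_mul,
          show δ * ((s * s : S₀).1 * ((L.map fun s => s * s).prod : S₀).1) * δ⁻¹ =
            (δ * s.1 * δ⁻¹) * (δ * s.1 * δ⁻¹) * (δ * ((L.map fun s => s * s).prod : S₀).1 * δ⁻¹) by
            rw [Subgroup.coe_mul]; group]
        exact Fs.mul_mem (hsqF _ (hconjS δ hδ _ s.2)) h2
    have hFnorm : ∀ σ ∈ S₀, ∀ φ ∈ Fs, σ * φ * σ⁻¹ ∈ Fs :=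
      fun σ hσ => hconjF σ (Subgroup.le_normalizer hσ)
    -- sums over the subgroup
    have hsum : ∀ h : ℕ → ℕ, (F.map h).sum = ∑ φ : Fs, h (code φ.1) := by
      intro h
      rw [← List.sum_toFinset _ hFnd]
      refine (Finset.sum_nbij (fun φ : Fs => code φ.1) (fun φ _ => List.mem_toFinset.2 φ.2) ?_ ?_
        (fun _ _ => rfl)).symm
      · intro a _ b _ e; exact Subtype.ext (code_injective e)
      · intro f hf
        have hf' : f ∈ F := by simpa using hf
        obtain ⟨σ, hσ⟩ := exists_code hprev' (hFel f hf')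
        exact ⟨⟨σ, (hFs σ).2 (hσ ▸ hf')⟩, by simp, hσ⟩
    let cm : stabG masks prev → ℕ := fun σ => ∑ φ : Fs, if σ * φ.1 = φ.1 * σ then 1 else 0
    let wg : stabG masks prev → ℕ := fun σ => if useC then
        (fixN (code σ) ^ 3 + 1000000 * fixN (code (σ * σ)) ^ 2) * 1000 + cm σ ^ 2
      else fixN (code σ) ^ 3 + 1000000 * fixN (code (σ * σ)) ^ 2
    have hwg : ∀ σ, wt useC F (code σ) = wg σ := by
      intro σ
      have : (F.map fun f => if Nat.beq (compP (code σ) f) (compP f (code σ)) then 1 else 0).sum = cm σ := by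
        rw [hsum]
        refine Finset.sum_congr rfl fun φ _ => if_congr ?_ rfl rfl
        rw [Nat.beq_eq, ← code_mul, ← code_mul]
        exact code_injective.eq_iff
      simp only [wt, wg, this, code_mul]
    let J : stabG masks prev → ℕ := fun σ => ∑ φ : Fs, wg (σ * φ.1)
    have hJ : ∀ σ, cosetWt useC F (code σ) = J σ := fun σ => by
      rw [cosetWt, hsum]
      exact Finset.sum_congr rfl fun φ _ => by rw [← code_mul, hwg]
    have hJmul : ∀ σ, ∀ ψ ∈ Fs, J (σ * ψ) = J σ := fun σ ψ hψ => by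
      refine Fintype.sum_equiv (Equiv.mulLeft (⟨ψ, hψ⟩ : Fs)) _ _ fun φ => ?_
      show wg (σ * ψ * φ.1) = wg (σ * (ψ * φ.1))
      rw [mul_assoc]
    have hJconj : ∀ δ ∈ Subgroup.normalizer (S₀ : Set (stabG masks prev)), ∀ σ,
        J (δ * σ * δ⁻¹) = J σ := by
      intro δ hδ σ
      let c : Fs ≃ Fs :=
        { toFun := fun φ => ⟨δ⁻¹ * φ.1 * δ, by
            simpa using hconjF δ⁻¹ (Subgroup.inv_mem _ hδ) φ.1 φ.2⟩
          invFun := fun φ => ⟨δ * φ.1 * δ⁻¹, hconjF δ hδ φ.1 φ.2⟩
          left_inv := fun φ => Subtype.ext (by simp [mul_assoc])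
          right_inv := fun φ => Subtype.ext (by simp [mul_assoc]) }
      have hcm : ∀ τ, cm (δ * τ * δ⁻¹) = cm τ := fun τ => by
        refine Fintype.sum_equiv c _ _ fun φ => if_congr ?_ rfl rfl
        show δ * τ * δ⁻¹ * φ.1 = φ.1 * (δ * τ * δ⁻¹) ↔ τ * (δ⁻¹ * φ.1 * δ) = δ⁻¹ * φ.1 * δ * τ
        constructor
        · intro h
          calc τ * (δ⁻¹ * φ.1 * δ) = δ⁻¹ * (δ * τ * δ⁻¹ * φ.1) * δ := by group
            _ = δ⁻¹ * φ.1 * δ * τ := by rw [h]; group
        · intro h
          calc δ * τ * δ⁻¹ * φ.1 = δ * (τ * (δ⁻¹ * φ.1 * δ)) * δ⁻¹ := by group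
            _ = φ.1 * (δ * τ * δ⁻¹) := by rw [h]; group
      have hw : ∀ τ, wg (δ * τ * δ⁻¹) = wg τ := fun τ => by
        have e : δ * τ * δ⁻¹ * (δ * τ * δ⁻¹) = δ * (τ * τ) * δ⁻¹ := by group
        simp only [wg, e, fixN_conj, hcm]
      refine Fintype.sum_equiv c _ _ fun φ => ?_
      show wg (δ * σ * δ⁻¹ * φ.1) = wg (σ * (δ⁻¹ * φ.1 * δ))
      rw [← hw (σ * (δ⁻¹ * φ.1 * δ))]
      congr 1
      group
    simp only [rigidOK, Bool.and_eq_true, List.all_eq_true, List.any_eq_true, Bool.or_eq_true,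
      Nat.beq_eq, Bool.not_eq_true', memF_iff, Nat.blt_eq] at hrig
    obtain ⟨hgood, hspan⟩ := hrig
    -- the element fixes the coset of every good representative
    let D : stabG masks prev → stabG masks prev → Prop := fun δ σ => σ⁻¹ * (δ * σ * δ⁻¹) ∈ Fs
    have hfixgood : ∀ e ∈ good, ∀ ρ : stabG masks prev, code ρ = e.1.1 → D γ ρ := by
      intro e he ρ hρ
      obtain ⟨⟨⟨p, hp, hp1, hp2⟩, ⟨q, hq, hq1, hq2⟩⟩, hall⟩ := hgood e he
      obtain ⟨ρ₀, hρ₀, hρi⟩ := hrep p hp
      obtain rfl : ρ = ρ₀ := code_injective (hρ.trans (hp1.symm.trans hρ₀.symm))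
      obtain ⟨π, hπ, hπi⟩ := hrep q hq
      have hρS : ρ ∈ S₀ := hRS p hp ρ hρ₀
      have hclass : ∀ τ ∈ S₀, J τ = J ρ → ρ⁻¹ * τ ∈ Fs ∨ π⁻¹ * τ ∈ Fs := by
        intro τ hτ hJτ
        obtain ⟨u, hu, μ, hμ, hμτ⟩ := hdec τ hτ
        have hJμ : J μ = J ρ := by
          rw [← hJτ, ← hJmul μ _ hμτ, mul_inv_cancel_left]
        have key : ρ⁻¹ * μ ∈ Fs ∨ π⁻¹ * μ ∈ Fs := by
          rcases hall u hu with (h | h) | h
          · exfalso
            rw [← hμ, ← hρ, hJ, hJ, hJμ] at h
            simp at h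
          · left; rw [hFs, code_mul, hρi, hμ, hp2]; exact h
          · right; rw [hFs, code_mul, hπi, hμ, hq2]; exact h
        rcases key with h | h
        · exact Or.inl (by simpa [mul_assoc] using Fs.mul_mem h hμτ)
        · exact Or.inr (by simpa [mul_assoc] using Fs.mul_mem h hμτ)
      have h1S := hconjS γ hγ ρ hρS
      have h2S := hconjS γ hγ _ h1S
      rcases hclass _ h1S (hJconj γ hγ ρ) with h | h
      · exact h
      rcases hclass _ h2S ((hJconj γ hγ _).trans (hJconj γ hγ ρ)) with h' | h'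
      · -- the square fixes the coset
        have hpow : ∀ n : ℕ, D ((γ * γ) ^ n) ρ := by
          intro n
          induction n with
          | zero => simp [D]
          | succ n ih =>
            have hn : (γ * γ) ^ n ∈ Subgroup.normalizer (S₀ : Set (stabG masks prev)) :=
              Subgroup.pow_mem _ (Subgroup.mul_mem _ hγ hγ) n
            have := Fs.mul_mem ih (hconjF _ hn _ h')
            show ρ⁻¹ * ((γ * γ) ^ (n + 1) * ρ * ((γ * γ) ^ (n + 1))⁻¹) ∈ Fs
            convert this using 1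
            rw [pow_succ]
            group
        obtain ⟨m, hm⟩ : Odd (orderOf γ) := Nat.odd_iff.2 (Nat.two_dvd_ne_zero.1 hodd)
        have := hpow (m + 1)
        rw [show (γ * γ) ^ (m + 1) = γ by
          rw [← pow_two, ← pow_mul, show 2 * (m + 1) = orderOf γ + 1 by omega, pow_succ,
            pow_orderOf_eq_one, one_mul]] at this
        exact this
      · have h3 : (γ * ρ * γ⁻¹)⁻¹ * (γ * (γ * ρ * γ⁻¹) * γ⁻¹) ∈ Fs := by
          simpa [mul_assoc] using Fs.mul_mem (Fs.inv_mem h) h'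
        have := hconjF γ⁻¹ (Subgroup.inv_mem _ hγ) _ h3
        show ρ⁻¹ * (γ * ρ * γ⁻¹) ∈ Fs
        convert this using 1
        group
    have hDmul : ∀ σ τ, τ ∈ S₀ → D γ σ → D γ τ → D γ (σ * τ) := by
      intro σ τ hτ h1 h2
      show (σ * τ)⁻¹ * (γ * (σ * τ) * γ⁻¹) ∈ Fs
      have := Fs.mul_mem (hFnorm τ⁻¹ (S₀.inv_mem hτ) _ h1) h2
      convert this using 1
      group
    have hD : ∀ σ ∈ S₀, D γ σ := by
      intro σ hσ
      obtain ⟨p, hp, ρ, hρ, hρσ⟩ := hdec σ hσ
      obtain ⟨ρ₀, hρ₀, hρi⟩ := hrep p hp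
      obtain rfl : ρ = ρ₀ := code_injective (hρ.trans hρ₀.symm)
      obtain ⟨w, -, hw, hwF⟩ := hspan p hp
      have hword : ∀ w : List ℕ, (∀ i ∈ w, i < good.length) →
          ∃ τ ∈ S₀, code τ = prodW good w ∧ D γ τ := by
        intro w hw
        induction w with
        | nil => exact ⟨1, S₀.one_mem, code_one, by simp [D]⟩
        | cons i w ih =>
          obtain ⟨τ, hτ, hτc, hτD⟩ := ih fun j hj => hw j (List.mem_cons_of_mem _ hj)
          have hi := hw i List.mem_cons_self
          obtain ⟨⟨⟨q, hq, hq1, -⟩, -⟩, -⟩ := hgood good[i] (List.getElem_mem hi)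
          obtain ⟨π, hπ, -⟩ := hrep q hq
          refine ⟨π * τ, S₀.mul_mem (hRS q hq π hπ) hτ, ?_, hDmul π τ hτ
            (hfixgood _ (List.getElem_mem hi) π (hπ.trans hq1)) hτD⟩
          rw [code_mul, hπ, hτc, prodW, List.getD_eq_getElem _ _ hi, hq1]
      obtain ⟨τ, hτ, hτc, hτD⟩ := hword w hw
      have h1 : ρ⁻¹ * τ ∈ Fs := by rw [hFs, code_mul, hρi, hτc]; exact hwF
      have h2 : τ⁻¹ * σ ∈ Fs := by
        simpa [mul_assoc] using Fs.mul_mem (Fs.inv_mem h1) hρσ
      have h3 : D γ (τ⁻¹ * σ) := Fs.mul_mem (Fs.inv_mem h2) (hconjF γ hγ _ h2)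
      simpa using hDmul τ (τ⁻¹ * σ) (S₀.mul_mem (S₀.inv_mem hτ) hσ) hτD h3
    have hγpow : ∀ n : ℕ, ∀ σ ∈ S₀, D (γ ^ n) σ := by
      intro n
      induction n with
      | zero => intro σ _; simp [D]
      | succ n ih =>
        intro σ hσ
        have := Fs.mul_mem (hD σ hσ) (ih _ (hconjS γ hγ σ hσ))
        show σ⁻¹ * (γ ^ (n + 1) * σ * (γ ^ (n + 1))⁻¹) ∈ Fs
        convert this using 1
        rw [pow_succ]
        group
    have hle : Subgroup.zpowers γ ≤ Subgroup.centralizer (S₀ : Set (stabG masks prev)) := by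
      refine Coprime.le_centralizer_of_trivial_mod_frattini (Subgroup.zpowers_le.2 hγ) ?_ ?_
      · rw [Nat.card_zpowers]
        obtain ⟨i, -, hi⟩ := (Nat.dvd_prime_pow Nat.prime_two).1
          ((Subgroup.card_subgroup_dvd_card (frattini S₀)).trans (dvd_of_eq hcard))
        rw [hi]
        exact Nat.Coprime.pow_right _ (Nat.coprime_comm.1 ((Nat.Prime.coprime_iff_not_dvd Nat.prime_two).2 hodd))
      · intro a ha σ hσ
        obtain ⟨n, rfl⟩ := (isOfFinOrder_of_finite γ).mem_powers_iff_mem_zpowers.2 ha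
        have h1 : σ⁻¹ * (γ ^ n * σ * (γ ^ n)⁻¹) ∈ Fs := hγpow n σ hσ
        have h2 := hFnorm σ hσ _ h1
        obtain ⟨L, hL⟩ := hgen _ h2
        refine ⟨(L.map fun s => s * s).prod, ?_, ?_⟩
        · refine Subgroup.list_prod_mem _ fun x hx => ?_
          obtain ⟨s, -, rfl⟩ := List.mem_map.1 hx
          rw [← pow_two]
          exact CfsgLib.PGroups.pow_mem_frattini hp2 s
        · show ((L.map fun s => s * s).prod : S₀).1 = _
          rw [← hL]
          group
    exact hle (Subgroup.mem_zpowers γ)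

end

end CfsgLib.Involutions.MathieuSylow
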