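import Cfsg.Agent.Lib.Involutions.MathieuSylowCert

/-! Sylow two-subgroup certificate for M11. -/

set_option autoImplicit false

namespace CfsgLib.Involutions.MathieuSylow.M11

open Cfsg CfsgLib.Spor CfsgLib.MathieuOut

/-- normal subgroup -/
def listF : List ℕ := [
  984818244535754528103549039458486304, 891440084380668137666183104591693856,
  899214583888558003150069357295700000, 970531819526550031117983620406741024]

/-- coset representatives with inverses -/
def listR : List (ℕ × ℕ) := [
  (984818244535754528103549039458486304, 984818244535754528103549039458486304),
  (808997782816701570676445371466909728, 796025918939784314627536738561984544),
  (887543800568078526976238466843642048, 887543800568078526976238466843642048),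
  (298043325917333810095074036679051456, 802513670536243953440666038739404992)]

/-- central involution -/
def cz : ℕ := 970531819526550031117983620406741024

/-- fusion steps -/
def steps : List (ℕ × ℕ × ℕ × ℕ × ℕ) := [
  (887543800568078526976238466843642048, 310837609512064327654058240871310400, 850830884873514830285338243821143424, 0, 1),
  (901815011875065486889925075213256896, 984818244535754528103549039458486304, 984818244535754528103549039458486304, 1, 0),
  (982224155767909524168889505747699904, 974436019845254943292586851698870848, 982214112155017668007592038696782208, 2, 3),
  (974421764120477162002732052473186496, 984818244535754528103549039458486304, 984818244535754528103549039458486304, 3, 0),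
  (899214583888558003150069357295700000, 984818244535754528103549039458486304, 984818244535754528103549039458486304, 3, 1),
  (891440084380668137666183104591693856, 984818244535754528103549039458486304, 984818244535754528103549039458486304, 3, 2),
  (808997782816701570676445371466909728, 974348224049812946477808066979043392, 968662099639242625730464588605490368, 1, 7),
  (298043325917333810095074036679051456, 984818244535754528103549039458486304, 984818244535754528103549039458486304, 3, 0)]

/-- squares -/
def sqW : List (ℕ × List ℕ) := [
  (984818244535754528103549039458486304, []),
  (891440084380668137666183104591693856, [311032934622792603414471159161718976]),
  (899214583888558003150069357295700000, [811587518712142990189922223545452736]),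
  (970531819526550031117983620406741024, [808997782816701570676445371466909728])]

/-- rigid representatives -/
def good : List ((ℕ × ℕ) × (ℕ × ℕ)) := [
  ((808997782816701570676445371466909728, 796025918939784314627536738561984544), (808997782816701570676445371466909728, 796025918939784314627536738561984544)),
  ((887543800568078526976238466843642048, 887543800568078526976238466843642048), (887543800568078526976238466843642048, 887543800568078526976238466843642048))]

/-- words -/
def gw : List (List ℕ) := [
  [], [0], [1], [1, 0]]

end CfsgLib.Involutions.MathieuSylow.M11
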