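import Cfsg.Agent.Lib.PGroups.MetacyclicTwoAut
import Cfsg.Agent.Lib.Transfer.Alperin
import Cfsg.Agent.Lib.Involutions.CentralizedSylowSolvable
import Cfsg.Agent.Lib.Blocks.Homocyclic
import Cfsg.Agent.Lib.BlockOrth.Subsection

/-!
A group whose Sylow 2-subgroup has a cyclic normal subgroup with cyclic quotient of order
greater than two is solvable (given the odd order theorem).
-/

set_option autoImplicit false
set_option linter.style.haveILetI false
set_option linter.unusedSectionVars false

universe u

namespace CfsgLib.Involutions.MetacyclicSylowTwo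

open Cfsg Subgroup
open scoped commutatorElement
open CfsgLib.PGroups

/-- In a finite cyclic group an element lies in any subgroup whose order its order divides. -/
theorem mem_of_orderOf_dvd {C : Type*} [Group C] [Finite C] [IsCyclic C] (H : Subgroup C) {x : C}
    (h : orderOf x ∣ Nat.card H) : x ∈ H := by
  classical
  haveI := Fintype.ofFinite C
  haveI := Fintype.ofFinite H
  by_contra hx
  have hsub : insert x ((Finset.univ : Finset H).map ⟨Subtype.val, Subtype.val_injective⟩) ⊆
      Finset.univ.filter fun a : C => a ^ Nat.card H = 1 := by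
    intro a ha
    rw [Finset.mem_filter]
    refine ⟨Finset.mem_univ a, ?_⟩
    rcases Finset.mem_insert.1 ha with rfl | ha
    · exact orderOf_dvd_iff_pow_eq_one.1 h
    · obtain ⟨b, -, rfl⟩ := Finset.mem_map.1 ha
      exact congrArg Subtype.val (pow_card_eq_one' (x := b))
  have h1 := (Finset.card_le_card hsub).trans (IsCyclic.card_pow_eq_one_le (Nat.card_pos (α := H)))
  rw [Finset.card_insert_of_notMem (by simp; exact hx), Finset.card_map, Finset.card_univ,
    ← Nat.card_eq_fintype_card] at h1
  omega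

/-- In a cyclic 2-group a subgroup missing `c` consists of powers of `c ^ 2`. -/
theorem le_zpowers_sq {C : Type*} [Group C] [Finite C] [IsCyclic C] (h2 : IsPGroup 2 C)
    {H : Subgroup C} {c : C} (hc : c ∉ H) : H ≤ zpowers (c ^ 2) := by
  intro x hx
  apply mem_of_orderOf_dvd
  rw [Nat.card_zpowers]
  obtain ⟨i, hi⟩ := IsPGroup.iff_orderOf.1 h2 c
  obtain ⟨j, hj⟩ := IsPGroup.iff_card.1 (h2.to_subgroup H)
  have hij : j < i := by
    by_contra h
    exact hc (mem_of_orderOf_dvd H (by rw [hi, hj]; exact pow_dvd_pow 2 (by omega)))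
  have hc2 : orderOf (c ^ 2) = 2 ^ (i - 1) := by
    rw [orderOf_pow, hi, Nat.gcd_eq_right (dvd_pow_self 2 (by omega))]
    conv_lhs => rw [show i = i - 1 + 1 by omega, pow_succ]
    simp
  rw [hc2]
  refine (Subgroup.orderOf_dvd_natCard H hx).trans ?_
  rw [hj]
  exact pow_dvd_pow 2 (by omega)

variable {G : Type u} [Group G] [Finite G]

/-- `g` normalizes `Q` and induces a nontrivial automorphism by an odd part. -/
def Bad (Q : Subgroup G) : Prop :=
  IsPGroup 2 Q ∧ ∃ g ∈ normalizer (Q : Set G), Nat.Coprime (orderOf g) 2 ∧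
    g ∉ centralizer (Q : Set G)

theorem Bad.map_conj {Q : Subgroup G} (h : Bad Q) (k : G) :
    Bad (Q.map (MulAut.conj k).toMonoidHom) := by
  obtain ⟨hQ, g, hg, hg2, hgc⟩ := h
  refine ⟨hQ.map _, k * g * k⁻¹, ?_, ?_, fun h => hgc ?_⟩
  · rw [mem_normalizer_iff] at hg ⊢
    intro x
    simp only [mem_map_equiv, MulAut.conj_symm_apply]
    rw [hg (k⁻¹ * x * k)]
    constructor <;> intro h <;> convert h using 1 <;> group
  · rwa [show k * g * k⁻¹ = MulAut.conj k g from rfl, (MulAut.conj k).orderOf_eq]
  · rw [mem_centralizer_iff] at h ⊢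
    intro q hq
    have h1 := h _ (mem_map_of_mem (MulAut.conj k).toMonoidHom hq)
    simp only [MulEquiv.coe_toMonoidHom, MulAut.conj_apply] at h1
    calc q * g = k⁻¹ * (k * q * k⁻¹ * (k * g * k⁻¹)) * k := by group
      _ = k⁻¹ * (k * g * k⁻¹ * (k * q * k⁻¹)) * k := by rw [h1]
      _ = g * q := by group

/-- Automorphisms induced on the Frattini quotient of `Q`. -/
noncomputable def modFrattini (Q : Subgroup G) :
    normalizer (Q : Set G) →* MulAut (Q ⧸ frattini Q) :=
  { toFun := fun g => MetacyclicTwoAut.quotAut (frattini Q) (Q.normalizerMonoidHom g)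
    map_one' := MulEquiv.ext fun v => by
      induction v using QuotientGroup.induction_on with
      | H x => rw [MetacyclicTwoAut.quotAut_mk, map_one]; rfl
    map_mul' := fun g h => MulEquiv.ext fun v => by
      induction v using QuotientGroup.induction_on with
      | H x =>
        rw [MetacyclicTwoAut.quotAut_mk, map_mul, MulAut.mul_apply, MulAut.mul_apply,
          MetacyclicTwoAut.quotAut_mk, MetacyclicTwoAut.quotAut_mk] }

theorem mem_ker_modFrattini {Q : Subgroup G} {g : normalizer (Q : Set G)}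
    (h : ∀ x : Q, x⁻¹ * Q.normalizerMonoidHom g x ∈ frattini Q) :
    g ∈ (modFrattini Q).ker :=
  MonoidHom.mem_ker.2 (MulEquiv.ext fun v => by
    induction v using QuotientGroup.induction_on with
    | H x =>
      show MetacyclicTwoAut.quotAut (frattini Q) _ (x : Q ⧸ frattini Q) = (x : Q ⧸ frattini Q)
      rw [MetacyclicTwoAut.quotAut_mk]
      exact (QuotientGroup.eq.2 (h x)).symm)

theorem of_mem_ker_modFrattini {Q : Subgroup G} {g : normalizer (Q : Set G)}
    (h : g ∈ (modFrattini Q).ker) (x : Q) : x⁻¹ * Q.normalizerMonoidHom g x ∈ frattini Q :=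
  QuotientGroup.eq.1 (by
    rw [← MetacyclicTwoAut.quotAut_mk]
    exact (DFunLike.congr_fun (MonoidHom.mem_ker.1 h) (x : Q ⧸ frattini Q)).symm)

/-- Conjugation on a normal cyclic 2-subgroup is an odd power map. -/
theorem exists_odd_power {N : Subgroup G} (hNc : IsCyclic N) (hN2 : IsPGroup 2 N) {g : G}
    (hg : g ∈ normalizer (N : Set G)) : ∃ s : ℤ, Odd s ∧ ∀ n ∈ N, g * n * g⁻¹ = n ^ s := by
  by_cases hbot : N = ⊥
  · exact ⟨1, odd_one, fun n hn => by rw [hbot, mem_bot] at hn; simp [hn]⟩
  haveI := hNc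
  let f := N.normalizerMonoidHom ⟨g, hg⟩
  obtain ⟨s, hs⟩ := f.toMonoidHom.map_cyclic
  refine ⟨s, ?_, fun n hn => ?_⟩
  · by_contra hodd
    obtain ⟨k, hk⟩ := Int.not_odd_iff_even.1 hodd
    obtain ⟨z, hz⟩ := exists_prime_orderOf_dvd_card' 2
      (CfsgLib.PGroups.dvd_card_of_ne_bot hN2 (H := (⊤ : Subgroup N))
        (fun h => hbot ((eq_bot_iff_forall N).2 fun x hx => by
          have hx' := mem_top (⟨x, hx⟩ : N)
          rw [h, mem_bot] at hx'
          exact congrArg Subtype.val hx')))
    have h1 : f (z : N) = 1 := by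
      have h2 := hs (z : N)
      rw [MulEquiv.coe_toMonoidHom] at h2
      rw [h2, hk, ← two_mul, zpow_mul, zpow_two, ← sq, ← hz, ← Subgroup.orderOf_coe,
        pow_orderOf_eq_one, one_zpow]
    have h3 : (z : N) = 1 := f.injective (h1.trans (map_one f).symm)
    rw [← Subgroup.orderOf_coe, h3, orderOf_one] at hz
    omega
  · have h2 := congrArg Subtype.val (hs ⟨n, hn⟩)
    simpa [f] using h2

/-- The configuration: `S` is a Sylow subgroup with a cyclic normal subgroup with cyclic
quotient of order greater than two; then no 2-subgroup has an odd automizer unless `S` is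
abelian. -/
theorem not_bad_or_comm (S : Sylow 2 G) (N : Subgroup (S : Subgroup G)) [hN : N.Normal]
    (hNc : IsCyclic N) (hQc : IsCyclic ((S : Subgroup G) ⧸ N))
    (hQ : 2 < Nat.card ((S : Subgroup G) ⧸ N)) :
    (∀ a b : (S : Subgroup G), a * b = b * a) ∨
      ∀ Q : Subgroup G, Q ≤ (S : Subgroup G) → ¬ Bad Q := by
  by_contra hcon
  push Not at hcon
  obtain ⟨⟨sa, sb, hsab⟩, Q₁, -, hQ₁⟩ := hcon
  -- a maximal bad subgroup inside `S`
  obtain ⟨Q₀, hQ₀b, hQ₀max⟩ := Set.exists_max_image {Q : Subgroup G | Bad Q}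
    (fun Q => Nat.card Q) (Set.toFinite _) ⟨Q₁, hQ₁⟩
  obtain ⟨S₁, hS₁⟩ := hQ₀b.1.exists_le_sylow
  obtain ⟨k, hk⟩ := MulAction.exists_smul_eq G S₁ S
  set Q := Q₀.map (MulAut.conj k).toMonoidHom with hQdef
  have hQS : Q ≤ (S : Subgroup G) := by
    rw [← hk]
    exact map_mono hS₁
  have hbad : Bad Q := hQ₀b.map_conj k
  have hmax : ∀ R : Subgroup G, Bad R → Nat.card R ≤ Nat.card Q := fun R hR => by
    rw [hQdef, Subgroup.card_map_of_injective (f := (MulAut.conj k).toMonoidHom)
      (MulAut.conj k).injective]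
    exact hQ₀max R hR
  obtain ⟨hQ2, g, hgN, hg2, hgC⟩ := hbad
  -- `Q` is metacyclic
  set π : (S : Subgroup G) →* (S : Subgroup G) ⧸ N := QuotientGroup.mk' N with hπ
  set ι : Q →* (S : Subgroup G) := inclusion hQS with hι
  set πQ := π.comp ι with hπQ
  haveI hkc : IsCyclic πQ.ker := by
    refine isCyclic_of_injective ((ι.comp πQ.ker.subtype).codRestrict N fun x =>
      (QuotientGroup.eq_one_iff _).1 x.2) fun x y h => ?_
    exact Subtype.ext (inclusion_injective hQS (congrArg (fun z : N => (z : (S : Subgroup G))) h))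
  have hQm : IsMetacyclic Q := by
    haveI : IsCyclic πQ.range := inferInstance
    exact ⟨πQ.ker, inferInstance, hkc,
      isCyclic_of_injective (QuotientGroup.quotientKerEquivRange πQ).toMonoidHom
        (QuotientGroup.quotientKerEquivRange πQ).injective⟩
  -- an automorphism of odd prime order
  set gn : normalizer (Q : Set G) := ⟨g, hgN⟩
  set β₀ := Q.normalizerMonoidHom gn with hβ₀
  have hβ₀1 : β₀ ≠ 1 := fun h => hgC (by
    have h1 : gn ∈ Q.normalizerMonoidHom.ker := h
    rwa [normalizerMonoidHom_ker, mem_subgroupOf] at h1)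
  have hord : Nat.Coprime (orderOf β₀) 2 := by
    refine Nat.Coprime.coprime_dvd_left (orderOf_map_dvd _ gn) ?_
    rwa [← Subgroup.orderOf_coe]
  obtain ⟨r, hr, hrd⟩ := Nat.exists_prime_and_dvd (n := orderOf β₀)
    (fun h => hβ₀1 (orderOf_eq_one_iff.1 h))
  haveI := Fact.mk hr
  have hr2 : r ≠ 2 := fun h => Nat.prime_two.not_dvd_one (by
    have := Nat.dvd_gcd (h ▸ hrd) (dvd_refl 2)
    rwa [Nat.Coprime.gcd_eq_one hord] at this)
  set hn : normalizer (Q : Set G) := gn ^ (orderOf β₀ / r) with hhn
  set β := Q.normalizerMonoidHom hn with hβ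
  have hβord : orderOf β = r := by
    rw [hβ, hhn, map_pow, orderOf_pow_orderOf_div (orderOf_pos β₀).ne' hrd]
  have hβr : β ^ r = 1 := hβord ▸ pow_orderOf_eq_one β
  have hβ1 : β ≠ 1 := fun h => hr.one_lt.ne (by rw [← hβord, h, orderOf_one])
  obtain ⟨hidx, -⟩ := MetacyclicTwoAut.frattini_quotient hQ2 hQm hr2 hβr hβ1
  have hhnker : hn ∉ (modFrattini Q).ker := fun h =>
    hβ1 (MetacyclicTwoAut.eq_one_of_trivial hQ2 hr2 hβr (of_mem_ker_modFrattini h))
  -- a 2-subgroup of the kernel containing `Q` and normalized suitably lies in `Q`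
  have hgrow : ∀ T : Subgroup G, IsPGroup 2 T → ∀ hTN : T ≤ normalizer (Q : Set G),
      T.subgroupOf (normalizer (Q : Set G)) ≤ (modFrattini Q).ker → Q ≤ T → T = Q := by
    intro T hT hTN hTk hQT
    set W := (modFrattini Q).ker with hW
    obtain ⟨P, hP⟩ := ((hT.comap_subtype (K := (normalizer (Q : Set G)))).comap_subtype (K := W)).exists_le_sylow
    set T₁ := ((P : Subgroup W).map W.subtype).map (normalizer (Q : Set G)).subtype with hT₁
    have hTT₁ : T ≤ T₁ := fun x hx =>
      ⟨⟨x, hTN hx⟩, ⟨⟨⟨x, hTN hx⟩, hTk hx⟩, hP hx, rfl⟩, rfl⟩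
    have hT₁2 : IsPGroup 2 T₁ := (P.isPGroup'.map _).map _
    have hsup := Sylow.normalizer_sup_eq_top P
    obtain ⟨n, hnn, w, hw, hnw⟩ := mem_sup_of_normal_right.1 (hsup ▸ mem_top hn)
    have hnmod : modFrattini Q n = modFrattini Q hn := by
      rw [← hnw, map_mul, MonoidHom.mem_ker.1 hw, mul_one]
    obtain ⟨a, ha, b, hb, hab, ⟨j, hj⟩, hb2⟩ :=
      CfsgLib.Transfer.exists_pPart_mul (p := 2) n
    have hm1 : modFrattini Q hn ≠ 1 := hhnker
    have ha1 : modFrattini Q a = 1 := by
      obtain ⟨i, rfl⟩ := ha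
      rw [map_zpow, hnmod]
      have h1 : orderOf (modFrattini Q hn) ∣ r := by
        refine orderOf_dvd_of_pow_eq_one ?_
        rw [← map_pow]
        refine mem_ker_modFrattini fun x => ?_
        rw [map_pow, ← hβ, hβr]
        simp
      have h2 : orderOf ((modFrattini Q hn) ^ i) ∣ 2 ^ j := by
        have := (orderOf_map_dvd (modFrattini Q) (n ^ i)).trans hj
        rwa [map_zpow, hnmod] at this
      have h3 : orderOf ((modFrattini Q hn) ^ i) ∣ r := orderOf_dvd_of_pow_eq_one (by
        rw [← zpow_natCast, ← zpow_mul, mul_comm, zpow_mul, zpow_natCast,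
          orderOf_dvd_iff_pow_eq_one.1 h1, one_zpow])
      exact orderOf_eq_one_iff.1 (Nat.eq_one_of_dvd_coprimes
        (Nat.Coprime.pow_right j ((Nat.coprime_primes hr Nat.prime_two).2 hr2)) h3 h2)
    have hb1 : modFrattini Q b = modFrattini Q hn := by
      rw [← hnmod, ← hab, map_mul, ha1, one_mul]
    have hbT : (b : G) ∈ normalizer (T₁ : Set G) := by
      have hbn : b ∈ normalizer ((P : Subgroup W).map W.subtype : Set (normalizer (Q : Set G))) := zpowers_le.2 hnn hb
      exact le_normalizer_map (normalizer (Q : Set G)).subtype (mem_map_of_mem (normalizer (Q : Set G)).subtype hbn)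
    have hbad' : Bad T₁ := by
      refine ⟨hT₁2, b, hbT, by rwa [Subgroup.orderOf_coe], fun hc => hm1 ?_⟩
      rw [← hb1]
      refine mem_ker_modFrattini fun x => ?_
      have hfix : Q.normalizerMonoidHom b x = x := Subtype.ext (by
        show (b : G) * x * (b : G)⁻¹ = x
        rw [← mem_centralizer_iff.1 hc x (hTT₁ (hQT x.2)), mul_inv_cancel_right])
      rw [hfix, inv_mul_cancel]
      exact one_mem _
    exact (eq_of_le_of_card_ge hQT
      ((card_le_of_le hTT₁).trans (hmax T₁ hbad'))).symm
  set R := (S : Subgroup G) ⊓ normalizer (Q : Set G) with hR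
  have hQR : Q ≤ R := le_inf hQS le_normalizer
  -- the part of `R` acting trivially is `Q`
  set T := ((modFrattini Q).ker.map (normalizer (Q : Set G)).subtype) ⊓ R with hTdef
  have hQT : Q ≤ T := by
    intro x hx
    refine mem_inf.2 ⟨⟨⟨x, le_normalizer hx⟩, mem_ker_modFrattini fun y => ?_, rfl⟩, hQR hx⟩
    refine CfsgLib.PGroups.commutator_le_frattini hQ2 ?_
    have h1 : y⁻¹ * Q.normalizerMonoidHom ⟨x, le_normalizer hx⟩ y =
        ⁅y⁻¹, (⟨x, hx⟩ : Q)⁆ := by
      apply Subtype.ext
      show (y : G)⁻¹ * (x * y * x⁻¹) = _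
      rw [commutatorElement_def]
      simp [mul_assoc]
    rw [h1]
    exact commutator_mem_commutator (mem_top _) (mem_top _)
  have hTQ : T = Q := hgrow T (S.isPGroup'.to_le (inf_le_right.trans inf_le_left))
    (inf_le_right.trans inf_le_right) (fun x hx => by
      obtain ⟨y, hy, hye⟩ := (mem_inf.1 (show (x : G) ∈ T from hx)).1
      rwa [show x = y from Subtype.ext hye.symm]) hQT
  -- elements of `R` act trivially on the Frattini quotient
  have htriv : ∀ t ∈ R, t ∈ T := by
    intro t ht
    obtain ⟨htS, htN⟩ := mem_inf.1 ht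
    set f := modFrattini Q ⟨t, htN⟩ with hf
    -- squares lie in `Q`
    have hf2 : f ^ 2 = 1 := by
      classical
      haveI := Fintype.ofFinite (Q ⧸ frattini Q)
      let φ : MulAut (Q ⧸ frattini Q) → Equiv.Perm {v : Q ⧸ frattini Q // v ≠ 1} :=
        fun e => e.toEquiv.subtypeEquiv fun v => by simp
      let Φh : MulAut (Q ⧸ frattini Q) →* Equiv.Perm {v : Q ⧸ frattini Q // v ≠ 1} :=
        MonoidHom.mk' φ fun e e' => Equiv.ext fun v => Subtype.ext rfl
      have hΦi : Function.Injective Φh := fun e e' h => MulEquiv.ext fun v => by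
        by_cases hv : v = 1
        · rw [hv, map_one, map_one]
        · exact congrArg Subtype.val (DFunLike.congr_fun h ⟨v, hv⟩)
      have hc : Nat.card {v : Q ⧸ frattini Q // v ≠ 1} = 3 := by
        rw [Nat.card_eq_fintype_card, Fintype.card_subtype_compl,
          ← Nat.card_eq_fintype_card, ← index_eq_card, hidx]
        simp
      have h6 : orderOf f ∣ 6 := by
        rw [← orderOf_injective Φh hΦi f]
        refine (orderOf_dvd_natCard (Φh f)).trans ?_
        rw [Nat.card_perm, hc]
        decide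
      obtain ⟨i, hi⟩ := IsPGroup.iff_orderOf.1 S.isPGroup' ⟨t, htS⟩
      have hd : orderOf f ∣ 2 ^ i := by
        refine (orderOf_map_dvd _ _).trans ?_
        rw [← Subgroup.orderOf_coe, ← hi, ← Subgroup.orderOf_coe]
      refine orderOf_dvd_iff_pow_eq_one.1 ((Nat.dvd_gcd h6 hd).trans ?_)
      rcases i with _ | i
      · simp
      · rw [show (6 : ℕ) = 2 * 3 from rfl, pow_succ', Nat.gcd_mul_left,
          (show Nat.gcd 3 (2 ^ i) = 1 from Nat.Coprime.pow_right i (by decide))]
    have hsqR : ∀ (x : G) (hx : x ∈ R), modFrattini Q ⟨x, hx.2⟩ ^ 2 = 1 → x ^ 2 ∈ Q := by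
      intro x hx h
      rw [← hTQ]
      refine mem_inf.2 ⟨⟨⟨x, hx.2⟩ ^ 2, ?_, rfl⟩, pow_mem hx 2⟩
      rw [SetLike.mem_coe, MonoidHom.mem_ker, map_pow]
      exact h
    have ht2 : t ^ 2 ∈ Q := hsqR t ht hf2
    refine mem_inf.2 ⟨⟨⟨t, htN⟩, mem_ker_modFrattini fun x => ?_, rfl⟩, ht⟩
    -- it suffices to look at the commutator
    set q : G := (x : G) with hq
    suffices h : ∃ w : Q, (w : G) = t * q * t⁻¹ * q⁻¹ ∧ w ∈ frattini Q by
      obtain ⟨w, hw, hwΦ⟩ := h
      have e : x⁻¹ * Q.normalizerMonoidHom ⟨t, htN⟩ x = x⁻¹ * w * x := by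
        apply Subtype.ext
        show q⁻¹ * (t * q * t⁻¹) = q⁻¹ * (w : G) * q
        rw [hw]
        group
      rw [e]
      simpa using (Subgroup.normal_of_characteristic (frattini Q)).conj_mem w hwΦ x⁻¹
    haveI := hQc
    set N₀ := N.map (S : Subgroup G).subtype with hN₀
    haveI hN₀c : IsCyclic N₀ :=
      isCyclic_of_surjective ((S : Subgroup G).subtype.subgroupMap N)
        ((S : Subgroup G).subtype.subgroupMap_surjective N)
    have hN₀2 : IsPGroup 2 N₀ := S.isPGroup'.to_le (map_subtype_le N)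
    have hSN₀ : ∀ y ∈ (S : Subgroup G), y ∈ normalizer (N₀ : Set G) := fun y hy =>
      le_normalizer_map _ (mem_map_of_mem (S : Subgroup G).subtype
        ((normalizer_eq_top_iff.2 hN).ge (mem_top (⟨y, hy⟩ : (S : Subgroup G)))))
    have hπmem : ∀ y : (S : Subgroup G), π y = 1 → (y : G) ∈ N₀ := fun y hy =>
      mem_map_of_mem _ ((QuotientGroup.eq_one_iff y).1 hy)
    set tS : (S : Subgroup G) := ⟨t, htS⟩
    set C := (S : Subgroup G) ⧸ N
    have hC2 : IsPGroup 2 C := S.isPGroup'.to_quotient N
    -- powers with exponent `s - 1`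
    have hpow : ∀ m : G, m ^ 2 ∈ Q → ∀ s : ℤ, (4 : ℤ) ∣ s - 1 →
        ∃ w : Q, (w : G) = m ^ (s - 1) ∧ w ∈ frattini Q := by
      intro m hm s hs
      obtain ⟨i, hi⟩ := hs
      refine ⟨((⟨m ^ 2, hm⟩ : Q) ^ i) ^ 2, ?_, CfsgLib.PGroups.pow_mem_frattini hQ2 _⟩
      rw [coe_pow, coe_zpow, hi]
      show ((m ^ 2) ^ i) ^ 2 = m ^ (4 * i)
      rw [← zpow_natCast m 2, ← zpow_mul, ← zpow_natCast _ 2, ← zpow_mul]
      congr 1
      push_cast
      ring
    by_cases htQN : π tS ∈ πQ.range
    · -- `t = q₀ n'`
      obtain ⟨q₀, hq₀⟩ := htQN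
      set n' : G := (q₀ : G)⁻¹ * t with hn'
      have hn'N : n' ∈ N₀ := by
        have := hπmem ((ι q₀)⁻¹ * tS) (by
          rw [map_mul, map_inv, show π (ι q₀) = πQ q₀ from rfl, hq₀, inv_mul_cancel])
        simpa [hn', tS, hι] using this
      have hn'R : n' ∈ R := mul_mem (inv_mem (hQR q₀.2)) ht
      have hn'2 : n' ^ 2 ∈ Q := by
        refine hsqR n' hn'R ?_
        have he : (⟨n', hn'R.2⟩ : normalizer (Q : Set G)) =
            ⟨(q₀ : G)⁻¹, inv_mem (le_normalizer q₀.2)⟩ * ⟨t, htN⟩ := rfl
        have hq1 : modFrattini Q ⟨(q₀ : G)⁻¹, inv_mem (le_normalizer q₀.2)⟩ = 1 := by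
          obtain ⟨y, hy, hye⟩ := (mem_inf.1 (hQT (inv_mem q₀.2))).1
          rw [show (⟨(q₀ : G)⁻¹, inv_mem (le_normalizer q₀.2)⟩ : normalizer (Q : Set G)) = y
            from Subtype.ext hye.symm]
          exact hy
        rw [he, map_mul, hq1, one_mul]
        exact hf2
      -- reduce to the commutator of `q` with `n'`
      suffices h : ∃ w : Q, (w : G) = q * n' * q⁻¹ * n'⁻¹ ∧ w ∈ frattini Q by
        obtain ⟨w, hw, hwΦ⟩ := h
        refine ⟨q₀ * w⁻¹ * q₀⁻¹ * (q₀ * x * q₀⁻¹ * x⁻¹), ?_, mul_mem
          ((Subgroup.normal_of_characteristic (frattini Q)).conj_mem _ (inv_mem hwΦ) q₀)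
          (CfsgLib.PGroups.commutator_le_frattini hQ2 ?_)⟩
        · simp only [coe_mul, coe_inv, hw, hn', hq]
          group
        · rw [← commutatorElement_def]
          exact commutator_mem_commutator (mem_top _) (mem_top _)
      obtain ⟨s, hs, hsN⟩ := exists_odd_power hN₀c hN₀2 (hSN₀ q (hQS x.2))
      have hz : q * n' * q⁻¹ * n'⁻¹ = n' ^ (s - 1) := by
        rw [hsN n' hn'N, zpow_sub_one]
      by_cases hsq : πQ.range = ⊤
      · -- then `Q` is abelian
        have hQab : ∀ a b : Q, a * b = b * a := by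
          rcases MetacyclicTwoAut.comm_or_quaternion hQ2 hQm hr2 hβr hβ1 with h | ⟨⟨e⟩⟩
          · exact h
          · exfalso
            have h8 : Nat.card Q = 8 := by
              rw [Nat.card_congr e.toEquiv, Nat.card_eq_fintype_card, QuaternionGroup.card]
            have h1 : Nat.card C * Nat.card πQ.ker = 8 := by
              rw [← h8, card_eq_card_quotient_mul_card_subgroup πQ.ker,
                Nat.card_congr (QuotientGroup.quotientKerEquivRange πQ).toEquiv, hsq, card_top]
            obtain ⟨i, hi⟩ := IsPGroup.iff_card.1 hC2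
            have hk2 : Nat.card πQ.ker ≤ 2 := by
              rcases i with _ | _ | i
              · rw [hi] at hQ; norm_num at hQ
              · rw [hi] at hQ; norm_num at hQ
              · rw [hi, pow_succ, pow_succ] at h1
                have := Nat.one_le_two_pow (n := i)
                nlinarith [Nat.card_pos (α := πQ.ker)]
            have hkz : πQ.ker ≤ center Q := by
              intro k hk
              by_cases hk1 : k = 1
              · rw [hk1]; exact one_mem _
              rw [mem_center_iff]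
              intro y
              have hc := (inferInstance : πQ.ker.Normal).conj_mem k hk y
              by_contra hne
              classical
              haveI := Fintype.ofFinite πQ.ker
              have h3 := Finset.card_le_univ ({⟨1, one_mem _⟩, ⟨k, hk⟩, ⟨y * k * y⁻¹, hc⟩} :
                Finset πQ.ker)
              rw [← Nat.card_eq_fintype_card] at h3
              have n1 : y * k * y⁻¹ ≠ 1 := fun h => hk1 (conj_eq_one_iff.1 h)
              have n2 : y * k * y⁻¹ ≠ k := fun h => hne (mul_inv_eq_iff_eq_mul.1 h)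
              rw [Finset.card_insert_of_notMem (by simp [Ne.symm hk1, n1.symm]),
                Finset.card_insert_of_notMem (by simp [n2.symm]), Finset.card_singleton] at h3
              omega
            haveI : IsCyclic (Q ⧸ πQ.ker) := isCyclic_of_injective
              (QuotientGroup.quotientKerEquivRange πQ).toMonoidHom
              (QuotientGroup.quotientKerEquivRange πQ).injective
            have hcomm := fun a b : Q => commutative_of_cyclic_center_quotient
              (QuotientGroup.mk' πQ.ker) (by rw [QuotientGroup.ker_mk']; exact hkz) a b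
            have h9 := congrArg e (hcomm (e.symm (QuaternionGroup.a 1)) (e.symm (QuaternionGroup.xa 0)))
            simp only [map_mul, MulEquiv.apply_symm_apply] at h9
            revert h9
            decide
        obtain ⟨m, a, hm1, haΦ, ham, hdis, -⟩ :=
          MetacyclicTwoAut.homocyclic hQ2 hQm hr2 hβr hβ1 hQab
        have hcomm : q * n' ^ 2 * q⁻¹ = n' ^ 2 := by
          have := congrArg Subtype.val (hQab x ⟨_, hn'2⟩)
          simp only [coe_mul] at this
          rw [this, mul_inv_cancel_right]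
        have hz2 : (n' ^ (s - 1)) ^ 2 = 1 := by
          rw [← hz]
          have e1 : (q * n' * q⁻¹) ^ 2 = n' ^ 2 := by rw [conj_pow, hcomm]
          have e2 : Commute (q * n' * q⁻¹) n'⁻¹ := by
            rw [hsN n' hn'N]; exact ((Commute.refl n').zpow_left s).inv_right
          rw [e2.mul_pow, e1, inv_pow, mul_inv_cancel]
        have hzQ : n' ^ (s - 1) ∈ Q := by
          obtain ⟨i, hi⟩ := hs
          rw [show s - 1 = 2 * i by omega, zpow_mul, zpow_two, ← sq]
          exact zpow_mem hn'2 i
        refine ⟨⟨_, hzQ⟩, hz.symm, ?_⟩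
        -- involutions of `Q` are squares
        have hm2 : 2 ≤ m := by
          by_contra hlt
          obtain rfl : m = 1 := by omega
          have hexp : ∀ y : Q, y ^ 2 = 1 := by
            intro y
            have ha2 : a ^ 2 = 1 := by rw [← pow_one 2, ← ham, pow_orderOf_eq_one]
            have hya : y ∈ closure ({a, β a} : Set Q) := by
              rw [MetacyclicTwoAut.closure_pair_eq_top hQ2 hQm hr2 hβr hβ1 haΦ]
              exact mem_top y
            induction hya using closure_induction with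
            | mem w hw =>
              rcases hw with rfl | rfl
              · exact ha2
              · rw [← map_pow, ha2, map_one]
            | one => exact one_pow 2
            | mul u v _ _ h1 h2 => rw [Commute.mul_pow (hQab u v), h1, h2, one_mul]
            | inv u _ h => rw [inv_pow, h, inv_one]
          obtain ⟨c, hc⟩ := IsCyclic.exists_ofOrder_eq_natCard (α := C)
          obtain ⟨y, hy⟩ := (hsq.ge (mem_top c) : c ∈ πQ.range)
          have := orderOf_map_dvd πQ y
          rw [hy, hc] at this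
          have h4 := Nat.le_of_dvd (orderOf_pos y) this
          have h5 := Nat.le_of_dvd two_pos (orderOf_dvd_of_pow_eq_one (hexp y))
          omega
        set u := a ^ 2 ^ (m - 1) with hu
        have hu2 : u ^ 2 = 1 := by
          rw [hu, ← pow_mul, ← pow_succ, Nat.sub_add_cancel hm1, ← ham, pow_orderOf_eq_one]
        have hu1 : u ≠ 1 := fun h => by
          have := orderOf_dvd_of_pow_eq_one h
          rw [ham, Nat.pow_dvd_pow_iff_le_right (le_refl 2)] at this
          omega
        have huΦ : u ∈ frattini Q := by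
          rw [hu, show 2 ^ (m - 1) = 2 ^ (m - 2) * 2 by rw [← pow_succ]; congr 1; omega, pow_mul]
          exact CfsgLib.PGroups.pow_mem_frattini hQ2 _
        have hv1 : β u ≠ 1 := fun h => hu1 (β.injective (h.trans (map_one β).symm))
        have hvΦ : β u ∈ frattini Q :=
          (characteristic_iff_comap_eq.1 (inferInstance : (frattini Q).Characteristic) β).ge huΦ
        have huv : u ≠ β u := fun h => hu1 (by
          have h' : u ∈ zpowers a ⊓ zpowers (β a) := mem_inf.2 ⟨pow_mem (mem_zpowers a) _, by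
            rw [h, hu, map_pow]; exact pow_mem (mem_zpowers _) _⟩
          rwa [hdis, mem_bot] at h')
        classical
        by_contra hwΦ
        set wz : Q := ⟨_, hzQ⟩ with hwz
        have hw2 : wz ^ 2 = 1 := Subtype.ext hz2
        haveI := Fintype.ofFinite {y : Q // y * y = 1}
        have e : ∀ y : Q, y ^ 2 = 1 → y * y = 1 := fun y hy => (sq y).symm.trans hy
        have h5 := Finset.card_le_univ ({⟨1, one_mul 1⟩, ⟨u, e u hu2⟩,
          ⟨β u, e _ (by rw [← map_pow, hu2, map_one])⟩,
          ⟨u * β u, e _ (by rw [Commute.mul_pow (hQab _ _), hu2, ← map_pow, hu2, map_one,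
            one_mul])⟩, ⟨wz, e _ hw2⟩} : Finset {y : Q // y * y = 1})
        rw [← Nat.card_eq_fintype_card] at h5
        have h4 := MetacyclicTwoAut.card_sq_eq_one_le_four hQm hQab
        have k1 : u * β u ≠ 1 := fun h => huv (mul_left_cancel (((sq u).symm.trans hu2).trans h.symm))
        have k2 : u * β u ≠ u := fun h => hv1 (mul_eq_left.1 h)
        have k3 : u * β u ≠ β u := fun h => hu1 (mul_eq_right.1 h)
        have k4 : ∀ y ∈ frattini Q, y ≠ wz := fun y hy h => hwΦ (h ▸ hy)
        simp [Finset.card_insert_of_notMem, hu1.symm, hv1.symm, huv, k1.symm, k2.symm, k3.symm,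
          k4 1 (one_mem _), k4 u huΦ, k4 _ hvΦ, k4 _ (mul_mem huΦ hvΦ)] at h5
        have h6 := Nat.card_eq_fintype_card (α := {y : Q // y * y = 1})
        omega
      · -- `q` is a square modulo `N`
        obtain ⟨c, -, hc⟩ := SetLike.exists_of_lt (lt_top_iff_ne_top.2 hsq)
        obtain ⟨i, hi⟩ := le_zpowers_sq hC2 hc (⟨x, rfl⟩ : πQ x ∈ πQ.range)
        obtain ⟨y, rfl⟩ := QuotientGroup.mk'_surjective N c
        obtain ⟨s₁, hs₁, hs₁N⟩ := exists_odd_power hN₀c hN₀2 (hSN₀ _ (zpow_mem y.2 i))
        set y' : G := (y : G) ^ i with hy'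
        have hd : ((y' * y')⁻¹ * q) ∈ N₀ := by
          have := hπmem ((y ^ (i : ℤ) * y ^ (i : ℤ))⁻¹ * ι x) (by
            have hi' : (π y ^ 2) ^ i = πQ x := hi
            rw [map_mul, map_inv, show π (ι x) = πQ x from rfl, ← hi', map_mul, map_zpow,
              ← zpow_natCast, ← zpow_mul, ← zpow_add]
            rw [show i + i = ((2 : ℕ) : ℤ) * i by push_cast; ring, inv_mul_cancel])
          simpa [hy', hι] using this
        have hzs : q * n' * q⁻¹ * n'⁻¹ = n' ^ (s₁ * s₁ - 1) := by
          have hcomm : Commute ((y' * y')⁻¹ * q) n' := by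
            haveI := hN₀c
            exact congrArg Subtype.val
              ((IsCyclic.isMulCommutative (α := N₀)).is_comm.comm ⟨_, hd⟩ ⟨_, hn'N⟩)
          have e : q * n' * q⁻¹ = y' * (y' * n' * y'⁻¹) * y'⁻¹ := by
            calc q * n' * q⁻¹ = (y' * y') * (((y' * y')⁻¹ * q) * n' * ((y' * y')⁻¹ * q)⁻¹) *
                (y' * y')⁻¹ := by group
              _ = (y' * y') * n' * (y' * y')⁻¹ := by rw [hcomm.eq, mul_inv_cancel_right]
              _ = _ := by group
          rw [e, hs₁N n' hn'N, ← conj_zpow, hs₁N n' hn'N, ← zpow_mul, zpow_sub_one]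
        rw [hzs]
        refine hpow n' hn'2 _ ?_
        obtain ⟨l, rfl⟩ := hs₁
        exact ⟨l * l + l, by ring⟩
    · -- `q ∈ ⟨t²⟩ N`
      obtain ⟨i, hi⟩ := le_zpowers_sq hC2 htQN (⟨x, rfl⟩ : πQ x ∈ πQ.range)
      set c : G := (t ^ 2) ^ i with hc
      have hcQ : c ∈ Q := zpow_mem ht2 i
      set n : G := c⁻¹ * q with hn'
      have hnN : n ∈ N₀ := by
        have := hπmem (((tS ^ 2) ^ i)⁻¹ * ι x) (by
          have hi' : (π tS ^ 2) ^ i = πQ x := hi
          rw [map_mul, map_inv, show π (ι x) = πQ x from rfl, ← hi', map_zpow, map_pow,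
            inv_mul_cancel])
        simpa [hn', hc, tS, hι] using this
      have hnQ : n ∈ Q := mul_mem (inv_mem hcQ) x.2
      obtain ⟨s, ⟨l, rfl⟩, hsN⟩ := exists_odd_power hN₀c hN₀2 (hSN₀ t htS)
      have e : t * q * t⁻¹ * q⁻¹ = c * (n ^ (2 : ℕ)) ^ l * c⁻¹ := by
        have hct : t * c * t⁻¹ = c := by
          have : Commute t c := ((Commute.refl t).pow_right 2).zpow_right i
          rw [this.eq, mul_inv_cancel_right]
        calc t * q * t⁻¹ * q⁻¹ = (t * c * t⁻¹) * (t * n * t⁻¹ * n⁻¹) * c⁻¹ := by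
              rw [hn']; group
          _ = c * (n ^ (2 * l + 1) * n⁻¹) * c⁻¹ := by rw [hct, hsN n hnN]
          _ = _ := by
              rw [← zpow_sub_one, show 2 * l + 1 - 1 = 2 * l by ring, zpow_mul, zpow_ofNat]
      refine ⟨⟨c, hcQ⟩ * ((⟨n, hnQ⟩ : Q) ^ 2) ^ l * (⟨c, hcQ⟩ : Q)⁻¹, by simp [e], ?_⟩
      exact (Subgroup.normal_of_characteristic (frattini Q)).conj_mem _
        (zpow_mem (CfsgLib.PGroups.pow_mem_frattini hQ2 _) l) _
  have hRQ : R = Q := le_antisymm (fun t ht => hTQ ▸ htriv t ht) hQR
  have hQeq : Q = (S : Subgroup G) := by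
    by_contra hne
    have := CfsgLib.Transfer.lt_inf_normalizer S.isPGroup' (lt_of_le_of_ne hQS hne)
    exact this.ne hRQ.symm
  -- `S` itself has an automorphism of odd order
  rcases MetacyclicTwoAut.comm_or_quaternion hQ2 hQm hr2 hβr hβ1 with h | ⟨⟨e⟩⟩
  · have h' := congrArg Q.subtype (h ⟨sa, hQeq.symm ▸ sa.2⟩ ⟨sb, hQeq.symm ▸ sb.2⟩)
    exact hsab (Subtype.ext h')
  · have h8 : Nat.card (S : Subgroup G) = 8 := by
      rw [← hQeq, Nat.card_congr e.toEquiv, Nat.card_eq_fintype_card, QuaternionGroup.card]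
    have h1 := card_eq_card_quotient_mul_card_subgroup N
    rw [h8] at h1
    haveI := hQc
    obtain ⟨i, hi⟩ := IsPGroup.iff_card.1 (S.isPGroup'.to_quotient N)
    have hk2 : Nat.card N ≤ 2 := by
      rcases i with _ | _ | i
      · rw [hi] at hQ; norm_num at hQ
      · rw [hi] at hQ; norm_num at hQ
      · rw [hi, pow_succ, pow_succ] at h1
        have := Nat.one_le_two_pow (n := i)
        nlinarith [Nat.card_pos (α := N)]
    have hkz : N ≤ center (S : Subgroup G) := by
      intro k hk
      by_cases hk1 : k = 1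
      · rw [hk1]; exact one_mem _
      rw [mem_center_iff]
      intro y
      have hc := hN.conj_mem k hk y
      by_contra hne
      classical
      haveI := Fintype.ofFinite N
      have h3 := Finset.card_le_univ ({⟨1, one_mem _⟩, ⟨k, hk⟩, ⟨y * k * y⁻¹, hc⟩} : Finset N)
      rw [← Nat.card_eq_fintype_card] at h3
      have n1 : y * k * y⁻¹ ≠ 1 := fun h => hk1 (conj_eq_one_iff.1 h)
      have n2 : y * k * y⁻¹ ≠ k := fun h => hne (mul_inv_eq_iff_eq_mul.1 h)
      rw [Finset.card_insert_of_notMem (by simp [Ne.symm hk1, n1.symm]),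
        Finset.card_insert_of_notMem (by simp [n2.symm]), Finset.card_singleton] at h3
      omega
    exact hsab (commutative_of_cyclic_center_quotient (QuotientGroup.mk' N)
      (by rw [QuotientGroup.ker_mk']; exact hkz) sa sb)

/-- **Solvability**. -/
theorem isSolvable (hFT : CfsgLib.FT.OddOrderThm.{u}) (S : Sylow 2 G)
    (N : Subgroup (S : Subgroup G)) [N.Normal] (hNc : IsCyclic N)
    (hQc : IsCyclic ((S : Subgroup G) ⧸ N)) (hQ : 2 < Nat.card ((S : Subgroup G) ⧸ N)) :
    Group.IsSolvable G := by
  classical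
  rcases not_bad_or_comm S N hNc hQc hQ with hab | hnb
  · have hm : IsMetacyclic (S : Subgroup G) := ⟨N, inferInstance, hNc, hQc⟩
    have hle : 4 ≤ Nat.card (S : Subgroup G) := by
      obtain ⟨i, hi⟩ := IsPGroup.iff_card.1 (S.isPGroup'.to_quotient N)
      have h1 := card_eq_card_quotient_mul_card_subgroup N
      rw [hi] at hQ h1
      rcases i with _ | _ | i
      · norm_num at hQ
      · norm_num at hQ
      · rw [h1, pow_succ, pow_succ]
        have := Nat.one_le_two_pow (n := i)
        nlinarith [Nat.card_pos (α := N)]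
    rcases hle.lt_or_eq with h4 | h4
    · set O := oddCore G
      haveI : O.Normal := pPrimeCore_normal 2 G
      have hO : CfsgLib.Blocks.NoOddNormal (G ⧸ O) := fun K hK hodd => by
        have h := CfsgLib.Base.le_oddCore (N := K) hodd
        rwa [show oddCore (G ⧸ O) = ⊥ from Base.pPrimeCore_quotient_pPrimeCore 2 G,
          le_bot_iff] at h
      have hodd : Odd (Nat.card O) := CfsgLib.Base.le_oddCore_iff.1 le_rfl
      let π := QuotientGroup.mk' O
      let S' := S.mapSurjective (f := π) (QuotientGroup.mk'_surjective O)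
      have hinj : Function.Injective (π.subgroupMap (S : Subgroup G)) := by
        refine (injective_iff_map_eq_one _).2 fun x hx => ?_
        have h1 : (x : G) ∈ O := (QuotientGroup.eq_one_iff _).1 (congrArg Subtype.val hx)
        obtain ⟨i, hi⟩ := IsPGroup.iff_orderOf.1 S.isPGroup' x
        have h2 := Subgroup.orderOf_dvd_natCard O h1
        rw [Subgroup.orderOf_coe, hi] at h2
        rcases i with _ | i
        · exact orderOf_eq_one_iff.1 hi
        · exact absurd (hodd.of_dvd_nat h2) (Nat.not_odd_iff_even.2 (by simp [Nat.even_pow]))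
      have heq : (S' : Subgroup (G ⧸ O)) = (S : Subgroup G).map π := Sylow.coe_mapSurjective _ _
      let eS : (S : Subgroup G) ≃* (S' : Subgroup (G ⧸ O)) :=
        (MulEquiv.ofBijective _ ⟨hinj, π.subgroupMap_surjective _⟩).trans
          (MulEquiv.subgroupCongr heq.symm)
      have hfew : CfsgLib.Blocks.FewInvolutions S' := ⟨fun a b => eS.symm.injective
        (by rw [map_mul, map_mul, hab]), by
        refine le_trans (le_of_eq (Nat.card_congr ?_))
          (MetacyclicTwoAut.card_sq_eq_one_le_four hm hab)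
        exact (eS.symm.toEquiv.subtypeEquiv fun x => by
          change x * x = 1 ↔ eS.symm x * eS.symm x = 1
          rw [← map_mul, map_eq_one_iff _ eS.symm.injective])⟩
      obtain ⟨M, hMax, h2M⟩ := CfsgLib.BlockOrth.exists_maximal_above 2
      have hn : (S' : Subgroup (G ⧸ O)).Normal :=
        CfsgLib.Blocks.sylow_normal_of_fewInvolutions ⟨Fact.out, hMax, h2M⟩ _ (G ⧸ O)
          le_rfl hO S' hfew (by rw [← Nat.card_congr eS.toEquiv]; exact h4)
      haveI := hn
      haveI : Group.IsSolvable (S' : Subgroup (G ⧸ O)) := by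
        haveI := S'.isPGroup'.isNilpotent
        infer_instance
      haveI : Group.IsSolvable ((G ⧸ O) ⧸ (S' : Subgroup (G ⧸ O))) := hFT _ (by
        rw [← index_eq_card]
        exact Nat.odd_iff.2 (Nat.two_dvd_ne_zero.1 S'.not_dvd_index))
      haveI : Group.IsSolvable O := hFT O hodd
      haveI : Group.IsSolvable (G ⧸ O) :=
        solvable_of_ker_le_range (S' : Subgroup (G ⧸ O)).subtype
          (QuotientGroup.mk' (S' : Subgroup (G ⧸ O))) (by simp)
      exact solvable_of_ker_le_range O.subtype (QuotientGroup.mk' O) (by simp)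
    · -- order four: cyclic
      haveI : IsCyclic (S : Subgroup G) := by
        have h1 := card_eq_card_quotient_mul_card_subgroup N
        obtain ⟨i, hi⟩ := IsPGroup.iff_card.1 (S.isPGroup'.to_quotient N)
        rw [hi] at hQ h1
        have hN1 : Nat.card N = 1 := by
          rcases i with _ | _ | i
          · norm_num at hQ
          · norm_num at hQ
          · rw [← h4, pow_succ, pow_succ] at h1
            have := Nat.one_le_two_pow (n := i)
            nlinarith [Nat.card_pos (α := N)]
        exact isCyclic_of_injective (QuotientGroup.mk' N) (by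
          rw [← MonoidHom.ker_eq_bot_iff, QuotientGroup.ker_mk']
          exact N.eq_bot_of_card_eq hN1)
      have hmin : (Nat.card G).minFac = 2 := by
        rw [Nat.minFac_eq_two_iff]
        exact (show 2 ∣ Nat.card (S : Subgroup G) by omega).trans
          (S : Subgroup G).card_subgroup_dvd_card
      exact CentralizedSylow.isSolvable_of_hasNormalTwoComplement hFT
        (CfsgLib.Transfer.hasNormalPComplement_of_normalizer_le_centralizer S
          (IsCyclic.normalizer_le_centralizer hmin ‹_›))
  · refine CentralizedSylow.isSolvable_of_hasNormalTwoComplement hFT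
      ((CfsgLib.Transfer.hasNormalPComplement_iff_forall_centralizing S).2 ?_)
    intro Q hQS g hg hcop
    by_contra hgc
    exact hnb Q hQS ⟨S.isPGroup'.to_le hQS, g, hg, hcop, hgc⟩

end CfsgLib.Involutions.MetacyclicSylowTwo
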