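import Cfsg.Agent.Lib.Involutions.CentricFusion

/-!
# Groups with modular Sylow 2-subgroups

The 2-group `⟨a, b⟩` with `a ^ 2 ^ n = b ^ 2 = 1` and `b a b⁻¹ = a ^ (2 ^ (n - 1) + 1)`.
-/

set_option autoImplicit false

open Subgroup

namespace CfsgLib.Involutions

variable {G : Type*} [Group G] [Finite G]

/-- An element of odd order fixing `W`, moving `v` inside `v W` or `v u W` with `u` fixed, fixes
`v`. -/
theorem commute_of_two_cosets {W : Subgroup G} (hW : IsPGroup 2 W) {y : G} (hy : Odd (orderOf y))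
    (hfix : ∀ w ∈ W, Commute y w) {v u : G} (hu : u * u = 1) (hvW : ∀ w ∈ W, Commute v w)
    (huW : ∀ w ∈ W, Commute u w)
    (h : (∃ w ∈ W, y * v * y⁻¹ = v * w) ∨
      (Commute y u ∧ ∃ w ∈ W, y * v * y⁻¹ = v * u * w)) : Commute y v := by
  rcases h with ⟨w, hw, h⟩ | ⟨hyu, w, hw, h⟩
  · refine commute_of_stab hW hy hfix ?_
    rw [h, (hvW w hw).eq, mul_inv_cancel_right]
    exact hw
  have h2 : y ^ 2 * v * (y ^ 2)⁻¹ * v⁻¹ = w * w := by
    calc y ^ 2 * v * (y ^ 2)⁻¹ * v⁻¹ = y * (y * v * y⁻¹) * y⁻¹ * v⁻¹ := by rw [sq]; group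
      _ = y * (v * u * w) * y⁻¹ * v⁻¹ := by rw [h]
      _ = (y * v * y⁻¹) * (y * u * y⁻¹) * (y * w * y⁻¹) * v⁻¹ := by group
      _ = v * u * w * u * w * v⁻¹ := by
        rw [hyu.eq, mul_inv_cancel_right, (hfix w hw).eq, mul_inv_cancel_right, h]
      _ = v * (u * (w * u)) * w * v⁻¹ := by group
      _ = v * (w * w) * v⁻¹ := by
        rw [← (huW w hw).eq, ← mul_assoc u, hu, one_mul, mul_assoc v w w]
      _ = w * w := by rw [(hvW _ (mul_mem hw hw)).eq, mul_inv_cancel_right]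
  obtain ⟨m, hm⟩ := hy
  have hy2 : Odd (orderOf (y ^ 2)) := by
    refine Odd.of_dvd_nat (n := orderOf y) ⟨m, hm⟩ (orderOf_pow_dvd 2)
  have hc := commute_of_stab hW hy2 (fun w hw => (hfix w hw).pow_left 2) (v := v)
    (h2 ▸ mul_mem hw hw)
  have hy' : y = (y ^ 2) ^ (m + 1) := by
    rw [← pow_mul, show 2 * (m + 1) = orderOf y + 1 by omega, pow_succ, pow_orderOf_eq_one, one_mul]
  rw [hy']
  exact hc.pow_left _

/-- A finite group with a modular Sylow 2-subgroup of order at least 16 has a normal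
2-complement. -/
theorem hasNormalPComplement_of_modular (S : Sylow 2 G) (n : ℕ) (hn : 3 ≤ n)
    (hS : Nat.card (S : Subgroup G) = 2 ^ (n + 1)) (a b : G) (ha : a ∈ (S : Subgroup G))
    (hb : b ∈ (S : Subgroup G)) (hao : orderOf a = 2 ^ n) (hbo : orderOf b = 2)
    (hrel : b * a * b⁻¹ = a ^ (2 ^ (n - 1) + 1)) : Cfsg.HasNormalPComplement 2 G := by
  classical
  haveI : Fact (Nat.Prime 2) := ⟨Nat.prime_two⟩
  have hb2 : b * b = 1 := invol_mul_self hbo
  have hbi : b⁻¹ = b := inv_eq_of_mul_eq_one_right hb2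
  -- `b` centralises the even powers
  have hba : ∀ i : ℕ, b * a ^ i = a ^ (i * (2 ^ (n - 1) + 1)) * b := by
    intro i
    rw [mul_comm, pow_mul, ← hrel, conj_pow, inv_mul_cancel_right]
  have hk : ∀ k : ℕ, 2 ^ n ∣ k → a ^ k = 1 := fun k hk =>
    orderOf_dvd_iff_pow_eq_one.mp (hao ▸ hk)
  have h2n : 2 ^ n = 2 * 2 ^ (n - 1) := by rw [← pow_succ', Nat.sub_add_cancel (by omega)]
  have h4n : 2 ^ (n - 1) = 2 * 2 ^ (n - 2) := by
    rw [← pow_succ', show n - 2 + 1 = n - 1 by omega]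
  have hbeven : ∀ j : ℕ, Commute b (a ^ (2 * j)) := by
    intro j
    show b * _ = _
    rw [hba, show 2 * j * (2 ^ (n - 1) + 1) = 2 ^ n * j + 2 * j by rw [h2n]; ring, pow_add,
      hk _ (dvd_mul_right _ _), one_mul]
  set A := zpowers a with hA
  set T := (S : Subgroup G) with hT
  have hbA : b ∉ A := by
    rintro ⟨k, rfl⟩
    have h1 : a ^ (2 ^ (n - 1)) * a = 1 * a := by
      rw [one_mul, ← pow_succ, ← hrel]; group
    have h2 := orderOf_dvd_of_pow_eq_one (mul_right_cancel h1)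
    rw [hao, Nat.pow_dvd_pow_iff_le_right (by norm_num)] at h2
    omega
  have hAT : A ≤ T := zpowers_le.mpr ha
  have hidx : (A.subgroupOf T).index = 2 := by
    have h := (A.subgroupOf T).card_mul_index
    rw [Nat.card_congr (subgroupOfEquivOfLe hAT).toEquiv, hA, Nat.card_zpowers, hao, hS,
      pow_succ] at h
    exact Nat.eq_of_mul_eq_mul_left (by positivity) h
  -- every element is `a ^ i` or `a ^ i * b`
  have hform : ∀ s ∈ T, ∃ i : ℕ, s = a ^ i ∨ s = a ^ i * b := by
    intro s hs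
    by_cases hsA : s ∈ A
    · obtain ⟨i, hi⟩ := (mem_powers_iff_mem_zpowers).mpr hsA
      exact ⟨i, Or.inl hi.symm⟩
    · have h := Subgroup.mul_mem_iff_of_index_two hidx (a := (⟨s, hs⟩ : T)) (b := ⟨b, hb⟩)
      simp only [mem_subgroupOf, Subgroup.coe_mul] at h
      obtain ⟨i, hi⟩ := (mem_powers_iff_mem_zpowers).mpr
        (h.mpr ⟨fun h' => absurd h' hsA, fun h' => absurd h' hbA⟩)
      exact ⟨i, Or.inr (by rw [show a ^ i = s * b from hi, mul_assoc, hb2, mul_one])⟩
  have hsq : ∀ i : ℕ, (a ^ i * b) * (a ^ i * b) = a ^ (2 * i * (1 + 2 ^ (n - 2))) := by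
    intro i
    calc (a ^ i * b) * (a ^ i * b) = a ^ i * (b * a ^ i) * b := by group
      _ = a ^ i * a ^ (i * (2 ^ (n - 1) + 1)) * (b * b) := by rw [hba]; group
      _ = _ := by rw [hb2, mul_one, ← pow_add, h4n]; congr 1; ring
  -- generators of the powers
  have hW2 : orderOf (a ^ 2) = 2 ^ (n - 1) := by
    rw [orderOf_pow' a (by norm_num), hao, Nat.gcd_eq_right (dvd_pow_self 2 (by omega)), h2n,
      Nat.mul_div_cancel_left _ (by norm_num : 0 < 2)]
  have h24 : orderOf (a ^ 4) = 2 ^ (n - 2) := by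
    rw [show (4 : ℕ) = 2 * 2 from rfl, pow_mul, orderOf_pow' _ (by norm_num), hW2,
      Nat.gcd_eq_right (dvd_pow_self 2 (by omega)), h4n,
      Nat.mul_div_cancel_left _ (by norm_num : 0 < 2)]
  have hodd1 : Odd (1 + 2 ^ (n - 2)) := by
    refine odd_one.add_even ?_
    exact (Nat.even_pow).mpr ⟨even_two, by omega⟩
  have hgen : ∀ i, Odd i → ∀ s, (s = a ^ i ∨ s = a ^ i * b) → ∃ k : ℕ, (s * s) ^ k = a ^ 2 := by
    intro i hi s hs
    rcases hs with rfl | rfl
    · obtain ⟨k, hk⟩ := exists_pow_eq_self_of_coprime (x := a ^ 2) (n := i)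
        (by rw [hW2]; exact (Nat.coprime_two_right.mpr hi).pow_right _)
      exact ⟨k, by rw [← pow_add, ← two_mul, pow_mul, hk]⟩
    · obtain ⟨k, hk⟩ := exists_pow_eq_self_of_coprime (x := a ^ 2) (n := i * (1 + 2 ^ (n - 2)))
        (by rw [hW2]; exact (Nat.coprime_two_right.mpr (hi.mul hodd1)).pow_right _)
      exact ⟨k, by rw [hsq, mul_assoc 2 i, pow_mul, hk]⟩
  set W := zpowers (a ^ 2) with hW
  set W4 := zpowers (a ^ 4) with hW4
  have hevenW : ∀ i, Even i → a ^ i ∈ W := fun i ⟨j, hj⟩ => by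
    rw [hj, ← two_mul, pow_mul]; exact pow_mem (mem_zpowers _) j
  have hsqW : ∀ s ∈ T, s * s ∈ W := by
    intro s hs
    obtain ⟨i, rfl | rfl⟩ := hform s hs
    · rw [← pow_add]; exact hevenW _ ⟨i, rfl⟩
    · rw [hsq, mul_assoc]; exact hevenW _ (even_two_mul _)
  have hW2' : a ^ 2 ≠ 1 := fun h => by
    rw [h, orderOf_one] at hW2
    exact absurd hW2 (Nat.one_lt_two_pow (by omega)).ne
  have h4' : a ^ 4 ≠ 1 := fun h => by
    rw [h, orderOf_one] at h24
    exact absurd h24 (Nat.one_lt_two_pow (by omega)).ne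
  have hinvol : ∀ s ∈ T, orderOf s = 2 → s ∈ W ∨ ∃ w ∈ W, s = b * w := by
    intro s hs hso
    obtain ⟨i, hi⟩ := hform s hs
    rcases Nat.even_or_odd i with he | ho
    · rcases hi with rfl | rfl
      · exact Or.inl (hevenW i he)
      · exact Or.inr ⟨a ^ i, hevenW i he, by
          obtain ⟨j, rfl⟩ := he; rw [← two_mul]; exact (hbeven j).symm.eq⟩
    · obtain ⟨k, hk⟩ := hgen i ho s hi
      rw [invol_mul_self hso, one_pow] at hk
      exact absurd hk.symm hW2'
  have hcenT : ∀ s ∈ T, Commute (a ^ 2) s := by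
    intro s hs
    obtain ⟨i, rfl | rfl⟩ := hform s hs
    · exact Commute.pow_pow (Commute.refl a) 2 i
    · exact (Commute.pow_pow (Commute.refl a) 2 i).mul_right (by simpa using (hbeven 1).symm)
  have hcen : ∀ s ∈ T, ∀ w ∈ W, Commute s w := by
    rintro s hs _ ⟨k, rfl⟩
    exact (hcenT s hs).symm.zpow_right k
  have hW4W : W4 ≤ W := zpowers_le.mpr (hevenW 4 ⟨2, rfl⟩)
  have hWT : W ≤ T := zpowers_le.mpr (pow_mem ha 2)
  have hWp : IsPGroup 2 W := S.2.to_le hWT
  have hW4p : IsPGroup 2 W4 := S.2.to_le (hW4W.trans hWT)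
  refine hasNormalPComplement_of_centric S fun D hD y hy hyp d hd => ?_
  have hyo : Odd (orderOf y) := Nat.coprime_two_right.mp hyp
  have hyD : ∀ x ∈ D, y * x * y⁻¹ ∈ D := fun x hx => (mem_normalizer_iff.mp hy x).mp hx
  have hDT : D ≤ T := hD.1
  have h2D : a ^ 2 ∈ D := hD.2 _ (pow_mem ha 2) (mem_centralizer_iff.mpr fun x hx =>
    (hcenT x (hDT hx)).symm.eq)
  -- step one
  have hfix2 : Commute y (a ^ 2) := by
    by_cases hodd : ∃ s ∈ D, ∃ i, Odd i ∧ (s = a ^ i ∨ s = a ^ i * b)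
    · obtain ⟨s, hs, i, hi, his⟩ := hodd
      obtain ⟨k, hk⟩ := hgen i hi s his
      haveI : IsCyclic W := Subgroup.isCyclic_zpowers _
      refine commute_of_cyclic hWp hyo (fun w hw => ?_) _ (mem_zpowers _)
      obtain ⟨l, rfl⟩ := hw
      rw [← conj_zpow]
      refine zpow_mem ?_ l
      rw [← hk, ← conj_pow]
      refine pow_mem ?_ k
      rw [show y * (s * s) * y⁻¹ = (y * s * y⁻¹) * (y * s * y⁻¹) by group]
      exact hsqW _ (hDT (hyD s hs))
    push Not at hodd
    have hform' : ∀ s ∈ D, ∃ j : ℕ, s = a ^ (2 * j) ∨ s = a ^ (2 * j) * b := by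
      intro s hs
      obtain ⟨i, hi⟩ := hform s (hDT hs)
      rcases Nat.even_or_odd i with ⟨j, hj⟩ | ho
      · exact ⟨j, by rwa [two_mul, ← hj]⟩
      · rcases hi with hi | hi
        · exact absurd hi (hodd s hs i ho).1
        · exact absurd hi (hodd s hs i ho).2
    have hmem4 : ∀ m : ℕ, a ^ (4 * m) ∈ W4 := fun m => by
      rw [pow_mul]; exact pow_mem (mem_zpowers _) m
    have hsq4 : ∀ s ∈ D, s * s ∈ W4 := by
      intro s hs
      obtain ⟨j, rfl | rfl⟩ := hform' s hs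
      · rw [← pow_add, show 2 * j + 2 * j = 4 * j by ring]; exact hmem4 j
      · rw [hsq, show 2 * (2 * j) * (1 + 2 ^ (n - 2)) = 4 * (j * (1 + 2 ^ (n - 2))) by ring]
        exact hmem4 _
    have hfix4 : ∀ w ∈ W4, Commute y w := by
      haveI : IsCyclic W4 := Subgroup.isCyclic_zpowers _
      refine commute_of_cyclic hW4p hyo (fun w hw => ?_)
      obtain ⟨l, rfl⟩ := hw
      rw [← conj_zpow]
      refine zpow_mem ?_ l
      rw [show a ^ 4 = a ^ 2 * a ^ 2 from pow_add a 2 2,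
        show y * (a ^ 2 * a ^ 2) * y⁻¹ = (y * a ^ 2 * y⁻¹) * (y * a ^ 2 * y⁻¹) by group]
      exact hsq4 _ (hyD _ h2D)
    have hinvol4 : ∀ s ∈ D, orderOf s = 2 → s ∈ W4 ∨ ∃ w ∈ W4, s = b * w := by
      intro s hs hso
      obtain ⟨j, hj⟩ := hform' s hs
      rcases Nat.even_or_odd j with ⟨m, hm⟩ | ho
      · have he : 2 * j = 4 * m := by omega
        rcases hj with rfl | rfl
        · exact Or.inl (he ▸ hmem4 m)
        · exact Or.inr ⟨a ^ (2 * j), he ▸ hmem4 m, (hbeven j).symm.eq⟩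
      · exfalso
        have hss := invol_mul_self hso
        rcases hj with rfl | rfl
        · rw [← pow_add, show 2 * j + 2 * j = 4 * j by ring, pow_mul] at hss
          obtain ⟨k, hk'⟩ := exists_pow_eq_self_of_coprime (x := a ^ 4) (n := j)
            (by rw [h24]; exact (Nat.coprime_two_right.mpr ho).pow_right _)
          rw [hss, one_pow] at hk'
          exact h4' hk'.symm
        · rw [hsq, show 2 * (2 * j) * (1 + 2 ^ (n - 2)) = 4 * (j * (1 + 2 ^ (n - 2))) by ring,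
            pow_mul] at hss
          obtain ⟨k, hk'⟩ := exists_pow_eq_self_of_coprime (x := a ^ 4)
            (n := j * (1 + 2 ^ (n - 2)))
            (by rw [h24]; exact (Nat.coprime_two_right.mpr (ho.mul hodd1)).pow_right _)
          rw [hss, one_pow] at hk'
          exact h4' hk'.symm
    have hu : b ∈ D → Commute y b := by
      intro hbD
      have hyb : orderOf (y * b * y⁻¹) = 2 := conj_invol y hbo
      rcases hinvol4 _ (hyD b hbD) hyb with h | ⟨w, hw, h⟩
      · exfalso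
        have hc := hfix4 _ h
        have e : y * b * y⁻¹ = b := by
          calc y * b * y⁻¹ = y⁻¹ * (y * (y * b * y⁻¹)) := by group
            _ = y⁻¹ * ((y * b * y⁻¹) * y) := by rw [hc.eq]
            _ = b := by group
        exact hbA (show b ∈ A from
          (zpowers_le.mpr (pow_mem (mem_zpowers a) 4) : W4 ≤ A) (e ▸ h))
      · refine commute_of_stab hW4p hyo hfix4 ?_
        rw [h, ((hcen b hb w (hW4W hw)).eq), mul_inv_cancel_right]
        exact hw
    have hx : y * a ^ 2 * y⁻¹ ∈ D := hyD _ h2D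
    refine commute_of_two_cosets hW4p hyo hfix4 hb2
      (fun w hw => hcen _ (pow_mem ha 2) w (hW4W hw)) (fun w hw => hcen b hb w (hW4W hw)) ?_
    obtain ⟨j, hj⟩ := hform' _ hx
    rcases Nat.even_or_odd j with ⟨m, hm⟩ | ⟨m, hm⟩
    · have he : 2 * j = 4 * m := by omega
      rcases hj with hj | hj
      · exfalso
        have hmem : y * a ^ 2 * y⁻¹ ∈ W4 := by rw [hj, he]; exact hmem4 m
        have hc := hfix4 _ hmem
        have e : y * a ^ 2 * y⁻¹ = a ^ 2 := by
          calc y * a ^ 2 * y⁻¹ = y⁻¹ * (y * (y * a ^ 2 * y⁻¹)) := by group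
            _ = y⁻¹ * ((y * a ^ 2 * y⁻¹) * y) := by rw [hc.eq]
            _ = a ^ 2 := by group
        have h1 : orderOf (a ^ 2) ∣ orderOf (a ^ 4) := by
          rw [← Nat.card_zpowers (a ^ 4)]
          exact orderOf_dvd_natCard _ (e ▸ hmem)
        rw [hW2, h24, Nat.pow_dvd_pow_iff_le_right (by norm_num)] at h1
        omega
      · exfalso
        have hbD : b ∈ D := by
          have h4D : a ^ (2 * j) ∈ D := by
            rw [he, show 4 * m = 2 * (2 * m) by ring, pow_mul]; exact pow_mem h2D _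
          rw [show b = (a ^ (2 * j))⁻¹ * (a ^ (2 * j) * b) by group, ← hj]
          exact mul_mem (inv_mem h4D) hx
        have hc : Commute y (a ^ (2 * j) * b) := (hfix4 _ (he ▸ hmem4 m)).mul_right (hu hbD)
        rw [← hj] at hc
        have e : y * a ^ 2 * y⁻¹ = a ^ 2 := by
          calc y * a ^ 2 * y⁻¹ = y⁻¹ * (y * (y * a ^ 2 * y⁻¹)) := by group
            _ = y⁻¹ * ((y * a ^ 2 * y⁻¹) * y) := by rw [hc.eq]
            _ = a ^ 2 := by group
        rw [e] at hj
        refine hbA ?_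
        rw [show b = (a ^ (2 * j))⁻¹ * (a ^ (2 * j) * b) by group, ← hj]
        exact mul_mem (inv_mem (pow_mem (mem_zpowers a) _)) (pow_mem (mem_zpowers a) 2)
    · have he : 2 * j = 2 + 4 * m := by omega
      rcases hj with hj | hj
      · exact Or.inl ⟨a ^ (4 * m), hmem4 m, by rw [hj, he, pow_add]⟩
      · have hbD : b ∈ D := by
          rw [show b = (a ^ (2 * j))⁻¹ * (a ^ (2 * j) * b) by group, ← hj]
          exact mul_mem (inv_mem (by rw [pow_mul]; exact pow_mem h2D _)) hx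
        refine Or.inr ⟨hu hbD, a ^ (4 * m), hmem4 m, ?_⟩
        rw [hj, he, pow_add, mul_assoc, mul_assoc,
          (hcen b hb _ (hW4W (hmem4 m))).eq]
  -- step two
  have hfixW : ∀ w ∈ W, Commute y w := by
    rintro _ ⟨k, rfl⟩
    exact hfix2.zpow_right k
  have huD : b ∈ D → Commute y b := by
    intro hbD
    have hyb : orderOf (y * b * y⁻¹) = 2 := conj_invol y hbo
    rcases hinvol _ (hDT (hyD b hbD)) hyb with h | ⟨w, hw, h⟩
    · exfalso
      have hc := hfixW _ h
      have e : y * b * y⁻¹ = b := by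
        calc y * b * y⁻¹ = y⁻¹ * (y * (y * b * y⁻¹)) := by group
          _ = y⁻¹ * ((y * b * y⁻¹) * y) := by rw [hc.eq]
          _ = b := by group
      exact hbA ((zpowers_le.mpr (pow_mem (mem_zpowers a) 2) : W ≤ A) (e ▸ h))
    · refine commute_of_stab hWp hyo hfixW ?_
      rw [h, ((hcen b hb w hw).eq), mul_inv_cancel_right]
      exact hw
  have hWD : W ≤ D := zpowers_le.mpr h2D
  have hbmem : ∀ i, Even i → a ^ i * b ∈ D → b ∈ D := fun i hi h => by
    have := mul_mem (inv_mem (hWD (hevenW i hi))) h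
    rwa [inv_mul_cancel_left] at this
  obtain ⟨i, hi⟩ := hform d (hDT hd)
  rcases Nat.even_or_odd i with he | ho
  · rcases hi with rfl | rfl
    · exact hfixW _ (hevenW i he)
    · exact (hfixW _ (hevenW i he)).mul_right (huD (hbmem i he hd))
  obtain ⟨j, hj⟩ := hform _ (hDT (hyD d hd))
  rcases Nat.even_or_odd j with he' | ho'
  · exfalso
    have hc : Commute y (y * d * y⁻¹) := by
      rcases hj with h | h
      · rw [h]; exact hfixW _ (hevenW j he')
      · rw [h]; exact (hfixW _ (hevenW j he')).mul_right (huD (hbmem j he' (h ▸ hyD d hd)))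
    have e : y * d * y⁻¹ = d := by
      calc y * d * y⁻¹ = y⁻¹ * (y * (y * d * y⁻¹)) := by group
        _ = y⁻¹ * ((y * d * y⁻¹) * y) := by rw [hc.eq]
        _ = d := by group
    rw [e] at hj
    have hcontra : ∀ k, Even k → a ^ k * a ^ i ∉ W := fun k hk h => by
      have h' := mul_mem (inv_mem (hevenW k hk)) h
      rw [inv_mul_cancel_left] at h'
      obtain ⟨i', rfl⟩ := ho
      rw [pow_succ] at h'
      have h'' := mul_mem (inv_mem (hevenW (2 * i') (even_two_mul _))) h'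
      rw [inv_mul_cancel_left] at h''
      have h1 := orderOf_dvd_natCard _ h''
      rw [Nat.card_zpowers, hW2, hao, Nat.pow_dvd_pow_iff_le_right (by norm_num)] at h1
      omega
    rcases hi with rfl | rfl <;> rcases hj with hj | hj
    · exact hcontra 0 Even.zero (by simpa [hj] using hevenW j he')
    · refine hbA ?_
      rw [show b = (a ^ j)⁻¹ * (a ^ j * b) by group, ← hj]
      exact mul_mem (inv_mem (pow_mem (mem_zpowers a) _)) (pow_mem (mem_zpowers a) _)
    · refine hbA ?_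
      rw [show b = (a ^ i)⁻¹ * (a ^ i * b) by group, hj]
      exact mul_mem (inv_mem (pow_mem (mem_zpowers a) _)) (pow_mem (mem_zpowers a) _)
    · exact hcontra 0 Even.zero (by simpa [mul_right_cancel hj] using hevenW j he')
  obtain ⟨i', hi'⟩ := ho
  obtain ⟨j', hj'⟩ := ho'
  obtain ⟨l, hl⟩ : ∃ l : ℕ, 2 * l + i = j + 2 ^ n * (i + 1) := by
    refine ⟨(j' + 2 ^ (n - 1) * (i + 1)) - i', ?_⟩
    have hle : i' ≤ j' + 2 ^ (n - 1) * (i + 1) := by
      have := Nat.le_mul_of_pos_left (i + 1) (Nat.two_pow_pos (n - 1))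
      omega
    rw [h2n, mul_assoc]
    omega
  have hpl : a ^ j = a ^ i * a ^ (2 * l) := by
    rw [← pow_add, add_comm i, hl, pow_add, hk _ (dvd_mul_right _ _), mul_one]
  have hlW : a ^ (2 * l) ∈ W := hevenW _ (even_two_mul l)
  have hbm : a ^ i * b ∈ D → a ^ i ∈ D → b ∈ D := fun h1 h2 => by
    have := mul_mem (inv_mem h2) h1
    rwa [inv_mul_cancel_left] at this
  have hyd := hyD d hd
  refine commute_of_two_cosets hWp hyo hfixW hb2 (hcen d (hDT hd)) (hcen b hb) ?_
  rcases hi with rfl | rfl <;> rcases hj with hj | hj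
  · exact Or.inl ⟨_, hlW, by rw [hj, hpl]⟩
  · rw [hj, hpl] at hyd
    refine Or.inr ⟨huD (hbm ?_ hd), _, hlW, ?_⟩
    · have := mul_mem hyd (inv_mem (hWD hlW))
      rwa [mul_assoc, mul_assoc, (hcen b hb _ (inv_mem hlW)).eq, ← mul_assoc (a ^ (2 * l)),
        mul_inv_cancel, one_mul] at this
    · rw [hj, hpl, mul_assoc, mul_assoc, ← (hcen b hb _ hlW).eq]
  · rw [hj, hpl] at hyd
    refine Or.inr ⟨huD (hbm hd ?_), _, hlW, ?_⟩
    · have := mul_mem hyd (inv_mem (hWD hlW))
      rwa [mul_inv_cancel_right] at this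
    · rw [hj, hpl, mul_assoc (a ^ i) b b, hb2, mul_one]
  · refine Or.inl ⟨_, hlW, ?_⟩
    rw [hj, hpl, mul_assoc, mul_assoc, (hcen b hb _ hlW).eq]

end CfsgLib.Involutions
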