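import Mathlib

/-!
# Gadgets for the odd-product graph of involutions of a symmetric group

For involutions `x, y` put `σ = x * y`. A common neighbour `z = τ * x` of `x` and `y` comes from a
permutation `τ` with `τ ^ 3 = 1` inverted by `x` such that `τ * σ` has odd order. Such a `τ` is a
product of three-cycles placed orbit by orbit of `⟨x, y⟩`.
-/

set_option autoImplicit false
set_option linter.unusedSectionVars false

namespace CfsgLib.Involutions.OddProductSn

open Equiv Finset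

variable {α : Type*} [DecidableEq α]

/-- The three-cycle `a ↦ b ↦ c ↦ a`. -/
def cyc3 (a b c : α) : Perm α := swap a b * swap b c

theorem cyc3_fst {a b c : α} (hab : a ≠ b) (hac : a ≠ c) : cyc3 a b c a = b := by
  simp [cyc3, swap_apply_of_ne_of_ne hab hac]

theorem cyc3_snd {a b c : α} (hac : a ≠ c) (hbc : b ≠ c) : cyc3 a b c b = c := by
  simp [cyc3, swap_apply_of_ne_of_ne hac.symm hbc.symm]

theorem cyc3_thd {a b c : α} : cyc3 a b c c = a := by simp [cyc3]

theorem cyc3_other {a b c v : α} (ha : v ≠ a) (hb : v ≠ b) (hc : v ≠ c) : cyc3 a b c v = v := by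
  simp [cyc3, swap_apply_of_ne_of_ne hb hc, swap_apply_of_ne_of_ne ha hb]

theorem cyc3_inv (a b c : α) : (cyc3 a b c)⁻¹ = cyc3 c b a := by
  rw [cyc3, cyc3, mul_inv_rev, swap_inv, swap_inv, swap_comm b c, swap_comm a b]

theorem cyc3_conj (g : Perm α) (a b c : α) : g * cyc3 a b c * g⁻¹ = cyc3 (g a) (g b) (g c) := by
  rw [cyc3, cyc3, swap_apply_apply, swap_apply_apply]
  group

theorem cyc3_cube {a b c : α} (hab : a ≠ b) (hac : a ≠ c) (hbc : b ≠ c) :
    cyc3 a b c ^ 3 = 1 := by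
  ext v
  simp only [pow_succ, pow_zero, one_mul, Perm.mul_apply, Perm.one_apply]
  by_cases ha : v = a
  · subst ha; rw [cyc3_fst hab hac, cyc3_snd hac hbc, cyc3_thd]
  by_cases hb : v = b
  · subst hb; rw [cyc3_snd hac hbc, cyc3_thd, cyc3_fst hab hac]
  by_cases hc : v = c
  · subst hc; rw [cyc3_thd, cyc3_fst hab hac, cyc3_snd hac hbc]
  rw [cyc3_other ha hb hc, cyc3_other ha hb hc, cyc3_other ha hb hc]

/-- A three-cycle and its mirror under an involution. -/
def mir (x : Perm α) (a b c : α) : Perm α := cyc3 a b c * cyc3 (x c) (x b) (x a)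

structure Six (x : Perm α) (a b c : α) : Prop where
  ab : a ≠ b
  ac : a ≠ c
  bc : b ≠ c
  axa : a ≠ x a
  axb : a ≠ x b
  axc : a ≠ x c
  bxb : b ≠ x b
  bxc : b ≠ x c
  cxc : c ≠ x c

theorem app_app {x : Perm α} (hx : x * x = 1) (v : α) : x (x v) = v := by
  rw [← Perm.mul_apply, hx, Perm.one_apply]

section Mir

variable {x : Perm α} (hx : x * x = 1) {a b c : α} (h : Six x a b c)

include hx h

theorem bxa : b ≠ x a := fun e => h.axb (by rw [e, app_app hx])

theorem cxa : c ≠ x a := fun e => h.axc (by rw [e, app_app hx])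

theorem cxb : c ≠ x b := fun e => h.bxc (by rw [e, app_app hx])

theorem mir_a : mir x a b c a = b := by
  rw [mir, Perm.mul_apply, cyc3_other h.axc h.axb h.axa, cyc3_fst h.ab h.ac]

theorem mir_b : mir x a b c b = c := by
  rw [mir, Perm.mul_apply, cyc3_other h.bxc h.bxb (bxa hx h), cyc3_snd h.ac h.bc]

theorem mir_c : mir x a b c c = a := by
  rw [mir, Perm.mul_apply, cyc3_other h.cxc (cxb hx h) (cxa hx h), cyc3_thd]

theorem mir_xc : mir x a b c (x c) = x b := by
  rw [mir, Perm.mul_apply, cyc3_fst (fun e => h.bc (x.injective e).symm)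
    (fun e => h.ac (x.injective e).symm),
    cyc3_other h.axb.symm h.bxb.symm (cxb hx h).symm]

theorem mir_xb : mir x a b c (x b) = x a := by
  rw [mir, Perm.mul_apply, cyc3_snd (fun e => h.ac (x.injective e).symm)
    (fun e => h.ab (x.injective e).symm),
    cyc3_other h.axa.symm (bxa hx h).symm (cxa hx h).symm]

theorem mir_xa : mir x a b c (x a) = x c := by
  rw [mir, Perm.mul_apply, cyc3_thd, cyc3_other h.axc.symm h.bxc.symm h.cxc.symm]

omit hx h in
theorem mir_other {v : α} (h1 : v ≠ a) (h2 : v ≠ b) (h3 : v ≠ c) (h4 : v ≠ x a) (h5 : v ≠ x b)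
    (h6 : v ≠ x c) : mir x a b c v = v := by
  rw [mir, Perm.mul_apply, cyc3_other h6 h5 h4, cyc3_other h1 h2 h3]

theorem mir_cube : mir x a b c ^ 3 = 1 := by
  have hc : Commute (cyc3 a b c) (cyc3 (x c) (x b) (x a)) := Perm.Disjoint.commute fun v => by
    by_cases h1 : v = a
    · exact Or.inr (by subst h1; exact cyc3_other h.axc h.axb h.axa)
    by_cases h2 : v = b
    · exact Or.inr (by subst h2; exact cyc3_other h.bxc h.bxb (bxa hx h))
    by_cases h3 : v = c
    · exact Or.inr (by subst h3; exact cyc3_other h.cxc (cxb hx h) (cxa hx h))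
    exact Or.inl (cyc3_other h1 h2 h3)
  rw [mir, hc.mul_pow, cyc3_cube h.ab h.ac h.bc, cyc3_cube (fun e => h.bc (x.injective e).symm)
    (fun e => h.ac (x.injective e).symm) (fun e => h.ab (x.injective e).symm), one_mul]

omit h in
theorem mir_inv : x * mir x a b c * x = (mir x a b c)⁻¹ := by
  have hxi : x⁻¹ = x := inv_eq_of_mul_eq_one_right hx
  calc x * mir x a b c * x
      = (x * cyc3 a b c * x⁻¹) * (x * cyc3 (x c) (x b) (x a) * x⁻¹) := by rw [mir]; conv_rhs =>
          rw [show x * cyc3 a b c * x⁻¹ * (x * cyc3 (x c) (x b) (x a) * x⁻¹)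
            = x * (cyc3 a b c * cyc3 (x c) (x b) (x a)) * x⁻¹ by group, hxi]
    _ = cyc3 (x a) (x b) (x c) * cyc3 c b a := by
          rw [cyc3_conj, cyc3_conj, app_app hx, app_app hx, app_app hx]
    _ = (mir x a b c)⁻¹ := by rw [mir, mul_inv_rev, cyc3_inv, cyc3_inv]

end Mir

/-- The setting: `x` is an involution inverting `σ`. -/
structure Setup (x σ : Perm α) : Prop where
  hx : x * x = 1
  hσ : x * σ * x = σ⁻¹

variable {x σ : Perm α}

theorem Setup.zpow_app (S : Setup x σ) (i : ℤ) (p : α) :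
    x ((σ ^ i) p) = (σ ^ (-i)) (x p) := by
  have hxi : x⁻¹ = x := inv_eq_of_mul_eq_one_right S.hx
  have h : x * σ ^ i * x⁻¹ = σ ^ (-i) := by
    rw [← conj_zpow, hxi, S.hσ, inv_zpow, zpow_neg]
  rw [← h, hxi, Perm.mul_apply, Perm.mul_apply, app_app S.hx]

/-- The period of a point. -/
noncomputable def per (σ : Perm α) (p : α) : ℕ := MulAction.period σ p

theorem zpow_eq_self {p : α} {i : ℤ} : (σ ^ i) p = p ↔ (per σ p : ℤ) ∣ i :=
  MulAction.zpow_smul_eq_iff_period_dvd (g := σ) (a := p) (j := i)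

theorem zpow_add_app (i j : ℤ) (p : α) : (σ ^ (i + j)) p = (σ ^ i) ((σ ^ j) p) := by
  rw [zpow_add, Perm.mul_apply]

theorem zpow_eq_zpow {p : α} {i j : ℤ} :
    (σ ^ i) p = (σ ^ j) p ↔ (per σ p : ℤ) ∣ i - j := by
  rw [← zpow_eq_self]
  constructor
  · intro h
    rw [show i - j = -j + i by ring, zpow_add_app, h, ← zpow_add_app, neg_add_cancel, zpow_zero,
      Perm.one_apply]
  · intro h
    conv_rhs => rw [← h, ← zpow_add_app]
    rw [show j + (i - j) = i by ring]

theorem zpow_ne {p : α} {i j : ℤ} (h : ¬ (per σ p : ℤ) ∣ i - j) : (σ ^ i) p ≠ (σ ^ j) p :=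
  fun e => h (zpow_eq_zpow.1 e)

theorem zpow_ne_of_not_sameCycle {a b : α} (h : ¬ σ.SameCycle a b) (i j : ℤ) :
    (σ ^ i) a ≠ (σ ^ j) b := fun e => h ⟨-j + i, by
  rw [zpow_add_app, e, ← zpow_add_app, neg_add_cancel, zpow_zero, Perm.one_apply]⟩

theorem per_pos [Finite α] (σ : Perm α) (p : α) : 0 < per σ p :=
  MulAction.period_pos_of_orderOf_pos (orderOf_pos σ) p

theorem per_zpow (i : ℤ) (p : α) : per σ ((σ ^ i) p) = per σ p := by
  have key : ∀ j : ℤ, (per σ ((σ ^ i) p) : ℤ) ∣ j ↔ (per σ p : ℤ) ∣ j := fun j => by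
    rw [← zpow_eq_self, ← zpow_add_app, zpow_eq_zpow]
    constructor <;> intro h <;> simpa using h
  exact Nat.dvd_antisymm (Int.natCast_dvd_natCast.1 ((key _).2 dvd_rfl))
    (Int.natCast_dvd_natCast.1 ((key _).1 dvd_rfl))

theorem Setup.per_app (S : Setup x σ) (p : α) : per σ (x p) = per σ p := by
  have key : ∀ j : ℤ, (per σ (x p) : ℤ) ∣ j ↔ (per σ p : ℤ) ∣ j := fun j => by
    rw [← zpow_eq_self, ← dvd_neg (α := ℤ) (a := (per σ p : ℤ)), ← zpow_eq_self]
    constructor
    · intro h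
      apply x.injective
      rw [S.zpow_app, neg_neg, h]
    · intro h
      have := congrArg x h
      rwa [S.zpow_app, neg_neg] at this
  exact Nat.dvd_antisymm (Int.natCast_dvd_natCast.1 ((key _).2 dvd_rfl))
    (Int.natCast_dvd_natCast.1 ((key _).1 dvd_rfl))

/-- `f` returns `p` to itself after an odd number of steps. -/
def OddRet (f : Perm α) (p : α) : Prop := ∃ n : ℕ, Odd n ∧ (f ^ n) p = p

theorem OddRet.step {f : Perm α} {p : α} (h : OddRet f p) : OddRet f (f p) := by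
  obtain ⟨n, hn, e⟩ := h
  refine ⟨n, hn, ?_⟩
  rw [← Perm.mul_apply, ← pow_succ, pow_succ', Perm.mul_apply, e]

theorem OddRet.pow {f : Perm α} {p : α} (h : OddRet f p) (k : ℕ) : OddRet f ((f ^ k) p) := by
  induction k with
  | zero => simpa using h
  | succ k ih => rw [pow_succ', Perm.mul_apply]; exact ih.step

/-- A stretch on which `τ` does nothing. -/
theorem run {τ : Perm α} (a : α) : ∀ k : ℕ,
    (∀ i : ℕ, 1 ≤ i → i ≤ k → τ ((σ ^ (i : ℤ)) a) = (σ ^ (i : ℤ)) a) →
    ((τ * σ) ^ k) a = (σ ^ (k : ℤ)) a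
  | 0, _ => by simp
  | k + 1, h => by
    rw [pow_succ', Perm.mul_apply, run a k fun i h1 h2 => h i h1 (by omega), Perm.mul_apply,
      ← Perm.mul_apply σ, ← zpow_one_add, show (1 : ℤ) + (k : ℤ) = ((k + 1 : ℕ) : ℤ) by push_cast; ring,
      h (k + 1) (by omega) le_rfl]

theorem step {τ : Perm α} (a b : α) (i : ℤ) (h : τ ((σ ^ (i + 1)) a) = b) :
    (τ * σ) ((σ ^ i) a) = b := by
  rw [Perm.mul_apply, ← Perm.mul_apply σ, ← zpow_one_add, add_comm, h]

variable [Fintype α]

/-- A finite set invariant under `x` and `σ`. -/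
def Inv (x σ : Perm α) (S : Finset α) : Prop := ∀ p, (x p ∈ S ↔ p ∈ S) ∧ (σ p ∈ S ↔ p ∈ S)

/-- A suitable `τ` exists on `S`. -/
def Good (x σ : Perm α) (S : Finset α) : Prop :=
  ∃ τ : Perm α, τ ^ 3 = 1 ∧ x * τ * x = τ⁻¹ ∧ (∀ p ∉ S, τ p = p) ∧ ∀ p ∈ S, OddRet (τ * σ) p

theorem good_union {S T : Finset α} (hS : Inv x σ S) (hT : Inv x σ T) (hd : Disjoint S T)
    (gS : Good x σ S) (gT : Good x σ T) (hx : x * x = 1) : Good x σ (S ∪ T) := by
  obtain ⟨a, a3, ax, aout, aper⟩ := gS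
  obtain ⟨b, b3, bx, bout, bper⟩ := gT
  have ain : ∀ p ∈ S, a p ∈ S := fun p hp => by
    by_contra hn
    have := aout _ hn
    exact hn (by rwa [a.injective this])
  have bin : ∀ p ∈ T, b p ∈ T := fun p hp => by
    by_contra hn
    have := bout _ hn
    exact hn (by rwa [b.injective this])
  have hdis : a.Disjoint b := fun p => by
    by_cases hp : p ∈ S
    · exact Or.inr (bout p (Finset.disjoint_left.1 hd hp))
    · exact Or.inl (aout p hp)
  have hcomm : Commute a b := hdis.commute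
  refine ⟨a * b, by rw [hcomm.mul_pow, a3, b3, one_mul], ?_, fun p hp => ?_, fun p hp => ?_⟩
  · calc x * (a * b) * x = (x * a * x) * (x * b * x) := by
          rw [show x * a * x * (x * b * x) = x * a * (x * x) * b * x by group, hx]; group
      _ = (a * b)⁻¹ := by rw [ax, bx, mul_inv_rev, hcomm.inv_inv.eq]
  · rw [Finset.mem_union, not_or] at hp
    rw [Perm.mul_apply, bout p hp.2, aout p hp.1]
  · have key : ∀ (U : Finset α) (c : Perm α), Inv x σ U → (∀ q ∈ U, c q ∈ U) →
        (∀ q ∈ U, (a * b) q = c q) → ∀ n : ℕ, ∀ q ∈ U,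
          ((a * b * σ) ^ n) q = ((c * σ) ^ n) q ∧ ((c * σ) ^ n) q ∈ U := by
      intro U c hU hc heq n
      induction n with
      | zero => intro q hq; simpa using hq
      | succ n ih =>
        intro q hq
        obtain ⟨h1, h2⟩ := ih q hq
        have hs := (hU (((c * σ) ^ n) q)).2.2 h2
        rw [pow_succ', pow_succ', Perm.mul_apply, Perm.mul_apply (c * σ), h1, Perm.mul_apply,
          Perm.mul_apply c, heq _ hs]
        exact ⟨rfl, hc _ hs⟩
    rcases Finset.mem_union.1 hp with h | h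
    · obtain ⟨n, hn, e⟩ := aper p h
      refine ⟨n, hn, ?_⟩
      rw [(key S a hS ain (fun q hq => by
        rw [Perm.mul_apply, bout q (Finset.disjoint_left.1 hd hq)]) n p h).1, e]
    · obtain ⟨n, hn, e⟩ := bper p h
      refine ⟨n, hn, ?_⟩
      rw [(key T b hT bin (fun q hq => by
        rw [Perm.mul_apply, aout _ (Finset.disjoint_right.1 hd (bin q hq))]) n p h).1, e]

/-- The cycle of a point, as a finite set. -/
noncomputable def cyc (σ : Perm α) (p : α) : Finset α := by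
  classical exact Finset.univ.filter fun v => σ.SameCycle p v

theorem mem_cyc {p v : α} : v ∈ cyc σ p ↔ ∃ i : ℤ, (σ ^ i) p = v := by
  simp only [cyc, Finset.mem_filter, Finset.mem_univ, true_and]
  rfl

/-- Every point of a cycle is a shift of any starting point by less than a period. -/
theorem exists_shift {p v : α} (hv : v ∈ cyc σ p) (s : ℤ) :
    ∃ i : ℕ, i < per σ p ∧ (σ ^ (s + i)) p = v := by
  obtain ⟨j, rfl⟩ := mem_cyc.1 hv
  have hL : (per σ p : ℤ) ≠ 0 := by exact_mod_cast (per_pos σ p).ne'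
  refine ⟨((j - s) % (per σ p : ℤ)).toNat, ?_, ?_⟩
  · rw [Int.toNat_lt (Int.emod_nonneg _ hL)]
    exact Int.emod_lt_of_pos _ (by exact_mod_cast per_pos σ p)
  · rw [Int.toNat_of_nonneg (Int.emod_nonneg _ hL), zpow_eq_zpow]
    exact ⟨-((j - s) / (per σ p : ℤ)), by
      have := Int.emod_def (j - s) (per σ p : ℤ)
      linarith⟩

/-- The orbit of a point under `⟨x, σ⟩`. -/
noncomputable def orb (x σ : Perm α) (p : α) : Finset α := cyc σ p ∪ cyc σ (x p)

theorem self_mem_cyc (p : α) : p ∈ cyc σ p := mem_cyc.2 ⟨0, by simp⟩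

theorem self_mem_orb (p : α) : p ∈ orb x σ p := Finset.mem_union_left _ (self_mem_cyc p)

theorem sigma_mem_cyc {p v : α} : σ v ∈ cyc σ p ↔ v ∈ cyc σ p := by
  simp only [cyc, Finset.mem_filter, Finset.mem_univ, true_and]
  exact Perm.sameCycle_apply_right

theorem Setup.app_mem_cyc (S : Setup x σ) {p v : α} : x v ∈ cyc σ (x p) ↔ v ∈ cyc σ p := by
  rw [mem_cyc, mem_cyc]
  constructor
  · rintro ⟨i, e⟩
    refine ⟨-i, x.injective ?_⟩
    rw [S.zpow_app, neg_neg, e]
  · rintro ⟨i, rfl⟩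
    exact ⟨-i, (S.zpow_app i p).symm⟩

theorem Setup.inv_cyc (S : Setup x σ) {p : α} (h : x p ∈ cyc σ p) : Inv x σ (cyc σ p) := by
  intro v
  refine ⟨?_, sigma_mem_cyc⟩
  have hh : cyc σ (x p) = cyc σ p := by
    simp only [cyc, Finset.mem_filter, Finset.mem_univ, true_and] at h
    ext u
    simp only [cyc, Finset.mem_filter, Finset.mem_univ, true_and]
    exact ⟨fun hu => h.trans hu, fun hu => h.symm.trans hu⟩
  constructor
  · intro hv
    rw [← hh] at hv
    exact S.app_mem_cyc.1 hv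
  · intro hv
    rw [← hh]
    exact S.app_mem_cyc.2 hv

theorem Setup.inv_orb (S : Setup x σ) (p : α) : Inv x σ (orb x σ p) := by
  intro v
  refine ⟨?_, by simp [orb, sigma_mem_cyc]⟩
  simp only [orb, Finset.mem_union]
  rw [S.app_mem_cyc]
  have : x v ∈ cyc σ p ↔ v ∈ cyc σ (x p) := by
    have := S.app_mem_cyc (p := x p) (v := v)
    rwa [app_app S.hx] at this
  rw [this]
  exact or_comm

theorem inv_union {S T : Finset α} (hS : Inv x σ S) (hT : Inv x σ T) : Inv x σ (S ∪ T) :=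
  fun v => ⟨by simp [(hS v).1, (hT v).1], by simp [(hS v).2, (hT v).2]⟩

theorem inv_sdiff {S T : Finset α} (hS : Inv x σ S) (hT : Inv x σ T) : Inv x σ (S \ T) :=
  fun v => ⟨by simp [(hS v).1, (hT v).1], by simp [(hS v).2, (hT v).2]⟩

theorem Inv.zpow_mem {S : Finset α} (hS : Inv x σ S) {p : α} (hp : p ∈ S) (i : ℤ) :
    (σ ^ i) p ∈ S := by
  induction i with
  | zero => simpa using hp
  | succ i ih => rw [add_comm, zpow_one_add, Perm.mul_apply]; exact (hS _).2.2 ih
  | pred i ih =>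
    refine (hS _).2.1 ?_
    rw [← Perm.mul_apply, ← zpow_one_add]
    ring_nf
    exact ih

theorem Inv.cyc_le {S : Finset α} (hS : Inv x σ S) {p : α} (hp : p ∈ S) : cyc σ p ⊆ S := by
  intro v hv
  obtain ⟨i, rfl⟩ := mem_cyc.1 hv
  exact hS.zpow_mem hp i

theorem Inv.orb_le {S : Finset α} (hS : Inv x σ S) {p : α} (hp : p ∈ S) : orb x σ p ⊆ S :=
  Finset.union_subset (hS.cyc_le hp) (hS.cyc_le ((hS p).1.2 hp))

/-- Odd periods need nothing. -/
theorem good_of_odd (S : Setup x σ) {U : Finset α} (h : ∀ p ∈ U, Odd (per σ p)) :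
    Good x σ U := by
  refine ⟨1, one_pow 3, by rw [mul_one, S.hx, inv_one], fun _ _ => rfl, fun p hp => ⟨per σ p, h p hp, ?_⟩⟩
  rw [one_mul, ← zpow_natCast, zpow_eq_self]

end CfsgLib.Involutions.OddProductSn
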