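import Mathlib
import Cfsg.Agent.Lib.Involutions.OddProductGadgets

/-!
# The gadgets themselves, orbit by orbit
-/

set_option autoImplicit false
set_option linter.unusedSectionVars false

namespace CfsgLib.Involutions.OddProductSn

open Equiv Finset

variable {α : Type*} [DecidableEq α] [Fintype α] {x σ : Perm α}

theorem cyc3_rotate {a b c : α} (hab : a ≠ b) (hac : a ≠ c) (hbc : b ≠ c) :
    cyc3 a b c = cyc3 b c a := by
  ext v
  by_cases ha : v = a
  · subst ha; rw [cyc3_fst hab hac, cyc3_thd]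
  by_cases hb : v = b
  · subst hb; rw [cyc3_snd hac hbc, cyc3_fst hbc hab.symm]
  by_cases hc : v = c
  · subst hc; rw [cyc3_thd, cyc3_snd hab.symm hac.symm]
  rw [cyc3_other ha hb hc, cyc3_other hb hc ha]

theorem oddRet_of {f : Perm α} {a v : α} (n k : ℕ) (hn : Odd n) (h : (f ^ n) a = a)
    (hv : (f ^ k) a = v) : OddRet f v := hv ▸ OddRet.pow ⟨n, hn, h⟩ k

theorem then_step {f : Perm α} {a b c : α} {k : ℕ} (h : (f ^ k) a = b) (hb : f b = c) :
    (f ^ (k + 1)) a = c := by rw [pow_succ', Perm.mul_apply, h, hb]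

theorem then_run {f : Perm α} {a b c : α} {k l : ℕ} (h : (f ^ k) a = b) (hb : (f ^ l) b = c) :
    (f ^ (k + l)) a = c := by rw [add_comm, pow_add, Perm.mul_apply, h, hb]

theorem step0 {τ : Perm α} (a b : α) (h : τ ((σ ^ (1 : ℤ)) a) = b) :
    (τ * σ) ((σ ^ (0 : ℤ)) a) = b := step a b 0 (by rw [zero_add]; exact h)

theorem step1 {τ : Perm α} (a b : α) (h : τ ((σ ^ (2 : ℤ)) a) = b) :
    (τ * σ) ((σ ^ (1 : ℤ)) a) = b := step a b 1 h

theorem not_dvd_small {L : ℕ} {i : ℤ} (h1 : i ≠ 0) (h2 : -(L : ℤ) < i) (h3 : i < (L : ℤ)) :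
    ¬ (L : ℤ) ∣ i := by
  rintro ⟨k, rfl⟩
  have hL : (0 : ℤ) ≤ L := Int.natCast_nonneg L
  rcases lt_trichotomy k 0 with hk | hk | hk
  · nlinarith
  · simp [hk] at h1
  · nlinarith

/-- Two points with different cycles. -/
def Sep (σ : Perm α) (a b : α) : Prop := ¬ σ.SameCycle a b

theorem Sep.ne {a b : α} (h : Sep σ a b) (i j : ℤ) : (σ ^ i) a ≠ (σ ^ j) b :=
  zpow_ne_of_not_sameCycle h i j

theorem Sep.symm {a b : α} (h : Sep σ a b) : Sep σ b a := fun e => h e.symm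

theorem Sep.of_not_mem {a b : α} (h : b ∉ cyc σ a) : Sep σ a b := fun e => h (by
  simpa [cyc] using e)

theorem Sep.app {a b : α} (S : Setup x σ) (h : Sep σ a b) : Sep σ (x a) (x b) := by
  rintro ⟨i, e⟩
  refine h ⟨-i, x.injective ?_⟩
  rw [S.zpow_app, neg_neg, e]

variable (S : Setup x σ)
include S

/-- An even pair of cycles of length at least four splits. -/
theorem good_split {p : α} (hp : Sep σ p (x p)) (hev : Even (per σ p)) (h4 : 4 ≤ per σ p) :
    Good x σ (orb x σ p) := by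
  set L := per σ p with hLdef
  set C : ℤ → α := fun i => (σ ^ i) p with hC
  set D : ℤ → α := fun i => (σ ^ i) (x p) with hD
  have cd : ∀ i j, C i ≠ D j := fun i j => hp.ne i j
  have cc : ∀ i j, i - j ≠ 0 → -(L : ℤ) < i - j → i - j < L → C i ≠ C j := fun i j a b c =>
    zpow_ne (not_dvd_small a b c)
  have dd : ∀ i j, i - j ≠ 0 → -(L : ℤ) < i - j → i - j < L → D i ≠ D j := fun i j a b c =>
    zpow_ne (by rw [S.per_app]; exact not_dvd_small a b c)
  have xC : ∀ i, x (C i) = D (-i) := fun i => S.zpow_app i p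
  have xD : ∀ i, x (D i) = C (-i) := fun i => by
    simp only [hC, hD]; rw [S.zpow_app, app_app S.hx]
  have six : Six x (C 0) (D (-1)) (D (-2)) := by
    constructor <;> (try simp only [xC, xD, neg_neg, neg_zero])
    · exact cd _ _
    · exact cd _ _
    · exact dd _ _ (by omega) (by omega) (by omega)
    · exact cd _ _
    · exact cc _ _ (by omega) (by omega) (by omega)
    · exact cc _ _ (by omega) (by omega) (by omega)
    · exact (cd _ _).symm
    · exact (cd _ _).symm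
    · exact (cd _ _).symm
  set τ := mir x (C 0) (D (-1)) (D (-2)) with hτ
  have ta : τ (C 0) = D (-1) := mir_a S.hx six
  have tb : τ (D (-1)) = D (-2) := mir_b S.hx six
  have tc : τ (D (-2)) = C 0 := mir_c S.hx six
  have txc : τ (C 2) = C 1 := by simpa [xD, xC] using mir_xc S.hx six
  have txb : τ (C 1) = D 0 := by simpa [xD, xC] using mir_xb S.hx six
  have txa : τ (D 0) = C 2 := by simpa [xD, xC] using mir_xa S.hx six
  have toth : ∀ v, v ≠ C 0 → v ≠ D (-1) → v ≠ D (-2) → v ≠ D 0 → v ≠ C 1 → v ≠ C 2 → τ v = v := by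
    intro v h1 h2 h3 h4 h5 h6
    exact mir_other h1 h2 h3 (by simpa [xC] using h4) (by simpa [xD] using h5) (by simpa [xD] using h6)
  set f := τ * σ with hf
  have shift : ∀ (a : α) (i j : ℤ), (σ ^ j) ((σ ^ i) a) = (σ ^ (j + i)) a := fun a i j =>
    (zpow_add_app j i a).symm
  have perC : C (L : ℤ) = C 0 := zpow_eq_zpow.2 (by rw [sub_zero])
  have perD : ∀ i : ℤ, D ((L : ℤ) + i) = D i := fun i =>
    zpow_eq_zpow.2 (by rw [S.per_app, add_sub_cancel_right])
  -- the cycle through `C 2`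
  have r2 : ∀ k : ℕ, k + 3 ≤ L → (f ^ k) (C 2) = C (2 + k) := fun k hk => by
    rw [hf, run (C 2) k fun i h1 h2 => ?_, shift]
    · exact congrArg C (add_comm _ _)
    · rw [shift]
      exact toth _ (cc _ 0 (by omega) (by omega) (by omega)) (cd _ _) (cd _ _) (cd _ _)
        (cc _ 1 (by omega) (by omega) (by omega)) (cc _ 2 (by omega) (by omega) (by omega))
  have e1 : (f ^ (L - 3 + 1)) (C 2) = D (-1) := then_step (r2 (L - 3) (by omega)) (by
    refine step p _ _ ?_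
    show τ (C _) = _
    rw [show (2 : ℤ) + ((L - 3 : ℕ) : ℤ) + 1 = L by omega, perC, ta])
  have e2 : (f ^ (L - 3 + 1 + 1)) (C 2) = C 2 := then_step e1 (step (x p) _ _ txa)
  have o2 : Odd (L - 3 + 1 + 1) := by
    obtain ⟨l, hl⟩ := hev
    exact ⟨l - 1, by omega⟩
  -- the cycle through `D 0`
  have r0 : ∀ k : ℕ, k + 3 ≤ L → (f ^ k) (D 0) = D k := fun k hk => by
    rw [hf, run (D 0) k fun i h1 h2 => ?_, shift]
    · exact congrArg D (add_zero _)
    · rw [shift, add_zero]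
      refine toth _ (cd _ _).symm (dd _ _ (by omega) ?_ ?_) (dd _ _ (by omega) ?_ ?_)
        (dd _ 0 (by omega) (by omega) (by omega)) (cd _ _).symm (cd _ _).symm <;> omega
  have g1 : (f ^ (L - 3 + 1)) (D 0) = C 0 := then_step (r0 (L - 3) (by omega)) (by
    refine step (x p) _ _ ?_
    show τ (D _) = _
    rw [show ((L - 3 : ℕ) : ℤ) + 1 = L + (-2) by omega, perD, tc])
  have g2 : (f ^ (L - 3 + 1 + 1)) (D 0) = D 0 := then_step g1 (step0 p _ txb)
  refine ⟨τ, mir_cube S.hx six, mir_inv S.hx, fun v hv => ?_, fun v hv => ?_⟩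
  · rw [orb, Finset.mem_union, mem_cyc, mem_cyc] at hv
    push Not at hv
    exact toth v (hv.1 0).symm (hv.2 _).symm (hv.2 _).symm (hv.2 _).symm (hv.1 1).symm (hv.1 2).symm
  · rcases Finset.mem_union.1 hv with h | h
    · obtain ⟨i, hi, rfl⟩ := exists_shift h 0
      rw [zero_add]
      change OddRet f (C i)
      rcases eq_or_ne i 0 with rfl | h0
      · exact oddRet_of _ _ o2 g2 g1
      rcases eq_or_ne i 1 with rfl | h1
      · exact ⟨1, odd_one, step1 p _ txc⟩
      · exact oddRet_of _ (i - 2) o2 e2 (by rw [r2 _ (by omega)]; exact congrArg C (by omega))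
    · obtain ⟨i, hi, rfl⟩ := exists_shift h 0
      rw [zero_add]
      change OddRet f (D i)
      rw [S.per_app] at hi
      by_cases h3 : i + 3 ≤ L
      · exact oddRet_of _ i o2 g2 (r0 i h3)
      by_cases h2 : i + 2 = L
      · rw [show (i : ℤ) = (L : ℤ) + (-2) by omega, perD]
        exact ⟨1, odd_one, step (x p) _ _ (by
          show τ (D (-2 + 1)) = _
          norm_num
          exact tb)⟩
      · rw [show (i : ℤ) = (L : ℤ) + (-1) by omega, perD]
        exact oddRet_of _ _ o2 e2 e1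

/-- Cycles of length two next to another pair of cycles. -/
theorem good_merge {p q : α} (hp : Sep σ p (x p)) (hq : Sep σ q (x q)) (h2 : per σ p = 2)
    (hpq : Sep σ p q) (hpq' : Sep σ p (x q)) : Good x σ (orb x σ p ∪ orb x σ q) := by
  have hpq1 : Sep σ (x p) (x q) := hpq.app S
  have hpq2 : Sep σ (x p) q := by
    have := hpq'.app S
    rwa [app_app S.hx] at this
  set b := per σ q with hbdef
  have hb : 0 < b := per_pos σ q
  set C : ℤ → α := fun i => (σ ^ i) p with hC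
  set D : ℤ → α := fun i => (σ ^ i) (x p) with hD
  set E : ℤ → α := fun i => (σ ^ i) q with hE
  set F : ℤ → α := fun i => (σ ^ i) (x q) with hF
  have c01 : C 0 ≠ C 1 := zpow_ne (by rw [h2]; norm_num)
  have d01 : D 0 ≠ D 1 := zpow_ne (by rw [S.per_app, h2]; norm_num)
  have c2 : C 2 = C 0 := zpow_eq_zpow.2 (by rw [h2]; norm_num)
  have d2 : D 2 = D 0 := zpow_eq_zpow.2 (by rw [S.per_app, h2]; norm_num)
  have cd : ∀ i j, C i ≠ D j := fun i j => hp.ne i j
  have ef : ∀ i j, E i ≠ F j := fun i j => hq.ne i j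
  have ce : ∀ i j, C i ≠ E j := fun i j => hpq.ne i j
  have cf : ∀ i j, C i ≠ F j := fun i j => hpq'.ne i j
  have de : ∀ i j, D i ≠ E j := fun i j => hpq2.ne i j
  have df : ∀ i j, D i ≠ F j := fun i j => hpq1.ne i j
  have ee : ∀ i : ℕ, 1 ≤ i → i < b → E i ≠ E 0 := fun i h1 h2 =>
    zpow_ne (not_dvd_small (by omega) (by omega) (by omega))
  have ff : ∀ i : ℕ, 1 ≤ i → i < b → F i ≠ F 0 := fun i h1 h2 =>
    zpow_ne (by rw [S.per_app]; exact not_dvd_small (by omega) (by omega) (by omega))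
  have eb : E b = E 0 := zpow_eq_zpow.2 (by rw [sub_zero])
  have fb : F b = F 0 := zpow_eq_zpow.2 (by rw [S.per_app, sub_zero])
  have xC0 : x (C 0) = D 0 := by simp [hC, hD]
  have xC1 : x (C 1) = D 1 := by
    simp only [hC, hD]
    rw [S.zpow_app, zpow_eq_zpow, S.per_app, h2]
    norm_num
  have xD1 : x (D 1) = C 1 := by rw [← xC1, app_app S.hx]
  have xE0 : x (E 0) = F 0 := by simp [hE, hF]
  have mem : ∀ v, v ∈ orb x σ p ∪ orb x σ q →
      v = C 0 ∨ v = C 1 ∨ v = D 0 ∨ v = D 1 ∨ (∃ i : ℕ, i < b ∧ v = E i) ∨ ∃ i : ℕ, i < b ∧ v = F i := by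
    intro v hv
    simp only [orb, Finset.mem_union] at hv
    rcases hv with (h | h) | (h | h) <;> obtain ⟨i, hi, rfl⟩ := exists_shift h 0 <;>
      simp only [zero_add]
    · rw [h2] at hi
      interval_cases i
      · left; simp [hC]
      · right; left; simp [hC]
    · rw [S.per_app, h2] at hi
      interval_cases i
      · right; right; left; simp [hD]
      · right; right; right; left; simp [hD]
    · exact Or.inr (Or.inr (Or.inr (Or.inr (Or.inl ⟨i, hi, rfl⟩))))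
    · rw [S.per_app] at hi
      exact Or.inr (Or.inr (Or.inr (Or.inr (Or.inr ⟨i, hi, rfl⟩))))
  have inOrb : ∀ i, C i ∈ orb x σ p ∪ orb x σ q ∧ D i ∈ orb x σ p ∪ orb x σ q ∧
      E i ∈ orb x σ p ∪ orb x σ q ∧ F i ∈ orb x σ p ∪ orb x σ q := by
    intro i
    refine ⟨?_, ?_, ?_, ?_⟩ <;> simp only [orb, Finset.mem_union, mem_cyc]
    · exact Or.inl (Or.inl ⟨i, rfl⟩)
    · exact Or.inl (Or.inr ⟨i, rfl⟩)
    · exact Or.inr (Or.inl ⟨i, rfl⟩)
    · exact Or.inr (Or.inr ⟨i, rfl⟩)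
  rcases Nat.even_or_odd b with hev | hod
  · -- same side
    have six : Six x (C 0) (C 1) (E 0) := by
      constructor <;> (try simp only [xC0, xC1, xE0])
      · exact c01
      · exact ce _ _
      · exact ce _ _
      · exact cd _ _
      · exact cd _ _
      · exact cf _ _
      · exact cd _ _
      · exact cf _ _
      · exact ef _ _
    set τ := mir x (C 0) (C 1) (E 0) with hτ
    have ta : τ (C 0) = C 1 := mir_a S.hx six
    have tb : τ (C 1) = E 0 := mir_b S.hx six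
    have tc : τ (E 0) = C 0 := mir_c S.hx six
    have txc : τ (F 0) = D 1 := by simpa [xC0, xC1, xE0] using mir_xc S.hx six
    have txb : τ (D 1) = D 0 := by simpa [xC0, xC1, xE0] using mir_xb S.hx six
    have txa : τ (D 0) = F 0 := by simpa [xC0, xC1, xE0] using mir_xa S.hx six
    have toth : ∀ v, v ≠ C 0 → v ≠ C 1 → v ≠ E 0 → v ≠ D 0 → v ≠ D 1 → v ≠ F 0 → τ v = v := by
      intro v h1 h2 h3 h4 h5 h6
      exact mir_other h1 h2 h3 (by rwa [xC0]) (by rwa [xC1]) (by rwa [xE0])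
    set f := τ * σ with hf
    have rE : ∀ k : ℕ, k < b → (f ^ k) (E 0) = E k := fun k hk => by
      rw [hf, run (E 0) k fun i h1 h2 => ?_, hE]
      · simp
      · rw [show (σ ^ (i : ℤ)) (E 0) = E i by simp [hE]]
        exact toth _ (ce _ _).symm (ce _ _).symm (ee i h1 (by omega)) (de _ _).symm (de _ _).symm
          (ef _ _)
    have rF : ∀ k : ℕ, k < b → (f ^ k) (F 0) = F k := fun k hk => by
      rw [hf, run (F 0) k fun i h1 h2 => ?_, hF]
      · simp
      · rw [show (σ ^ (i : ℤ)) (F 0) = F i by simp [hF]]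
        exact toth _ (cf _ _).symm (cf _ _).symm (ef _ _).symm (df _ _).symm (df _ _).symm
          (ff i h1 (by omega))
    have e1 : (f ^ (b - 1 + 1)) (E 0) = C 0 := then_step (rE (b - 1) (by omega)) (by
      refine step q _ _ ?_
      show τ (E _) = _
      rw [show ((b - 1 : ℕ) : ℤ) + 1 = b by omega, eb, tc])
    have e2 : (f ^ (b - 1 + 1 + 1)) (E 0) = E 0 := then_step e1 (step0 p _ tb)
    have g1 : (f ^ (b - 1 + 1)) (F 0) = D 1 := then_step (rF (b - 1) (by omega)) (by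
      refine step (x q) _ _ ?_
      show τ (F _) = _
      rw [show ((b - 1 : ℕ) : ℤ) + 1 = b by omega, fb, txc])
    have g2 : (f ^ (b - 1 + 1 + 1)) (F 0) = F 0 := then_step g1 (step (x p) _ _ (by
      show τ (D 2) = _
      rw [d2, txa]))
    have ho : Odd (b - 1 + 1 + 1) := by
      obtain ⟨l, hl⟩ := hev
      exact ⟨l, by omega⟩
    refine ⟨τ, mir_cube S.hx six, mir_inv S.hx, fun v hv => ?_, fun v hv => ?_⟩
    · refine toth v ?_ ?_ ?_ ?_ ?_ ?_ <;> rintro rfl <;> apply hv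
      exacts [(inOrb 0).1, (inOrb 1).1, (inOrb 0).2.2.1, (inOrb 0).2.1, (inOrb 1).2.1, (inOrb 0).2.2.2]
    · rcases mem v hv with rfl | rfl | rfl | rfl | ⟨i, hi, rfl⟩ | ⟨i, hi, rfl⟩
      · exact oddRet_of _ _ ho e2 e1
      · exact ⟨1, odd_one, step1 p _ (by show τ (C 2) = _; rw [c2, ta])⟩
      · exact ⟨1, odd_one, step0 (x p) _ txb⟩
      · exact oddRet_of _ _ ho g2 g1
      · exact oddRet_of _ i ho e2 (rE i hi)
      · exact oddRet_of _ i ho g2 (rF i hi)
  · -- crossing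
    have six : Six x (C 0) (D 1) (E 0) := by
      constructor <;> (try simp only [xC0, xD1, xE0])
      · exact cd _ _
      · exact ce _ _
      · exact de _ _
      · exact cd _ _
      · exact c01
      · exact cf _ _
      · exact (cd _ _).symm
      · exact df _ _
      · exact ef _ _
    set τ := mir x (C 0) (D 1) (E 0) with hτ
    have ta : τ (C 0) = D 1 := mir_a S.hx six
    have tb : τ (D 1) = E 0 := mir_b S.hx six
    have tc : τ (E 0) = C 0 := mir_c S.hx six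
    have txc : τ (F 0) = C 1 := by simpa [xC0, xD1, xE0] using mir_xc S.hx six
    have txb : τ (C 1) = D 0 := by simpa [xC0, xD1, xE0] using mir_xb S.hx six
    have txa : τ (D 0) = F 0 := by simpa [xC0, xD1, xE0] using mir_xa S.hx six
    have toth : ∀ v, v ≠ C 0 → v ≠ C 1 → v ≠ E 0 → v ≠ D 0 → v ≠ D 1 → v ≠ F 0 → τ v = v := by
      intro v h1 h2 h3 h4 h5 h6
      exact mir_other h1 h5 h3 (by rwa [xC0]) (by rwa [xD1]) (by rwa [xE0])
    set f := τ * σ with hf
    have rE : ∀ k : ℕ, k < b → (f ^ k) (E 0) = E k := fun k hk => by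
      rw [hf, run (E 0) k fun i h1 h2 => ?_, hE]
      · simp
      · rw [show (σ ^ (i : ℤ)) (E 0) = E i by simp [hE]]
        exact toth _ (ce _ _).symm (ce _ _).symm (ee i h1 (by omega)) (de _ _).symm (de _ _).symm
          (ef _ _)
    have rF : ∀ k : ℕ, k < b → (f ^ k) (F 0) = F k := fun k hk => by
      rw [hf, run (F 0) k fun i h1 h2 => ?_, hF]
      · simp
      · rw [show (σ ^ (i : ℤ)) (F 0) = F i by simp [hF]]
        exact toth _ (cf _ _).symm (cf _ _).symm (ef _ _).symm (df _ _).symm (df _ _).symm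
          (ff i h1 (by omega))
    have e1 : (f ^ (b - 1 + 1)) (E 0) = C 0 := then_step (rE (b - 1) (by omega)) (by
      refine step q _ _ ?_
      show τ (E _) = _
      rw [show ((b - 1 : ℕ) : ℤ) + 1 = b by omega, eb, tc])
    have e2 : (f ^ (b - 1 + 1 + 1)) (E 0) = D 0 := then_step e1 (step0 p _ txb)
    have e3 : (f ^ (b - 1 + 1 + 1 + 1)) (E 0) = E 0 := then_step e2 (step0 (x p) _ tb)
    have g1 : (f ^ (b - 1 + 1)) (F 0) = C 1 := then_step (rF (b - 1) (by omega)) (by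
      refine step (x q) _ _ ?_
      show τ (F _) = _
      rw [show ((b - 1 : ℕ) : ℤ) + 1 = b by omega, fb, txc])
    have g2 : (f ^ (b - 1 + 1 + 1)) (F 0) = D 1 := then_step g1 (step p _ _ (by
      show τ (C 2) = _
      rw [c2, ta]))
    have g3 : (f ^ (b - 1 + 1 + 1 + 1)) (F 0) = F 0 := then_step g2 (step (x p) _ _ (by
      show τ (D 2) = _
      rw [d2, txa]))
    have ho : Odd (b - 1 + 1 + 1 + 1) := by
      obtain ⟨l, hl⟩ := hod
      exact ⟨l + 1, by omega⟩
    refine ⟨τ, mir_cube S.hx six, mir_inv S.hx, fun v hv => ?_, fun v hv => ?_⟩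
    · refine toth v ?_ ?_ ?_ ?_ ?_ ?_ <;> rintro rfl <;> apply hv
      exacts [(inOrb 0).1, (inOrb 1).1, (inOrb 0).2.2.1, (inOrb 0).2.1, (inOrb 1).2.1, (inOrb 0).2.2.2]
    · rcases mem v hv with rfl | rfl | rfl | rfl | ⟨i, hi, rfl⟩ | ⟨i, hi, rfl⟩
      · exact oddRet_of _ _ ho e3 e1
      · exact oddRet_of _ _ ho g3 g1
      · exact oddRet_of _ _ ho e3 e2
      · exact oddRet_of _ _ ho g3 g2
      · exact oddRet_of _ i ho e3 (rE i hi)
      · exact oddRet_of _ i ho g3 (rF i hi)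

/-- A pair of cycles of length two next to an odd self-paired cycle. -/
theorem good_self {p w : α} (hp : Sep σ p (x p)) (h2 : per σ p = 2) (hw : x w = w)
    (hod : Odd (per σ w)) (hwp : Sep σ w p) : Good x σ (cyc σ w ∪ orb x σ p) := by
  have hwp' : Sep σ w (x p) := by
    have := hwp.app S
    rwa [hw] at this
  set L := per σ w with hLdef
  set C : ℤ → α := fun i => (σ ^ i) p with hC
  set D : ℤ → α := fun i => (σ ^ i) (x p) with hD
  set W : ℤ → α := fun i => (σ ^ i) w with hW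
  have cd : ∀ i j, C i ≠ D j := fun i j => hp.ne i j
  have wc : ∀ i j, W i ≠ C j := fun i j => hwp.ne i j
  have wd : ∀ i j, W i ≠ D j := fun i j => hwp'.ne i j
  have c01 : C 1 ≠ C 0 := zpow_ne (by rw [h2]; norm_num)
  have d01 : D 1 ≠ D 0 := zpow_ne (by rw [S.per_app, h2]; norm_num)
  have c2 : C 2 = C 0 := zpow_eq_zpow.2 (by rw [h2]; norm_num)
  have d2 : D 2 = D 0 := zpow_eq_zpow.2 (by rw [S.per_app, h2]; norm_num)
  have wL : W L = W 0 := zpow_eq_zpow.2 (by rw [sub_zero])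
  have hW0 : W 0 = w := by simp [hW]
  have hC0 : C 0 = p := by simp [hC]
  have hD0 : D 0 = x p := by simp [hD]
  set τ := cyc3 (W 0) (C 0) (D 0) with hτ
  have tw : τ (W 0) = C 0 := cyc3_fst (wc _ _) (wd _ _)
  have tp : τ (C 0) = D 0 := cyc3_snd (wd _ _) (cd _ _)
  have td : τ (D 0) = W 0 := cyc3_thd
  have hinv : x * τ * x = τ⁻¹ := by
    have hxi : x⁻¹ = x := inv_eq_of_mul_eq_one_right S.hx
    conv_lhs => arg 2; rw [← hxi]
    rw [hτ, cyc3_conj, cyc3_inv, hW0, hC0, hD0, hw, app_app S.hx]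
    have h1 := wd 0 0
    have h2' := wc 0 0
    have h3 := cd 0 0
    rw [hW0, hD0] at h1; rw [hW0, hC0] at h2'; rw [hC0, hD0] at h3
    rw [cyc3_rotate h1 h2' h3.symm]
  set f := τ * σ with hf
  have rW : ∀ k : ℕ, k < L → (f ^ k) (W 0) = W k := fun k hk => by
    rw [hf, run (W 0) k fun i h1 h2 => ?_, hW]
    · simp
    · rw [show (σ ^ (i : ℤ)) (W 0) = W i by simp [hW]]
      exact cyc3_other (zpow_ne (not_dvd_small (by omega) (by omega) (by omega))) (wc _ _) (wd _ _)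
  have h0 := per_pos σ w
  have e1 : (f ^ (L - 1 + 1)) (W 0) = C 0 := then_step (rW (L - 1) (by omega)) (by
    refine step w _ _ ?_
    show τ (W _) = _
    rw [show ((L - 1 : ℕ) : ℤ) + 1 = L by omega, wL, tw])
  have e2 : (f ^ (L - 1 + 1 + 1)) (W 0) = C 1 := then_step e1 (step0 p _ (cyc3_other (wc 0 1).symm c01 (cd 1 0)))
  have e3 : (f ^ (L - 1 + 1 + 1 + 1)) (W 0) = D 0 := then_step e2 (step p _ _ (by
    show τ (C 2) = _; rw [c2, tp]))
  have e4 : (f ^ (L - 1 + 1 + 1 + 1 + 1)) (W 0) = D 1 := then_step e3 (step0 (x p) _ (cyc3_other (wd 0 1).symm (cd 0 1).symm d01))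
  have e5 : (f ^ (L - 1 + 1 + 1 + 1 + 1 + 1)) (W 0) = W 0 := then_step e4 (step (x p) _ _ (by
    show τ (D 2) = _; rw [d2, td]))
  have ho : Odd (L - 1 + 1 + 1 + 1 + 1 + 1) := by
    obtain ⟨l, hl⟩ := hod
    exact ⟨l + 2, by omega⟩
  refine ⟨τ, cyc3_cube (wc _ _) (wd _ _) (cd _ _), hinv, fun v hv => ?_, fun v hv => ?_⟩
  · simp only [orb, Finset.mem_union, mem_cyc] at hv
    push Not at hv
    exact cyc3_other (hv.1 0).symm (hv.2.1 0).symm (hv.2.2 0).symm
  · simp only [orb, Finset.mem_union] at hv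
    rcases hv with h | h | h <;> obtain ⟨i, hi, rfl⟩ := exists_shift h 0 <;> simp only [zero_add]
    · exact oddRet_of _ i ho e5 (rW i hi)
    · rw [h2] at hi
      interval_cases i
      · exact oddRet_of _ _ ho e5 e1
      · exact oddRet_of _ _ ho e5 e2
    · rw [S.per_app, h2] at hi
      interval_cases i
      · exact oddRet_of _ _ ho e5 e3
      · exact oddRet_of _ _ ho e5 e4

/-- The data of a pair of even self-paired cycles: `x` fixes `w`, and `x r = σ⁻¹ r`. -/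
structure EvenPair (x σ : Perm α) (w r : α) : Prop where
  hw : x w = w
  hr : x r = (σ ^ (-1 : ℤ)) r
  hwe : Even (per σ w)
  hre : Even (per σ r)

omit S in
theorem EvenPair.sep {w r : α} (P : EvenPair x σ w r) (S : Setup x σ) : Sep σ w r := by
  rintro ⟨i, e⟩
  have h := S.zpow_app i w
  rw [P.hw, e, P.hr, ← e, ← zpow_add_app, zpow_eq_zpow] at h
  obtain ⟨k, hk⟩ := P.hwe
  have h2 : (2 : ℤ) ∣ (-1 + i) - -i := dvd_trans ⟨(k : ℤ), by rw [hk]; push_cast; ring⟩ h
  omega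

/-- Two even self-paired cycles of opposite type, possibly with cycles of length two. -/
theorem good_evenPair {w r : α} (P : EvenPair x σ w r) : Good x σ (cyc σ w ∪ cyc σ r) ∧
    ∀ p, Sep σ p (x p) → per σ p = 2 → Sep σ w p → Sep σ r p →
      Good x σ (cyc σ w ∪ cyc σ r ∪ orb x σ p) := by
  have wr := P.sep S
  set a := per σ w with hadef
  set b := per σ r with hbdef
  have ha : 0 < a := per_pos σ w
  have hb : 0 < b := per_pos σ r
  obtain ⟨l, hl⟩ := P.hwe
  obtain ⟨m, hm⟩ := P.hre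
  set W : ℤ → α := fun i => (σ ^ i) w with hW
  set R : ℤ → α := fun i => (σ ^ i) r with hR
  have hW0 : W 0 = w := by simp [hW]
  have hR0 : R 0 = r := by simp [hR]
  have wL : W a = W 0 := zpow_eq_zpow.2 (by rw [sub_zero])
  have rL : ∀ i : ℤ, R ((b : ℤ) + i) = R i := fun i => zpow_eq_zpow.2 (by rw [add_sub_cancel_right])
  have rr : R (-1) ≠ R 0 := zpow_ne (not_dvd_small (by omega) (by omega) (by omega))
  have xr : x (R 0) = R (-1) := by simpa [hR] using P.hr
  have xr' : x (R (-1)) = R 0 := by rw [← xr, app_app S.hx]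
  set τ := cyc3 (W 0) (R (-1)) (R 0) with hτ
  have tw : τ (W 0) = R (-1) := cyc3_fst (wr.ne _ _) (wr.ne _ _)
  have tr' : τ (R (-1)) = R 0 := cyc3_snd (wr.ne _ _) rr
  have tr : τ (R 0) = W 0 := cyc3_thd
  have toth : ∀ v, v ≠ W 0 → v ≠ R (-1) → v ≠ R 0 → τ v = v := fun v => cyc3_other
  have hinv : x * τ * x = τ⁻¹ := by
    have hxi : x⁻¹ = x := inv_eq_of_mul_eq_one_right S.hx
    conv_lhs => arg 2; rw [← hxi]
    rw [hτ, cyc3_conj, cyc3_inv, hW0, P.hw, xr, xr']
    rw [← hW0, cyc3_rotate (wr.ne 0 0) (wr.ne 0 (-1)) rr.symm]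
  -- a run inside the cycle of `r`
  have rRun : ∀ (τ' : Perm α), (∀ i : ℤ, τ' (R i) = τ (R i)) →
      (∀ k : ℕ, k + 2 ≤ b → ((τ' * σ) ^ k) (R 0) = R k) ∧
      ((τ' * σ) ^ (b - 2 + 1)) (R 0) = R 0 := by
    intro τ' hτ'
    have hrun : ∀ k : ℕ, k + 2 ≤ b → ((τ' * σ) ^ k) (R 0) = R k := fun k hk => by
      rw [run (R 0) k fun i h1 h2 => ?_, hR]
      · simp
      · rw [show (σ ^ (i : ℤ)) (R 0) = R i by simp [hR], hτ']
        exact toth _ (wr.ne _ _).symm (zpow_ne (not_dvd_small (by omega) (by omega) (by omega)))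
          (zpow_ne (not_dvd_small (by omega) (by omega) (by omega)))
    refine ⟨hrun, then_step (hrun (b - 2) (by omega)) (step r _ _ ?_)⟩
    show τ' (R _) = _
    rw [hτ', show ((b - 2 : ℕ) : ℤ) + 1 = (b : ℤ) + -1 by omega, rL, tr']
  have hbo : Odd (b - 2 + 1) := ⟨m - 1, by omega⟩
  refine ⟨⟨τ, cyc3_cube (wr.ne _ _) (wr.ne _ _) rr, hinv, fun v hv => ?_, fun v hv => ?_⟩, ?_⟩
  · simp only [Finset.mem_union, mem_cyc] at hv
    push Not at hv
    exact toth v (hv.1 0).symm (hv.2 _).symm (hv.2 _).symm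
  · set f := τ * σ with hf
    have rW : ∀ k : ℕ, k < a → (f ^ k) (W 0) = W k := fun k hk => by
      rw [hf, run (W 0) k fun i h1 h2 => ?_, hW]
      · simp
      · rw [show (σ ^ (i : ℤ)) (W 0) = W i by simp [hW]]
        exact toth _ (zpow_ne (not_dvd_small (by omega) (by omega) (by omega))) (wr.ne _ _) (wr.ne _ _)
    have e1 : (f ^ (a - 1 + 1)) (W 0) = R (-1) := then_step (rW (a - 1) (by omega)) (by
      refine step w _ _ ?_
      show τ (W _) = _
      rw [show ((a - 1 : ℕ) : ℤ) + 1 = a by omega, wL, tw])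
    have e2 : (f ^ (a - 1 + 1 + 1)) (W 0) = W 0 := then_step e1 (step r _ (-1) (by
      show τ (R (-1 + 1)) = _
      rw [neg_add_cancel, tr]))
    have ho : Odd (a - 1 + 1 + 1) := ⟨l, by omega⟩
    obtain ⟨hrun, hret⟩ := rRun τ fun _ => rfl
    simp only [Finset.mem_union] at hv
    rcases hv with h | h <;> obtain ⟨i, hi, rfl⟩ := exists_shift h 0 <;> simp only [zero_add]
    · exact oddRet_of _ i ho e2 (rW i hi)
    · by_cases hib : i + 2 ≤ b
      · exact oddRet_of _ i hbo hret (hrun i hib)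
      · rw [show (i : ℤ) = (b : ℤ) + -1 by omega]
        exact oddRet_of _ _ ho e2 (e1.trans (rL (-1)).symm)
  · intro p hp h2 hwp hrp
    have hwp' : Sep σ w (x p) := by
      have := hwp.app S
      rwa [P.hw] at this
    have hrp' : Sep σ r (x p) := by
      rintro ⟨i, e⟩
      have h := congrArg x e
      rw [S.zpow_app, P.hr, app_app S.hx, ← zpow_add_app] at h
      exact hrp ⟨_, h⟩
    set C : ℤ → α := fun i => (σ ^ i) p with hC
    set D : ℤ → α := fun i => (σ ^ i) (x p) with hD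
    have hC0 : C 0 = p := by simp [hC]
    have hD0 : D 0 = x p := by simp [hD]
    have cd : ∀ i j, C i ≠ D j := fun i j => hp.ne i j
    have wc : ∀ i j, W i ≠ C j := fun i j => hwp.ne i j
    have wd : ∀ i j, W i ≠ D j := fun i j => hwp'.ne i j
    have rc : ∀ i j, R i ≠ C j := fun i j => hrp.ne i j
    have rd : ∀ i j, R i ≠ D j := fun i j => hrp'.ne i j
    have c2 : C 2 = C 0 := zpow_eq_zpow.2 (by rw [h2]; norm_num)
    have d2 : D 2 = D 0 := zpow_eq_zpow.2 (by rw [S.per_app, h2]; norm_num)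
    have c01 : C 1 ≠ C 0 := zpow_ne (by rw [h2]; norm_num)
    have d01 : D 1 ≠ D 0 := zpow_ne (by rw [S.per_app, h2]; norm_num)
    have wl : W l ≠ W 0 := zpow_ne (not_dvd_small (by omega) (by omega) (by omega))
    have xwl : x (W l) = W l := by
      simp only [hW]
      rw [S.zpow_app, P.hw, zpow_eq_zpow]
      exact ⟨-1, by show _ = (per σ w : ℤ) * -1; rw [hl]; push_cast; ring⟩
    set τ₂ := cyc3 (W l) (C 0) (D 0) with hτ₂
    have uw : τ₂ (W l) = C 0 := cyc3_fst (wc _ _) (wd _ _)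
    have up : τ₂ (C 0) = D 0 := cyc3_snd (wd _ _) (cd _ _)
    have ud : τ₂ (D 0) = W l := cyc3_thd
    have uoth : ∀ v, v ≠ W l → v ≠ C 0 → v ≠ D 0 → τ₂ v = v := fun v => cyc3_other
    have hinv₂ : x * τ₂ * x = τ₂⁻¹ := by
      have hxi : x⁻¹ = x := inv_eq_of_mul_eq_one_right S.hx
      conv_lhs => arg 2; rw [← hxi]
      have exC : x (C 0) = D 0 := by rw [hC0, hD0]
      have exD : x (D 0) = C 0 := by rw [← exC, app_app S.hx]
      rw [hτ₂, cyc3_conj, cyc3_inv, xwl, exC, exD,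
        cyc3_rotate (wd _ _) (wc _ _) (cd _ _).symm]
    have hdis : τ.Disjoint τ₂ := fun v => by
      by_cases h1 : v = W 0
      · exact Or.inr (by rw [h1]; exact uoth _ wl.symm (wc _ _) (wd _ _))
      by_cases h3 : v = R (-1)
      · exact Or.inr (by rw [h3]; exact uoth _ (wr.ne _ _).symm (rc _ _) (rd _ _))
      by_cases h4 : v = R 0
      · exact Or.inr (by rw [h4]; exact uoth _ (wr.ne _ _).symm (rc _ _) (rd _ _))
      exact Or.inl (toth v h1 h3 h4)
    have hcomm : Commute τ τ₂ := hdis.commute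
    set T := τ * τ₂ with hT
    have TR : ∀ i : ℤ, T (R i) = τ (R i) := fun i => by
      rw [hT, Perm.mul_apply, uoth _ (wr.ne _ _).symm (rc _ _) (rd _ _)]
    have Toth : ∀ v, v ≠ W 0 → v ≠ R (-1) → v ≠ R 0 → v ≠ W l → v ≠ C 0 → v ≠ D 0 → T v = v := by
      intro v h1 h2 h3 h4 h5 h6
      rw [hT, Perm.mul_apply, uoth v h4 h5 h6, toth v h1 h2 h3]
    set f := T * σ with hf
    obtain ⟨hrun, hret⟩ := rRun T TR
    have r1 : ∀ k : ℕ, k < l → (f ^ k) (W 0) = W k := fun k hk => by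
      rw [hf, run (W 0) k fun i h1 h2 => ?_, hW]
      · simp
      · rw [show (σ ^ (i : ℤ)) (W 0) = W i by simp [hW]]
        exact Toth _ (zpow_ne (not_dvd_small (by omega) (by omega) (by omega))) (wr.ne _ _) (wr.ne _ _)
          (zpow_ne (not_dvd_small (by omega) (by omega) (by omega))) (wc _ _) (wd _ _)
    have r2 : ∀ k : ℕ, k < l → (f ^ k) (W l) = W (l + k) := fun k hk => by
      rw [hf, run (W l) k fun i h1 h2 => ?_, hW]
      · simp only [← zpow_add_app]
        rw [add_comm]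
      · rw [show (σ ^ (i : ℤ)) (W l) = W (i + l) by simp only [hW, zpow_add_app]]
        exact Toth _ (zpow_ne (not_dvd_small (by omega) (by omega) (by omega))) (wr.ne _ _) (wr.ne _ _)
          (zpow_ne (not_dvd_small (by omega) (by omega) (by omega))) (wc _ _) (wd _ _)
    have e1 : (f ^ (l - 1 + 1)) (W 0) = C 0 := then_step (r1 (l - 1) (by omega)) (by
      refine step w _ _ ?_
      show T (W _) = _
      rw [show ((l - 1 : ℕ) : ℤ) + 1 = l by omega, hT, Perm.mul_apply, uw,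
        toth _ (wc _ _).symm (rc _ _).symm (rc _ _).symm])
    have e2 : (f ^ (l - 1 + 1 + 1)) (W 0) = C 1 := then_step e1 (step0 p _
      (Toth _ (wc _ _).symm (rc _ _).symm (rc _ _).symm (wc _ _).symm c01 (cd _ _)))
    have e3 : (f ^ (l - 1 + 1 + 1 + 1)) (W 0) = D 0 := then_step e2 (step1 p _ (by
      show T (C 2) = _
      rw [c2, hT, Perm.mul_apply, up, toth _ (wd _ _).symm (rd _ _).symm (rd _ _).symm]))
    have e4 : (f ^ (l - 1 + 1 + 1 + 1 + 1)) (W 0) = D 1 := then_step e3 (step0 (x p) _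
      (Toth _ (wd _ _).symm (rd _ _).symm (rd _ _).symm (wd _ _).symm (cd _ _).symm d01))
    have e5 : (f ^ (l - 1 + 1 + 1 + 1 + 1 + 1)) (W 0) = W l := then_step e4 (step1 (x p) _ (by
      show T (D 2) = _
      rw [d2, hT, Perm.mul_apply, ud, toth _ wl (wr.ne _ _) (wr.ne _ _)]))
    have e6 : (f ^ (l - 1 + 1 + 1 + 1 + 1 + 1 + (l - 1) + 1)) (W 0) = R (-1) :=
      then_step (then_run e5 (r2 (l - 1) (by omega))) (by
        refine step w _ _ ?_
        show T (W _) = _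
        rw [show (l : ℤ) + ((l - 1 : ℕ) : ℤ) + 1 = a by omega, wL, hT, Perm.mul_apply,
          uoth _ wl.symm (wc _ _) (wd _ _), tw])
    have e7 : (f ^ (l - 1 + 1 + 1 + 1 + 1 + 1 + (l - 1) + 1 + 1)) (W 0) = W 0 :=
      then_step e6 (step r _ (-1) (by
        show T (R (-1 + 1)) = _
        rw [neg_add_cancel, TR, tr]))
    have ho : Odd (l - 1 + 1 + 1 + 1 + 1 + 1 + (l - 1) + 1 + 1) := ⟨l + 2, by omega⟩
    refine ⟨T, by rw [hT, hcomm.mul_pow, cyc3_cube (wr.ne _ _) (wr.ne _ _) rr,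
      cyc3_cube (wc _ _) (wd _ _) (cd _ _), one_mul], ?_, fun v hv => ?_, fun v hv => ?_⟩
    · calc x * T * x = (x * τ * x) * (x * τ₂ * x) := by
            rw [hT, show x * τ * x * (x * τ₂ * x) = x * τ * (x * x) * τ₂ * x by group, S.hx]; group
        _ = T⁻¹ := by rw [hinv, hinv₂, hT, mul_inv_rev, hcomm.inv_inv.eq]
    · simp only [orb, Finset.mem_union, mem_cyc] at hv
      push Not at hv
      exact Toth v (hv.1.1 0).symm (hv.1.2 _).symm (hv.1.2 _).symm (hv.1.1 _).symm (hv.2.1 0).symm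
        (hv.2.2 0).symm
    · simp only [orb, Finset.mem_union] at hv
      rcases hv with (h | h) | h | h <;> obtain ⟨i, hi, rfl⟩ := exists_shift h 0 <;>
        simp only [zero_add]
      · by_cases hil : i < l
        · exact oddRet_of _ i ho e7 (r1 i hil)
        · refine oddRet_of _ (l - 1 + 1 + 1 + 1 + 1 + 1 + (i - l)) ho e7 ?_
          rw [then_run e5 (r2 (i - l) (by omega)), show (l : ℤ) + ((i - l : ℕ) : ℤ) = i by omega]
      · by_cases hib : i + 2 ≤ b
        · exact oddRet_of _ i hbo hret (hrun i hib)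
        · rw [show (i : ℤ) = (b : ℤ) + -1 by omega]
          exact oddRet_of _ _ ho e7 (e6.trans (rL (-1)).symm)
      · rw [h2] at hi
        interval_cases i
        · exact oddRet_of _ _ ho e7 e1
        · exact oddRet_of _ _ ho e7 e2
      · rw [S.per_app, h2] at hi
        interval_cases i
        · exact oddRet_of _ _ ho e7 e3
        · exact oddRet_of _ _ ho e7 e4

/-- Three pairs of cycles of length two. -/
theorem good_triple {p q s : α} (hp : Sep σ p (x p)) (hq : Sep σ q (x q)) (hs : Sep σ s (x s))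
    (p2 : per σ p = 2) (q2 : per σ q = 2) (s2 : per σ s = 2)
    (hpq : q ∉ orb x σ p) (hps : s ∉ orb x σ p) (hqs : s ∉ orb x σ q) :
    Good x σ (orb x σ p ∪ orb x σ q ∪ orb x σ s) := by
  have seps : ∀ {u v : α}, v ∉ orb x σ u →
      Sep σ u v ∧ Sep σ (x u) v ∧ Sep σ u (x v) ∧ Sep σ (x u) (x v) := by
    intro u v h
    simp only [orb, Finset.mem_union, not_or] at h
    have h1 := Sep.of_not_mem h.1
    have h2 := Sep.of_not_mem h.2
    refine ⟨h1, h2, ?_, h1.app S⟩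
    have := h2.app S
    rwa [app_app S.hx] at this
  obtain ⟨spq, sxpq, spxq, sxpxq⟩ := seps hpq
  obtain ⟨sps, sxps, spxs, sxpxs⟩ := seps hps
  obtain ⟨sqs, sxqs, sqxs, sxqxs⟩ := seps hqs
  set C : ℤ → α := fun i => (σ ^ i) p with hC
  set D : ℤ → α := fun i => (σ ^ i) (x p) with hD
  set E : ℤ → α := fun i => (σ ^ i) q with hE
  set F : ℤ → α := fun i => (σ ^ i) (x q) with hF
  set G : ℤ → α := fun i => (σ ^ i) s with hG
  set H : ℤ → α := fun i => (σ ^ i) (x s) with hH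
  have two : ∀ u, per σ u = 2 → (σ ^ (2 : ℤ)) u = (σ ^ (0 : ℤ)) u ∧
      (σ ^ (1 : ℤ)) u ≠ (σ ^ (0 : ℤ)) u ∧ x ((σ ^ (0 : ℤ)) u) = (σ ^ (0 : ℤ)) (x u) ∧
      x ((σ ^ (1 : ℤ)) u) = (σ ^ (1 : ℤ)) (x u) := by
    intro u hu
    refine ⟨zpow_eq_zpow.2 (by rw [hu]; norm_num), zpow_ne (by rw [hu]; norm_num), by simp, ?_⟩
    rw [S.zpow_app, zpow_eq_zpow, S.per_app, hu]
    norm_num
  obtain ⟨cC, c01, xC0, xC1⟩ := two p p2
  obtain ⟨cD, d01, -, xD1⟩ := two (x p) (by rw [S.per_app]; exact p2)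
  obtain ⟨cE, e01, xE0, xE1⟩ := two q q2
  obtain ⟨cF, f01, -, xF1⟩ := two (x q) (by rw [S.per_app]; exact q2)
  obtain ⟨cG, g01, xG0, xG1⟩ := two s s2
  obtain ⟨cH, h01, -, xH1⟩ := two (x s) (by rw [S.per_app]; exact s2)
  rw [app_app S.hx] at xD1 xF1 xH1
  have six₁ : Six x (C 0) (C 1) (E 0) := by
    constructor <;> (try simp only [hC, hE, xC0, xC1, xE0])
    · exact c01.symm
    · exact spq.ne _ _
    · exact spq.ne _ _
    · exact hp.ne _ _
    · exact hp.ne _ _
    · exact spxq.ne _ _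
    · exact hp.ne _ _
    · exact spxq.ne _ _
    · exact hq.ne _ _
  have six₂ : Six x (E 1) (G 0) (H 1) := by
    constructor <;> (try simp only [hE, hG, hH, xE1, xG0, xH1])
    · exact sqs.ne _ _
    · exact sqxs.ne _ _
    · exact hs.ne _ _
    · exact hq.ne _ _
    · exact sqxs.ne _ _
    · exact sqs.ne _ _
    · exact hs.ne _ _
    · exact g01.symm
    · exact (hs.ne _ _).symm
  set τ₁ := mir x (C 0) (C 1) (E 0) with hτ₁
  set τ₂ := mir x (E 1) (G 0) (H 1) with hτ₂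
  have o₁ : ∀ v, v ≠ C 0 → v ≠ C 1 → v ≠ E 0 → v ≠ D 0 → v ≠ D 1 → v ≠ F 0 → τ₁ v = v := by
    intro v h1 h2 h3 h4 h5 h6
    exact mir_other h1 h2 h3 (by simpa only [hC, xC0] using h4) (by simpa only [hC, xC1] using h5)
      (by simpa only [hE, xE0] using h6)
  have o₂ : ∀ v, v ≠ E 1 → v ≠ G 0 → v ≠ H 1 → v ≠ F 1 → v ≠ H 0 → v ≠ G 1 → τ₂ v = v := by
    intro v h1 h2 h3 h4 h5 h6
    exact mir_other h1 h2 h3 (by simpa only [hE, xE1] using h4) (by simpa only [hG, xG0] using h5)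
      (by simpa only [hH, xH1] using h6)
  have a1 : τ₁ (C 0) = C 1 := mir_a S.hx six₁
  have b1 : τ₁ (C 1) = E 0 := mir_b S.hx six₁
  have k1 : τ₁ (E 0) = C 0 := mir_c S.hx six₁
  have xk1 : τ₁ (F 0) = D 1 := by simpa only [hC, hE, xC1, xE0] using mir_xc S.hx six₁
  have xb1 : τ₁ (D 1) = D 0 := by simpa only [hC, xC1, xC0] using mir_xb S.hx six₁
  have xa1 : τ₁ (D 0) = F 0 := by simpa only [hC, hE, xC0, xE0] using mir_xa S.hx six₁
  have a2 : τ₂ (E 1) = G 0 := mir_a S.hx six₂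
  have b2 : τ₂ (G 0) = H 1 := mir_b S.hx six₂
  have k2 : τ₂ (H 1) = E 1 := mir_c S.hx six₂
  have xk2 : τ₂ (G 1) = H 0 := by simpa only [hG, hH, xH1, xG0] using mir_xc S.hx six₂
  have xb2 : τ₂ (H 0) = F 1 := by simpa only [hE, hG, xG0, xE1] using mir_xb S.hx six₂
  have xa2 : τ₂ (F 1) = G 1 := by simpa only [hE, hH, xE1, xH1] using mir_xa S.hx six₂
  -- which of the two factors moves a point
  have keepC : ∀ i, τ₂ (C i) = C i ∧ τ₂ (D i) = D i := fun i =>
    ⟨o₂ _ (spq.ne _ _) (sps.ne _ _) (spxs.ne _ _) (spxq.ne _ _) (spxs.ne _ _) (sps.ne _ _),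
      o₂ _ (sxpq.ne _ _) (sxps.ne _ _) (sxpxs.ne _ _) (sxpxq.ne _ _) (sxpxs.ne _ _) (sxps.ne _ _)⟩
  have keepG : ∀ i, τ₁ (G i) = G i ∧ τ₁ (H i) = H i := fun i =>
    ⟨o₁ _ (sps.symm.ne _ _) (sps.symm.ne _ _) (sqs.symm.ne _ _) (sxps.symm.ne _ _)
        (sxps.symm.ne _ _) (sxqs.symm.ne _ _),
      o₁ _ (spxs.symm.ne _ _) (spxs.symm.ne _ _) (sqxs.symm.ne _ _) (sxpxs.symm.ne _ _)
        (sxpxs.symm.ne _ _) (sxqxs.symm.ne _ _)⟩
  have keepE : τ₂ (E 0) = E 0 ∧ τ₂ (F 0) = F 0 :=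
    ⟨o₂ _ e01.symm (sqs.ne _ _) (sqxs.ne _ _) (hq.ne _ _) (sqxs.ne _ _) (sqs.ne _ _),
      o₂ _ (hq.ne _ _).symm (sxqs.ne _ _) (sxqxs.ne _ _) f01.symm (sxqxs.ne _ _) (sxqs.ne _ _)⟩
  have keepE' : τ₁ (E 1) = E 1 ∧ τ₁ (F 1) = F 1 :=
    ⟨o₁ _ (spq.symm.ne _ _) (spq.symm.ne _ _) e01 (sxpq.symm.ne _ _) (sxpq.symm.ne _ _) (hq.ne _ _),
      o₁ _ (spxq.symm.ne _ _) (spxq.symm.ne _ _) (hq.ne _ _).symm (sxpxq.symm.ne _ _)
        (sxpxq.symm.ne _ _) f01⟩
  have hdis : τ₁.Disjoint τ₂ := fun v => by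
    by_cases h1 : v = C 0
    · exact Or.inr (h1 ▸ (keepC 0).1)
    by_cases h2 : v = C 1
    · exact Or.inr (h2 ▸ (keepC 1).1)
    by_cases h3 : v = E 0
    · exact Or.inr (h3 ▸ keepE.1)
    by_cases h4 : v = D 0
    · exact Or.inr (h4 ▸ (keepC 0).2)
    by_cases h5 : v = D 1
    · exact Or.inr (h5 ▸ (keepC 1).2)
    by_cases h6 : v = F 0
    · exact Or.inr (h6 ▸ keepE.2)
    exact Or.inl (o₁ v h1 h2 h3 h4 h5 h6)
  have hcomm : Commute τ₁ τ₂ := hdis.commute
  set T := τ₁ * τ₂ with hT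
  set f := T * σ with hf
  have T1 : ∀ {u v : α}, τ₂ u = u → τ₁ u = v → T u = v := fun h h' => by
    rw [hT, Perm.mul_apply, h, h']
  have T2 : ∀ {u v : α}, τ₂ u = v → τ₁ v = v → T u = v := fun h h' => by
    rw [hT, Perm.mul_apply, h, h']
  have ho : Odd 5 := ⟨2, rfl⟩
  have u1 : (f ^ 1) (C 0) = E 0 := by rw [pow_one]; exact step0 p _ (T1 (keepC 1).1 b1)
  have u2 : (f ^ 2) (C 0) = G 0 := then_step u1 (step0 q _ (T2 a2 (keepG 0).1))
  have u3 : (f ^ 3) (C 0) = H 0 := then_step u2 (step0 s _ (T2 xk2 (keepG 0).2))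
  have u4 : (f ^ 4) (C 0) = E 1 := then_step u3 (step0 (x s) _ (T2 k2 keepE'.1))
  have u5 : (f ^ 5) (C 0) = C 0 := then_step u4 (step1 q _ (by rw [cE]; exact T1 keepE.1 k1))
  have v0 : f (C 1) = C 1 := step1 p _ (by rw [cC]; exact T1 (keepC 0).1 a1)
  have v0' : f (D 0) = D 0 := step0 (x p) _ (T1 (keepC 1).2 xb1)
  have v1 : (f ^ 1) (D 1) = F 0 := by
    rw [pow_one]; exact step1 (x p) _ (by rw [cD]; exact T1 (keepC 0).2 xa1)
  have v2 : (f ^ 2) (D 1) = G 1 := then_step v1 (step0 (x q) _ (T2 xa2 (keepG 1).1))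
  have v3 : (f ^ 3) (D 1) = H 1 := then_step v2 (step1 s _ (by rw [cG]; exact T2 b2 (keepG 1).2))
  have v4 : (f ^ 4) (D 1) = F 1 := then_step v3 (step1 (x s) _ (by rw [cH]; exact T2 xb2 keepE'.2))
  have v5 : (f ^ 5) (D 1) = D 1 := then_step v4 (step1 (x q) _ (by rw [cF]; exact T1 keepE.2 xk1))
  refine ⟨T, by rw [hT, hcomm.mul_pow, mir_cube S.hx six₁, mir_cube S.hx six₂, one_mul], ?_,
    fun v hv => ?_, fun v hv => ?_⟩
  · calc x * T * x = (x * τ₁ * x) * (x * τ₂ * x) := by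
          rw [hT, show x * τ₁ * x * (x * τ₂ * x) = x * τ₁ * (x * x) * τ₂ * x by group, S.hx]; group
      _ = T⁻¹ := by rw [mir_inv S.hx, mir_inv S.hx, hT, mul_inv_rev, hcomm.inv_inv.eq]
  · simp only [orb, Finset.mem_union, mem_cyc] at hv
    push Not at hv
    obtain ⟨⟨⟨hc, hd⟩, he, hf'⟩, hg, hh⟩ := hv
    rw [hT, Perm.mul_apply, o₂ v (he 1).symm (hg 0).symm (hh 1).symm (hf' 1).symm (hh 0).symm
      (hg 1).symm, o₁ v (hc 0).symm (hc 1).symm (he 0).symm (hd 0).symm (hd 1).symm (hf' 0).symm]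
  · simp only [orb, Finset.mem_union] at hv
    rcases hv with ((h | h) | h | h) | h | h <;> obtain ⟨i, hi, rfl⟩ := exists_shift h 0 <;>
      simp only [zero_add] <;> (try rw [S.per_app] at hi)
    · rw [p2] at hi
      interval_cases i
      · exact ⟨5, ho, u5⟩
      · exact ⟨1, odd_one, by rw [pow_one]; exact v0⟩
    · rw [p2] at hi
      interval_cases i
      · exact ⟨1, odd_one, by rw [pow_one]; exact v0'⟩
      · exact ⟨5, ho, v5⟩
    · rw [q2] at hi
      interval_cases i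
      · exact oddRet_of _ _ ho u5 u1
      · exact oddRet_of _ _ ho u5 u4
    · rw [q2] at hi
      interval_cases i
      · exact oddRet_of _ _ ho v5 v1
      · exact oddRet_of _ _ ho v5 v4
    · rw [s2] at hi
      interval_cases i
      · exact oddRet_of _ _ ho u5 u2
      · exact oddRet_of _ _ ho v5 v2
    · rw [s2] at hi
      interval_cases i
      · exact oddRet_of _ _ ho u5 u3
      · exact oddRet_of _ _ ho v5 v3

end CfsgLib.Involutions.OddProductSn
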