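import Mathlib
import Cfsg.Agent.Lib.Involutions.OddProductCases

/-!
# Two conjugate involutions have a common neighbour in the odd-product graph
-/

set_option autoImplicit false
set_option linter.unusedSectionVars false

namespace CfsgLib.Involutions.OddProductSn

open Equiv Finset

variable {α : Type*} [DecidableEq α] [Fintype α] {x σ : Perm α}

/-- Even self-paired cycles through a fixed point of `x`. -/
noncomputable def fixX (x σ : Perm α) (T : Finset α) : Finset α := by
  classical exact T.filter fun v => x v = v ∧ Even (per σ v)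

/-- Even self-paired cycles through a fixed point of `x * σ`. -/
noncomputable def fixY (x σ : Perm α) (T : Finset α) : Finset α := by
  classical exact T.filter fun v => x (σ v) = v ∧ Even (per σ v)

theorem mem_fixX {T : Finset α} {v : α} :
    v ∈ fixX x σ T ↔ v ∈ T ∧ x v = v ∧ Even (per σ v) := by
  simp [fixX]

theorem mem_fixY {T : Finset α} {v : α} :
    v ∈ fixY x σ T ↔ v ∈ T ∧ x (σ v) = v ∧ Even (per σ v) := by
  simp [fixY]

/-- The balance between the two kinds. -/
def Bal (x σ : Perm α) (T : Finset α) : Prop := (fixX x σ T).card = (fixY x σ T).card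

theorem bal_sdiff {T G : Finset α} (hG : G ⊆ T) (hT : Bal x σ T)
    (hGb : (fixX x σ G).card = (fixY x σ G).card) : Bal x σ (T \ G) := by
  have hX : fixX x σ (T \ G) = fixX x σ T \ fixX x σ G := by
    ext v; simp only [Finset.mem_sdiff, mem_fixX]; tauto
  have hY : fixY x σ (T \ G) = fixY x σ T \ fixY x σ G := by
    ext v; simp only [Finset.mem_sdiff, mem_fixY]; tauto
  have sX : fixX x σ G ⊆ fixX x σ T := fun v hv => by
    rw [mem_fixX] at hv ⊢; exact ⟨hG hv.1, hv.2⟩
  have sY : fixY x σ G ⊆ fixY x σ T := fun v hv => by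
    rw [mem_fixY] at hv ⊢; exact ⟨hG hv.1, hv.2⟩
  rw [Bal, hX, hY, Finset.card_sdiff_of_subset sX, Finset.card_sdiff_of_subset sY, hT, hGb]

theorem no_special_of_odd {G : Finset α} (h : ∀ v ∈ G, Odd (per σ v)) :
    (fixX x σ G).card = (fixY x σ G).card := by
  have hX : fixX x σ G = ∅ := Finset.eq_empty_of_forall_notMem fun v hv => by
    rw [mem_fixX] at hv
    exact Nat.not_odd_iff_even.2 hv.2.2 (h v hv.1)
  have hY : fixY x σ G = ∅ := Finset.eq_empty_of_forall_notMem fun v hv => by
    rw [mem_fixY] at hv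
    exact Nat.not_odd_iff_even.2 hv.2.2 (h v hv.1)
  rw [hX, hY]

theorem no_special_of_pair (S : Setup x σ) {p : α} (hp : Sep σ p (x p)) :
    (fixX x σ (orb x σ p)).card = (fixY x σ (orb x σ p)).card := by
  have key : ∀ i j : ℤ, x ((σ ^ i) p) ≠ (σ ^ j) p ∧ x ((σ ^ i) (x p)) ≠ (σ ^ j) (x p) := by
    intro i j
    refine ⟨fun e => ?_, fun e => ?_⟩
    · rw [S.zpow_app] at e
      exact hp.ne j (-i) e.symm
    · rw [S.zpow_app, app_app S.hx] at e
      exact hp.ne (-i) j e
  have hX : fixX x σ (orb x σ p) = ∅ := Finset.eq_empty_of_forall_notMem fun v hv => by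
    rw [mem_fixX] at hv
    obtain ⟨hv, e, -⟩ := hv
    rcases Finset.mem_union.1 hv with h | h <;> obtain ⟨i, rfl⟩ := mem_cyc.1 h
    · exact (key i i).1 e
    · exact (key i i).2 e
  have hY : fixY x σ (orb x σ p) = ∅ := Finset.eq_empty_of_forall_notMem fun v hv => by
    rw [mem_fixY] at hv
    obtain ⟨hv, e, -⟩ := hv
    rcases Finset.mem_union.1 hv with h | h <;> obtain ⟨i, rfl⟩ := mem_cyc.1 h
    · rw [← Perm.mul_apply σ, ← zpow_one_add] at e
      exact (key (1 + i) i).1 e
    · rw [← Perm.mul_apply σ, ← zpow_one_add] at e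
      exact (key (1 + i) i).2 e
  rw [hX, hY]

theorem special_evenPair (S : Setup x σ) {w r : α} (P : EvenPair x σ w r) :
    (fixX x σ (cyc σ w ∪ cyc σ r)).card = (fixY x σ (cyc σ w ∪ cyc σ r)).card := by
  obtain ⟨l, hl⟩ := P.hwe
  obtain ⟨m, hm⟩ := P.hre
  have ha := per_pos σ w
  have hb := per_pos σ r
  have dwy : ∀ i : ℤ, x (σ ((σ ^ i) w)) = (σ ^ i) w → False := by
    intro i e
    rw [← Perm.mul_apply σ, ← zpow_one_add, S.zpow_app, P.hw, zpow_eq_zpow] at e
    have h2 : (2 : ℤ) ∣ -(1 + i) - i := dvd_trans ⟨(l : ℤ), by rw [hl]; push_cast; ring⟩ e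
    omega
  have drx : ∀ i : ℤ, x ((σ ^ i) r) = (σ ^ i) r → False := by
    intro i e
    rw [S.zpow_app, P.hr, ← zpow_add_app, zpow_eq_zpow] at e
    have h2 : (2 : ℤ) ∣ -i + -1 - i := dvd_trans ⟨(m : ℤ), by rw [hm]; push_cast; ring⟩ e
    omega
  have cases2 : ∀ (L k : ℕ) (j : ℤ), L = k + k → 0 ≤ j → j < L → (L : ℤ) ∣ j + j → j = 0 ∨ j = k := by
    rintro L k j rfl h0 h1 ⟨c, hc⟩
    push_cast at h1 hc
    have c0 : 0 ≤ c := by nlinarith
    have c1 : c < 2 := by nlinarith
    interval_cases c <;> omega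
  have hX : fixX x σ (cyc σ w ∪ cyc σ r) = {(σ ^ (0 : ℤ)) w, (σ ^ (l : ℤ)) w} := by
    ext v
    simp only [mem_fixX, Finset.mem_union, Finset.mem_insert, Finset.mem_singleton]
    constructor
    · rintro ⟨h | h, e, -⟩
      · obtain ⟨i, hi, rfl⟩ := exists_shift h 0
        rw [zero_add] at e ⊢
        rw [S.zpow_app, P.hw, zpow_eq_zpow, ← dvd_neg] at e
        rcases cases2 _ l i hl (by omega) (by omega) (by simpa using e) with h | h
        · exact Or.inl (by rw [h])
        · exact Or.inr (by rw [h])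
      · obtain ⟨i, rfl⟩ := mem_cyc.1 h
        exact (drx i e).elim
    · intro h
      rcases h with h | h <;> rw [h] <;>
        refine ⟨Or.inl (mem_cyc.2 ⟨_, rfl⟩), ?_, by rw [per_zpow]; exact P.hwe⟩
      · simp [P.hw]
      · rw [S.zpow_app, P.hw, zpow_eq_zpow]
        exact ⟨-1, by rw [hl]; push_cast; ring⟩
  have hY : fixY x σ (cyc σ w ∪ cyc σ r) = {(σ ^ (-1 : ℤ)) r, (σ ^ ((-1 : ℤ) + m)) r} := by
    ext v
    simp only [mem_fixY, Finset.mem_union, Finset.mem_insert, Finset.mem_singleton]
    constructor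
    · rintro ⟨h | h, e, -⟩
      · obtain ⟨i, rfl⟩ := mem_cyc.1 h
        exact (dwy i e).elim
      · obtain ⟨i, hi, rfl⟩ := exists_shift h (-1)
        rw [← Perm.mul_apply σ, ← zpow_one_add, S.zpow_app, P.hr, ← zpow_add_app, zpow_eq_zpow,
          ← dvd_neg] at e
        rcases cases2 _ m i hm (by omega) (by omega) (by
          obtain ⟨c, hc⟩ := e
          exact ⟨c, by linarith⟩) with h | h
        · exact Or.inl (by rw [h, add_zero])
        · exact Or.inr (by rw [h])
    · intro h
      rcases h with h | h <;> rw [h] <;>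
        refine ⟨Or.inr (mem_cyc.2 ⟨_, rfl⟩), ?_, by rw [per_zpow]; exact P.hre⟩
      · rw [← Perm.mul_apply σ, ← zpow_one_add]
        simp [P.hr]
      · rw [← Perm.mul_apply σ, ← zpow_one_add, S.zpow_app, P.hr, ← zpow_add_app, zpow_eq_zpow]
        exact ⟨-1, by rw [hm]; push_cast; ring⟩
  rw [hX, hY, Finset.card_pair (zpow_ne (not_dvd_small (by omega) (by omega) (by omega))),
    Finset.card_pair (zpow_ne (not_dvd_small (by omega) (by omega) (by omega)))]

/-- A single pair of cycles of length two. -/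
def Lone (x σ : Perm α) (T : Finset α) : Prop :=
  ∃ p, per σ p = 2 ∧ Sep σ p (x p) ∧ T = orb x σ p

theorem good_or_lone (S : Setup x σ) : ∀ T : Finset α, Inv x σ T → Bal x σ T →
    Good x σ T ∨ Lone x σ T := by
  intro T
  induction T using Finset.strongInduction with
  | _ T ih =>
  intro hT hbal
  by_cases hempty : T = ∅
  · subst hempty
    exact Or.inl (good_of_odd S fun p hp => absurd hp (Finset.notMem_empty p))
  -- remove `G` and use induction
  have peel : ∀ G : Finset α, G ⊆ T → G.Nonempty → Inv x σ G →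
      (fixX x σ G).card = (fixY x σ G).card → Good x σ G →
      (∀ p, per σ p = 2 → Sep σ p (x p) → p ∈ T → p ∉ G → Good x σ (G ∪ orb x σ p)) →
      Good x σ T := by
    intro G hG hne hinv hspec hgood hcomb
    have hss : T \ G ⊂ T := Finset.sdiff_ssubset hG hne
    have hu : G ∪ (T \ G) = T := Finset.union_sdiff_of_subset hG
    rcases ih _ hss (inv_sdiff hT hinv) (bal_sdiff hG hbal hspec) with h | ⟨p, p2, hp, he⟩
    · rw [← hu]
      exact good_union hinv (inv_sdiff hT hinv) Finset.disjoint_sdiff hgood h S.hx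
    · have hpm : p ∈ T \ G := he ▸ self_mem_orb p
      rw [Finset.mem_sdiff] at hpm
      rw [← hu, he]
      exact hcomb p p2 hp hpm.1 hpm.2
  by_cases hA : (fixX x σ T).Nonempty
  · -- two even self-paired cycles of opposite type
    obtain ⟨w, hw⟩ := hA
    obtain ⟨v, hv⟩ : (fixY x σ T).Nonempty := by
      rw [← Finset.card_pos, ← hbal, Finset.card_pos]
      exact ⟨w, hw⟩
    rw [mem_fixX] at hw
    rw [mem_fixY] at hv
    have P : EvenPair x σ w (σ v) := ⟨hw.2.1, by simp [hv.2.1], hw.2.2, by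
      simpa using (per_zpow (σ := σ) 1 v).symm ▸ hv.2.2⟩
    have hrT : σ v ∈ T := (hT v).2.2 hv.1
    have hcw : x w ∈ cyc σ w := by rw [P.hw]; exact self_mem_cyc w
    have hcr : x (σ v) ∈ cyc σ (σ v) := mem_cyc.2 ⟨-1, P.hr.symm⟩
    refine Or.inl (peel _ (Finset.union_subset (hT.cyc_le hw.1) (hT.cyc_le hrT))
      ⟨w, Finset.mem_union_left _ (self_mem_cyc w)⟩ (inv_union (S.inv_cyc hcw) (S.inv_cyc hcr))
      (special_evenPair S P) (good_evenPair S P).1 fun p p2 hp _ hpG => ?_)
    rw [Finset.mem_union, not_or] at hpG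
    exact (good_evenPair S P).2 p hp p2 (Sep.of_not_mem hpG.1) (Sep.of_not_mem hpG.2)
  have hA' : ∀ v ∈ T, x v = v → Odd (per σ v) := fun v hv hxv => by
    by_contra ho
    exact hA ⟨v, mem_fixX.2 ⟨hv, hxv, Nat.not_odd_iff_even.1 ho⟩⟩
  have hB' : ∀ v ∈ T, x (σ v) = v → Odd (per σ v) := fun v hv hxv => by
    by_contra ho
    have hBempty : fixY x σ T = ∅ := by
      rw [← Finset.card_eq_zero, ← hbal, Finset.card_eq_zero, ← Finset.not_nonempty_iff_eq_empty]
      exact hA
    exact Finset.notMem_empty v (hBempty ▸ mem_fixY.2 ⟨hv, hxv, Nat.not_odd_iff_even.1 ho⟩)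
  -- self-paired cycles are odd, with a fixed point of `x`
  have selfOdd : ∀ p ∈ T, σ.SameCycle p (x p) →
      Odd (per σ p) ∧ ∃ w ∈ cyc σ p, x w = w := by
    intro p hpT hs
    obtain ⟨j, hj⟩ := hs
    have hxi : ∀ i : ℤ, x ((σ ^ i) p) = (σ ^ (-i + j)) p := fun i => by
      rw [S.zpow_app, ← hj, ← zpow_add_app]
    have hodd : Odd (per σ p) := by
      rcases Int.even_or_odd j with ⟨i, hi⟩ | ⟨i, hi⟩
      · rw [← per_zpow i p]
        exact hA' _ (hT.zpow_mem hpT i) (by rw [hxi, show -i + j = i by omega])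
      · rw [← per_zpow i p]
        refine hB' _ (hT.zpow_mem hpT i) ?_
        rw [← Perm.mul_apply σ, ← zpow_one_add, hxi, show -(1 + i) + j = i by omega]
    refine ⟨hodd, ?_⟩
    obtain ⟨l, hl⟩ := hodd
    refine ⟨(σ ^ (j * (l + 1))) p, mem_cyc.2 ⟨_, rfl⟩, ?_⟩
    rw [hxi, zpow_eq_zpow]
    exact ⟨-j, by rw [hl]; push_cast; ring⟩
  by_cases hC : ∃ p ∈ T, ¬ (per σ p = 2 ∧ Sep σ p (x p))
  · obtain ⟨p, hpT, hp⟩ := hC
    left
    by_cases hs : σ.SameCycle p (x p)
    · obtain ⟨hodd, w, hwp, hw⟩ := selfOdd p hpT hs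
      obtain ⟨i, rfl⟩ := mem_cyc.1 hwp
      have hcw : cyc σ ((σ ^ i) p) ⊆ T := hT.cyc_le (hT.zpow_mem hpT i)
      have hinv : Inv x σ (cyc σ ((σ ^ i) p)) := S.inv_cyc (by rw [hw]; exact self_mem_cyc _)
      have hall : ∀ v ∈ cyc σ ((σ ^ i) p), Odd (per σ v) := fun v hv => by
        obtain ⟨k, rfl⟩ := mem_cyc.1 hv
        rwa [per_zpow, per_zpow]
      refine peel _ hcw ⟨_, self_mem_cyc _⟩ hinv (no_special_of_odd hall) (good_of_odd S hall)
        fun q q2 hq _ hqG => ?_
      exact good_self S hq q2 hw (hall _ (self_mem_cyc _)) (Sep.of_not_mem hqG)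
    · have hsep : Sep σ p (x p) := hs
      have hgood : Good x σ (orb x σ p) := by
        rcases Nat.even_or_odd (per σ p) with hev | hod
        · refine good_split S hsep hev ?_
          have h0 := per_pos σ p
          have hn : per σ p ≠ 2 := fun e => hp ⟨e, hsep⟩
          obtain ⟨l, hl⟩ := hev
          omega
        · refine good_of_odd S fun v hv => ?_
          rcases Finset.mem_union.1 hv with h | h <;> obtain ⟨k, rfl⟩ := mem_cyc.1 h <;>
            rw [per_zpow] <;> (try rw [S.per_app]) <;> exact hod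
      refine peel _ (hT.orb_le hpT) ⟨p, self_mem_orb p⟩ (S.inv_orb p) (no_special_of_pair S hsep)
        hgood fun q q2 hq _ hqG => ?_
      rw [Finset.union_comm]
      simp only [orb, Finset.mem_union, not_or] at hqG
      refine good_merge S hq hsep q2 (Sep.of_not_mem hqG.1).symm ?_
      exact (Sep.of_not_mem hqG.2).symm
  -- only pairs of cycles of length two are left
  push Not at hC
  obtain ⟨p, hpT⟩ := Finset.nonempty_iff_ne_empty.2 hempty
  obtain ⟨p2, hp⟩ := hC p hpT
  by_cases hone : T = orb x σ p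
  · exact Or.inr ⟨p, p2, hp, hone⟩
  obtain ⟨q, hqT, hqp⟩ : ∃ q ∈ T, q ∉ orb x σ p := by
    by_contra hc
    push Not at hc
    exact hone (Finset.Subset.antisymm hc (hT.orb_le hpT))
  obtain ⟨q2, hq⟩ := hC q hqT
  have spec : (fixX x σ (orb x σ p ∪ orb x σ q)).card = (fixY x σ (orb x σ p ∪ orb x σ q)).card := by
    have hX : fixX x σ (orb x σ p ∪ orb x σ q) = fixX x σ (orb x σ p) ∪ fixX x σ (orb x σ q) := by
      ext v; simp only [Finset.mem_union, mem_fixX]; tauto
    have hY : fixY x σ (orb x σ p ∪ orb x σ q) = fixY x σ (orb x σ p) ∪ fixY x σ (orb x σ q) := by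
      ext v; simp only [Finset.mem_union, mem_fixY]; tauto
    have hsub : orb x σ p ∪ orb x σ q ⊆ T := Finset.union_subset (hT.orb_le hpT) (hT.orb_le hqT)
    have e1 : fixX x σ (orb x σ p ∪ orb x σ q) = ∅ := Finset.eq_empty_of_forall_notMem fun v hv => by
      rw [mem_fixX] at hv
      exact Nat.not_odd_iff_even.2 hv.2.2 (hA' v (hsub hv.1) hv.2.1)
    have e2 : fixY x σ (orb x σ p ∪ orb x σ q) = ∅ := Finset.eq_empty_of_forall_notMem fun v hv => by
      rw [mem_fixY] at hv
      exact Nat.not_odd_iff_even.2 hv.2.2 (hB' v (hsub hv.1) hv.2.1)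
    rw [e1, e2]
  have seps : Sep σ p q ∧ Sep σ p (x q) := by
    simp only [orb, Finset.mem_union, not_or] at hqp
    refine ⟨Sep.of_not_mem hqp.1, ?_⟩
    have := (Sep.of_not_mem hqp.2).app S
    rwa [app_app S.hx] at this
  refine Or.inl (peel _ (Finset.union_subset (hT.orb_le hpT) (hT.orb_le hqT))
    ⟨p, Finset.mem_union_left _ (self_mem_orb p)⟩ (inv_union (S.inv_orb p) (S.inv_orb q)) spec
    (good_merge S hp hq p2 seps.1 seps.2) fun s s2 hs _ hsG => ?_)
  rw [Finset.mem_union, not_or] at hsG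
  exact good_triple S hp hq hs p2 q2 s2 hqp hsG.1 hsG.2

/-- Two conjugate involutions on at least five points have a common conjugate `z` with both
products of odd order. -/
theorem exists_common (x y : Perm α) (hx : x * x = 1) (hy : y * y = 1)
    (hfix : (Finset.univ.filter fun v => x v = v).card = (Finset.univ.filter fun v => y v = v).card)
    (h5 : 5 ≤ Fintype.card α) :
    ∃ z : Perm α, IsConj x z ∧ Odd (orderOf (x * z)) ∧ Odd (orderOf (z * y)) := by
  classical
  set σ := x * y with hσ
  have hyσ : x * σ = y := by rw [hσ, ← mul_assoc, hx, one_mul]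
  have S : Setup x σ := ⟨hx, by
    rw [hσ, mul_inv_rev, inv_eq_of_mul_eq_one_right hx, inv_eq_of_mul_eq_one_right hy, ← mul_assoc,
      hx, one_mul]⟩
  have hbal : Bal x σ Finset.univ := by
    -- odd self-paired cycles carry one fixed point of each kind
    have hyfix : ∀ v, y v = v ↔ x (σ v) = v := fun v => by rw [← Perm.mul_apply, hyσ]
    have splitX := Finset.card_filter_add_card_filter_not (s := Finset.univ.filter fun v => x v = v)
      (fun v => Even (per σ v))
    have splitY := Finset.card_filter_add_card_filter_not (s := Finset.univ.filter fun v => y v = v)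
      (fun v => Even (per σ v))
    have hX : fixX x σ Finset.univ = (Finset.univ.filter fun v => x v = v).filter
        fun v => Even (per σ v) := by ext v; simp [mem_fixX]
    have hY : fixY x σ Finset.univ = (Finset.univ.filter fun v => y v = v).filter
        fun v => Even (per σ v) := by ext v; simp [mem_fixY, hyfix]
    have hoddeq : ((Finset.univ.filter fun v => x v = v).filter fun v => ¬ Even (per σ v)).card =
        ((Finset.univ.filter fun v => y v = v).filter fun v => ¬ Even (per σ v)).card := by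
      refine Finset.card_bij' (fun v _ => (σ ^ ((per σ v / 2 : ℕ) : ℤ)) v)
        (fun v _ => (σ ^ (-((per σ v / 2 : ℕ) : ℤ))) v) ?_ ?_ ?_ ?_
      · intro v hv
        simp only [Finset.mem_filter, Finset.mem_univ, true_and] at hv ⊢
        refine ⟨?_, by rw [per_zpow]; exact hv.2⟩
        obtain ⟨l, hl⟩ := Nat.not_even_iff_odd.1 hv.2
        rw [hyfix, ← Perm.mul_apply σ, ← zpow_one_add, S.zpow_app, hv.1, zpow_eq_zpow]
        exact ⟨-1, by omega⟩
      · intro v hv
        simp only [Finset.mem_filter, Finset.mem_univ, true_and] at hv ⊢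
        refine ⟨?_, by rw [per_zpow]; exact hv.2⟩
        obtain ⟨l, hl⟩ := Nat.not_even_iff_odd.1 hv.2
        have hxv : x v = (σ ^ (1 : ℤ)) v := by
          rw [zpow_one]
          have h := congrArg x ((hyfix v).1 hv.1)
          rw [app_app hx] at h
          exact h.symm
        rw [S.zpow_app, neg_neg, hxv, ← zpow_add_app, zpow_eq_zpow]
        exact ⟨1, by omega⟩
      · intro v hv
        simp only [per_zpow, ← zpow_add_app, neg_add_cancel, add_neg_cancel, zpow_zero,
          Perm.one_apply] -- the two shifts cancel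
      · intro v hv
        simp only [per_zpow, ← zpow_add_app, neg_add_cancel, add_neg_cancel, zpow_zero,
          Perm.one_apply] -- the two shifts cancel
    rw [Bal, hX, hY]
    omega
  rcases good_or_lone S Finset.univ (fun _ => ⟨by simp, by simp⟩) hbal with
    ⟨τ, t3, tinv, -, tper⟩ | ⟨p, p2, hp, he⟩
  · refine ⟨τ * x, isConj_iff.2 ⟨τ ^ 2, ?_⟩, ?_, ?_⟩
    · have h4 : τ ^ 2 * τ ^ 2 = τ := by
        rw [← pow_add, show 2 + 2 = 3 + 1 by norm_num, pow_add, t3, one_mul, pow_one]
      have hinv2 : x * (τ ^ 2)⁻¹ * x = τ ^ 2 := by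
        have h : x * τ ^ 2 * x = (τ ^ 2)⁻¹ := by
          rw [sq, mul_inv_rev, ← tinv]
          calc x * (τ * τ) * x = x * τ * (x * x) * τ * x := by rw [hx]; group
            _ = _ := by group
        rw [← h]
        calc x * (x * τ ^ 2 * x) * x = (x * x) * τ ^ 2 * (x * x) := by group
          _ = τ ^ 2 := by rw [hx, one_mul, mul_one]
      calc τ ^ 2 * x * (τ ^ 2)⁻¹ = τ ^ 2 * (x * (τ ^ 2)⁻¹ * x) * x := by
            rw [show τ ^ 2 * (x * (τ ^ 2)⁻¹ * x) * x = τ ^ 2 * x * (τ ^ 2)⁻¹ * (x * x) by group, hx,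
              mul_one]
        _ = τ * x := by rw [hinv2, h4]
    · rw [← mul_assoc, tinv, orderOf_inv]
      exact Odd.of_dvd_nat (by decide : Odd 3) (orderOf_dvd_of_pow_eq_one t3)
    · rw [mul_assoc]
      change Odd (orderOf (τ * σ))
      choose n hn hnp using fun v => tper v (Finset.mem_univ v)
      have hN : Odd (∏ v, n v) := by
        refine Finset.prod_induction n Odd (fun a b ha hb => ha.mul hb) odd_one fun v _ => hn v
      refine hN.of_dvd_nat (orderOf_dvd_of_pow_eq_one ?_)
      ext v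
      obtain ⟨c, hc⟩ := Finset.dvd_prod_of_mem n (Finset.mem_univ v)
      rw [hc, pow_mul, Perm.one_apply]
      clear hc
      generalize hg : (τ * σ) ^ n v = g
      have hgv : g v = v := hg ▸ hnp v
      induction c with
      | zero => simp
      | succ c ihc => rw [pow_succ, Perm.mul_apply, hgv, ihc]
  · exfalso
    have hcard : (Finset.univ : Finset α).card ≤ 4 := by
      have hc : ∀ u : α, per σ u = 2 → (cyc σ u).card ≤ 2 := fun u hu => by
        refine le_trans (Finset.card_le_card (t := ({u, σ u} : Finset α)) fun v hv => ?_)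
          Finset.card_le_two
        obtain ⟨i, hi, rfl⟩ := exists_shift hv 0
        rw [hu] at hi
        interval_cases i <;> simp
      rw [he, orb]
      refine (Finset.card_union_le _ _).trans ?_
      have := hc p p2
      have := hc (x p) (by rw [S.per_app, p2])
      omega
    rw [Finset.card_univ] at hcard
    omega

end CfsgLib.Involutions.OddProductSn
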