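import Cfsg.Agent.Lib.Involutions.OmegaSevenStd
import Cfsg.Agent.Lib.Geometry.OmegaMem
import Cfsg.Agent.Lib.Geometry.POmegaStd
import Cfsg.Agent.Lib.Geometry.OmegaMore
import Cfsg.Agent.Lib.Classical.OrthStd

/-!
Orthonormal coordinates for `quadFormOdd 3`, and the order of `Ω₇(q)`.
-/

set_option autoImplicit false
set_option linter.unusedSectionVars false

namespace CfsgLib.Involutions.OmegaSeven

open Matrix

variable {F : Type*} [Field F]

local notation "ι7" => Unit ⊕ (Fin 3 ⊕ Fin 3)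

/-- Columns: seven pairwise orthogonal vectors on which the form is `-1`. -/
def bMat (a b : F) : Matrix (Unit ⊕ (Fin 3 ⊕ Fin 3)) (Fin 7) F :=
  Matrix.of fun i => match i with
    | .inl _ => ![0, 0, 0, 0, 0, b, a]
    | .inr (.inl k) => ![![1, 0, 0, a, -b, 0, 0], ![0, 1, 0, b, a, 0, 0], ![0, 0, 1, 0, 0, a, -b]] k
    | .inr (.inr k) =>
      ![![-1, 0, 0, a, -b, 0, 0], ![0, -1, 0, b, a, 0, 0], ![0, 0, -1, 0, 0, a, -b]] k

/-- The polar form of `quadFormOdd 3`. -/
def gMat (F : Type*) [Field F] : Matrix (Unit ⊕ (Fin 3 ⊕ Fin 3)) (Unit ⊕ (Fin 3 ⊕ Fin 3)) F :=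
  Matrix.of fun i j => match i, j with
    | .inl _, .inl _ => 2
    | .inr (.inl k), .inr (.inr l) => if k = l then 1 else 0
    | .inr (.inr k), .inr (.inl l) => if k = l then 1 else 0
    | _, _ => 0

/-- The inverse of `bMat`. -/
def cMat (a b : F) : Matrix (Fin 7) (Unit ⊕ (Fin 3 ⊕ Fin 3)) F :=
  (-(2⁻¹ : F)) • ((bMat a b)ᵀ * gMat F)

theorem cMat_mul_bMat (h2 : (2 : F) ≠ 0) {a b : F} (hab : a ^ 2 + b ^ 2 = -1) :
    cMat a b * bMat a b = 1 := by
  rw [cMat, Matrix.smul_mul]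
  ext i j
  fin_cases i <;> fin_cases j <;>
    simp [bMat, gMat, Matrix.mul_apply, Fintype.sum_sum_type, Fin.sum_univ_three] <;>
    field_simp <;>
    first
      | ring1
      | (right; ring1)
      | linear_combination hab
      | linear_combination -hab
      | linear_combination 2 * hab
      | linear_combination -2 * hab

theorem bMat_mul_cMat (h2 : (2 : F) ≠ 0) {a b : F} (hab : a ^ 2 + b ^ 2 = -1) :
    bMat a b * cMat a b = 1 :=
  (Matrix.mul_eq_one_comm_of_equiv (show Fin 7 ≃ ι7 from Fintype.equivOfCardEq (by simp))).1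
    (cMat_mul_bMat h2 hab)

theorem quadFormOdd_bMat {a b : F} (hab : a ^ 2 + b ^ 2 = -1) (w : Fin 7 → F) :
    Cfsg.quadFormOdd 3 F (bMat a b *ᵥ w) = -sumSq F w := by
  simp [Cfsg.quadFormOdd, sumSq, bMat, Matrix.mulVec, dotProduct, Fin.sum_univ_three,
    Fin.sum_univ_seven]
  linear_combination (w 3 ^ 2 + w 4 ^ 2 + w 5 ^ 2 + w 6 ^ 2) * hab

theorem sumSq_cMat (h2 : (2 : F) ≠ 0) {a b : F} (hab : a ^ 2 + b ^ 2 = -1) (v : ι7 → F) :
    sumSq F (cMat a b *ᵥ v) = -Cfsg.quadFormOdd 3 F v := by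
  have h := quadFormOdd_bMat hab (cMat a b *ᵥ v)
  rw [Matrix.mulVec_mulVec, bMat_mul_cMat h2 hab, Matrix.one_mulVec] at h
  rw [h, neg_neg]

/-- The element of the isometry group of `quadFormOdd 3` belonging to an element of `O₇`. -/
def toOdd (h2 : (2 : F) ≠ 0) {a b : F} (hab : a ^ 2 + b ^ 2 = -1) :
    O7 F →* Cfsg.isometryGroup F (Cfsg.quadFormOdd 3 F) where
  toFun g := ⟨⟨bMat a b * matO g * cMat a b, bMat a b * matO g⁻¹ * cMat a b,
      by rw [show bMat a b * matO g * cMat a b * (bMat a b * matO g⁻¹ * cMat a b) =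
          bMat a b * (matO g * (cMat a b * bMat a b) * matO g⁻¹) * cMat a b by
            simp only [Matrix.mul_assoc],
        cMat_mul_bMat h2 hab, Matrix.mul_one, ← matO_mul, mul_inv_cancel, matO_one, Matrix.mul_one,
        bMat_mul_cMat h2 hab],
      by rw [show bMat a b * matO g⁻¹ * cMat a b * (bMat a b * matO g * cMat a b) =
          bMat a b * (matO g⁻¹ * (cMat a b * bMat a b) * matO g) * cMat a b by
            simp only [Matrix.mul_assoc],
        cMat_mul_bMat h2 hab, Matrix.mul_one, ← matO_mul, inv_mul_cancel, matO_one, Matrix.mul_one,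
        bMat_mul_cMat h2 hab]⟩, fun u _ => by
      show Cfsg.quadFormOdd 3 F ((bMat a b * matO g * cMat a b) *ᵥ u) = Cfsg.quadFormOdd 3 F u
      rw [← Matrix.mulVec_mulVec, ← Matrix.mulVec_mulVec, quadFormOdd_bMat hab,
        show sumSq F (matO g *ᵥ (cMat a b *ᵥ u)) = sumSq F (cMat a b *ᵥ u) from
          g.2 (cMat a b *ᵥ u) (cMat a b *ᵥ u), sumSq_cMat h2 hab, neg_neg]⟩
  map_one' := Subtype.ext (Units.ext (by
    show bMat a b * matO 1 * cMat a b = 1
    rw [matO_one, Matrix.mul_one, bMat_mul_cMat h2 hab]))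
  map_mul' g g' := Subtype.ext (Units.ext (by
    show bMat a b * matO (g * g') * cMat a b =
      bMat a b * matO g * cMat a b * (bMat a b * matO g' * cMat a b)
    rw [show bMat a b * matO g * cMat a b * (bMat a b * matO g' * cMat a b) =
      bMat a b * (matO g * (cMat a b * bMat a b) * matO g') * cMat a b by
        simp only [Matrix.mul_assoc],
      cMat_mul_bMat h2 hab, Matrix.mul_one, matO_mul]))

theorem toOdd_bijective (h2 : (2 : F) ≠ 0) {a b : F} (hab : a ^ 2 + b ^ 2 = -1) :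
    Function.Bijective (toOdd h2 hab) := by
  constructor
  · intro g g' h
    refine matO_injective ?_
    have h' : bMat a b * matO g * cMat a b = bMat a b * matO g' * cMat a b :=
      congrArg (fun u : Cfsg.isometryGroup F (Cfsg.quadFormOdd 3 F) =>
        ((u : Matrix.GeneralLinearGroup ι7 F) : Matrix ι7 ι7 F)) h
    have := congrArg (fun M => cMat a b * M * bMat a b) h'
    simp only [← Matrix.mul_assoc, cMat_mul_bMat h2 hab, Matrix.one_mul] at this
    simpa only [Matrix.mul_assoc, cMat_mul_bMat h2 hab, Matrix.mul_one] using this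
  · intro u
    set U : Matrix ι7 ι7 F := ((u : Matrix.GeneralLinearGroup ι7 F) : Matrix ι7 ι7 F) with hU
    set U' : Matrix ι7 ι7 F := (((u : Matrix.GeneralLinearGroup ι7 F)⁻¹ :
      Matrix.GeneralLinearGroup ι7 F) : Matrix ι7 ι7 F) with hU'
    refine ⟨mkO (cMat a b * U * bMat a b) (cMat a b * U' * bMat a b) ?_ ?_ fun v => ?_,
      Subtype.ext (Units.ext ?_)⟩
    · rw [show cMat a b * U * bMat a b * (cMat a b * U' * bMat a b) =
        cMat a b * (U * (bMat a b * cMat a b) * U') * bMat a b by simp only [Matrix.mul_assoc],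
        bMat_mul_cMat h2 hab, Matrix.mul_one, hU, hU', Units.mul_inv, Matrix.mul_one,
        cMat_mul_bMat h2 hab]
    · rw [show cMat a b * U' * bMat a b * (cMat a b * U * bMat a b) =
        cMat a b * (U' * (bMat a b * cMat a b) * U) * bMat a b by simp only [Matrix.mul_assoc],
        bMat_mul_cMat h2 hab, Matrix.mul_one, hU, hU', Units.inv_mul, Matrix.mul_one,
        cMat_mul_bMat h2 hab]
    · rw [← Matrix.mulVec_mulVec, ← Matrix.mulVec_mulVec, sumSq_cMat h2 hab,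
        show Cfsg.quadFormOdd 3 F (U *ᵥ (bMat a b *ᵥ v)) = Cfsg.quadFormOdd 3 F (bMat a b *ᵥ v) from
          u.2 (bMat a b *ᵥ v) (bMat a b *ᵥ v), quadFormOdd_bMat hab, neg_neg]
    · show bMat a b * (cMat a b * U * bMat a b) * cMat a b = U
      simp only [Matrix.mul_assoc, bMat_mul_cMat h2 hab, Matrix.mul_one]
      rw [← Matrix.mul_assoc, bMat_mul_cMat h2 hab, Matrix.one_mul]

variable [Fintype F]

theorem two_ne_of_mod {q : ℕ} (hF : Fintype.card F = q) (hq : q % 8 = 3 ∨ q % 8 = 5) :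
    (2 : F) ≠ 0 :=
  CfsgLib.Geometry.two_ne_zero_of_odd_card hF (Nat.odd_iff.2 (by omega))

/-- The two-part of the order of `Ω₇(q)` for `q ≡ ±3 mod 8`. -/
theorem factorization_card_omega [DecidableEq F] {q : ℕ} (hF : Fintype.card F = q)
    (hq : q % 8 = 3 ∨ q % 8 = 5) :
    (Nat.card (Cfsg.Omega F (Cfsg.quadFormOdd 3 F))).factorization 2 = 9 := by
  have h2 := two_ne_of_mod hF hq
  have hidx : (Cfsg.Omega F (Cfsg.quadFormOdd 3 F)).index = 4 := by
    rw [← CfsgLib.Geometry.coe_matQuad_odd, CfsgLib.Geometry.index_Omega]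
    have hQ : (QuadraticMap.polarBilin (CfsgLib.Geometry.matQuad (CfsgLib.Geometry.oddMat 3 F))).Nondegenerate :=
      CfsgLib.Geometry.nondegenerate_matQuad (by
        rw [CfsgLib.Geometry.det_odd_gram]
        exact mul_ne_zero h2 (pow_ne_zero _ (neg_ne_zero.2 one_ne_zero)))
    exact CfsgLib.Geometry.index_commutator_orth_odd hQ (by simp) h2
      (CfsgLib.Geometry.reflGroup_eq_orth_of_two_ne hQ h2)
  have hc := (Cfsg.Omega F (Cfsg.quadFormOdd 3 F)).card_mul_index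
  rw [hidx, CfsgLib.Classical.card_isometry_odd h2 3, Nat.card_eq_fintype_card (α := F), hF] at hc
  obtain ⟨m, hm, hm2⟩ : ∃ m, Nat.card (Cfsg.Omega F (Cfsg.quadFormOdd 3 F)) = 2 ^ 9 * m ∧ ¬ 2 ∣ m := by
    obtain ⟨t, ht⟩ : ∃ t, q = 8 * t + 3 ∨ q = 8 * t + 5 :=
      ⟨q / 8, by omega⟩
    have hprod : ∏ i ∈ Finset.range 3, (q ^ (2 * (i + 1)) - 1) =
        (q ^ 2 - 1) * ((q ^ 2 - 1) * (q ^ 2 + 1)) * ((q ^ 2 - 1) * (q ^ 4 + q ^ 2 + 1)) := by
      obtain ⟨s, hs⟩ : ∃ s, q ^ 2 = s + 1 :=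
        ⟨q ^ 2 - 1, (Nat.sub_add_cancel (Nat.one_le_pow _ _ (by omega))).symm⟩
      simp only [Finset.prod_range_succ, Finset.prod_range_zero, one_mul]
      rw [show q ^ (2 * (1 + 1)) = q ^ 2 * q ^ 2 by ring, show q ^ (2 * (2 + 1)) = q ^ 2 * q ^ 2 * q ^ 2 by ring,
        show q ^ (2 * (0 + 1)) = q ^ 2 by ring, hs, Nat.add_sub_cancel,
        show (s + 1) * (s + 1) - 1 = s * (s + 1 + 1) from Nat.sub_eq_of_eq_add (by ring),
        show (s + 1) * (s + 1) * (s + 1) - 1 = s * ((s + 1) * (s + 1) + (s + 1) + 1) from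
          Nat.sub_eq_of_eq_add (by ring)]
    rw [hprod] at hc
    obtain ⟨u, hu, hu2⟩ : ∃ u, q ^ 2 - 1 = 8 * u ∧ ¬ 2 ∣ u := by
      rcases ht with rfl | rfl
      · refine ⟨8 * t ^ 2 + 6 * t + 1, Nat.sub_eq_of_eq_add (by ring), ?_⟩
        rw [← even_iff_two_dvd]; simp [parity_simps]
      · refine ⟨8 * t ^ 2 + 10 * t + 3, Nat.sub_eq_of_eq_add (by ring), ?_⟩
        rw [← even_iff_two_dvd]; simp [parity_simps]
    obtain ⟨v, hv, hv2⟩ : ∃ v, q ^ 2 + 1 = 2 * v ∧ ¬ 2 ∣ v := by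
      rcases ht with rfl | rfl
      · refine ⟨32 * t ^ 2 + 24 * t + 5, by ring, ?_⟩
        rw [← even_iff_two_dvd]; simp [parity_simps]
      · refine ⟨32 * t ^ 2 + 40 * t + 13, by ring, ?_⟩
        rw [← even_iff_two_dvd]; simp [parity_simps]
    refine ⟨q ^ (3 ^ 2) * (u * (u * v) * (u * (q ^ 4 + q ^ 2 + 1))), ?_, ?_⟩
    · refine Nat.eq_of_mul_eq_mul_right (show 0 < 4 by norm_num) ?_
      rw [hc, hu, hv]; ring
    · have hqo : Odd q := Nat.odd_iff.2 (by omega)
      have hu' : Odd u := Nat.odd_iff.2 (by omega)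
      have hv' : Odd v := Nat.odd_iff.2 (by omega)
      rw [← even_iff_two_dvd, Nat.not_even_iff_odd]
      exact (hqo.pow).mul ((hu'.mul (hu'.mul hv')).mul
        (hu'.mul ((hqo.pow.add_odd hqo.pow).add_one)))
  have hm0 : m ≠ 0 := fun h => hm2 (h ▸ dvd_zero 2)
  rw [hm, Nat.factorization_mul (by norm_num) hm0, Finsupp.add_apply,
    Nat.prime_two.factorization_pow, Finsupp.single_eq_same,
    Nat.factorization_eq_zero_of_not_dvd hm2]

end CfsgLib.Involutions.OmegaSeven
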