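import Cfsg.Agent.Lib.Involutions.OmegaSevenPerm
import Cfsg.Agent.Lib.Involutions.OmegaSevenBasis
import Cfsg.Agent.Lib.Involutions.FusionSimpleParabolic
import Cfsg.Agent.Lib.PGroups.Basic

/-!
The Sylow two-subgroup of `Ω₇(q)`, `q ≡ ±3 mod 8`, and its fusion.
-/

set_option autoImplicit false
set_option linter.unusedSectionVars false

namespace CfsgLib.Involutions.OmegaSeven

open Matrix Equiv CfsgLib.Fusion

/-- A self-normalising Sylow subgroup without proper strongly closed subgroups. -/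
theorem all_sylow_of_one {G : Type*} [Group G] [Finite G] {p : ℕ} [Fact p.Prime] (S₀ : Sylow p G)
    (hS : (S₀ : Subgroup G) ≠ ⊥)
    (hN : Subgroup.normalizer ((S₀ : Subgroup G) : Set G) ≤ (S₀ : Subgroup G))
    (hT : ∀ T : Subgroup G, T ≤ (S₀ : Subgroup G) →
      (∀ x ∈ T, ∀ g : G, g * x * g⁻¹ ∈ (S₀ : Subgroup G) → g * x * g⁻¹ ∈ T) →
        T = ⊥ ∨ T = (S₀ : Subgroup G))
    (S : Sylow p G) :
    (Cfsg.groupFusionSystem (S : Subgroup G)).autGroup (S : Subgroup G) =
        Cfsg.Inn ↥(S : Subgroup G) ∧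
      (∀ T : Subgroup G, (Cfsg.groupFusionSystem (S : Subgroup G)).StronglyClosed T →
        T = ⊥ ∨ T = (S : Subgroup G)) ∧
      (Cfsg.groupFusionSystem (S : Subgroup G)).IsSimple p := by
  have hsimple := FusionSimpleParabolic.isSimple_of_parabolic S₀ hS hT
    (fun i : PEmpty.{1} => i.elim) (fun i => i.elim) (fun i => i.elim) (fun i => i.elim)
    (fun i => i.elim) (hN.trans le_sup_left) S
  obtain ⟨a, rfl⟩ := MulAction.exists_smul_eq G S₀ S
  refine ⟨?_, fun T hTc => ?_, hsimple⟩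
  · refine le_antisymm ?_ (inn_le_autGroup _ le_rfl)
    intro α hα
    rw [autGroup_group le_rfl] at hα
    obtain ⟨g, -, hgn, hge⟩ := mem_autInducedBy.1 hα
    refine mem_inn.2 ⟨g, ?_, hge⟩
    rw [Sylow.coe_subgroup_smul] at hgn ⊢
    rw [Subgroup.mem_pointwise_smul_iff_inv_smul_mem]
    refine hN (Subgroup.mem_normalizer_iff.2 fun x => ?_)
    have h1 := Subgroup.mem_normalizer_iff.1 hgn (MulAut.conj a • x)
    rw [Subgroup.smul_mem_pointwise_smul_iff, Subgroup.mem_pointwise_smul_iff_inv_smul_mem] at h1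
    rw [h1]
    simp [MulAut.smul_def, mul_assoc]
  · obtain ⟨hTS, hTm⟩ := stronglyClosed_iff.1 hTc
    have hinj : Function.Injective (MulAut.conj a).toMonoidHom := (MulAut.conj a).injective
    have hS' : ((a • S₀ : Sylow p G) : Subgroup G) = (S₀ : Subgroup G).map (MulAut.conj a).toMonoidHom := by
      rw [Sylow.coe_subgroup_smul]; rfl
    have hmap := Subgroup.map_comap_eq_self_of_surjective
      (f := (MulAut.conj a).toMonoidHom) (MulAut.conj a).surjective T
    have hle₀ : T.comap (MulAut.conj a).toMonoidHom ≤ (S₀ : Subgroup G) := by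
      rw [← Subgroup.comap_map_eq_self_of_injective hinj (S₀ : Subgroup G), ← hS']
      exact Subgroup.comap_mono hTS
    rcases hT _ hle₀ (fun x hx g hg => by
        set e := MulAut.conj a
        have h2 : e g * e x * (e g)⁻¹ ∈ T := by
          refine hTm (Subgroup.zpowers (e x)) (cj (e g)) (isMor_group.2
            ⟨Subgroup.zpowers_le.2 (hTS hx), ?_, e g, fun _ _ => rfl⟩) (e x)
            (Subgroup.mem_zpowers _) hx
          rintro _ ⟨k, rfl⟩
          show e g * e x ^ k * (e g)⁻¹ ∈ _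
          rw [← conj_zpow]
          refine Subgroup.zpow_mem _ ?_ k
          rw [hS']
          exact ⟨g * x * g⁻¹, hg, by simp [e, mul_assoc]⟩
        show e.toMonoidHom (g * x * g⁻¹) ∈ T
        simpa [e, mul_assoc] using h2) with h | h
    · left; rw [← hmap, h, Subgroup.map_bot]
    · right; rw [← hmap, h, ← hS']

variable {F : Type*} [Field F]

/-- The even monomial group over the Sylow subgroup of `A₇`. -/
def mSyl (F : Type*) [Field F] : Subgroup (O7 F) where
  carrier := {g | ∃ e : Fin 7 → ℤˣ, ∏ i, e i = 1 ∧ ∃ x ∈ L8, g = mono F e x}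
  one_mem' := ⟨1, by simp, 1, L8_one, by simp [mono]⟩
  mul_mem' := by
    rintro _ _ ⟨e, he, x, hx, rfl⟩ ⟨e', he', x', hx', rfl⟩
    refine ⟨_, ?_, _, L8_mul _ hx _ hx', mono_mul _ _ _ _⟩
    simp only [Pi.mul_apply, Function.comp_apply, Finset.prod_mul_distrib, he, one_mul]
    rw [Equiv.prod_comp x⁻¹ e', he']
  inv_mem' := by
    rintro _ ⟨e, he, x, hx, rfl⟩
    refine ⟨_, ?_, _, L8_inv _ hx, mono_inv _ _⟩
    simp only [Function.comp_apply]
    rw [Equiv.prod_comp x e, he]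

theorem dHom_mem {e : Fin 7 → ℤˣ} (he : ∏ i, e i = 1) : dHom F e ∈ commutator (O7 F) := by
  show e ∈ (commutator (O7 F)).comap (dHom F)
  rw [even_eq_prod e he]
  refine Subgroup.prod_mem _ fun i _ => ?_
  split_ifs
  · exact dHom_pair_mem _ _
  · exact one_mem _

theorem mSyl_le : mSyl F ≤ commutator (O7 F) := by
  rintro _ ⟨e, he, x, hx, rfl⟩
  exact mul_mem (dHom_mem he) (pHom_mem (L8_sign x hx))

theorem mono_one (e : Fin 7 → ℤˣ) : mono F e 1 = dHom F e := by simp [mono]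

theorem one_mono (x : Perm (Fin 7)) : mono F 1 x = pHom F x := by simp [mono]

theorem mem_mSyl (h2 : (2 : F) ≠ 0) {e : Fin 7 → ℤˣ} {x : Perm (Fin 7)}
    (h : mono F e x ∈ mSyl F) : ∏ i, e i = 1 ∧ x ∈ L8 := by
  obtain ⟨e', he', x', hx', h'⟩ := h
  obtain ⟨rfl, rfl⟩ := mono_inj h2 h'
  exact ⟨he', hx'⟩

theorem card_mSyl (h2 : (2 : F) ≠ 0) : Nat.card (mSyl F) = 2 ^ 9 := by
  let f : {e // e ∈ Finset.univ.filter fun e : Fin 7 → ℤˣ => ∏ i, e i = 1} × D8 → mSyl F :=
    fun v => ⟨mono F v.1.1 v.2.1, v.1.1, (Finset.mem_filter.1 v.1.2).2, v.2.1, v.2.2, rfl⟩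
  have hf : Function.Bijective f := by
    refine ⟨fun v w h => ?_, ?_⟩
    · obtain ⟨h1, h2⟩ := mono_inj h2 (congrArg Subtype.val h)
      exact Prod.ext (Subtype.ext h1) (Subtype.ext h2)
    · rintro ⟨_, e, he, x, hx, rfl⟩
      exact ⟨(⟨e, Finset.mem_filter.2 ⟨Finset.mem_univ _, he⟩⟩, ⟨x, hx⟩), rfl⟩
  rw [← Nat.card_congr (Equiv.ofBijective f hf), Nat.card_prod, card_D8, Nat.card_eq_fintype_card,
    Fintype.card_coe, card_even]
  norm_num

theorem det_mono (h2 : (2 : F) ≠ 0) {e : Fin 7 → ℤˣ} {x : Perm (Fin 7)}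
    (h : mono F e x ∈ commutator (O7 F)) : (∏ i, e i) * Perm.sign x = 1 := by
  have hd : Matrix.det (matO (mono F e x)) = 1 := by
    have hk := Abelianization.commutator_subset_ker
      (Matrix.GeneralLinearGroup.det.comp (O7 F).subtype) h
    have := congrArg Units.val (MonoidHom.mem_ker.1 hk)
    rw [MonoidHom.comp_apply, Matrix.GeneralLinearGroup.val_det_apply, Units.val_one] at this
    exact this
  have hp : pMat F x = (x⁻¹).permMatrix F := by
    ext i j
    simp [pMat, PEquiv.toMatrix_apply, Perm.inv_def, Equiv.symm_apply_eq]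
  rw [mono, matO_mul, matO_dHom, matO_pHom, Matrix.det_mul, Matrix.det_diagonal, hp,
    Matrix.det_permutation, Perm.sign_inv] at hd
  refine sgnF_injective h2 ?_
  rw [sgnF_mul, sgnF_one, show sgnF F (∏ i, e i) = ∏ i, sgnF F (e i) by
    simp [sgnF, Units.coe_prod]]
  exact hd

variable [Finite F]

/-- A subgroup of the Sylow subgroup closed under the fusion is everything. -/
theorem closed_eq (h2 : (2 : F) ≠ 0) (T : Subgroup (O7 F)) (hle : T ≤ mSyl F) (hne : T ≠ ⊥)
    (hT : ∀ x ∈ T, ∀ g ∈ commutator (O7 F), g * x * g⁻¹ ∈ mSyl F → g * x * g⁻¹ ∈ T) :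
    mSyl F ≤ T := by
  haveI : Fact (Nat.Prime 2) := ⟨Nat.prime_two⟩
  haveI : Finite (O7 F) := Finite.of_injective _ (O7 F).subtype_injective
  have hp : IsPGroup 2 (mSyl F) := IsPGroup.of_card (card_mSyl h2)
  haveI : (T.subgroupOf (mSyl F)).Normal := ⟨fun x hx s => by
    rw [Subgroup.mem_subgroupOf] at hx ⊢
    exact hT _ hx _ (mSyl_le s.2) (mul_mem (mul_mem s.2 x.2) (inv_mem s.2))⟩
  have hN : T.subgroupOf (mSyl F) ≠ ⊥ := fun h => hne (by
    have := congrArg (Subgroup.map (mSyl F).subtype) h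
    rwa [Subgroup.map_bot, Subgroup.subgroupOf_map_subtype, inf_eq_left.2 hle] at this)
  obtain ⟨u, hu, hu1⟩ := (Subgroup.bot_or_exists_ne_one _).resolve_left
    (CfsgLib.PGroups.inf_center_ne_bot hp hN)
  obtain ⟨hu, huc⟩ := Subgroup.mem_inf.1 hu
  obtain ⟨e, he, x, hx, hex⟩ := u.2
  have hx1 : x = 1 := by
    refine fix_even_eq_one x hx fun e' he' i => ?_
    have hv : dHom F e' ∈ mSyl F := ⟨e', he', 1, L8_one, (mono_one e').symm⟩
    have h1 := congrArg Subtype.val (Subgroup.mem_center_iff.1 huc ⟨dHom F e', hv⟩)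
    simp only [Subgroup.coe_mul, hex, ← mono_one, mono_mul] at h1
    have h1' := congrFun (mono_inj h2 h1).1 (x i)
    simp only [Pi.mul_apply, Function.comp_apply, Perm.inv_def, Equiv.symm_apply_apply,
      Perm.coe_one, id_eq, inv_one] at h1'
    rw [mul_comm] at h1'
    exact mul_left_cancel h1'
  subst hx1
  rw [mono_one] at hex
  have heT : dHom F e ∈ T := hex ▸ hu
  have he1 : e ≠ 1 := fun h => hu1 (Subtype.ext (by rw [hex, h, map_one]; rfl))
  obtain ⟨i, j, hij⟩ : ∃ i j, e i ≠ e j := by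
    by_contra hc
    push Not at hc
    refine he1 (funext fun i => ?_)
    rw [Finset.prod_congr rfl fun k _ => hc k i, Finset.prod_const, Finset.card_univ,
      Fintype.card_fin, Int.units_pow_eq_pow_mod_two, pow_one] at he
    exact he
  have hperm : ∀ e' : Fin 7 → ℤˣ, ∏ l, e' l = 1 → dHom F e' ∈ T → ∀ y : Perm (Fin 7),
      Perm.sign y = 1 → dHom F (e' ∘ ⇑(y⁻¹)) ∈ T := by
    intro e' he' h y hy
    rw [← pHom_dHom_inv]
    refine hT _ h _ (pHom_mem hy) ?_
    rw [pHom_dHom_inv]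
    exact ⟨_, by simp only [Function.comp_apply]; rw [Equiv.prod_comp y⁻¹ e', he'], 1, L8_one,
      (mono_one _).symm⟩
  obtain ⟨k, hik, hjk⟩ : ∃ k, i ≠ k ∧ j ≠ k := by
    clear hij
    revert i j
    decide +kernel
  have hne' : i ≠ j := fun h => hij (congrArg e h)
  have hpairs : ∀ c d : Fin 7, c ≠ d → dHom F (pairV c d) ∈ T := by
    obtain ⟨a, b, hab, e'⟩ := exists_pair_of_rotate i j k hne' hik hjk e hij
    have hyy : Perm.sign (swap i k * swap i j : Perm (Fin 7))⁻¹ = 1 := by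
      rw [Perm.sign_inv, Perm.sign_mul, Perm.sign_swap hik, Perm.sign_swap hne']; rfl
    have h1 := mul_mem heT (hperm e he heT _ hyy)
    rw [inv_inv, ← map_mul, e'] at h1
    intro c d hcd
    obtain ⟨y, hy, hyc, hyd⟩ := exists_even_map a b c d hab hcd
    have hpe : ∏ l, pairV a b l = 1 := by
      simp [pairV, Finset.prod_mul_distrib, Finset.prod_pi_mulSingle']
    have h3 := hperm _ hpe h1 y hy
    have e'' : pairV a b ∘ ⇑(y⁻¹) = pairV c d := by
      funext l
      simp [pairV, Pi.mulSingle_apply, Perm.inv_def, Equiv.symm_apply_eq, hyc, hyd]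
    rwa [e''] at h3
  have hE : ∀ e' : Fin 7 → ℤˣ, ∏ l, e' l = 1 → dHom F e' ∈ T := by
    intro e' he'
    show e' ∈ T.comap (dHom F)
    rw [even_eq_prod e' he']
    refine Subgroup.prod_mem _ fun l _ => ?_
    split_ifs
    · exact hpairs _ _ (Fin.succ_ne_zero l).symm
    · exact one_mem _
  obtain ⟨g, hg, hge⟩ := exists_fusion h2
  have hpaT : pHom F pa ∈ T := by
    have h1 := hT _ (hpairs 1 3 (by decide)) g hg
    rw [show pairV 1 3 = dSrc from rfl, hge] at h1
    exact h1 ⟨1, by simp, pa, pa_mem, (one_mono pa).symm⟩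
  have hL : ∀ y : Perm (Fin 7), y ∈ L8 → ∀ z : Perm (Fin 7), Perm.sign z = 1 → z * pa * z⁻¹ = y →
      pHom F y ∈ T := by
    intro y hy z hz hzy
    rw [← hzy, map_mul, map_mul, map_inv]
    refine hT _ hpaT _ (pHom_mem hz) ?_
    rw [← map_inv, ← map_mul, ← map_mul, hzy]
    exact ⟨1, by simp, y, hy, (one_mono y).symm⟩
  have hb : pHom F pb ∈ T := hL pb pb_mem (swap 1 2 * swap 5 6) (by decide +kernel) (by decide +kernel)
  have hc : pHom F pc ∈ T := hL pc pc_mem (swap 2 4 * swap 3 5) (by decide +kernel) (by decide +kernel)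
  rintro _ ⟨e', he', y, hy, rfl⟩
  refine mul_mem (hE e' he') ?_
  simp only [L8, List.mem_cons, List.not_mem_nil, or_false] at hy
  rcases hy with rfl | rfl | rfl | rfl | rfl | rfl | rfl | rfl <;> (try simp only [map_one, map_mul])
  · exact one_mem _
  all_goals first
    | assumption
    | exact mul_mem hpaT hb
    | exact mul_mem hpaT hc
    | exact mul_mem hb hc
    | exact mul_mem (mul_mem hpaT hb) hc

/-- Elements of `Ω` normalising the Sylow subgroup lie in it. -/
theorem normalizer_le (h2 : (2 : F) ≠ 0)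
    (hmax : ∀ g ∈ commutator (O7 F), (∀ v ∈ mSyl F, g * v * g⁻¹ ∈ mSyl F) → g * g = 1 → g ∈ mSyl F)
    {g : O7 F} (hg : g ∈ commutator (O7 F))
    (hn : ∀ v ∈ mSyl F, g * v * g⁻¹ ∈ mSyl F) : g ∈ mSyl F := by
  classical
  -- the diagonal part is characteristic
  have hdiag : ∀ e : Fin 7 → ℤˣ, ∏ i, e i = 1 → ∃ e', g * dHom F e * g⁻¹ = dHom F e' := by
    intro e he
    have hv : dHom F e ∈ mSyl F := ⟨e, he, 1, L8_one, (mono_one e).symm⟩
    obtain ⟨e', he', x, hx, hex⟩ := hn _ hv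
    refine ⟨e', ?_⟩
    rw [hex]
    suffices hx1 : x = 1 by rw [hx1, mono_one]
    by_contra hx1
    -- images of the diagonal group under the conjugation
    let Ev := {e : Fin 7 → ℤˣ // e ∈ Finset.univ.filter fun e : Fin 7 → ℤˣ => ∏ i, e i = 1}
    have hdata : ∀ v : Ev, ∃ w : (Fin 7 → ℤˣ) × Perm (Fin 7),
        (∏ i, w.1 i = 1 ∧ w.2 ∈ L8) ∧ g * dHom F v.1 * g⁻¹ = mono F w.1 w.2 := fun v => by
      obtain ⟨a, ha, b, hb, hab⟩ :=
        hn (dHom F v.1) ⟨v.1, (Finset.mem_filter.1 v.2).2, 1, L8_one, (mono_one _).symm⟩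
      exact ⟨(a, b), ⟨ha, hb⟩, hab⟩
    choose w hw hwe using hdata
    have hcomm : ∀ u v : Ev,
        (w u).1 * ((w v).1 ∘ ⇑((w u).2⁻¹)) = (w v).1 * ((w u).1 ∘ ⇑((w v).2⁻¹)) ∧
          (w u).2 * (w v).2 = (w v).2 * (w u).2 := by
      intro u v
      refine mono_inj h2 ?_
      rw [← mono_mul, ← mono_mul, ← hwe, ← hwe]
      calc g * dHom F u.1 * g⁻¹ * (g * dHom F v.1 * g⁻¹)
          = g * (dHom F u.1 * dHom F v.1) * g⁻¹ := by group
        _ = g * (dHom F v.1 * dHom F u.1) * g⁻¹ := by rw [← map_mul, ← map_mul, mul_comm u.1]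
        _ = g * dHom F v.1 * g⁻¹ * (g * dHom F u.1 * g⁻¹) := by group
    have hwinj : Function.Injective w := by
      intro u v h
      have h1 : g * dHom F u.1 * g⁻¹ = g * dHom F v.1 * g⁻¹ := by rw [hwe, hwe, h]
      have h1' : mono F u.1 1 = mono F v.1 1 := by
        rw [mono_one, mono_one]; exact mul_left_cancel (mul_right_cancel h1)
      exact Subtype.ext (mono_inj h2 h1').1
    let P : Finset (Perm (Fin 7)) := Finset.univ.image fun v : Ev => (w v).2
    have hPL : ∀ y ∈ P, y ∈ L8 := fun y hy => by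
      obtain ⟨v, -, rfl⟩ := Finset.mem_image.1 hy; exact (hw v).2
    have hPc : ∀ y ∈ P, ∀ z ∈ P, y * z = z * y := fun y hy z hz => by
      obtain ⟨u, -, rfl⟩ := Finset.mem_image.1 hy
      obtain ⟨v, -, rfl⟩ := Finset.mem_image.1 hz
      exact (hcomm u v).2
    have hxP : x ∈ P := by
      refine Finset.mem_image.2 ⟨⟨e, Finset.mem_filter.2 ⟨Finset.mem_univ _, he⟩⟩, Finset.mem_univ _, ?_⟩
      have := hwe ⟨e, Finset.mem_filter.2 ⟨Finset.mem_univ _, he⟩⟩
      rw [hex] at this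
      exact (mono_inj h2 this).2.symm
    let Fx : Finset (Fin 7 → ℤˣ) := Finset.univ.filter fun e : Fin 7 → ℤˣ =>
      ∏ i, e i = 1 ∧ ∀ y ∈ P, ∀ i, e (y i) = e i
    have hfib : ∀ u v : Ev, (w u).2 = (w v).2 → (w u).1 * (w v).1 ∈ Fx := by
      intro u v huv
      refine Finset.mem_filter.2 ⟨Finset.mem_univ _, by
        simp [Finset.prod_mul_distrib, (hw u).1, (hw v).1], fun y hy i => ?_⟩
      obtain ⟨z, -, rfl⟩ := Finset.mem_image.1 hy
      have h1 := congrFun (hcomm u z).1 ((w z).2 i)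
      have h3 := congrFun (hcomm v z).1 ((w z).2 i)
      simp only [Pi.mul_apply, Function.comp_apply, huv, Perm.inv_def, Equiv.symm_apply_apply]
        at h1 h3 ⊢
      have h5 : (w u).1 ((w z).2 i) * ((w v).1 ((w z).2 i)) *
          ((w z).1 ((w v).2.symm ((w z).2 i)) * (w z).1 ((w v).2.symm ((w z).2 i))) =
          (w z).1 ((w z).2 i) * (w z).1 ((w z).2 i) * ((w u).1 i * (w v).1 i) := by
        rw [mul_mul_mul_comm, h1, h3, mul_mul_mul_comm]
      simpa [Int.units_mul_self] using h5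
    have hle : Fintype.card Ev ≤ P.card * Fx.card := by
      have hch : ∀ y : P, ∃ v : Ev, (w v).2 = y.1 := fun y => by
        obtain ⟨v, -, hv⟩ := Finset.mem_image.1 y.2; exact ⟨v, hv⟩
      choose r hr using hch
      let φ : Ev → P × Fx := fun v => (⟨(w v).2, Finset.mem_image.2 ⟨v, Finset.mem_univ _, rfl⟩⟩,
        ⟨(w v).1 * (w (r ⟨(w v).2, Finset.mem_image.2 ⟨v, Finset.mem_univ _, rfl⟩⟩)).1,
          hfib _ _ (hr ⟨(w v).2, Finset.mem_image.2 ⟨v, Finset.mem_univ _, rfl⟩⟩).symm⟩)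
      have hφ : Function.Injective φ := by
        intro u v h
        refine hwinj (Prod.ext ?_ (congrArg (fun t => (t.1 : Perm (Fin 7))) h))
        have h1 := congrArg (fun t => t.1) h
        have h3 := congrArg (fun t => (t.2 : Fin 7 → ℤˣ)) h
        simp only [φ] at h1 h3
        rw [h1] at h3
        exact mul_right_cancel h3
      have := Fintype.card_le_of_injective φ hφ
      simpa using this
    rw [Fintype.card_coe, card_even] at hle
    by_cases hex2 : ∃ y ∈ P, y ≠ 1 ∧ y ≠ x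
    · obtain ⟨y, hy, hy1, hyx⟩ := hex2
      have h8 : Fx.card ≤ 8 := le_trans (Finset.card_le_card fun f hf => by
        obtain ⟨-, hf1, hf2⟩ := Finset.mem_filter.1 hf
        exact Finset.mem_filter.2 ⟨Finset.mem_univ _, hf1, fun i => ⟨hf2 x hxP i, hf2 y hy i⟩⟩)
        (fix_two_bound x (hPL x hxP) y (hPL y hy) hx1 hy1 (Ne.symm hyx) (hPc x hxP y hy))
      have hPall : P = L8.toFinset := by
        refine Finset.eq_of_subset_of_card_le (fun z hz => List.mem_toFinset.2 (hPL z hz)) ?_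
        rw [List.toFinset_card_of_nodup L8_nodup]
        show 8 ≤ P.card
        nlinarith
      exact pb_pc_ne (hPc pb (by rw [hPall]; exact List.mem_toFinset.2 pb_mem) pc
        (by rw [hPall]; exact List.mem_toFinset.2 pc_mem))
    · push Not at hex2
      have hP2 : P.card ≤ 2 := le_trans (Finset.card_le_card fun z hz => by
        rw [Finset.mem_insert, Finset.mem_singleton]
        by_cases h1 : z = 1
        · exact Or.inl h1
        · exact Or.inr (hex2 z hz h1)) (Finset.card_insert_le (1 : Perm (Fin 7)) {x})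
      have h16 : Fx.card ≤ 16 := le_trans (Finset.card_le_card fun f hf => by
        obtain ⟨-, hf1, hf2⟩ := Finset.mem_filter.1 hf
        exact Finset.mem_filter.2 ⟨Finset.mem_univ _, hf1, hf2 x hxP⟩)
        (fix_one_bound x (hPL x hxP) hx1)
      nlinarith
  obtain ⟨e, x, rfl⟩ := exists_mono_of_normalizes h2 g hdiag
  have hdet := det_mono h2 hg
  -- the permutation normalises the Sylow subgroup of `A₇`
  have hconj : ∀ y ∈ L8, x * y * x⁻¹ ∈ L8 := fun y hy => by
    have h1 := hn _ ⟨1, by simp, y, hy, rfl⟩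
    rw [mono_inv, mono_mul, mono_mul] at h1
    exact (mem_mSyl h2 h1).2
  rcases Int.units_eq_one_or (Perm.sign x) with hs | hs
  · rw [hs, mul_one] at hdet
    exact ⟨e, hdet, x, perm_normalizer x hs (hconj _ pa_mem) (hconj _ pb_mem) (hconj _ pc_mem), rfl⟩
  exfalso
  rw [hs, mul_neg, mul_one, neg_eq_iff_eq_neg] at hdet
  set x' : Perm (Fin 7) := x⁻¹ * swap 4 5 with hx'
  set e' : Fin 7 → ℤˣ := (e * Pi.mulSingle 6 (-1)) ∘ x with he'
  have hq : mono F e x * mono F e' x' ∈ commutator (O7 F) := by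
    refine mul_mem hg (mul_mem (dHom_mem ?_) (pHom_mem ?_))
    · simp only [he', Function.comp_apply]
      rw [Equiv.prod_comp x (e * Pi.mulSingle 6 (-1))]
      simp [Finset.prod_mul_distrib, hdet]
    · rw [hx', Perm.sign_mul, Perm.sign_inv, hs, Perm.sign_swap (by decide)]; rfl
  have hqe : mono F e x * mono F e' x' = mono F (Pi.mulSingle 6 (-1)) (swap 4 5) := by
    rw [mono_mul, hx', mul_inv_cancel_left, he']
    congr 1
    funext l
    simp [← mul_assoc, Int.units_mul_self, Perm.inv_def]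
  rw [hqe] at hq
  have hqn : ∀ v ∈ mSyl F, mono F (Pi.mulSingle 6 (-1)) (swap 4 5) * v *
      (mono F (Pi.mulSingle 6 (-1)) (swap 4 5))⁻¹ ∈ mSyl F := by
    rintro _ ⟨a, ha, y, hy, rfl⟩
    rw [mono_inv, mono_mul, mono_mul]
    refine ⟨_, ?_, _, swap45_conj y hy, rfl⟩
    simp only [Pi.mul_apply, Function.comp_apply, Finset.prod_mul_distrib]
    rw [Equiv.prod_comp (swap (4 : Fin 7) 5)⁻¹ a, ha,
      Equiv.prod_comp (swap (4 : Fin 7) 5 * y)⁻¹ (fun l => (Pi.mulSingle (6 : Fin 7) (-1 : ℤˣ) : Fin 7 → ℤˣ) ((swap (4 : Fin 7) 5) l)),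
      Equiv.prod_comp (swap (4 : Fin 7) 5) (Pi.mulSingle (6 : Fin 7) (-1 : ℤˣ))]
    simp
  refine swap45_notMem (mem_mSyl h2 (hmax _ hq hqn ?_)).2
  rw [mono_mul, Equiv.swap_mul_self, mono]
  have : (Pi.mulSingle 6 (-1) : Fin 7 → ℤˣ) * (Pi.mulSingle 6 (-1) : Fin 7 → ℤˣ) ∘
      ⇑((swap (4 : Fin 7) 5)⁻¹) = 1 := by decide +kernel
  rw [this, map_one, map_one, one_mul]

/-- The three properties for `Ω₇(q)`. -/
theorem main [Fintype F] [DecidableEq F] {q : ℕ} (hF : Fintype.card F = q) (hq : q % 8 = 3 ∨ q % 8 = 5)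
    (S : Sylow 2 ↥(Cfsg.Omega F (Cfsg.quadFormOdd 3 F))) :
    (Cfsg.groupFusionSystem (S : Subgroup ↥(Cfsg.Omega F (Cfsg.quadFormOdd 3 F)))).autGroup
        (S : Subgroup ↥(Cfsg.Omega F (Cfsg.quadFormOdd 3 F))) =
        Cfsg.Inn ↥(S : Subgroup ↥(Cfsg.Omega F (Cfsg.quadFormOdd 3 F))) ∧
      (∀ T : Subgroup ↥(Cfsg.Omega F (Cfsg.quadFormOdd 3 F)),
        (Cfsg.groupFusionSystem (S : Subgroup ↥(Cfsg.Omega F (Cfsg.quadFormOdd 3 F)))).StronglyClosed T →
          T = ⊥ ∨ T = (S : Subgroup ↥(Cfsg.Omega F (Cfsg.quadFormOdd 3 F)))) ∧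
      (Cfsg.groupFusionSystem (S : Subgroup ↥(Cfsg.Omega F (Cfsg.quadFormOdd 3 F)))).IsSimple 2 := by
  haveI : Fact (Nat.Prime 2) := ⟨Nat.prime_two⟩
  have h2 := two_ne_of_mod hF hq
  obtain ⟨a, b, hab⟩ := FiniteField.exists_root_sum_quadratic (R := F) (f := Polynomial.X ^ 2)
    (g := Polynomial.X ^ 2 - Polynomial.C (-1)) (Polynomial.degree_X_pow 2)
    (Polynomial.degree_X_pow_sub_C (by norm_num) _) (by rw [hF]; omega)
  simp only [Polynomial.eval_sub, Polynomial.eval_pow, Polynomial.eval_X, Polynomial.eval_C] at hab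
  have hab' : a ^ 2 + b ^ 2 = -1 := by linear_combination hab
  let ψ : O7 F ≃* Cfsg.isometryGroup F (Cfsg.quadFormOdd 3 F) :=
    MulEquiv.ofBijective (toOdd h2 hab') (toOdd_bijective h2 hab')
  have hΩ : (commutator (O7 F)).map ψ.toMonoidHom = Cfsg.Omega F (Cfsg.quadFormOdd 3 F) := by
    rw [commutator_def, Subgroup.map_commutator, Subgroup.map_top_of_surjective ψ.toMonoidHom ψ.surjective]
    rfl
  let χ : ↥(commutator (O7 F)) ≃* ↥(Cfsg.Omega F (Cfsg.quadFormOdd 3 F)) :=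
    (ψ.subgroupMap (commutator (O7 F))).trans (MulEquiv.subgroupCongr hΩ)
  let S₁ : Subgroup ↥(Cfsg.Omega F (Cfsg.quadFormOdd 3 F)) :=
    ((mSyl F).subgroupOf (commutator (O7 F))).map χ.toMonoidHom
  have hcard : Nat.card S₁ = 2 ^ (Nat.card ↥(Cfsg.Omega F (Cfsg.quadFormOdd 3 F))).factorization 2 := by
    rw [factorization_card_omega hF hq,
      Nat.card_congr ((Subgroup.equivMapOfInjective _ _ χ.injective).symm.toEquiv),
      Nat.card_congr (Subgroup.subgroupOfEquivOfLe mSyl_le).toEquiv, card_mSyl h2]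
  let S₀ : Sylow 2 ↥(Cfsg.Omega F (Cfsg.quadFormOdd 3 F)) := Sylow.ofCard S₁ hcard
  have hmem : ∀ v, v ∈ (S₀ : Subgroup ↥(Cfsg.Omega F (Cfsg.quadFormOdd 3 F))) ↔
      (χ.symm v : O7 F) ∈ mSyl F := fun v => by
    show v ∈ ((mSyl F).subgroupOf (commutator (O7 F))).map χ.toMonoidHom ↔ _
    rw [Subgroup.map_equiv_eq_comap_symm', Subgroup.mem_comap, Subgroup.mem_subgroupOf]
    rfl
  refine all_sylow_of_one S₀ ?_ ?_ ?_ S
  · intro h
    have h1 := Subgroup.card_eq_one.2 h
    rw [show (S₀ : Subgroup ↥(Cfsg.Omega F (Cfsg.quadFormOdd 3 F))) = S₁ from rfl, hcard,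
      factorization_card_omega hF hq] at h1
    norm_num at h1
  · intro g hg
    rw [hmem]
    refine normalizer_le h2 (fun u hu hun hu2 => ?_) (χ.symm g).2 (fun v hv => ?_)
    · set u' := χ ⟨u, hu⟩ with hu'
      have hn' : u' ∈ Subgroup.normalizer
          ((S₀ : Subgroup ↥(Cfsg.Omega F (Cfsg.quadFormOdd 3 F))) : Set _) := by
        rw [Subgroup.mem_normalizer_iff_map_conj_eq]
        refine Subgroup.eq_of_le_of_card_ge ?_
          (Subgroup.card_map_of_injective (MulAut.conj u').injective).ge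
        rintro _ ⟨v, hv, rfl⟩
        rw [hmem]
        show ((χ.symm (u' * v * u'⁻¹) : commutator (O7 F)) : O7 F) ∈ mSyl F
        rw [map_mul, map_mul, map_inv, hu', χ.symm_apply_apply]
        exact hun _ ((hmem v).1 hv)
      have h4 : u' ^ 2 ^ 1 = 1 := by
        rw [hu', ← map_pow, show ((⟨u, hu⟩ : commutator (O7 F)) ^ 2 ^ 1) = 1 from
          Subtype.ext (by simpa [pow_two] using hu2), map_one]
      have hz : IsPGroup 2 (Subgroup.zpowers u') := by
        rintro ⟨_, k, rfl⟩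
        refine ⟨1, Subtype.ext ?_⟩
        show (u' ^ k) ^ 2 ^ 1 = 1
        rw [← zpow_natCast, ← _root_.zpow_mul, mul_comm, _root_.zpow_mul, zpow_natCast, h4,
          _root_.one_zpow]
      have hsup := IsPGroup.to_sup_of_normal_left' S₀.2 hz (Subgroup.zpowers_le.2 hn')
      have := (hmem u').1 (S₀.3 hsup le_sup_left ▸ Subgroup.mem_sup_right (Subgroup.mem_zpowers u'))
      rwa [hu', χ.symm_apply_apply] at this
    · have h1 := (Subgroup.mem_normalizer_iff.1 hg (χ ⟨v, mSyl_le hv⟩)).1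
        ((hmem _).2 (by rw [χ.symm_apply_apply]; exact hv))
      rw [hmem, map_mul, map_mul, map_inv, χ.symm_apply_apply] at h1
      exact h1
  · intro T hle hTc
    by_cases hne : T = ⊥
    · exact Or.inl hne
    refine Or.inr (le_antisymm hle ?_)
    let T' : Subgroup (O7 F) := (T.comap χ.toMonoidHom).map (commutator (O7 F)).subtype
    have hle' : T' ≤ mSyl F := by
      rintro _ ⟨v, hv, rfl⟩
      have := (hmem _).1 (hle hv)
      rwa [show χ.symm (χ.toMonoidHom v) = v from χ.symm_apply_apply v] at this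
    have hne' : T' ≠ ⊥ := by
      obtain ⟨v, hv, hv1⟩ := (Subgroup.bot_or_exists_ne_one T).resolve_left hne
      intro h
      have h1 : ((χ.symm v : commutator (O7 F)) : O7 F) ∈ T' :=
        ⟨χ.symm v, by rw [SetLike.mem_coe, Subgroup.mem_comap]; simpa using hv, rfl⟩
      rw [h, Subgroup.mem_bot] at h1
      exact hv1 (χ.symm.map_eq_one_iff.1 (Subtype.ext h1))
    have hall := closed_eq h2 T' hle' hne' (by
      rintro _ ⟨x, hx, rfl⟩ g hg hgx
      refine ⟨⟨g, hg⟩ * x * ⟨g, hg⟩⁻¹, ?_, rfl⟩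
      rw [SetLike.mem_coe, Subgroup.mem_comap, MonoidHom.map_mul, MonoidHom.map_mul, map_inv]
      refine hTc _ hx (χ ⟨g, hg⟩) ?_
      rw [hmem]
      simpa using hgx)
    intro v hv
    obtain ⟨w, hw, hwe⟩ := hall ((hmem v).1 hv)
    have : w = χ.symm v := Subtype.ext hwe
    rw [this, SetLike.mem_coe, Subgroup.mem_comap] at hw
    simpa using hw

end CfsgLib.Involutions.OmegaSeven
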