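import Mathlib

/-!
Facts on a Sylow two-subgroup of `A₇` and its action on sign vectors.
-/

set_option autoImplicit false
set_option maxRecDepth 100000

namespace CfsgLib.Involutions.OmegaSeven

open Equiv

/-- `(01)(23)`. -/
def pa : Perm (Fin 7) := swap 0 1 * swap 2 3

/-- `(02)(13)`. -/
def pb : Perm (Fin 7) := swap 0 2 * swap 1 3

/-- `(01)(45)`. -/
def pc : Perm (Fin 7) := swap 0 1 * swap 4 5

/-- The eight elements of the Sylow subgroup. -/
def L8 : List (Perm (Fin 7)) := [1, pa, pb, pa * pb, pc, pa * pc, pb * pc, pa * pb * pc]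

theorem L8_mul : ∀ x ∈ L8, ∀ y ∈ L8, x * y ∈ L8 := by decide +kernel

theorem L8_inv : ∀ x ∈ L8, x⁻¹ ∈ L8 := by decide +kernel

theorem L8_one : (1 : Perm (Fin 7)) ∈ L8 := by decide +kernel

theorem L8_nodup : L8.Nodup := by decide +kernel

theorem L8_sign : ∀ x ∈ L8, Perm.sign x = 1 := by decide +kernel

theorem pa_mem : pa ∈ L8 := by decide +kernel

theorem pb_mem : pb ∈ L8 := by decide +kernel

theorem pc_mem : pc ∈ L8 := by decide +kernel

theorem swap45_notMem : swap (4 : Fin 7) 5 ∉ L8 := by decide +kernel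

theorem swap45_conj : ∀ x ∈ L8, swap (4 : Fin 7) 5 * x * (swap (4 : Fin 7) 5)⁻¹ ∈ L8 := by
  decide +kernel

theorem pb_pc_ne : pb * pc ≠ pc * pb := by decide +kernel

/-- The Sylow subgroup as a subgroup. -/
def D8 : Subgroup (Perm (Fin 7)) where
  carrier := {x | x ∈ L8}
  one_mem' := L8_one
  mul_mem' hx hy := L8_mul _ hx _ hy
  inv_mem' hx := L8_inv _ hx

theorem mem_D8 {x : Perm (Fin 7)} : x ∈ D8 ↔ x ∈ L8 := Iff.rfl

theorem card_D8 : Nat.card D8 = 8 := by
  rw [Nat.card_congr (show D8 ≃ {x // x ∈ L8.toFinset} from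
    Equiv.subtypeEquivRight fun x => by simp [mem_D8]), Nat.card_eq_fintype_card, Fintype.card_coe,
    List.toFinset_card_of_nodup L8_nodup]
  rfl

theorem perm_normalizer (x : Perm (Fin 7)) (h : Perm.sign x = 1) (ha : x * pa * x⁻¹ ∈ L8)
    (hb : x * pb * x⁻¹ ∈ L8) (hc : x * pc * x⁻¹ ∈ L8) : x ∈ L8 := by
  revert x
  decide +kernel

theorem fix_even_eq_one : ∀ x ∈ L8,
    (∀ e : Fin 7 → ℤˣ, ∏ i, e i = 1 → ∀ i, e (x i) = e i) → x = 1 := by
  decide +kernel

theorem fix_one_bound : ∀ x ∈ L8, x ≠ 1 →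
    (Finset.univ.filter fun e : Fin 7 → ℤˣ => ∏ i, e i = 1 ∧ ∀ i, e (x i) = e i).card ≤ 16 := by
  decide +kernel

theorem fix_two_bound : ∀ x ∈ L8, ∀ y ∈ L8, x ≠ 1 → y ≠ 1 → x ≠ y → x * y = y * x →
    (Finset.univ.filter fun e : Fin 7 → ℤˣ =>
      ∏ i, e i = 1 ∧ ∀ i, e (x i) = e i ∧ e (y i) = e i).card ≤ 8 := by
  decide +kernel

/-- The sign vector with minus one exactly at two places. -/
def pairV (i j : Fin 7) : Fin 7 → ℤˣ := Pi.mulSingle i (-1) * Pi.mulSingle j (-1)

theorem card_even : (Finset.univ.filter fun e : Fin 7 → ℤˣ => ∏ i, e i = 1).card = 64 := by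
  decide +kernel

theorem even_eq_prod : ∀ e : Fin 7 → ℤˣ, ∏ i, e i = 1 →
    e = ∏ i : Fin 6, if e i.succ = -1 then pairV 0 i.succ else 1 := by
  decide +kernel

theorem exists_pair_of_rotate : ∀ i j k : Fin 7, i ≠ j → i ≠ k → j ≠ k → ∀ e : Fin 7 → ℤˣ,
    e i ≠ e j → ∃ a b : Fin 7, a ≠ b ∧ e * (e ∘ (swap i k * swap i j : Perm (Fin 7))) = pairV a b := by
  intro i j k hij hik hjk e he
  have he' : e j = -e i := by
    rcases Int.units_eq_one_or (e i) with h | h <;> rcases Int.units_eq_one_or (e j) with h' | h' <;>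
      simp_all
  have hrot : ∀ l, e ((swap i k * swap i j : Perm (Fin 7)) l) =
      if l = i then e j else if l = j then e k else if l = k then e i else e l := by
    intro l
    simp only [Perm.mul_apply, swap_apply_def]
    split_ifs <;> simp_all
  rcases Int.units_eq_one_or (e k * e i) with h | h
  · have hk : e k = e i := by
      rcases Int.units_eq_one_or (e i) with h1 | h1 <;> rcases Int.units_eq_one_or (e k) with h2 | h2 <;>
        simp_all
    refine ⟨i, j, hij, funext fun l => ?_⟩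
    simp only [Pi.mul_apply, Function.comp_apply, hrot, pairV, Pi.mulSingle_apply]
    split_ifs <;> simp_all [Int.units_mul_self]
  · have hk : e k = -e i := by
      rcases Int.units_eq_one_or (e i) with h1 | h1 <;> rcases Int.units_eq_one_or (e k) with h2 | h2 <;>
        simp_all
    refine ⟨i, k, hik, funext fun l => ?_⟩
    simp only [Pi.mul_apply, Function.comp_apply, hrot, pairV, Pi.mulSingle_apply]
    split_ifs <;> simp_all [Int.units_mul_self]

theorem exists_even_map (a b c d : Fin 7) (hab : a ≠ b) (hcd : c ≠ d) :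
    ∃ x : Perm (Fin 7), Perm.sign x = 1 ∧ x a = c ∧ x b = d := by
  set x₀ : Perm (Fin 7) := swap (swap a c b) d * swap a c with hx₀
  have ha : x₀ a = c := by
    rw [hx₀, Perm.mul_apply, swap_apply_left]
    refine swap_apply_of_ne_of_ne (fun h => hab ?_) hcd
    have := congrArg (swap a c) h
    rw [swap_apply_self, swap_apply_right] at this
    exact this
  have hb : x₀ b = d := by rw [hx₀, Perm.mul_apply, swap_apply_left]
  rcases Int.units_eq_one_or (Perm.sign x₀) with h | h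
  · exact ⟨x₀, h, ha, hb⟩
  obtain ⟨e, f, hef, he, hf⟩ : ∃ e f : Fin 7, e ≠ f ∧ (e ≠ c ∧ e ≠ d) ∧ (f ≠ c ∧ f ≠ d) := by
    clear ha hb h hx₀ x₀
    revert c d
    decide +kernel
  refine ⟨swap e f * x₀, by rw [Perm.sign_mul, h, Perm.sign_swap hef]; rfl, ?_, ?_⟩
  · rw [Perm.mul_apply, ha, swap_apply_of_ne_of_ne he.1.symm hf.1.symm]
  · rw [Perm.mul_apply, hb, swap_apply_of_ne_of_ne he.2.symm hf.2.symm]

end CfsgLib.Involutions.OmegaSeven
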