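import Mathlib
import Cfsg.Prelude.Def_Classical

/-!
The seven-dimensional orthogonal group in orthonormal coordinates and its monomial elements.
-/

set_option autoImplicit false
set_option linter.unusedSectionVars false

namespace CfsgLib.Involutions.OmegaSeven

open Matrix Equiv
open scoped commutatorElement

variable {F : Type*} [Field F]

/-- The sum of seven squares. -/
def sumSq (F : Type*) [Field F] (v : Fin 7 → F) : F := ∑ i, v i ^ 2

/-- The orthogonal group of the sum of seven squares. -/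
abbrev O7 (F : Type*) [Field F] : Subgroup (Matrix.GeneralLinearGroup (Fin 7) F) :=
  Cfsg.isometryGroup F (sumSq F)

/-- The matrix of an element. -/
def matO (g : O7 F) : Matrix (Fin 7) (Fin 7) F :=
  ((g : Matrix.GeneralLinearGroup (Fin 7) F) : Matrix (Fin 7) (Fin 7) F)

theorem matO_mul (g h : O7 F) : matO (g * h) = matO g * matO h := rfl

theorem matO_one : matO (1 : O7 F) = 1 := rfl

theorem matO_injective : Function.Injective (matO (F := F)) := fun _ _ h =>
  Subtype.ext (Units.ext h)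

/-- An isometry from an invertible matrix. -/
def mkO (M N : Matrix (Fin 7) (Fin 7) F) (hMN : M * N = 1) (hNM : N * M = 1)
    (h : ∀ v, sumSq F (M *ᵥ v) = sumSq F v) : O7 F :=
  ⟨⟨M, N, hMN, hNM⟩, fun u _ => h u⟩

theorem matO_mkO (M N : Matrix (Fin 7) (Fin 7) F) (hMN : M * N = 1) (hNM : N * M = 1)
    (h : ∀ v, sumSq F (M *ᵥ v) = sumSq F v) : matO (mkO M N hMN hNM h) = M := rfl

/-- A sign as an element of the field. -/
def sgnF (F : Type*) [Field F] (u : ℤˣ) : F := ((u : ℤ) : F)

theorem sgnF_mul (u v : ℤˣ) : sgnF F (u * v) = sgnF F u * sgnF F v := by simp [sgnF]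

theorem sgnF_one : sgnF F 1 = 1 := by simp [sgnF]

theorem sgnF_neg_one : sgnF F (-1) = -1 := by simp [sgnF]

theorem sgnF_mul_self (u : ℤˣ) : sgnF F u * sgnF F u = 1 := by
  rw [← sgnF_mul, Int.units_mul_self, sgnF_one]

theorem sgnF_injective (h2 : (2 : F) ≠ 0) : Function.Injective (sgnF F) := by
  intro u v h
  rcases Int.units_eq_one_or u with rfl | rfl <;> rcases Int.units_eq_one_or v with rfl | rfl <;>
    simp only [sgnF_one, sgnF_neg_one] at h
  · rfl
  · exact absurd (show (2 : F) = 0 by linear_combination h) h2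
  · exact absurd (show (2 : F) = 0 by linear_combination -h) h2
  · rfl

/-- The diagonal isometries. -/
def dHom (F : Type*) [Field F] : (Fin 7 → ℤˣ) →* O7 F where
  toFun e := mkO (Matrix.diagonal fun i => sgnF F (e i)) (Matrix.diagonal fun i => sgnF F (e i))
    (by rw [Matrix.diagonal_mul_diagonal]; simp [sgnF_mul_self])
    (by rw [Matrix.diagonal_mul_diagonal]; simp [sgnF_mul_self])
    fun v => Finset.sum_congr rfl fun i _ => by
      rw [Matrix.mulVec_diagonal, mul_pow, pow_two (sgnF F (e i)), sgnF_mul_self, one_mul]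
  map_one' := matO_injective (by
    show Matrix.diagonal (fun i => sgnF F ((1 : Fin 7 → ℤˣ) i)) = 1
    simp [sgnF_one])
  map_mul' e e' := matO_injective (by
    show Matrix.diagonal (fun i => sgnF F ((e * e') i)) =
      Matrix.diagonal (fun i => sgnF F (e i)) * Matrix.diagonal (fun i => sgnF F (e' i))
    rw [Matrix.diagonal_mul_diagonal]
    simp [sgnF_mul])

theorem matO_dHom (e : Fin 7 → ℤˣ) : matO (dHom F e) = Matrix.diagonal fun i => sgnF F (e i) := rfl

/-- The matrix of a permutation of the coordinates. -/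
def pMat (F : Type*) [Field F] (x : Perm (Fin 7)) : Matrix (Fin 7) (Fin 7) F :=
  Matrix.of fun i j => if i = x j then 1 else 0

theorem pMat_mulVec (x : Perm (Fin 7)) (v : Fin 7 → F) : pMat F x *ᵥ v = v ∘ ⇑(x⁻¹) := by
  funext i
  simp [pMat, Matrix.mulVec, dotProduct, Perm.inv_def, eq_comm (a := i), Equiv.apply_eq_iff_eq_symm_apply]

theorem pMat_mul (x y : Perm (Fin 7)) : pMat F (x * y) = pMat F x * pMat F y := by
  refine Matrix.ext_iff_mulVec.2 fun v => ?_
  rw [← Matrix.mulVec_mulVec, pMat_mulVec, pMat_mulVec, pMat_mulVec]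
  rfl

theorem pMat_one : pMat F 1 = 1 := by
  refine Matrix.ext_iff_mulVec.2 fun v => ?_
  rw [pMat_mulVec, Matrix.one_mulVec]
  rfl

/-- The permutation isometries. -/
def pHom (F : Type*) [Field F] : Perm (Fin 7) →* O7 F where
  toFun x := mkO (pMat F x) (pMat F x⁻¹)
    (by rw [← pMat_mul, mul_inv_cancel, pMat_one]) (by rw [← pMat_mul, inv_mul_cancel, pMat_one])
    fun v => by rw [pMat_mulVec]; exact Equiv.sum_comp x⁻¹ fun i => v i ^ 2
  map_one' := matO_injective pMat_one
  map_mul' x y := matO_injective (pMat_mul x y)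

theorem matO_pHom (x : Perm (Fin 7)) : matO (pHom F x) = pMat F x := rfl

theorem pHom_dHom (x : Perm (Fin 7)) (e : Fin 7 → ℤˣ) :
    pHom F x * dHom F e = dHom F (e ∘ ⇑(x⁻¹)) * pHom F x := by
  refine matO_injective (Matrix.ext_iff_mulVec.2 fun v => ?_)
  rw [matO_mul, matO_mul, matO_pHom, matO_dHom, matO_dHom, ← Matrix.mulVec_mulVec,
    ← Matrix.mulVec_mulVec, pMat_mulVec, pMat_mulVec]
  funext i
  simp [Matrix.mulVec_diagonal]

theorem pHom_dHom_inv (x : Perm (Fin 7)) (e : Fin 7 → ℤˣ) :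
    pHom F x * dHom F e * (pHom F x)⁻¹ = dHom F (e ∘ ⇑(x⁻¹)) := by
  rw [pHom_dHom, mul_inv_cancel_right]

/-- A monomial isometry. -/
def mono (F : Type*) [Field F] (e : Fin 7 → ℤˣ) (x : Perm (Fin 7)) : O7 F := dHom F e * pHom F x

theorem mono_mul (e e' : Fin 7 → ℤˣ) (x x' : Perm (Fin 7)) :
    mono F e x * mono F e' x' = mono F (e * (e' ∘ ⇑(x⁻¹))) (x * x') := by
  rw [mono, mono, mono, map_mul, map_mul, mul_assoc, ← mul_assoc (pHom F x), pHom_dHom]
  simp only [mul_assoc]

theorem mono_inv (e : Fin 7 → ℤˣ) (x : Perm (Fin 7)) :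
    (mono F e x)⁻¹ = mono F (e ∘ x) x⁻¹ := by
  refine inv_eq_of_mul_eq_one_left ?_
  rw [mono_mul, inv_inv, inv_mul_cancel, show e ∘ x * (e ∘ x) = 1 from
    funext fun i => Int.units_mul_self _]
  simp [mono]

theorem matO_mono (e : Fin 7 → ℤˣ) (x : Perm (Fin 7)) (i j : Fin 7) :
    matO (mono F e x) i j = if i = x j then sgnF F (e i) else 0 := by
  rw [mono, matO_mul, matO_dHom, matO_pHom, Matrix.diagonal_mul]
  simp [pMat]

theorem mono_inj (h2 : (2 : F) ≠ 0) {e e' : Fin 7 → ℤˣ} {x x' : Perm (Fin 7)}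
    (h : mono F e x = mono F e' x') : e = e' ∧ x = x' := by
  have hne : ∀ u : ℤˣ, sgnF F u ≠ 0 := fun u hu => by
    simpa [hu] using sgnF_mul_self (F := F) u
  have hm := fun i j => congrArg (fun g => matO g i j) h
  simp only [matO_mono] at hm
  have hx : x = x' := by
    refine Equiv.ext fun j => ?_
    have := hm (x j) j
    rw [if_pos rfl] at this
    by_contra hc
    rw [if_neg hc] at this
    exact hne _ this
  subst hx
  refine ⟨funext fun i => sgnF_injective h2 ?_, rfl⟩
  have := hm i (x⁻¹ i)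
  simpa using this

theorem dHom_pair_mem (i j : Fin 7) :
    dHom F (Pi.mulSingle i (-1) * Pi.mulSingle j (-1)) ∈ commutator (O7 F) := by
  have e : ⁅dHom F (Pi.mulSingle i (-1)), pHom F (swap i j)⁆ =
      dHom F (Pi.mulSingle i (-1) * Pi.mulSingle j (-1)) := by
    rw [commutatorElement_def, mul_assoc (dHom F _) (pHom F _), ← map_inv (dHom F), pHom_dHom,
      ← mul_assoc, ← map_mul, mul_inv_cancel_right]
    congr 1
    funext l
    simp [Pi.mulSingle_apply, swap_apply_def]
    split_ifs <;> simp_all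
  rw [← e]
  exact Subgroup.commutator_mem_commutator (Subgroup.mem_top _) (Subgroup.mem_top _)

theorem pHom_mem {x : Perm (Fin 7)} (h : Perm.sign x = 1) : pHom F x ∈ commutator (O7 F) := by
  have hA : x ∈ alternatingGroup (Fin 7) := Perm.mem_alternatingGroup.2 h
  rw [← Perm.closure_three_cycles_eq_alternating] at hA
  refine (?_ : Subgroup.closure _ ≤ (commutator (O7 F)).comap (pHom F)) hA
  rw [Subgroup.closure_le]
  intro y hy
  rw [SetLike.mem_coe, Subgroup.mem_comap]
  obtain ⟨a, b, hab⟩ := exists_swap_conj y hy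
  rw [hab, map_commutatorElement]
  exact Subgroup.commutator_mem_commutator (Subgroup.mem_top _) (Subgroup.mem_top _)
where
  exists_swap_conj (y : Perm (Fin 7)) (hy : y.IsThreeCycle) :
      ∃ a b : Perm (Fin 7), y = ⁅a, b⁆ := by
    obtain ⟨c, hc⟩ := isConj_iff.1 (Perm.isConj_iff_cycleType_eq.2 (show
      (swap (0 : Fin 7) 1 * swap 0 2 * (swap (0 : Fin 7) 1)⁻¹ * (swap (0 : Fin 7) 2)⁻¹).cycleType =
        y.cycleType by rw [hy.cycleType]; decide +kernel))
    exact ⟨c * swap 0 1 * c⁻¹, c * swap 0 2 * c⁻¹, by rw [← hc, commutatorElement_def]; group⟩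

/-- The Hadamard matrix on the first four coordinates. -/
def hMat (F : Type*) [Field F] : Matrix (Fin 7) (Fin 7) F :=
  !![2⁻¹, 2⁻¹, 2⁻¹, 2⁻¹, 0, 0, 0;
     2⁻¹, -2⁻¹, 2⁻¹, -2⁻¹, 0, 0, 0;
     2⁻¹, 2⁻¹, -2⁻¹, -2⁻¹, 0, 0, 0;
     2⁻¹, -2⁻¹, -2⁻¹, 2⁻¹, 0, 0, 0;
     0, 0, 0, 0, 1, 0, 0;
     0, 0, 0, 0, 0, 1, 0;
     0, 0, 0, 0, 0, 0, 1]

theorem hMat_mul_self (h2 : (2 : F) ≠ 0) : hMat F * hMat F = 1 := by
  ext i j
  fin_cases i <;> fin_cases j <;> simp [hMat, Matrix.mul_apply, Fin.sum_univ_seven] <;>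
    field_simp <;> ring

theorem hMat_sumSq (h2 : (2 : F) ≠ 0) (v : Fin 7 → F) : sumSq F (hMat F *ᵥ v) = sumSq F v := by
  simp [sumSq, hMat, Matrix.mulVec, dotProduct, Fin.sum_univ_seven]
  field_simp
  ring

/-- The Hadamard isometry. -/
def hO (h2 : (2 : F) ≠ 0) : O7 F :=
  mkO (hMat F) (hMat F) (hMat_mul_self h2) (hMat_mul_self h2) (hMat_sumSq h2)

/-- The sign vector whose conjugate is `(01)(23)`. -/
def dSrc : Fin 7 → ℤˣ := Pi.mulSingle 1 (-1) * Pi.mulSingle 3 (-1)

theorem hO_dSrc (h2 : (2 : F) ≠ 0) :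
    hO h2 * dHom F dSrc = pHom F (swap 0 1 * swap 2 3) * hO h2 := by
  refine matO_injective ?_
  rw [matO_mul, matO_mul, matO_dHom, matO_pHom]
  show hMat F * _ = _ * hMat F
  ext i j
  rw [Matrix.mul_diagonal]
  fin_cases i <;> fin_cases j <;>
    simp [hMat, pMat, dSrc, Matrix.mul_apply, Fin.sum_univ_seven, sgnF_one, sgnF_neg_one,
      Pi.mulSingle_apply, swap_apply_def]

/-- The permutation moving the support of `dSrc` to `{4, 5}`. -/
def sigH : Perm (Fin 7) := swap 1 4 * swap 3 5

theorem hO_dShift (h2 : (2 : F) ≠ 0) :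
    hO h2 * dHom F (dSrc ∘ sigH) = dHom F (dSrc ∘ sigH) * hO h2 := by
  refine matO_injective ?_
  rw [matO_mul, matO_mul, matO_dHom]
  show hMat F * _ = _ * hMat F
  ext i j
  rw [Matrix.mul_diagonal, Matrix.diagonal_mul]
  fin_cases i <;> fin_cases j <;>
    simp [hMat, dSrc, sigH, sgnF_one, sgnF_neg_one, Pi.mulSingle_apply, swap_apply_def]

/-- An element of the commutator subgroup turning a diagonal involution into a permutation. -/
theorem exists_fusion (h2 : (2 : F) ≠ 0) : ∃ u ∈ commutator (O7 F),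
    u * dHom F dSrc * u⁻¹ = pHom F (swap 0 1 * swap 2 3) := by
  have hh : hO h2 * hO h2 = 1 := matO_injective (by rw [matO_mul, matO_one]; exact hMat_mul_self h2)
  have hi : (hO h2)⁻¹ = hO h2 := inv_eq_of_mul_eq_one_left hh
  refine ⟨⁅hO h2, pHom F sigH⁆,
    Subgroup.commutator_mem_commutator (Subgroup.mem_top _) (Subgroup.mem_top _), ?_⟩
  have e1 : (pHom F sigH)⁻¹ * dHom F dSrc * pHom F sigH = dHom F (dSrc ∘ sigH) := by
    have := pHom_dHom_inv (F := F) sigH⁻¹ dSrc
    rwa [map_inv, inv_inv, inv_inv] at this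
  have e2 : pHom F sigH * dHom F (dSrc ∘ sigH) * (pHom F sigH)⁻¹ = dHom F dSrc := by
    rw [← e1]; group
  calc ⁅hO h2, pHom F sigH⁆ * dHom F dSrc * ⁅hO h2, pHom F sigH⁆⁻¹
      = hO h2 * (pHom F sigH * ((hO h2)⁻¹ * ((pHom F sigH)⁻¹ * dHom F dSrc * pHom F sigH) * hO h2) *
          (pHom F sigH)⁻¹) * (hO h2)⁻¹ := by rw [commutatorElement_def]; group
    _ = hO h2 * (pHom F sigH * dHom F (dSrc ∘ sigH) * (pHom F sigH)⁻¹) * (hO h2)⁻¹ := by
      rw [e1, hi, mul_assoc (hO h2) (dHom F _), ← hO_dShift, ← mul_assoc (hO h2) (hO h2), hh, one_mul]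
    _ = pHom F (swap 0 1 * swap 2 3) := by rw [e2, hO_dSrc, mul_inv_cancel_right]

/-- Elements normalising the even diagonal group are monomial. -/
theorem exists_mono_of_normalizes (h2 : (2 : F) ≠ 0) (g : O7 F)
    (h : ∀ e : Fin 7 → ℤˣ, ∏ i, e i = 1 → ∃ e', g * dHom F e * g⁻¹ = dHom F e') :
    ∃ e x, g = mono F e x := by
  classical
  have hrow : ∀ i j k, j ≠ k → matO g i j = 0 ∨ matO g i k = 0 := by
    intro i j k hjk
    obtain ⟨l, hlj, hlk⟩ : ∃ l, l ≠ j ∧ l ≠ k := by
      revert hjk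
      revert j k
      decide +kernel
    obtain ⟨e', he'⟩ := h (Pi.mulSingle j (-1) * Pi.mulSingle l (-1)) (by
      simp only [Pi.mul_apply, Finset.prod_mul_distrib, Finset.prod_pi_mulSingle']
      simp)
    have hm := congrArg matO (mul_inv_eq_iff_eq_mul.1 he')
    rw [matO_mul, matO_mul, matO_dHom, matO_dHom] at hm
    have hj := congrFun (congrFun hm i) j
    have hk := congrFun (congrFun hm i) k
    rw [Matrix.mul_diagonal, Matrix.diagonal_mul] at hj hk
    simp [hlj.symm, hjk.symm, hlk.symm, sgnF_one, sgnF_neg_one] at hj hk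
    by_contra hne
    push Not at hne
    have h1 : sgnF F (e' i) = 1 := mul_right_cancel₀ hne.2 (by linear_combination -hk)
    rw [h1] at hj
    exact hne.1 ((mul_eq_zero.1 (show (2 : F) * matO g i j = 0 by linear_combination -hj)).resolve_left h2)
  have hex : ∀ i, ∃ j, matO g i j ≠ 0 := by
    intro i
    by_contra hc
    push Not at hc
    have := congrFun (congrFun (show matO g * matO g⁻¹ = 1 by rw [← matO_mul, mul_inv_cancel, matO_one]) i) i
    simp [Matrix.mul_apply, hc] at this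
  choose y hy using hex
  have hy' : ∀ i j, j ≠ y i → matO g i j = 0 := fun i j hj =>
    (hrow i j (y i) hj).resolve_right (hy i)
  have hyi : Function.Injective y := by
    intro i k hik
    by_contra hne
    -- two rows supported on the same column are dependent
    have e1 := congrFun (congrFun (show matO g * matO g⁻¹ = 1 by rw [← matO_mul, mul_inv_cancel, matO_one]) i) k
    have e2 := congrFun (congrFun (show matO g * matO g⁻¹ = 1 by rw [← matO_mul, mul_inv_cancel, matO_one]) k) k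
    rw [Matrix.mul_apply, Finset.sum_eq_single (y i) (fun j _ hj => by rw [hy' i j hj, zero_mul])
      (fun h => absurd (Finset.mem_univ _) h), Matrix.one_apply_ne hne] at e1
    rw [Matrix.mul_apply, Finset.sum_eq_single (y k) (fun j _ hj => by rw [hy' k j hj, zero_mul])
      (fun h => absurd (Finset.mem_univ _) h), Matrix.one_apply_eq, ← hik] at e2
    rcases mul_eq_zero.1 e1 with h | h
    · exact hy i h
    · rw [h, mul_zero] at e2; exact zero_ne_one e2
  let p : Perm (Fin 7) := Equiv.ofBijective y ⟨hyi, Finite.injective_iff_surjective.1 hyi⟩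
  have hsq : ∀ i, matO g i (p i) = 1 ∨ matO g i (p i) = -1 := by
    intro i
    have hiso : sumSq F (matO g *ᵥ Pi.single (p i) 1) = sumSq F (Pi.single (p i) 1) :=
      g.2 (Pi.single (p i) 1) (Pi.single (p i) 1)
    simp only [sumSq, Matrix.mulVec_single_one, Matrix.col_apply] at hiso
    rw [Finset.sum_eq_single i (fun k _ hk => by
        rw [hy' k (p i) (fun h => hk (hyi h).symm)]; simp) (fun h => absurd (Finset.mem_univ _) h),
      Finset.sum_eq_single (p i) (fun k _ hk => by simp [hk]) (fun h => absurd (Finset.mem_univ _) h),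
      Pi.single_eq_same, one_pow, sq_eq_one_iff] at hiso
    exact hiso
  refine ⟨fun i => if matO g i (p i) = 1 then 1 else -1, p⁻¹, matO_injective ?_⟩
  ext i j
  rw [matO_mono]
  by_cases hj : j = p i
  · subst hj
    simp only [Perm.inv_def, Equiv.symm_apply_apply, if_true]
    rcases hsq i with h1 | h1
    · rw [if_pos h1, sgnF_one, h1]
    · rw [if_neg (by rw [h1]; intro h0; exact h2 (by linear_combination -h0)), sgnF_neg_one, h1]
  · rw [hy' i j hj, if_neg]
    rintro rfl
    exact hj (by simp [Perm.inv_def])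

end CfsgLib.Involutions.OmegaSeven
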