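import Mathlib

/-!
# Groups of order twelve without central involution
-/

set_option autoImplicit false
set_option linter.style.haveILetI false

namespace CfsgLib.Involutions

open Subgroup

theorem nonempty_alternatingGroup_four_of_card_twelve {G : Type*} [Group G] [Finite G]
    (hG : Nat.card G = 12) (hz : ∀ z : G, orderOf z = 2 → z ∉ center G) :
    Nonempty (G ≃* alternatingGroup (Fin 4)) := by
  haveI : Fact (Nat.Prime 3) := ⟨by norm_num⟩
  haveI : Fact (Nat.Prime 2) := ⟨by norm_num⟩
  have hP : ∀ P : Sylow 3 G, Nat.card P = 3 := fun P => by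
    rw [P.card_eq_multiplicity, hG]
    have : Nat.factorization 12 3 = 1 := by
      rw [show (12 : ℕ) = 2 ^ 2 * 3 by norm_num, Nat.factorization_mul (by norm_num) (by norm_num),
        Nat.prime_two.factorization_pow, Nat.prime_three.factorization]
      simp [Finsupp.single_apply]
    rw [this, pow_one]
  obtain ⟨P⟩ : Nonempty (Sylow 3 G) := inferInstance
  have hidx : (P : Subgroup G).index = 4 := by
    have := (P : Subgroup G).card_mul_index
    rw [hP, hG] at this; omega
  have hn : Nat.card (Sylow 3 G) = 4 := by
    have hd : Nat.card (Sylow 3 G) ∣ 4 := hidx ▸ P.card_dvd_index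
    have hm : Nat.card (Sylow 3 G) ≡ 1 [MOD 3] := card_sylow_modEq_one 3 G
    have := Nat.le_of_dvd (by norm_num) hd
    by_contra h4
    have h : Nat.card (Sylow 3 G) = 1 := by
      revert hd hm h4 this
      generalize Nat.card (Sylow 3 G) = k
      intro hd hm h4 hk
      interval_cases k <;> simp_all [Nat.ModEq]
    -- `P` is normal
    haveI : Subsingleton (Sylow 3 G) := (Nat.card_eq_one_iff_unique.1 h).1
    haveI : (P : Subgroup G).Normal := Sylow.normal_of_subsingleton P
    set C := centralizer ((P : Subgroup G) : Set G) with hC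
    have hCe : 2 ∣ Nat.card C := by
      have h1 : C.index ∣ 2 := by
        have hle : C.index = Nat.card (MulAut.conjNormal (H := (P : Subgroup G))).range := by
          rw [← Subgroup.index_ker]
          congr 1
          ext g
          simp only [hC, mem_centralizer_iff, MonoidHom.mem_ker]
          constructor
          · intro h
            ext a
            simp [MulAut.conjNormal_apply, ← h a a.2]
          · intro h a ha
            have := congrArg (fun f : MulAut (P : Subgroup G) => ((f ⟨a, ha⟩ : (P : Subgroup G)) : G)) h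
            simp [MulAut.conjNormal_apply] at this
            calc a * g = (g * a * g⁻¹) * g := by rw [this]
              _ = g * a := by group
        rw [hle]
        refine (Subgroup.card_subgroup_dvd_card _).trans ?_
        haveI : IsCyclic (P : Subgroup G) := isCyclic_of_prime_card (hP P)
        rw [IsCyclic.card_mulAut, hP]
        rfl
      have h2 := C.card_mul_index
      rw [hG] at h2
      rcases (Nat.dvd_prime Nat.prime_two).1 h1 with h | h <;> rw [h] at h2 <;> omega
    obtain ⟨⟨t, htC⟩, ht⟩ := exists_prime_orderOf_dvd_card' 2 hCe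
    rw [Subgroup.orderOf_mk] at ht
    obtain ⟨Q₁, hQ₁⟩ := (IsPGroup.of_card (n := 1) (G := zpowers t) (by
          rw [Nat.card_zpowers, ht, pow_one])).exists_le_sylow
    refine hz t ht (mem_center_iff.2 fun g => ?_)
    have hQcard : Nat.card Q₁ = 4 := by
      rw [Q₁.card_eq_multiplicity, hG]
      have : Nat.factorization 12 2 = 2 := by
        rw [show (12 : ℕ) = 2 ^ 2 * 3 by norm_num, Nat.factorization_mul (by norm_num) (by norm_num),
          Nat.prime_two.factorization_pow, Nat.prime_three.factorization]
        simp [Finsupp.single_apply]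
      rw [this]; norm_num
    haveI : IsMulCommutative (Q₁ : Subgroup G) :=
      IsPGroup.isMulCommutative_of_card_eq_prime_sq (p := 2) (by rw [hQcard]; norm_num)
    have hmem : g ∈ (Q₁ : Subgroup G) ⊔ (P : Subgroup G) := by
      have : (Q₁ : Subgroup G) ⊔ (P : Subgroup G) = ⊤ := by
        refine eq_top_of_card_eq _ ?_
        rw [hG]
        refine Nat.dvd_antisymm (hG ▸ card_subgroup_dvd_card _) ?_
        rw [show (12 : ℕ) = 4 * 3 by norm_num]
        exact Nat.Coprime.mul_dvd_of_dvd_of_dvd (by norm_num)
          (hQcard.symm.dvd.trans (card_dvd_of_le le_sup_left)) ((hP P).symm.dvd.trans (card_dvd_of_le le_sup_right))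
      rw [this]; exact mem_top g
    have hle : (Q₁ : Subgroup G) ⊔ (P : Subgroup G) ≤ centralizer ({t} : Set G) := by
      refine sup_le (fun q hq => mem_centralizer_singleton_iff.2 ?_)
        (fun q hq => mem_centralizer_singleton_iff.2 ?_)
      · exact congrArg Subtype.val (IsMulCommutative.is_comm.comm
          (⟨q, hq⟩ : (Q₁ : Subgroup G)) ⟨t, hQ₁ (mem_zpowers t)⟩)
      · exact mem_centralizer_iff.1 htC q hq
    exact mem_centralizer_singleton_iff.1 (hle hmem)
  haveI : Finite (Sylow 3 G) := inferInstance
  let e : Sylow 3 G ≃ Fin 4 := (Finite.equivFin _).trans (finCongr hn)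
  let φ : G →* Equiv.Perm (Fin 4) :=
    (e.permCongrHom.toMonoidHom).comp (MulAction.toPermHom G (Sylow 3 G))
  have hinj : Function.Injective φ := by
    refine (e.permCongrHom.injective.comp ?_)
    rw [← MonoidHom.ker_eq_bot_iff]
    have hnorm : ∀ P : Sylow 3 G, normalizer ((P : Subgroup G) : Set G) = P := fun P => by
      refine (eq_of_le_of_card_ge le_normalizer ?_).symm
      have h1 := (normalizer ((P : Subgroup G) : Set G)).card_mul_index
      erw [← Sylow.card_eq_index_normalizer P] at h1
      rw [hn, hG] at h1
      have h2 : Nat.card (P : Subgroup G) = 3 := hP P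
      change Nat.card (normalizer ((P : Subgroup G) : Set G)) ≤ Nat.card (P : Subgroup G)
      omega
    obtain ⟨P', hP'⟩ : ∃ P' : Sylow 3 G, P' ≠ P := by
      by_contra h
      push Not at h
      haveI : Subsingleton (Sylow 3 G) := ⟨fun a b => (h a).trans (h b).symm⟩
      rw [Nat.card_of_subsingleton P] at hn
      omega
    rw [eq_bot_iff]
    intro g hg
    rw [MonoidHom.mem_ker] at hg
    have hfix : ∀ Q : Sylow 3 G, g ∈ (Q : Subgroup G) := fun Q => by
      exact (hnorm Q).le (Sylow.smul_eq_iff_mem_normalizer.1 (DFunLike.congr_fun hg Q))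
    by_contra hg1
    apply hP'
    have hP3 : ∀ Q : Sylow 3 G, (Q : Subgroup G) = zpowers g := fun Q => by
      refine (eq_of_le_of_card_ge (zpowers_le.2 (hfix Q)) ?_).symm
      have h3 : orderOf g ∣ 3 := hP Q ▸ Subgroup.orderOf_dvd_natCard _ (hfix Q)
      rcases (Nat.dvd_prime Nat.prime_three).1 h3 with h | h
      · exact absurd (orderOf_eq_one_iff.1 h) hg1
      · rw [Nat.card_zpowers, h]; exact (hP Q).le
    exact Sylow.ext ((hP3 P').trans (hP3 P).symm)
  have hrange : φ.range = alternatingGroup (Fin 4) := by
    refine Equiv.Perm.eq_alternatingGroup_of_index_eq_two ?_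
    have h := φ.range.card_mul_index
    rw [← Nat.card_congr (MonoidHom.ofInjective hinj).toEquiv, hG, Nat.card_perm,
      Nat.card_fin] at h
    norm_num [Nat.factorial] at h
    omega
  exact ⟨(MonoidHom.ofInjective hinj).trans (MulEquiv.subgroupCongr hrange)⟩

end CfsgLib.Involutions
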