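import Mathlib
import Cfsg.Agent.Lib.Involutions.SLTwoSylow

/-!
The graph on involutions of `PSL₂` given by products of odd order.
-/

set_option autoImplicit false
set_option linter.unusedSectionVars false

namespace CfsgLib.Involutions.PSLTwoOddGraph

open Matrix CfsgLib.GLTwo CfsgLib.KnownB.SL2Sizes CfsgLib.KnownB.SL2Products CfsgLib.Involutions.SLTwoTori

theorem diam_two {V : Type*} (Γ : SimpleGraph V)
    (h : ∀ u v, u ≠ v → ¬ Γ.Adj u v → ∃ w, Γ.Adj u w ∧ Γ.Adj w v) {u₀ v₀ : V} (hne : u₀ ≠ v₀)
    (hna : ¬ Γ.Adj u₀ v₀) : Γ.Connected ∧ Γ.diam = 2 := by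
  have hle : ∀ u v, Γ.edist u v ≤ 2 := by
    intro u v
    by_cases huv : u = v
    · subst huv; simp
    by_cases ha : Γ.Adj u v
    · exact (SimpleGraph.edist_le_one_iff_adj_or_eq.2 (Or.inl ha)).trans (by norm_num)
    obtain ⟨w, h1, h2⟩ := h u v huv ha
    exact SimpleGraph.edist_le (SimpleGraph.Walk.cons h1 (SimpleGraph.Walk.cons h2 SimpleGraph.Walk.nil))
  refine ⟨(SimpleGraph.connected_iff_exists_forall_reachable _).2 ⟨u₀, fun w => ?_⟩, ?_⟩
  · exact SimpleGraph.reachable_of_edist_ne_top (ne_top_of_le_ne_top (by norm_num) (hle u₀ w))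
  have h2 : ¬ Γ.edist u₀ v₀ ≤ 1 := fun h1 => by
    rcases SimpleGraph.edist_le_one_iff_adj_or_eq.1 h1 with h | h
    · exact hna h
    · exact hne h
  have hge : (2 : ℕ∞) ≤ Γ.edist u₀ v₀ := Order.add_one_le_of_lt (not_le.1 h2)
  have : Γ.ediam = 2 := le_antisymm (SimpleGraph.ediam_le_iff.2 hle) (hge.trans SimpleGraph.edist_le_ediam)
  rw [SimpleGraph.diam, this]
  rfl

variable {F : Type*} [Field F] [Fintype F]

local notation "SL2" => Matrix.SpecialLinearGroup (Fin 2) F
local notation "PSL2" => Matrix.ProjectiveSpecialLinearGroup (Fin 2) F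
local notation "M2" => Matrix (Fin 2) (Fin 2) F

theorem four_sq (hodd : Odd (Fintype.card F)) (x : F) : IsSquare (4 * x) ↔ IsSquare x := by
  have h2 := two_ne_zero_of_odd hodd
  constructor
  · rintro ⟨r, hr⟩
    exact ⟨r / 2, by field_simp; linear_combination hr⟩
  · rintro ⟨r, rfl⟩
    exact ⟨2 * r, by ring⟩

theorem odd_orderOf_pr (hodd : Odd (Fintype.card F)) {g : SL2}
    (h : (g : M2).trace ^ 2 = 4 ∨ ¬ IsSquare (4 - (g : M2).trace ^ 2)) : Odd (orderOf (pr g)) := by
  classical
  have h2 := two_ne_zero_of_odd hodd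
  set t := (g : M2).trace with ht
  by_cases h4 : t ^ 2 = 4
  · set p := ringChar F
    haveI : CharP F p := ringChar.charP F
    haveI hp : Fact p.Prime := ⟨CharP.char_is_prime F p⟩
    have hp2 : p ≠ 2 := ringChar_ne_two hodd
    have hN : ((g : M2) - (t / 2) • (1 : M2)) ^ p = 0 := by
      have h0 : ((g : M2) - (t / 2) • (1 : M2)) ^ 2 = 0 := by
        rw [pow_two, sub_mul, mul_sub, mul_sub, sq_eq, g.2, ← ht]
        simp only [smul_mul_assoc, mul_smul_comm, one_mul, mul_one, smul_smul, smul_sub, one_smul]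
        rw [show t / 2 * (t / 2) = 1 by field_simp; linear_combination h4, one_smul]
        match_scalars <;> field_simp <;> ring
      obtain ⟨k, hk⟩ := Nat.exists_eq_add_of_le hp.out.two_le
      rw [hk, pow_add, h0, zero_mul]
    rw [sub_pow_char_of_commute p ((Commute.one_right _).smul_right _), sub_eq_zero, smul_pow, one_pow] at hN
    have hpow : pr (g ^ p) = 1 := by
      rw [pr_eq_one_iff, Matrix.SpecialLinearGroup.coe_pow, hN]
      exact isScalar2_smul_one _
    rw [map_pow] at hpow
    exact Odd.of_dvd_nat (hp.out.odd_of_ne_two hp2) (orderOf_dvd_of_pow_eq_one hpow)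
  · have hns : ¬ IsSquare (4 - t ^ 2) := h.resolve_left h4
    have hg := not_scalar_of_trace_sq h4
    have hk := card_centralizer hg hodd
    rw [if_neg h4] at hk
    have hodd' := Nat.odd_iff.1 hodd
    have hhalf : ∃ k, Nat.card (Subgroup.centralizer ({g} : Set SL2)) = 2 * k ∧ Odd k := by
      split_ifs at hk with hs
      · have hm1 : ¬ IsSquare (-1 : F) := fun ⟨i, hi⟩ => by
          obtain ⟨z, hz⟩ := hs
          exact hns ⟨i * (2 * z - t), by linear_combination 4 * hz + (2 * z - t) ^ 2 * hi⟩
        rw [FiniteField.isSquare_neg_one_iff] at hm1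
        push Not at hm1
        refine ⟨(Fintype.card F - 1) / 2, by rw [hk]; omega, Nat.odd_iff.2 (by omega)⟩
      · have hdsq : ¬ IsSquare (t ^ 2 - 4) := fun ⟨r, hr⟩ =>
          hs ⟨(t + r) / 2, by field_simp; linear_combination -hr⟩
        have hm1 : IsSquare (-1 : F) := by
          have hne : t ^ 2 - 4 ≠ 0 := sub_ne_zero.2 h4
          rw [← quadraticChar_one_iff_isSquare (neg_ne_zero.2 one_ne_zero)]
          have e1 := quadraticChar_neg_one_iff_not_isSquare.2 hns
          have e2 := quadraticChar_neg_one_iff_not_isSquare.2 hdsq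
          rw [show 4 - t ^ 2 = (-1) * (t ^ 2 - 4) by ring, map_mul, e2] at e1
          linarith [e1]
        rw [FiniteField.isSquare_neg_one_iff] at hm1
        refine ⟨(Fintype.card F + 1) / 2, by rw [hk]; omega, Nat.odd_iff.2 (by omega)⟩
    obtain ⟨k, hk', hkodd⟩ := hhalf
    have h1 : (g ^ k) * (g ^ k) = 1 := by
      rw [← pow_add, ← two_mul, ← hk']
      have : ((⟨g, Subgroup.mem_centralizer_singleton_iff.2 rfl⟩ : Subgroup.centralizer ({g} : Set SL2)) ^
        Nat.card (Subgroup.centralizer ({g} : Set SL2))) = 1 := pow_card_eq_one'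
      have h' := congrArg Subtype.val this
      rw [Subgroup.coe_pow] at h'
      exact h'
    have hpow : pr (g ^ k) = 1 := pr_eq_one_iff.2 (scalar_of_sq_eq_one hodd h1)
    rw [map_pow] at hpow
    exact Odd.of_dvd_nat hkodd (orderOf_dvd_of_pow_eq_one hpow)

theorem circle_card [DecidableEq F] (hodd : Odd (Fintype.card F)) (hneg : ¬ IsSquare (-1 : F)) {N : F} (hN : N ≠ 0) :
    (Finset.univ.filter fun x : F × F => x.1 ^ 2 + x.2 ^ 2 = N).card = Fintype.card F + 1 := by
  classical
  obtain ⟨x₀, y₀, h0⟩ := FiniteField.exists_root_sum_quadratic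
    (f := (Polynomial.X ^ 2 : Polynomial F)) (g := Polynomial.X ^ 2 - Polynomial.C N)
    (by simp) (by
      rw [Polynomial.degree_X_pow_sub_C (by norm_num)]; norm_num) (Nat.odd_iff.1 hodd)
  simp at h0
  have hns : ¬ Split (0 : F) := fun ⟨z, hz⟩ => hneg ⟨z, by linear_combination -hz⟩
  rw [← Fintype.card_subtype, ← Nat.card_eq_fintype_card, ← Nat.card_eq_fintype_card (α := F), ← card_nonsplit hns]
  exact Nat.card_congr
    { toFun := fun p => ⟨((x₀ * p.1.1 + y₀ * p.1.2) / N, (x₀ * p.1.2 - y₀ * p.1.1) / N), by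
        have h := p.2
        field_simp
        linear_combination (p.1.1 ^ 2 + p.1.2 ^ 2) * h0 + N * h⟩
      invFun := fun p => ⟨(x₀ * p.1.1 - y₀ * p.1.2, x₀ * p.1.2 + y₀ * p.1.1), by
        have h := p.2
        linear_combination (p.1.1 ^ 2 + p.1.2 ^ 2) * h0 + N * h⟩
      left_inv := fun p => Subtype.ext (Prod.ext (by
        dsimp only; field_simp; linear_combination p.1.1 * h0) (by
        dsimp only; field_simp; linear_combination p.1.2 * h0))
      right_inv := fun p => Subtype.ext (Prod.ext (by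
        dsimp only; field_simp; linear_combination p.1.1 * h0) (by
        dsimp only; field_simp; linear_combination p.1.2 * h0)) }

/-- When `-1` is not a square: two coordinates both in the wanted class. -/
theorem exists_common (hodd : Odd (Fintype.card F)) (hneg : ¬ IsSquare (-1 : F)) (h4 : 4 ≤ Fintype.card F)
    {c s : F} (hcs : c ^ 2 + s ^ 2 = 1) (hs : s ≠ 0) :
    ∃ a b d : F, a ^ 2 + b ^ 2 + d ^ 2 = 1 ∧ ¬ IsSquare (1 - a ^ 2) ∧ ¬ IsSquare (1 - (c * a + s * b) ^ 2) := by
  classical
  by_contra! hno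
  have h2 := two_ne_zero_of_odd hodd
  set q := Fintype.card F with hq
  have hq7 : 7 ≤ q := by
    have h1 := FiniteField.isSquare_neg_one_iff (F := F)
    have hh : q % 4 = 3 := by by_contra h; exact hneg (h1.2 h)
    omega
  let S : Finset (F × F × F) := Finset.univ.filter fun p => p.1 ^ 2 + p.2.1 ^ 2 + p.2.2 ^ 2 = 1
  let W : Finset (F × F × F) := S.filter fun p => IsSquare (1 - p.1 ^ 2)
  let W' : Finset (F × F × F) := S.filter fun p => IsSquare (1 - (c * p.1 + s * p.2.1) ^ 2)
  let K : Finset F := Finset.univ.filter fun a => IsSquare (1 - a ^ 2) ∧ a ^ 2 ≠ 1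
  -- fibres over the first coordinate
  have hfib : ∀ a : F, (S.filter fun p => p.1 = a).card = if a ^ 2 = 1 then 1 else q + 1 := by
    intro a
    have e : (S.filter fun p => p.1 = a).card =
        (Finset.univ.filter fun x : F × F => x.1 ^ 2 + x.2 ^ 2 = 1 - a ^ 2).card := by
      refine Finset.card_bij (fun p _ => p.2) ?_ ?_ ?_
      · intro p hp
        simp only [S, Finset.mem_filter, Finset.mem_univ, true_and] at hp ⊢
        obtain ⟨h, rfl⟩ := hp
        linear_combination h
      · intro p hp p' hp' he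
        simp only [S, Finset.mem_filter] at hp hp'
        exact Prod.ext (hp.2.trans hp'.2.symm) he
      · intro x hx
        simp only [Finset.mem_filter, Finset.mem_univ, true_and] at hx
        refine ⟨(a, x), ?_, rfl⟩
        simp only [S, Finset.mem_filter, Finset.mem_univ, true_and]
        exact ⟨by linear_combination hx, trivial⟩
    rw [e]
    split_ifs with ha
    · rw [ha, sub_self]
      rw [show (Finset.univ.filter fun x : F × F => x.1 ^ 2 + x.2 ^ 2 = 0) = {(0, 0)} from ?_, Finset.card_singleton]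
      ext ⟨x, y⟩
      simp only [Finset.mem_filter, Finset.mem_univ, true_and, Finset.mem_singleton, Prod.mk.injEq]
      refine ⟨fun h => ?_, fun h => by rw [h.1, h.2]; ring⟩
      have hy : y = 0 := by
        by_contra hy
        exact hneg ⟨x / y, by field_simp; linear_combination -h⟩
      subst hy
      exact ⟨(pow_eq_zero_iff two_ne_zero).1 (by linear_combination h), rfl⟩
    · exact circle_card hodd hneg (sub_ne_zero.2 (Ne.symm ha))
  have hpm : (Finset.univ.filter fun a : F => a ^ 2 = 1) = {1, -1} := by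
    ext a; simp [_root_.sq_eq_one_iff]
  have hpm2 : (Finset.univ.filter fun a : F => a ^ 2 = 1).card = 2 := by
    rw [hpm, Finset.card_pair]
    exact fun h => h2 (by linear_combination h)
  have hS : S.card + q + 1 + q = q * q + q + 1 := by
    rw [Finset.card_eq_sum_card_fiberwise (f := Prod.fst) (t := Finset.univ) (fun _ _ => Finset.mem_univ _)]
    simp only [hfib]
    rw [Finset.sum_ite]
    simp only [Finset.sum_const, smul_eq_mul, mul_one]
    have := Finset.card_filter_add_card_filter_not (s := (Finset.univ : Finset F)) (fun a : F => a ^ 2 = 1)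
    rw [hpm2, Finset.card_univ, ← hq] at this
    rw [hpm2, show (Finset.univ.filter fun a : F => ¬ a ^ 2 = 1).card = q - 2 by omega]
    obtain ⟨k, hk⟩ : ∃ k, q = k + 2 := ⟨q - 2, by omega⟩
    rw [hk, Nat.add_sub_cancel]
    ring
  have hW : W.card = 2 + K.card * (q + 1) := by
    rw [Finset.card_eq_sum_card_fiberwise (f := Prod.fst) (t := Finset.univ.filter fun a => IsSquare (1 - a ^ 2))
      (fun p hp => Finset.mem_filter.2 ⟨Finset.mem_univ _, (Finset.mem_filter.1 hp).2⟩)]
    have : ∀ a ∈ Finset.univ.filter (fun a : F => IsSquare (1 - a ^ 2)),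
        (W.filter fun p => p.1 = a).card = if a ^ 2 = 1 then 1 else q + 1 := fun a ha => by
      rw [← hfib a]
      congr 1
      ext p
      simp only [W, Finset.mem_filter]
      exact ⟨fun h => ⟨h.1.1, h.2⟩, fun h => ⟨⟨h.1, h.2 ▸ (Finset.mem_filter.1 ha).2⟩, h.2⟩⟩
    rw [Finset.sum_congr rfl this, Finset.sum_ite, Finset.filter_filter, Finset.filter_filter]
    simp only [Finset.sum_const, smul_eq_mul, mul_one]
    rw [show (Finset.univ.filter fun a : F => IsSquare (1 - a ^ 2) ∧ a ^ 2 = 1) = Finset.univ.filter fun a : F => a ^ 2 = 1 from by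
      ext a; simp only [Finset.mem_filter, Finset.mem_univ, true_and]
      exact ⟨fun h => h.2, fun h => ⟨by rw [h, sub_self]; exact IsSquare.zero, h⟩⟩, hpm2]
  have hK : 2 * K.card + 2 = q + 1 := by
    have hc := circle_card hodd hneg (one_ne_zero (α := F))
    rw [Finset.card_eq_sum_card_fiberwise (f := Prod.fst) (t := Finset.univ) (fun _ _ => Finset.mem_univ _)] at hc
    have hterm : ∀ a : F, ((Finset.univ.filter fun x : F × F => x.1 ^ 2 + x.2 ^ 2 = 1).filter fun x => x.1 = a).card =
        (if a ∈ K then 2 else 0) + if a ^ 2 = 1 then 1 else 0 := by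
      intro a
      have e : ((Finset.univ.filter fun x : F × F => x.1 ^ 2 + x.2 ^ 2 = 1).filter fun x => x.1 = a).card =
          (Finset.univ.filter fun r : F => r ^ 2 = 1 - a ^ 2).card := by
        refine Finset.card_bij (fun x _ => x.2) ?_ ?_ ?_
        · intro x hx
          simp only [Finset.mem_filter, Finset.mem_univ, true_and] at hx ⊢
          obtain ⟨h, rfl⟩ := hx
          linear_combination h
        · intro x hx x' hx' he
          simp only [Finset.mem_filter] at hx hx'
          exact Prod.ext (hx.2.trans hx'.2.symm) he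
        · intro r hr
          simp only [Finset.mem_filter, Finset.mem_univ, true_and] at hr
          exact ⟨(a, r), by simp only [Finset.mem_filter, Finset.mem_univ, true_and]; exact ⟨by linear_combination hr, trivial⟩, rfl⟩
      rw [e]
      simp only [K, Finset.mem_filter, Finset.mem_univ, true_and]
      by_cases ha : a ^ 2 = 1
      · rw [if_neg (fun h => h.2 ha), if_pos ha, ha, sub_self]
        rw [show (Finset.univ.filter fun r : F => r ^ 2 = 0) = {0} by ext r; simp]
        rfl
      · rw [if_neg ha, add_zero]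
        by_cases hsq : IsSquare (1 - a ^ 2)
        · rw [if_pos ⟨hsq, ha⟩]
          obtain ⟨r, hr⟩ := hsq
          rw [hr, show (Finset.univ.filter fun x : F => x ^ 2 = r * r) = {r, -r} by
            ext x; simp [← pow_two, sq_eq_sq_iff_eq_or_eq_neg], Finset.card_pair]
          intro h
          have hr0 : r = 0 := mul_left_cancel₀ h2 (by linear_combination h)
          rw [hr0, mul_zero, sub_eq_zero] at hr
          exact ha hr.symm
        · rw [if_neg (fun h => hsq h.1)]
          rw [Finset.card_eq_zero, Finset.filter_eq_empty_iff]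
          intro r _ hr
          exact hsq ⟨r, by rw [← hr, pow_two]⟩
    rw [Finset.sum_congr rfl (fun a _ => hterm a), Finset.sum_add_distrib, Finset.sum_boole, hpm2,
      Finset.sum_ite_mem, Finset.univ_inter, Finset.sum_const, smul_eq_mul] at hc
    simp at hc
    omega
  have hWW' : W'.card = W.card := by
    refine Finset.card_bij (fun p _ => (c * p.1 + s * p.2.1, s * p.1 - c * p.2.1, p.2.2)) ?_ ?_ ?_
    · intro p hp
      simp only [W, W', S, Finset.mem_filter, Finset.mem_univ, true_and] at hp ⊢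
      exact ⟨by linear_combination hp.1 + (p.1 ^ 2 + p.2.1 ^ 2) * hcs, hp.2⟩
    · intro p _ p' _ he
      simp only [Prod.mk.injEq] at he
      obtain ⟨e1, e2, e3⟩ := he
      refine Prod.ext ?_ (Prod.ext ?_ e3)
      · linear_combination c * e1 + s * e2 - (p.1 - p'.1) * hcs
      · linear_combination s * e1 - c * e2 - (p.2.1 - p'.2.1) * hcs
    · intro p hp
      refine ⟨(c * p.1 + s * p.2.1, s * p.1 - c * p.2.1, p.2.2), ?_, ?_⟩
      · simp only [W, W', S, Finset.mem_filter, Finset.mem_univ, true_and] at hp ⊢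
        refine ⟨by linear_combination hp.1 + (p.1 ^ 2 + p.2.1 ^ 2) * hcs, ?_⟩
        have : c * (c * p.1 + s * p.2.1) + s * (s * p.1 - c * p.2.1) = p.1 := by linear_combination p.1 * hcs
        rw [this]; exact hp.2
      · simp only [Prod.mk.injEq]
        exact Prod.ext (by linear_combination p.1 * hcs) (Prod.ext (by linear_combination p.2.1 * hcs) rfl)
  have hunion : W ∪ W' = S := by
    refine Finset.Subset.antisymm (Finset.union_subset (Finset.filter_subset _ _) (Finset.filter_subset _ _)) ?_
    intro p hp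
    rw [Finset.mem_union]
    by_cases h1 : IsSquare (1 - p.1 ^ 2)
    · exact Or.inl (Finset.mem_filter.2 ⟨hp, h1⟩)
    · exact Or.inr (Finset.mem_filter.2 ⟨hp, hno p.1 p.2.1 p.2.2 (Finset.mem_filter.1 hp).2 h1⟩)
  -- one extra common point
  set k := (1 - c) / s with hk
  have hk0 : k ≠ 0 := by
    rw [hk]
    refine div_ne_zero (fun h => hs ?_) hs
    have hc : c = 1 := (sub_eq_zero.1 h).symm
    rw [hc, one_pow, add_eq_left] at hcs
    exact (pow_eq_zero_iff two_ne_zero).1 hcs
  set m := 1 + k ^ 2 with hm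
  have hm0 : m ≠ 0 := fun h => hneg ⟨k, by linear_combination -h⟩
  obtain ⟨l, hl0, hlm⟩ : ∃ l : F, l ≠ 0 ∧ (l ^ 2) ^ 2 ≠ m ^ 2 := by
    by_contra! hall
    have hsub : (Finset.univ : Finset F).image (fun x => x) ⊆
        ((Polynomial.X * (Polynomial.X ^ 4 - Polynomial.C (m ^ 2))) : Polynomial F).roots.toFinset := by
      intro x _
      have hne : (Polynomial.X * (Polynomial.X ^ 4 - Polynomial.C (m ^ 2)) : Polynomial F) ≠ 0 :=
        mul_ne_zero Polynomial.X_ne_zero (Polynomial.X_pow_sub_C_ne_zero (by norm_num) _)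
      rw [Multiset.mem_toFinset, Polynomial.mem_roots hne]
      simp only [Polynomial.IsRoot, Polynomial.eval_mul, Polynomial.eval_X, Polynomial.eval_sub, Polynomial.eval_pow,
        Polynomial.eval_C, mul_eq_zero, sub_eq_zero]
      by_cases hx : x = 0
      · exact Or.inl hx
      · exact Or.inr (by rw [← hall x hx]; ring)
    have h5 := Finset.card_le_card hsub
    rw [Finset.image_id', Finset.card_univ] at h5
    have h6 := h5.trans ((Multiset.toFinset_card_le _).trans (Polynomial.card_roots' _))
    rw [Polynomial.natDegree_mul Polynomial.X_ne_zero (Polynomial.X_pow_sub_C_ne_zero (by norm_num) _),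
      Polynomial.natDegree_X, Polynomial.natDegree_X_pow_sub_C] at h6
    omega
  have hd0 : m + l ^ 2 ≠ 0 := fun h => hlm (by rw [eq_neg_of_add_eq_zero_right h]; ring)
  have hd1 : m - l ^ 2 ≠ 0 := fun h => hlm (by rw [sub_eq_zero.1 h])
  set a := 2 * l / (m + l ^ 2) with ha
  set d := (m - l ^ 2) / (m + l ^ 2) with hd
  set P : F × F × F := (a, a * k, d) with hP
  have hPS : P ∈ S := by
    simp only [S, P, Finset.mem_filter, Finset.mem_univ, true_and]
    rw [ha, hd]; field_simp; rw [hm]; ring
  have hca : c * a + s * (a * k) = a := by rw [hk]; field_simp; ring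
  have hPW : P ∈ W ∩ W' := by
    rw [Finset.mem_inter]
    have hor : IsSquare (1 - a ^ 2) := by
      by_contra h
      have := hno a (a * k) d (Finset.mem_filter.1 hPS).2 h
      rw [hca] at this
      exact h this
    refine ⟨Finset.mem_filter.2 ⟨hPS, hor⟩, Finset.mem_filter.2 ⟨hPS, ?_⟩⟩
    show IsSquare (1 - (c * a + s * (a * k)) ^ 2)
    rw [hca]; exact hor
  let Z : Finset (F × F × F) := ((Finset.univ.filter fun x : F × F => x.1 ^ 2 + x.2 ^ 2 = 1).image fun x => (x.1, x.2, (0 : F)))
  have hZ : Z.card = q + 1 := by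
    rw [Finset.card_image_of_injective _ (fun x y h => by simp only [Prod.mk.injEq] at h; exact Prod.ext h.1 h.2.1),
      circle_card hodd hneg one_ne_zero]
  have hinter : q + 4 ≤ (W ∩ W').card := by
    have hD : ∀ e : F, e ^ 2 = 1 → ((0 : F), (0 : F), e) ∈ W ∩ W' := fun e he => by
      simp only [W, W', S, Finset.mem_inter, Finset.mem_filter, Finset.mem_univ, true_and]
      simp [he]
    have hsub : insert P (insert ((0 : F), (0 : F), (1 : F)) (insert ((0 : F), (0 : F), (-1 : F)) Z)) ⊆ W ∩ W' := by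
      intro x hx
      simp only [Finset.mem_insert] at hx
      rcases hx with rfl | rfl | rfl | hx
      · exact hPW
      · exact hD 1 (one_pow 2)
      · exact hD (-1) (by ring)
      · simp only [Z, Finset.mem_image, Finset.mem_filter, Finset.mem_univ, true_and] at hx
        obtain ⟨⟨u, v⟩, huv, rfl⟩ := hx
        simp only [W, W', S, Finset.mem_inter, Finset.mem_filter, Finset.mem_univ, true_and]
        refine ⟨⟨by linear_combination huv, ⟨v, by linear_combination -huv⟩⟩, ⟨by linear_combination huv, ⟨s * u - c * v, ?_⟩⟩⟩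
        linear_combination -(u ^ 2 + v ^ 2) * hcs - huv
    refine le_trans ?_ (Finset.card_le_card hsub)
    rw [Finset.card_insert_of_notMem, Finset.card_insert_of_notMem, Finset.card_insert_of_notMem, hZ]
    · simp [Z]
    · have h11 : (1 : F) ≠ -1 := fun h => h2 (by linear_combination h)
      simp [Z, h11]
    · have hd' : d ≠ 0 := div_ne_zero hd1 hd0
      have ha' : a ≠ 0 := div_ne_zero (mul_ne_zero h2 hl0) hd0
      simp [Z, P, ha', Ne.symm hd']
  have := Finset.card_union_add_card_inter W W'
  rw [hunion, hWW', hW] at this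
  obtain ⟨j, hj⟩ : ∃ j, K.card = j := ⟨_, rfl⟩
  rw [hj] at this hK
  have hq' : q = 2 * j + 1 := by omega
  rw [hq'] at this hS hinter
  nlinarith [this, hS, hinter]

theorem sq_trace_zero {A : SL2} (h : (A : M2).trace = 0) : (A : M2) * (A : M2) = -1 := by
  rw [sq_eq, A.2, h]; simp

theorem anti_trace_zero {A B : SL2} (hA : (A : M2).trace = 0) (hB : (B : M2).trace = 0) :
    (A : M2) * (B : M2) + (B : M2) * (A : M2) = ((A * B : SL2) : M2).trace • (1 : M2) := by
  rw [Matrix.trace_fin_two] at hA hB
  rw [Matrix.SpecialLinearGroup.coe_mul, Matrix.trace_fin_two]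
  have a11 : (A : M2) 1 1 = -(A : M2) 0 0 := by linear_combination hA
  have b11 : (B : M2) 1 1 = -(B : M2) 0 0 := by linear_combination hB
  ext i j
  fin_cases i <;> fin_cases j <;> simp [Matrix.mul_apply, Fin.sum_univ_two, a11, b11] <;> ring

theorem exists_neighbour (hodd : Odd (Fintype.card F)) (h4 : 4 ≤ Fintype.card F) {A B : SL2}
    (hA : (A : M2).trace = 0) (hB : (B : M2).trace = 0)
    (hne : ((A * B : SL2) : M2).trace ^ 2 ≠ 4) (hsq : IsSquare (4 - ((A * B : SL2) : M2).trace ^ 2)) :
    ∃ C : SL2, (C : M2).trace = 0 ∧ pr C ≠ pr A ∧ pr C ≠ pr B ∧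
      Odd (orderOf (pr (A * C))) ∧ Odd (orderOf (pr (B * C))) := by
  classical
  have h2 := two_ne_zero_of_odd hodd
  set c := -((A * B : SL2) : M2).trace / 2 with hc
  have htc : ((A * B : SL2) : M2).trace = -(2 * c) := by rw [hc]; field_simp
  rw [htc] at hsq hne
  obtain ⟨s, hs⟩ := (four_sq hodd (1 - c ^ 2)).1 (by
    rw [show 4 * (1 - c ^ 2) = 4 - (-(2 * c)) ^ 2 by ring]; exact hsq)
  have hs0 : s ≠ 0 := fun h => hne (by rw [h, mul_zero] at hs; linear_combination -4 * hs)
  have hcs : c ^ 2 + s ^ 2 = 1 := by linear_combination -hs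
  set MA := (A : M2) with hMA
  set MB := (B : M2) with hMB
  set A' := s⁻¹ • (MB - c • MA) with hA'
  set D := MA * A' with hD
  have eAA : MA * MA = -1 := sq_trace_zero hA
  have eBB : MB * MB = -1 := sq_trace_zero hB
  have eAB : MA * MB + MB * MA = (-(2 * c)) • (1 : M2) := by rw [hMA, hMB, anti_trace_zero hA hB, htc]
  have eBA : MB * MA = (-(2 * c)) • (1 : M2) - MA * MB := eq_sub_of_add_eq' eAB
  have eanti : A' * MA = -(MA * A') := by
    rw [hA', smul_mul_assoc, mul_smul_comm, sub_mul, mul_sub, smul_mul_assoc, mul_smul_comm, eAA, eBA, ← smul_neg]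
    congr 1
    module
  have eA'A' : A' * A' = -1 := by
    rw [hA', smul_mul_assoc, mul_smul_comm, smul_smul, sub_mul, mul_sub, mul_sub, smul_mul_assoc, mul_smul_comm,
      smul_mul_assoc, mul_smul_comm, eBB, eBA, eAA]
    match_scalars <;> field_simp <;> first | ring1 | linear_combination hcs | linear_combination -hcs
  have eAD : MA * D = -A' := by rw [hD, ← mul_assoc, eAA, neg_one_mul]
  have eDA : D * MA = A' := by rw [hD, mul_assoc, eanti, mul_neg, ← mul_assoc, eAA, neg_one_mul, neg_neg]
  have eA'D : A' * D = MA := by rw [hD, ← mul_assoc, eanti, neg_mul, mul_assoc, eA'A', mul_neg, mul_one, neg_neg]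
  have eDA' : D * A' = -MA := by rw [hD, mul_assoc, eA'A', mul_neg, mul_one]
  have eDD : D * D = -1 := by
    calc D * D = D * MA * A' := by rw [hD, ← mul_assoc]
      _ = -1 := by rw [eDA, eA'A']
  have tA' : A'.trace = 0 := by
    rw [hA', Matrix.trace_smul, Matrix.trace_sub, Matrix.trace_smul, hA, hB]; simp
  have tD : D.trace = 0 := by
    rw [hD, hA', mul_smul_comm, mul_sub, mul_smul_comm, eAA, Matrix.trace_smul, Matrix.trace_sub, Matrix.trace_smul,
      Matrix.trace_neg, Matrix.trace_one, hMA, hMB, ← Matrix.SpecialLinearGroup.coe_mul, htc]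
    simp; right; ring
  have hBe : MB = c • MA + s • A' := by
    rw [hA', smul_smul, mul_inv_cancel₀ hs0, one_smul, add_sub_cancel]
  clear_value A' D
  have key : ∀ a b d : F, a ^ 2 + b ^ 2 + d ^ 2 = 1 → ∃ C : SL2, (C : M2).trace = 0 ∧
      ((A * C : SL2) : M2).trace = -(2 * a) ∧ ((B * C : SL2) : M2).trace = -(2 * (c * a + s * b)) ∧
      (A' * (C : M2)).trace = -(2 * b) ∧ (D * (C : M2)).trace = -(2 * d) := by
    intro a b d hsum
    set M := a • MA + b • A' + d • D with hM
    have htr : M.trace = 0 := by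
      rw [hM, Matrix.trace_add, Matrix.trace_add, Matrix.trace_smul, Matrix.trace_smul, Matrix.trace_smul, hA, tA', tD]
      simp
    have hMM : M * M = -1 := by
      rw [hM]
      simp only [add_mul, mul_add, smul_mul_assoc, mul_smul_comm, eAA, eA'A', eDD, eanti, eAD, eDA, eA'D, eDA', ← hD,
        smul_smul, smul_neg]
      match_scalars <;> first | ring1 | linear_combination hsum | linear_combination -hsum
    have hdet : M.det = 1 := by
      have h := sq_eq M
      rw [hMM, htr, zero_smul, zero_sub, neg_inj] at h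
      have h00 := congrFun (congrFun h 0) 0
      simpa using h00.symm
    have tAA : (MA * MA).trace = -2 := by rw [eAA, Matrix.trace_neg, Matrix.trace_one]; simp
    have tA'A' : (A' * A').trace = -2 := by rw [eA'A', Matrix.trace_neg, Matrix.trace_one]; simp
    have tDD : (D * D).trace = -2 := by rw [eDD, Matrix.trace_neg, Matrix.trace_one]; simp
    have tAA' : (MA * A').trace = 0 := by rw [← hD, tD]
    have tA'A : (A' * MA).trace = 0 := by rw [Matrix.trace_mul_comm, tAA']
    refine ⟨mkSL M hdet, htr, ?_, ?_, ?_, ?_⟩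
    · rw [Matrix.SpecialLinearGroup.coe_mul, coe_mkSL, ← hMA, hM, mul_add, mul_add]
      simp only [mul_smul_comm, Matrix.trace_add, Matrix.trace_smul, tAA, tAA', eAD, Matrix.trace_neg, tA']
      simp; ring
    · rw [Matrix.SpecialLinearGroup.coe_mul, coe_mkSL, ← hMB, hBe, hM]
      simp only [add_mul, mul_add, smul_mul_assoc, mul_smul_comm, Matrix.trace_add, Matrix.trace_smul, tAA, tAA', tA'A,
        tA'A', eAD, eA'D, Matrix.trace_neg, tA', hA]
      simp; ring
    · rw [coe_mkSL, hM, mul_add, mul_add]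
      simp only [mul_smul_comm, Matrix.trace_add, Matrix.trace_smul, tA'A, tA'A', eA'D, hA]
      simp; ring
    · rw [coe_mkSL, hM, mul_add, mul_add]
      simp only [mul_smul_comm, Matrix.trace_add, Matrix.trace_smul, eDA, eDA', tA', Matrix.trace_neg, hA, tDD]
      simp; ring
  have hpr : ∀ {X Y : SL2}, pr X = pr Y → X = Y ∨ X = -Y := by
    intro X Y h
    have h1 : pr (X * Y⁻¹) = 1 := by rw [map_mul, map_inv, h, mul_inv_cancel]
    rcases scalar_eq (pr_eq_one_iff.1 h1) with h2 | h2
    · exact Or.inl (mul_inv_eq_one.1 h2)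
    · exact Or.inr (by rw [mul_inv_eq_iff_eq_mul.1 h2, neg_one_mul])
  by_cases hneg : IsSquare (-1 : F)
  · obtain ⟨i, hi⟩ := hneg
    have hi0 : i ≠ 0 := fun h => by rw [h, mul_zero] at hi; exact one_ne_zero (neg_eq_zero.1 hi)
    set b := (1 - c) / s with hb
    have hb0 : b ≠ 0 := div_ne_zero (fun h => hne (by rw [← sub_eq_zero.1 h]; ring)) hs0
    obtain ⟨C, hC0, hAC, hBC, hA'C, hDC⟩ := key 1 b (i * b) (by linear_combination (-(b ^ 2)) * hi)
    have h1 : c * 1 + s * b = 1 := by rw [hb]; field_simp; ring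
    refine ⟨C, hC0, fun h => ?_, fun h => ?_, odd_orderOf_pr hodd (Or.inl (by rw [hAC]; ring)),
      odd_orderOf_pr hodd (Or.inl (by rw [hBC, h1]; ring))⟩
    · have hA0 : (A' * MA).trace = 0 := by rw [Matrix.trace_mul_comm, ← hD, tD]
      rcases hpr h with e | e <;> rw [e] at hA'C
      · rw [← hMA] at hA'C
        exact mul_ne_zero h2 hb0 (by linear_combination hA'C - hA0)
      · rw [Matrix.SpecialLinearGroup.coe_neg, mul_neg, Matrix.trace_neg, ← hMA] at hA'C
        exact mul_ne_zero h2 hb0 (by linear_combination hA'C + hA0)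
    · have hB0 : (D * MB).trace = 0 := by
        rw [hBe, mul_add, mul_smul_comm, mul_smul_comm, eDA, eDA', Matrix.trace_add, Matrix.trace_smul,
          Matrix.trace_smul, Matrix.trace_neg, hA, tA']
        simp
      rcases hpr h with e | e <;> rw [e] at hDC
      · rw [← hMB] at hDC
        exact mul_ne_zero h2 (mul_ne_zero hi0 hb0) (by linear_combination hDC - hB0)
      · rw [Matrix.SpecialLinearGroup.coe_neg, mul_neg, Matrix.trace_neg, ← hMB] at hDC
        exact mul_ne_zero h2 (mul_ne_zero hi0 hb0) (by linear_combination hDC + hB0)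
  · obtain ⟨a, b, d, hsum, ha, hb⟩ := exists_common hodd hneg h4 hcs hs0
    obtain ⟨C, hC0, hAC, hBC, -, -⟩ := key a b d hsum
    have hbad : ∀ {X : SL2} {e : F}, (X : M2).trace = 0 → ((X * C : SL2) : M2).trace = -(2 * e) →
        ¬ IsSquare (1 - e ^ 2) → pr C ≠ pr X ∧ Odd (orderOf (pr (X * C))) := by
      intro X e hX ht he
      refine ⟨fun h => he ?_, odd_orderOf_pr hodd (Or.inr ?_)⟩
      · have hXX : ((X * X : SL2) : M2).trace = -2 := by
          rw [sq_of_trace_zero hX]; simp
        have he1 : e ^ 2 = 1 := by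
          rcases hpr h with h' | h' <;> rw [h'] at ht
          · have : 2 * (e - 1) = 0 := by linear_combination ht - hXX
            rw [sub_eq_zero.1 ((mul_eq_zero.1 this).resolve_left h2)]; ring
          · rw [mul_neg, Matrix.SpecialLinearGroup.coe_neg, Matrix.trace_neg] at ht
            have : 2 * (e + 1) = 0 := by linear_combination ht + hXX
            rw [eq_neg_of_add_eq_zero_left ((mul_eq_zero.1 this).resolve_left h2)]; ring
        rw [he1, sub_self]; exact IsSquare.zero
      · rw [ht, show 4 - (-(2 * e)) ^ 2 = 4 * (1 - e ^ 2) by ring, four_sq hodd]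
        exact he
    exact ⟨C, hC0, (hbad hA hAC ha).1, (hbad hB hBC hb).1, (hbad hA hAC ha).2, (hbad hB hBC hb).2⟩

end CfsgLib.Involutions.PSLTwoOddGraph
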