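import Cfsg.Agent.Lib.KnownB.PSLAut.Main
import Cfsg.Agent.Lib.Classical.SLGen

/-!
Upper unitriangular matrices: generation by transvections, normaliser, and the radicals of the minimal
parabolic subgroups.
-/

set_option autoImplicit false

namespace CfsgLib.Involutions.PSLUnip

open Matrix CfsgLib.KnownB.PSLAut

variable {n : ℕ} {F : Type*} [Field F]

local notation "SLn" => Matrix.SpecialLinearGroup (Fin n) F
local notation "PSLn" => Matrix.ProjectiveSpecialLinearGroup (Fin n) F
local notation "Mn" => Matrix (Fin n) (Fin n) F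

theorem transvection_mem_U {i j : Fin n} (h : i < j) (c : F) :
    (Matrix.SpecialLinearGroup.transvection h.ne c : SLn) ∈ U n F := by
  refine ⟨fun k l (hkl : l < k) => ?_, fun k => ?_⟩
  · simp only [Matrix.SpecialLinearGroup.transvection_coe, Matrix.add_apply,
      Matrix.one_apply_ne hkl.ne', Matrix.single_apply, zero_add]
    exact if_neg fun hc => by rw [← hc.1, ← hc.2] at hkl; exact lt_asymm h hkl
  · simp only [Matrix.SpecialLinearGroup.transvection_coe, Matrix.add_apply, Matrix.one_apply_eq,
      Matrix.single_apply]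
    rw [if_neg fun hc => h.ne (hc.1.trans hc.2.symm), add_zero]

theorem tv_single_eq {i j : Fin n} (h : i ≠ j) (c : F) :
    (tv (Pi.single i c) (Pi.single j 1) : SLn) = Matrix.SpecialLinearGroup.transvection h c := by
  refine Subtype.ext ?_
  rw [tv_val (X_dot h c), Matrix.SpecialLinearGroup.transvection_coe]
  congr 1
  ext a b
  simp [vecMulVec_apply, Matrix.single_apply, Pi.single_apply]
  grind

/-- A subgroup containing every upper transvection contains `U`. -/
theorem U_le {H : Subgroup SLn}
    (h : ∀ (i j : Fin n) (hij : i < j) (c : F), Matrix.SpecialLinearGroup.transvection hij.ne c ∈ H) :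
    U n F ≤ H := by
  suffices key : ∀ k : ℕ, ∀ u ∈ U n F,
      (∀ i j : Fin n, i < j → k ≤ (j : ℕ) → (u : Mn) i j = 0) → u ∈ H from
    fun u hu => key n u hu fun i j _ hj => absurd j.2 (by omega)
  intro k
  induction k with
  | zero =>
    intro u hu hz
    have : u = 1 := by
      refine Subtype.ext ?_
      ext i j
      rcases lt_trichotomy i j with hij | rfl | hij
      · rw [hz i j hij (Nat.zero_le _), Matrix.SpecialLinearGroup.coe_one, Matrix.one_apply_ne hij.ne]
      · rw [hu.2, Matrix.SpecialLinearGroup.coe_one, Matrix.one_apply_eq]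
      · rw [hu.1 hij, Matrix.SpecialLinearGroup.coe_one, Matrix.one_apply_ne hij.ne']
    exact this ▸ H.one_mem
  | succ k ih =>
    intro u hu hz
    by_cases hk : k < n
    swap
    · exact ih u hu fun i j hij hj => absurd j.2 (by omega)
    let K : Fin n := ⟨k, hk⟩
    let v : Fin n → F := fun i => if i < K then (u : Mn) i K else 0
    have hvK : Pi.single K (1 : F) ⬝ᵥ v = 0 := by simp [v]
    have hall : ∀ s : Finset (Fin n), (∀ i ∈ s, i < K) →
        Pi.single K (1 : F) ⬝ᵥ (∑ i ∈ s, Pi.single i (v i)) = 0 ∧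
          (tv (∑ i ∈ s, Pi.single i (v i)) (Pi.single K 1) : SLn) ∈ H ⊓ U n F := by
      intro s
      induction s using Finset.induction with
      | empty =>
        intro _
        have h1 : (tv (0 : Fin n → F) (Pi.single K 1) : SLn) = 1 :=
          Subtype.ext (by rw [tv_val (dotProduct_zero _)]; simp)
        rw [Finset.sum_empty, h1]
        exact ⟨dotProduct_zero _, (H ⊓ U n F).one_mem⟩
      | insert a s ha ihs =>
        intro hs
        have haK : a < K := hs a (Finset.mem_insert_self _ _)
        obtain ⟨hd, hm⟩ := ihs fun i hi => hs i (Finset.mem_insert_of_mem hi)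
        have hd' := X_dot haK.ne (v a)
        rw [Finset.sum_insert ha]
        refine ⟨by rw [dotProduct_add, hd', hd, add_zero], ?_⟩
        rw [← tv_mul_left hd' hd, tv_single_eq haK.ne]
        exact (H ⊓ U n F).mul_mem ⟨h a K haK _, transvection_mem_U haK _⟩ hm
    have hv : ∑ i ∈ Finset.Iio K, Pi.single i (v i) = v := by
      funext r
      rw [Finset.sum_apply, Finset.sum_pi_single]
      split_ifs with hr
      · rfl
      · rw [Finset.mem_Iio] at hr
        simp [v, hr]
    obtain ⟨-, hm⟩ := hall (Finset.Iio K) (fun i hi => Finset.mem_Iio.1 hi)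
    rw [hv] at hm
    set t : SLn := tv v (Pi.single K 1) with ht
    have hu' : t⁻¹ * u ∈ U n F := (U n F).mul_mem ((U n F).inv_mem hm.2) hu
    have hmem : t⁻¹ * u ∈ H := ih _ hu' fun i j hij hj => by
      have hneg : Pi.single K (1 : F) ⬝ᵥ (-v) = 0 := by rw [dotProduct_neg, hvK, neg_zero]
      rw [ht, tv_inv hvK, Matrix.SpecialLinearGroup.coe_mul, tv_val hneg, add_mul, one_mul,
        Matrix.vecMulVec_mul, Matrix.single_one_vecMul, Matrix.add_apply, Matrix.vecMulVec_apply,
        Matrix.row_apply, Pi.neg_apply]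
      rcases eq_or_ne j K with rfl | hjK
      · simp [v, hij, hu.2]
      · have hKj : K < j := by
          rw [Fin.lt_def]
          exact lt_of_le_of_ne hj fun hh => hjK (Fin.ext hh.symm)
        have hk1 : k + 1 ≤ (j : ℕ) := hKj
        rw [hz i j hij hk1, hz K j hKj hk1, mul_zero, add_zero]
    simpa using H.mul_mem hm.1 hmem

theorem conj_single_entry (g h : Mn) (i j k l : Fin n) :
    (g * Matrix.single i j (1 : F) * h : Mn) k l = g k i * h j l := by
  rw [Matrix.mul_assoc, Matrix.mul_apply, Finset.sum_eq_single i]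
  · rw [Matrix.single_mul_apply_same]; simp
  · intro r _ hr
    rw [Matrix.single_mul_apply_of_ne (h := hr), mul_zero]
  · simp

/-- An invertible matrix carrying every upper elementary matrix to a strictly upper one is upper triangular. -/
theorem upper_of_entries [Finite F] {g h : Mn} (hgh : h * g = 1)
    (hg : ∀ i j k l : Fin n, i < j → l ≤ k → g k i * h j l = 0) : g.BlockTriangular id := by
  have := Fintype.ofFinite F
  intro k i (hik : i < k)
  by_contra hne
  have hrow : ∀ j, i < j → ∀ l, l ≤ k → h j l = 0 := fun j hij l hl =>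
    (mul_eq_zero.1 (hg i j k l hij hl)).resolve_left hne
  let f : ({j : Fin n // i < j} → F) → ({l : Fin n // k < l} → F) :=
    fun c l => ∑ j : {j : Fin n // i < j}, c j * h j l
  have hf : Function.Injective f := by
    intro c c' hcc
    funext j₀
    have hall : ∀ l : Fin n, ∑ j : {j : Fin n // i < j}, (c j - c' j) * h j l = 0 := by
      intro l
      rcases le_or_gt l k with hl | hl
      · exact Finset.sum_eq_zero fun j _ => by rw [hrow j j.2 l hl, mul_zero]
      · simp only [sub_mul, Finset.sum_sub_distrib, sub_eq_zero]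
        exact congrFun hcc ⟨l, hl⟩
    have h1 : ∑ l : Fin n, (∑ j : {j : Fin n // i < j}, (c j - c' j) * h j l) * g l j₀ = 0 := by
      simp [hall]
    simp only [Finset.sum_mul, mul_assoc] at h1
    rw [Finset.sum_comm] at h1
    simp only [← Finset.mul_sum] at h1
    have h2 : ∀ j : {j : Fin n // i < j}, ∑ l, h j l * g l j₀ = if j = j₀ then 1 else 0 := fun j => by
      rw [← Matrix.mul_apply, hgh, Matrix.one_apply]
      simp [Subtype.ext_iff]
    simp only [h2, mul_ite, mul_one, mul_zero, Finset.sum_ite_eq', Finset.mem_univ, if_true] at h1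
    exact sub_eq_zero.1 h1
  have hcard := Fintype.card_le_of_injective f hf
  rw [Fintype.card_fun, Fintype.card_fun] at hcard
  have hlt : Fintype.card {l : Fin n // k < l} < Fintype.card {j : Fin n // i < j} :=
    Fintype.card_lt_of_injective_of_notMem (fun l => ⟨l.1, hik.trans l.2⟩)
      (fun a b hab => Subtype.ext (congrArg (fun x : {j : Fin n // i < j} => x.1) hab))
      (b := ⟨k, hik⟩) (by
        rintro ⟨l, hl⟩
        exact l.2.ne' (congrArg Subtype.val hl))
  exact absurd hcard (not_le.2 (Nat.pow_lt_pow_right Fintype.one_lt_card hlt))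

/-- A matrix normalising `U` is upper triangular. -/
theorem upper_of_normalizer [Finite F] {g : SLn}
    (hg : ∀ x ∈ U n F, g * x * g⁻¹ ∈ U n F) : (g : Mn).BlockTriangular id := by
  have hgh : ((g⁻¹ : SLn) : Mn) * (g : Mn) = 1 := by
    rw [← Matrix.SpecialLinearGroup.coe_mul, inv_mul_cancel, Matrix.SpecialLinearGroup.coe_one]
  refine upper_of_entries hgh fun i j k l hij hl => ?_
  have hxU := hg _ (transvection_mem_U hij (1 : F))
  have he : ((g * Matrix.SpecialLinearGroup.transvection hij.ne (1 : F) * g⁻¹ : SLn) : Mn) k l =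
      (1 : Mn) k l + (g : Mn) k i * ((g⁻¹ : SLn) : Mn) j l := by
    simp only [Matrix.SpecialLinearGroup.coe_mul, Matrix.SpecialLinearGroup.transvection_coe, mul_add,
      add_mul, mul_one, Matrix.add_apply]
    rw [mul_eq_one_comm.1 hgh, conj_single_entry]
  rcases eq_or_lt_of_le hl with rfl | hlt
  · rw [hxU.2, Matrix.one_apply_eq] at he
    simpa using he.symm
  · rw [hxU.1 hlt, Matrix.one_apply_ne hlt.ne', zero_add] at he
    exact he.symm

/-- The unipotent radical of the minimal parabolic subgroup of the adjacent positions `i < j`. -/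
def rad (n : ℕ) (F : Type*) [Field F] (i j : Fin n) (hij : (j : ℕ) = (i : ℕ) + 1) :
    Subgroup (Matrix.SpecialLinearGroup (Fin n) F) where
  carrier := {u | u ∈ U n F ∧ (u : Matrix (Fin n) (Fin n) F) i j = 0}
  one_mem' := ⟨(U n F).one_mem, by
    rw [Matrix.SpecialLinearGroup.coe_one, Matrix.one_apply_ne (fun h => by rw [h] at hij; omega)]⟩
  mul_mem' {a b} ha hb := ⟨(U n F).mul_mem ha.1 hb.1, by
    rw [Matrix.SpecialLinearGroup.coe_mul, Matrix.mul_apply]
    refine Finset.sum_eq_zero fun k _ => ?_
    rcases lt_trichotomy k i with hk | rfl | hk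
    · rw [ha.1.1 hk, zero_mul]
    · rw [hb.2, mul_zero]
    · rcases eq_or_ne k j with rfl | hkj
      · rw [ha.2, zero_mul]
      · rw [hb.1.1 (show j < k by
          rw [Fin.lt_def] at hk ⊢
          exact lt_of_le_of_ne (by omega) fun hh => hkj (Fin.ext hh.symm)), mul_zero]⟩
  inv_mem' {a} ha := ⟨(U n F).inv_mem ha.1, by
    have ha' := (U n F).inv_mem ha.1
    have h1 : ((a : Matrix (Fin n) (Fin n) F) * ((a⁻¹ : Matrix.SpecialLinearGroup (Fin n) F) :
        Matrix (Fin n) (Fin n) F)) i j = 0 := by
      rw [← Matrix.SpecialLinearGroup.coe_mul, mul_inv_cancel, Matrix.SpecialLinearGroup.coe_one,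
        Matrix.one_apply_ne (fun h => by rw [h] at hij; omega)]
    rw [Matrix.mul_apply, Finset.sum_eq_single i] at h1
    · rwa [ha.1.2, one_mul] at h1
    · intro k _ hk
      rcases lt_or_gt_of_ne hk with hk | hk
      · rw [ha.1.1 hk, zero_mul]
      · rcases eq_or_ne k j with rfl | hkj
        · rw [ha.2, zero_mul]
        · rw [ha'.1 (show j < k by
            rw [Fin.lt_def] at hk ⊢
            exact lt_of_le_of_ne (by omega) fun hh => hkj (Fin.ext hh.symm)), mul_zero]
    · simp⟩

variable {i j : Fin n} {hij : (j : ℕ) = (i : ℕ) + 1}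

theorem rad_le : rad n F i j hij ≤ U n F := fun _ hu => hu.1

include hij in
theorem adj_lt : i < j := by rw [Fin.lt_def]; omega

theorem rad_conj_U {u x : SLn} (hu : u ∈ U n F) (hx : x ∈ rad n F i j hij) :
    u * x * u⁻¹ ∈ rad n F i j hij := by
  refine ⟨(U n F).mul_mem ((U n F).mul_mem hu hx.1) ((U n F).inv_mem hu), ?_⟩
  have hlt : i < j := adj_lt (hij := hij)
  have hadd : ∀ a b : SLn, a ∈ U n F → b ∈ U n F →
      ((a * b : SLn) : Mn) i j = (a : Mn) i j + (b : Mn) i j := by
    intro a b ha hb
    rw [Matrix.SpecialLinearGroup.coe_mul, Matrix.mul_apply,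
      ← Finset.sum_subset (Finset.subset_univ ({i, j} : Finset (Fin n))) ?_, Finset.sum_pair hlt.ne]
    · rw [ha.2, hb.2, one_mul, mul_one, add_comm]
    · intro k _ hk
      simp only [Finset.mem_insert, Finset.mem_singleton, not_or] at hk
      rcases lt_or_gt_of_ne hk.1 with h | h
      · rw [ha.1 h, zero_mul]
      · rw [hb.1 (show j < k by
          rw [Fin.lt_def] at h ⊢
          exact lt_of_le_of_ne (by omega) fun hh => hk.2 (Fin.ext hh.symm)), mul_zero]
  have h0 : (0 : F) = (u : Mn) i j + ((u⁻¹ : SLn) : Mn) i j := by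
    rw [← hadd u u⁻¹ hu ((U n F).inv_mem hu), mul_inv_cancel, Matrix.SpecialLinearGroup.coe_one,
      Matrix.one_apply_ne hlt.ne]
  rw [hadd _ _ ((U n F).mul_mem hu hx.1) ((U n F).inv_mem hu), hadd _ _ hu hx.1, hx.2, add_zero,
    ← h0]

theorem rad_conj_lower {x : SLn} (hx : x ∈ rad n F i j hij) (t : F) :
    Matrix.SpecialLinearGroup.transvection (adj_lt (hij := hij)).ne' t * x *
      (Matrix.SpecialLinearGroup.transvection (adj_lt (hij := hij)).ne' t)⁻¹ ∈ rad n F i j hij := by
  have hlt : i < j := adj_lt (hij := hij)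
  have he : ∀ r c : Fin n, ((Matrix.SpecialLinearGroup.transvection hlt.ne' t * x *
      (Matrix.SpecialLinearGroup.transvection hlt.ne' t)⁻¹ : SLn) : Mn) r c =
      (x : Mn) r c + (if r = j then t * (x : Mn) i c else 0) +
        (if c = i then -(t * (x : Mn) r j) else 0) := by
    intro r c
    rw [Matrix.SpecialLinearGroup.transvection_inv]
    simp only [Matrix.SpecialLinearGroup.coe_mul, Matrix.SpecialLinearGroup.transvection_coe,
      add_mul, one_mul, mul_add, mul_one, Matrix.add_apply]
    rcases eq_or_ne c i with rfl | hc <;> rcases eq_or_ne r j with rfl | hr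
    · simp [hx.2]; ring
    · simp [hr]; ring
    · simp [hc]
    · simp [hr, hc]
  refine ⟨⟨fun r c (hrc : c < r) => ?_, fun r => ?_⟩, ?_⟩
  · rw [he, hx.1.1 hrc, zero_add]
    rcases eq_or_ne c i with rfl | hc
    · rw [if_pos rfl]
      rcases eq_or_ne r j with rfl | hr
      · rw [if_pos rfl, hx.1.2, hx.1.2]; ring
      · rw [if_neg hr, zero_add, hx.1.1 (show j < r by
          rw [Fin.lt_def] at hrc ⊢
          exact lt_of_le_of_ne (by omega) fun hh => hr (Fin.ext hh.symm)), mul_zero, neg_zero]
    · rw [if_neg hc, add_zero]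
      split_ifs with hr
      · subst hr
        rw [hx.1.1 (show c < i by
          rw [Fin.lt_def] at hrc ⊢
          exact lt_of_le_of_ne (by omega) fun hh => hc (Fin.ext hh)), mul_zero]
      · rfl
  · rw [he, hx.1.2]
    rcases eq_or_ne r i with rfl | hri
    · rw [if_neg hlt.ne, if_pos rfl, hx.2]; ring
    · rw [if_neg hri]
      split_ifs with hr
      · subst hr; rw [hx.2]; ring
      · ring
  · rw [he, if_neg hlt.ne, if_neg hlt.ne', hx.2]; ring

/-- The entry moved below the diagonal by the Weyl element of the positions `i < j`. -/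
theorem weyl_conj_entry {i j : Fin n} (h : i < j) (x : SLn) :
    ((Matrix.SpecialLinearGroup.transvection h.ne (1 : F) * Matrix.SpecialLinearGroup.transvection h.ne' (-1) *
        Matrix.SpecialLinearGroup.transvection h.ne 1 * x *
        (Matrix.SpecialLinearGroup.transvection h.ne (1 : F) * Matrix.SpecialLinearGroup.transvection h.ne' (-1) *
          Matrix.SpecialLinearGroup.transvection h.ne 1)⁻¹ : SLn) : Mn) j i = -(x : Mn) i j := by
  have key : ∀ A : Mn, A j i = (A *ᵥ Pi.single i 1) j := fun A => by simp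
  refine (key _).trans ?_
  simp only [_root_.mul_inv_rev, Matrix.SpecialLinearGroup.transvection_inv,
    Matrix.SpecialLinearGroup.coe_mul, ← Matrix.mulVec_mulVec, CfsgLib.Classical.transvection_mulVec]
  simp [h.ne, h.ne', Pi.single_apply, Matrix.mulVec_add]

/-- Adjacent `t, t⁻¹` pairs and the last coordinate generate the torus. -/
theorem torus_gen {M : Type*} [CommGroup M] (K : Subgroup (Fin n → M))
    (h₁ : ∀ (i j : Fin n), (j : ℕ) = (i : ℕ) + 1 → ∀ a : M, Pi.mulSingle i a * Pi.mulSingle j a⁻¹ ∈ K)
    (h₂ : ∀ i : Fin n, (i : ℕ) + 1 = n → ∀ a : M, Pi.mulSingle i a ∈ K) : K = ⊤ := by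
  have key : ∀ m : ℕ, ∀ i : Fin n, (i : ℕ) + 1 + m = n → ∀ a : M, Pi.mulSingle i a ∈ K := by
    intro m
    induction m with
    | zero => exact h₂
    | succ m ih =>
      intro i hi a
      let j : Fin n := ⟨(i : ℕ) + 1, by omega⟩
      have h := K.mul_mem (h₁ i j rfl a) (ih j (by show (i : ℕ) + 1 + 1 + m = n; omega) a)
      rwa [mul_assoc, ← Pi.mulSingle_mul, inv_mul_cancel, Pi.mulSingle_one, mul_one] at h
  refine eq_top_iff.2 fun t _ => ?_
  rw [← Finset.univ_prod_mulSingle t]
  exact Subgroup.prod_mem _ fun i _ => key (n - (i : ℕ) - 1) i (by have := i.2; omega) _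

end CfsgLib.Involutions.PSLUnip
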