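import Cfsg.Agent.Lib.Involutions.PSUFusionParts

/-!
The blocks of the minimal parabolic subgroups of `SU_n`, their radicals and Weyl elements.
-/

set_option autoImplicit false

namespace CfsgLib.Involutions.UAnti

open Matrix CfsgLib.KnownB.PSLAut CfsgLib.Classical CfsgLib.Classical.Unitary CfsgLib.Involutions.PSLUnip
  CfsgLib.Involutions.FusionSimpleParabolic

variable {n : ℕ} {F : Type*} [Field F] {σ : F →+* F} {q : ℕ}

local notation "SLn" => Matrix.SpecialLinearGroup (Fin n) F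
local notation "Mn" => Matrix (Fin n) (Fin n) F
local notation "Vn" => (Fin n → F)

/-- The blocks for the adjacent indices `i, i + 1` of the first half. -/
def blkI (n i : ℕ) (r : Fin n) : ℕ :=
  if (r : ℕ) = i + 1 then i else if (r : ℕ) = n - 1 - i then n - 2 - i else (r : ℕ)

/-- The blocks for the middle indices. -/
def blkM (n : ℕ) (r : Fin n) : ℕ :=
  if n / 2 - 1 ≤ (r : ℕ) ∧ (r : ℕ) ≤ n - n / 2 then n / 2 - 1 else (r : ℕ)

theorem blkI_mono {i : ℕ} (hi : i + 1 < n / 2) : Monotone (blkI n i) := by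
  intro r s hrs
  have e : (r : ℕ) ≤ (s : ℕ) := hrs
  have := s.2
  simp only [blkI]
  split_ifs <;> omega

theorem blkM_mono : Monotone (blkM n) := by
  intro r s hrs
  have e : (r : ℕ) ≤ (s : ℕ) := hrs
  have := s.2
  simp only [blkM]
  split_ifs <;> omega

theorem blkI_symm {i : ℕ} (hi : i + 1 < n / 2) (r s : Fin n) (h : blkI n i r = blkI n i s) :
    blkI n i (Fin.rev r) = blkI n i (Fin.rev s) := by
  have h1 := r.2
  have h2 := s.2
  simp only [blkI, Fin.val_rev] at h ⊢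
  split_ifs at h ⊢ <;> omega

theorem blkM_symm (r s : Fin n) (h : blkM n r = blkM n s) : blkM n (Fin.rev r) = blkM n (Fin.rev s) := by
  have h1 := r.2
  have h2 := s.2
  simp only [blkM, Fin.val_rev] at h ⊢
  split_ifs at h ⊢ <;> omega

theorem transvection_mem_Par {blk : Fin n → ℕ} {a b : Fin n} (h1 : blk a ≤ blk b) (h : a ≠ b) (t : F) :
    ((Matrix.SpecialLinearGroup.transvection h t : SLn) : Mn).BlockTriangular blk := by
  intro r c hrc
  rw [Matrix.SpecialLinearGroup.transvection_coe, Matrix.add_apply,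
    Matrix.one_apply_ne (fun hh => by rw [hh] at hrc; exact lt_irrefl _ hrc), Matrix.single_apply,
    if_neg (fun hh => by rw [← hh.1, ← hh.2] at hrc; omega), add_zero]

theorem Lg_mem_Par (h : UFrob σ q) {blk : Fin n → ℕ} {p : Fin n} (hp : p ≠ Fin.rev p) (c : F) (hc : c + σ c = 0)
    (h1 : blk p ≤ blk (Fin.rev p)) : Lg h hp c hc ∈ Par σ blk := transvection_mem_Par h1 hp c

theorem Sh_mem_Par (h : UFrob σ q) {blk : Fin n → ℕ} {a b : Fin n} (hab : a ≠ b) (ha : a ≠ Fin.rev a)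
    (hb : b ≠ Fin.rev b) (t : F) (h1 : blk a ≤ blk b) (h2 : blk (Fin.rev b) ≤ blk (Fin.rev a)) :
    Sh h hab ha hb t ∈ Par σ blk :=
  (transvection_mem_Par h1 _ t).mul (transvection_mem_Par h2 _ _)

theorem Xz_mem_Par (h : UFrob σ q) {blk : Fin n → ℕ} {j z : Fin n} (hjz : j ≠ z) (hzj : z ≠ Fin.rev j)
    (hj : j ≠ Fin.rev j) (hz : Fin.rev z = z) (a e : F) (he : e + σ e + a * σ a = 0)
    (h1 : blk j ≤ blk z) (h2 : blk z ≤ blk (Fin.rev j)) : Xz h hjz hzj hj hz a e he ∈ Par σ blk :=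
  ((transvection_mem_Par h1 _ a).mul (transvection_mem_Par h2 _ _)).mul
    (transvection_mem_Par (h1.trans h2) _ _)

theorem Par_normalizes [Finite F] {blk : Fin n → ℕ} {g : H n σ} (hg : g ∈ Par σ blk) :
    g ∈ Subgroup.normalizer (Rad σ blk : Set (H n σ)) := by
  rw [Subgroup.mem_normalizer_iff_map_conj_eq]
  refine Subgroup.eq_of_le_of_card_ge ?_ (Subgroup.card_map_of_injective (MulAut.conj g).injective).ge
  rintro _ ⟨x, hx, rfl⟩
  exact Rad_conj hg hx

theorem pEl_mem_pGen [Finite F] (p : ℕ) [Fact p.Prime] {blk : Fin n → ℕ} {x : H n σ} (hx : x ∈ Par σ blk)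
    (h : (x : SLn) ^ p ^ 2 = 1) : x ∈ pGen p (Rad σ blk) := by
  obtain ⟨k, -, hk⟩ := (Nat.dvd_prime_pow (Fact.out : p.Prime) (m := 2)).1
    (orderOf_dvd_of_pow_eq_one (show x ^ p ^ 2 = 1 from Subtype.ext h))
  exact Subgroup.subset_closure ⟨Par_normalizes hx, k, hk⟩

/-- A conjugate of a unipotent element lies in the unipotent subgroup: columns of a monomial element. -/
theorem col_eq {x y w : H n σ} (e : y * w = w * x) (k l : Fin n) :
    (mat y *ᵥ (mat w *ᵥ Pi.single k 1)) l = (mat w *ᵥ (mat x *ᵥ Pi.single k 1)) l := by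
  rw [Matrix.mulVec_mulVec, Matrix.mulVec_mulVec, ← mat_mul, ← mat_mul, e]

/-! ### The adjacent pair -/

theorem radI [Finite F] (p : ℕ) [Fact p.Prime] [CharP F p] (h : UFrob σ q) {i : ℕ} (hi : i + 1 < n / 2)
    {a b : Fin n} (hai : (a : ℕ) = i) (hbi : (b : ℕ) = i + 1) :
    (∃ w ∈ Subgroup.normalizer (Rad σ (blkI n i) : Set (H n σ)), ∀ x ∈ UH n σ,
      w * x * w⁻¹ ∈ UH n σ → x ∈ Rad σ (blkI n i)) ∧
    ∀ u : F, u ≠ 0 → ∃ g ∈ pGen p (Rad σ (blkI n i)), mat g = Matrix.diagonal fun k =>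
      if k = a then u else if k = b then u⁻¹ else if k = Fin.rev b then σ u
      else if k = Fin.rev a then (σ u)⁻¹ else 1 := by
  have hab : a ≠ b := by rw [Ne, Fin.ext_iff]; omega
  have ha : a ≠ Fin.rev a := by rw [Ne, Fin.ext_iff, Fin.val_rev]; omega
  have hb : b ≠ Fin.rev b := by rw [Ne, Fin.ext_iff, Fin.val_rev]; omega
  have hab' : a ≠ Fin.rev b := by rw [Ne, Fin.ext_iff, Fin.val_rev]; omega
  have h1 : blkI n i a = blkI n i b := by simp only [blkI, hai, hbi]; split_ifs <;> omega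
  have h2 : blkI n i (Fin.rev a) = blkI n i (Fin.rev b) := blkI_symm hi _ _ h1
  let X : F → H n σ := fun t => Sh h hab ha hb t
  let Y : F → H n σ := fun t => Sh h hab.symm hb ha t
  have hX : ∀ t, X t ∈ Par σ (blkI n i) := fun t => Sh_mem_Par h _ _ _ t h1.le h2.ge
  have hY : ∀ t, Y t ∈ Par σ (blkI n i) := fun t => Sh_mem_Par h _ _ _ t h1.ge h2.le
  let W : F → H n σ := fun t => X t * Y (-t⁻¹) * X t
  have hW : ∀ t (v : Vn) (k : Fin n), t ≠ 0 → (mat (W t) *ᵥ v) k = _ :=
    fun t v k ht => mulVec_Wp (σ := σ) hab ha hb hab' ht v k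
  refine ⟨⟨W 1, Par_normalizes ((Par σ _).mul_mem ((Par σ _).mul_mem (hX 1) (hY _)) (hX 1)), ?_⟩, ?_⟩
  · intro x hx hy
    refine ⟨UH_le_Par (blkI_mono hi) hx, ?_⟩
    have e : W 1 * x * (W 1)⁻¹ * W 1 = W 1 * x := inv_mul_cancel_right _ _
    have hba : (a : ℕ) < (b : ℕ) := by omega
    have ne1 : Fin.rev a ≠ a := ha.symm
    have ne2 : Fin.rev a ≠ b := fun hh => hab' (by rw [← hh, Fin.rev_rev])
    have ne3 : Fin.rev a ≠ Fin.rev b := fun hh => hab (Fin.rev_injective hh)
    have ne4 : b ≠ Fin.rev a := fun hh => hab' (by rw [hh, Fin.rev_rev])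
    have e1 : mat x a b = 0 := by
      have hwcol : mat (W 1) *ᵥ Pi.single b 1 = Pi.single a (1 : F) := by
        funext k
        rw [hW 1 _ k one_ne_zero]
        rcases eq_or_ne k a with rfl | hka
        · simp [hab, hab.symm, ha, ha.symm, hb, hb.symm, hab', hab'.symm, ne3, ne3.symm, ne4, ne4.symm]
        rcases eq_or_ne k b with rfl | hkb
        · simp [hab, hab.symm, ha, ha.symm, hb, hb.symm, hab', hab'.symm, ne3, ne3.symm, ne4, ne4.symm]
        rcases eq_or_ne k (Fin.rev b) with rfl | hkb'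
        · simp [hab, hab.symm, ha, ha.symm, hb, hb.symm, hab', hab'.symm, ne3, ne3.symm, ne4, ne4.symm]
        rcases eq_or_ne k (Fin.rev a) with rfl | hka'
        · simp [hab, hab.symm, ha, ha.symm, hb, hb.symm, hab', hab'.symm, ne3, ne3.symm, ne4, ne4.symm]
        · simp [hka, hkb, hkb', hka']
      have := col_eq e b b
      rw [hwcol, hW 1 _ b one_ne_zero] at this
      simp [hab, hab.symm] at this
      have h0 : mat (W 1 * x * (W 1)⁻¹) b a = 0 := UH_low hy hba
      rw [h0] at this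
      simpa using this.symm
    have e2 : mat x (Fin.rev b) (Fin.rev a) = 0 := by
      have hwcol : mat (W 1) *ᵥ Pi.single (Fin.rev a) 1 = Pi.single (Fin.rev b) (-1 : F) := by
        funext k
        rw [hW 1 _ k one_ne_zero]
        rcases eq_or_ne k a with rfl | hka
        · simp [hab, hab.symm, ha, ha.symm, hb, hb.symm, hab', hab'.symm, ne3, ne3.symm, ne4, ne4.symm]
        rcases eq_or_ne k b with rfl | hkb
        · simp [hab, hab.symm, ha, ha.symm, hb, hb.symm, hab', hab'.symm, ne3, ne3.symm, ne4, ne4.symm]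
        rcases eq_or_ne k (Fin.rev b) with rfl | hkb'
        · simp [hab, hab.symm, ha, ha.symm, hb, hb.symm, hab', hab'.symm, ne3, ne3.symm, ne4, ne4.symm]
        rcases eq_or_ne k (Fin.rev a) with rfl | hka'
        · simp [hab, hab.symm, ha, ha.symm, hb, hb.symm, hab', hab'.symm, ne3, ne3.symm, ne4, ne4.symm]
        · simp [hka, hkb, hkb', hka']
      have := col_eq e (Fin.rev a) (Fin.rev a)
      rw [hwcol, hW 1 _ (Fin.rev a) one_ne_zero] at this
      simp [ne1, ne2, ne3] at this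
      have h0 : mat (W 1 * x * (W 1)⁻¹) (Fin.rev a) (Fin.rev b) = 0 := UH_low hy (by
        rw [Fin.lt_def, Fin.val_rev, Fin.val_rev]; have := b.2; omega)
      rw [h0] at this
      simpa using this.symm
    ext r c
    show (if blkI n i r = blkI n i c then mat x r c else 0) = _
    split_ifs with hrc
    · rcases lt_trichotomy r c with hlt | rfl | hlt
      · rw [Matrix.one_apply_ne hlt.ne]
        have hlt' : (r : ℕ) < (c : ℕ) := hlt
        have hr := r.2
        have hc := c.2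
        simp only [blkI] at hrc
        split_ifs at hrc <;> try omega
        all_goals
          first
          | (rw [show r = a from Fin.ext (by omega), show c = b from Fin.ext (by omega)]; exact e1)
          | (rw [show r = Fin.rev b from Fin.ext (by rw [Fin.val_rev]; omega),
              show c = Fin.rev a from Fin.ext (by rw [Fin.val_rev]; omega)]; exact e2)
      · rw [UH_diag hx, Matrix.one_apply_eq]
      · rw [UH_low hx hlt, Matrix.one_apply_ne hlt.ne']
    · exact (Matrix.one_apply_ne fun hh => hrc (congrArg _ hh)).symm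
  · intro u hu
    have hX' : ∀ t, X t ∈ pGen p (Rad σ (blkI n i)) := fun t => pEl_mem_pGen p (hX t) (pow_sh p hab ha hb t)
    have hY' : ∀ t, Y t ∈ pGen p (Rad σ (blkI n i)) := fun t => pEl_mem_pGen p (hY t) (pow_sh p hab.symm hb ha t)
    have hW' : ∀ t, W t ∈ pGen p (Rad σ (blkI n i)) := fun t =>
      Subgroup.mul_mem _ (Subgroup.mul_mem _ (hX' t) (hY' _)) (hX' t)
    exact ⟨W u * W (-1), Subgroup.mul_mem _ (hW' u) (hW' (-1)), hp_eq hab ha hb hab' hu⟩

/-! ### The middle block -/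

theorem radM_even [Finite F] (p : ℕ) [Fact p.Prime] [CharP F p] (h : UFrob σ q) (hn : 4 ≤ n) (heven : n % 2 = 0)
    {j : Fin n} (hj : (j : ℕ) = n / 2 - 1) :
    (∃ w ∈ Subgroup.normalizer (Rad σ (blkM n) : Set (H n σ)), ∀ x ∈ UH n σ,
      w * x * w⁻¹ ∈ UH n σ → x ∈ Rad σ (blkM n)) ∧
    ∀ u : F, u ≠ 0 → σ u = u → ∃ g ∈ pGen p (Rad σ (blkM n)), mat g = Matrix.diagonal fun k =>
      if k = j then u else if k = Fin.rev j then u⁻¹ else 1 := by
  obtain ⟨θ, hθ0, hθ⟩ := exists_skew h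
  have hjj : j ≠ Fin.rev j := by rw [Ne, Fin.ext_iff, Fin.val_rev]; omega
  have hjlt : j < Fin.rev j := by rw [Fin.lt_def, Fin.val_rev]; omega
  have hjj' : Fin.rev j ≠ Fin.rev (Fin.rev j) := by rw [Fin.rev_rev]; exact hjj.symm
  have h1 : blkM n j = blkM n (Fin.rev j) := by simp only [blkM, Fin.val_rev]; split_ifs <;> omega
  have hG : ∀ (d : F) (hd : d + σ d = 0), ∃ g ∈ Par σ (blkM n), (g ∈ pGen p (Rad σ (blkM n))) ∧
      mat g = ((Wl hjj d : SLn) : Mn) := by
    intro d hd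
    let x₁ := Lg h hjj (-d⁻¹) (skew_neg_inv hd)
    let y := Lg h hjj' d hd
    have hx₁ : x₁ ∈ Par σ (blkM n) := Lg_mem_Par h _ _ _ h1.le
    have hy : y ∈ Par σ (blkM n) := Lg_mem_Par h _ _ _ (by rw [Fin.rev_rev]; exact h1.ge)
    exact ⟨x₁ * y * x₁, (Par σ _).mul_mem ((Par σ _).mul_mem hx₁ hy) hx₁,
      Subgroup.mul_mem _ (Subgroup.mul_mem _ (pEl_mem_pGen p hx₁ (pow_lg p hjj _))
        (pEl_mem_pGen p hy (pow_lg p hjj' _))) (pEl_mem_pGen p hx₁ (pow_lg p hjj _)), rfl⟩
  refine ⟨?_, ?_⟩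
  · obtain ⟨w, hw, -, hwe⟩ := hG θ hθ
    refine ⟨w, Par_normalizes hw, fun x hx hy => ⟨UH_le_Par blkM_mono hx, ?_⟩⟩
    have e : w * x * w⁻¹ * w = w * x := inv_mul_cancel_right _ _
    have e1 : mat x j (Fin.rev j) = 0 := by
      have hW : ∀ (v : Vn) (k : Fin n), (mat w *ᵥ v) k = _ := fun v k =>
        (congrArg (fun M : Mn => (M *ᵥ v) k) hwe).trans (mulVec_Wl hjj hθ0 v k)
      have hwcol : mat w *ᵥ Pi.single (Fin.rev j) 1 = Pi.single j (-θ⁻¹) := by
        funext k
        rw [hW]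
        rcases eq_or_ne k j with rfl | hkj
        · simp [hjj, hjj.symm]
        rcases eq_or_ne k (Fin.rev j) with rfl | hkj'
        · simp [hjj, hjj.symm]
        · simp [hkj, hkj']
      have := col_eq e (Fin.rev j) (Fin.rev j)
      rw [hwcol, hW] at this
      simp [hjj.symm] at this
      have h0 : mat (w * x * w⁻¹) (Fin.rev j) j = 0 := UH_low hy hjlt
      simp [h0] at this
      exact this.resolve_left hθ0
    ext r c
    show (if blkM n r = blkM n c then mat x r c else 0) = _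
    split_ifs with hrc
    · rcases lt_trichotomy r c with hlt | rfl | hlt
      · rw [Matrix.one_apply_ne hlt.ne]
        have hlt' : (r : ℕ) < (c : ℕ) := hlt
        simp only [blkM] at hrc
        split_ifs at hrc <;> try omega
        rw [show r = j from Fin.ext (by omega), show c = Fin.rev j from Fin.ext (by rw [Fin.val_rev]; omega)]
        exact e1
      · rw [UH_diag hx, Matrix.one_apply_eq]
      · rw [UH_low hx hlt, Matrix.one_apply_ne hlt.ne']
    · exact (Matrix.one_apply_ne fun hh => hrc (congrArg _ hh)).symm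
  · intro u hu hσu
    have hd : -θ / u + σ (-θ / u) = 0 := by
      rw [map_div₀, map_neg, hσu, ← add_div, show -θ + -σ θ = -(θ + σ θ) by ring, hθ, neg_zero, zero_div]
    obtain ⟨g₁, -, hg₁, hg₁e⟩ := hG θ hθ
    obtain ⟨g₂, -, hg₂, hg₂e⟩ := hG _ hd
    refine ⟨g₂ * g₁, Subgroup.mul_mem _ hg₂ hg₁, ?_⟩
    rw [mat_mul, hg₁e, hg₂e, ← Matrix.SpecialLinearGroup.coe_mul]
    exact hl_eq hjj hθ0 hu

theorem radM_odd [Finite F] (p : ℕ) [Fact p.Prime] [CharP F p] (hF : Nat.card F = q ^ 2) (h : UFrob σ q)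
    (hn : 4 ≤ n) (hodd : n % 2 = 1) {j z : Fin n} (hj : (j : ℕ) = n / 2 - 1) (hzv : (z : ℕ) = n / 2) :
    (∃ w ∈ Subgroup.normalizer (Rad σ (blkM n) : Set (H n σ)), ∀ x ∈ UH n σ,
      w * x * w⁻¹ ∈ UH n σ → x ∈ Rad σ (blkM n)) ∧
    ∀ u : F, u ≠ 0 → ∃ g ∈ pGen p (Rad σ (blkM n)), mat g = Matrix.diagonal fun k =>
      if k = j then u else if k = Fin.rev j then (σ u)⁻¹ else if k = z then σ u / u else 1 := by
  have hjj : j ≠ Fin.rev j := by rw [Ne, Fin.ext_iff, Fin.val_rev]; omega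
  have hjz : j ≠ z := by rw [Ne, Fin.ext_iff]; omega
  have hzj : z ≠ Fin.rev j := by rw [Ne, Fin.ext_iff, Fin.val_rev]; omega
  have hz : Fin.rev z = z := by rw [Fin.ext_iff, Fin.val_rev]; omega
  have hjlt : j < Fin.rev j := by rw [Fin.lt_def, Fin.val_rev]; omega
  have hzlt : z < Fin.rev j := by rw [Fin.lt_def, Fin.val_rev]; omega
  have hjj' : Fin.rev j ≠ Fin.rev (Fin.rev j) := by rw [Fin.rev_rev]; exact hjj.symm
  have hzj' : z ≠ Fin.rev (Fin.rev j) := by rw [Fin.rev_rev]; exact hjz.symm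
  have hb1 : blkM n j = blkM n z := by simp only [blkM]; split_ifs <;> omega
  have hb2 : blkM n z = blkM n (Fin.rev j) := by simp only [blkM, Fin.val_rev]; split_ifs <;> omega
  have hnorm : ∀ d : F, ∃ c : F, d + σ d + c * σ c = 0 := fun d => by
    obtain ⟨c, hc⟩ := exists_pow_succ_eq hF (c := -(d + σ d))
      (by rw [← h.pow, map_neg, map_add, h.invol, add_comm])
    exact ⟨c, by rw [h.pow c, ← pow_succ', hc]; ring⟩
  have hG : ∀ (c d : F) (hd : d ≠ 0) (hc : d + σ d + c * σ c = 0), ∃ g ∈ Par σ (blkM n),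
      (g ∈ pGen p (Rad σ (blkM n))) ∧ mat g = ((Wz hjz hzj hjj σ c d : SLn) : Mn) := by
    intro c d hd hc
    let x₁ := Xz h hjz hzj hjj hz (-c / σ d) (σ d)⁻¹ (wz_cond_left h hd hc)
    let x₂ := Xz h hjz hzj hjj hz (-c / d) (σ d)⁻¹ (wz_cond_right h hd hc)
    let y := Xz h hzj.symm hzj' hjj' hz c d hc
    have hx₁ : x₁ ∈ Par σ (blkM n) := Xz_mem_Par h _ _ _ _ _ _ _ hb1.le hb2.le
    have hx₂ : x₂ ∈ Par σ (blkM n) := Xz_mem_Par h _ _ _ _ _ _ _ hb1.le hb2.le
    have hy : y ∈ Par σ (blkM n) := Xz_mem_Par h _ _ _ _ _ _ _ hb2.ge (by rw [Fin.rev_rev]; exact hb1.ge)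
    exact ⟨x₁ * y * x₂, (Par σ _).mul_mem ((Par σ _).mul_mem hx₁ hy) hx₂,
      Subgroup.mul_mem _ (Subgroup.mul_mem _ (pEl_mem_pGen p hx₁ (pow_xz p _ _ _ _ _))
        (pEl_mem_pGen p hy (pow_xz p _ _ _ _ _))) (pEl_mem_pGen p hx₂ (pow_xz p _ _ _ _ _)), rfl⟩
  refine ⟨?_, ?_⟩
  · obtain ⟨c, hc⟩ := hnorm 1
    obtain ⟨w, hw, -, hwe⟩ := hG c 1 one_ne_zero hc
    refine ⟨w, Par_normalizes hw, fun x hx hy => ⟨UH_le_Par blkM_mono hx, ?_⟩⟩
    have e : w * x * w⁻¹ * w = w * x := inv_mul_cancel_right _ _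
    have hW : ∀ (v : Vn) (k : Fin n), (mat w *ᵥ v) k = _ := fun v k =>
      (congrArg (fun M : Mn => (M *ᵥ v) k) hwe).trans (mulVec_Wz h hjz hzj hjj one_ne_zero hc v k)
    have hwcol : mat w *ᵥ Pi.single (Fin.rev j) 1 = Pi.single j (1 : F) := by
      funext k
      rw [hW]
      rcases eq_or_ne k j with rfl | hkj
      · simp [hjj, hjj.symm, hjz, hjz.symm, hzj, hzj.symm]
      rcases eq_or_ne k (Fin.rev j) with rfl | hkj'
      · simp [hjj, hjj.symm, hjz, hjz.symm, hzj, hzj.symm]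
      rcases eq_or_ne k z with rfl | hkz
      · simp [hjj, hjj.symm, hjz, hjz.symm, hzj, hzj.symm]
      · simp [hkj, hkj', hkz]
    have hwcolz : mat w *ᵥ Pi.single z 1 = Pi.single z (-1 : F) := by
      funext k
      rw [hW]
      rcases eq_or_ne k j with rfl | hkj
      · simp [hjj, hjj.symm, hjz, hjz.symm, hzj, hzj.symm]
      rcases eq_or_ne k (Fin.rev j) with rfl | hkj'
      · simp [hjj, hjj.symm, hjz, hjz.symm, hzj, hzj.symm]
      rcases eq_or_ne k z with rfl | hkz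
      · simp [hjj, hjj.symm, hjz, hjz.symm, hzj, hzj.symm]
      · simp [hkj, hkj', hkz]
    have e1 : mat x j (Fin.rev j) = 0 := by
      have := col_eq e (Fin.rev j) (Fin.rev j)
      rw [hwcol, hW] at this
      simp [hjj.symm] at this
      have h0 : mat (w * x * w⁻¹) (Fin.rev j) j = 0 := UH_low hy hjlt
      rw [h0] at this
      exact this.symm
    have e2 : mat x z (Fin.rev j) = 0 := by
      have := col_eq e (Fin.rev j) z
      rw [hwcol, hW] at this
      simp [hjz.symm, hzj] at this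
      have h0 : mat (w * x * w⁻¹) z j = 0 := UH_low hy (show j < z by rw [Fin.lt_def]; omega)
      rw [h0] at this
      simpa using this.symm
    have e3 : mat x j z = 0 := by
      have := col_eq e z (Fin.rev j)
      rw [hwcolz, hW] at this
      simp [hjj.symm] at this
      have h0 : mat (w * x * w⁻¹) (Fin.rev j) z = 0 := UH_low hy hzlt
      rw [h0] at this
      simpa using this.symm
    ext r c
    show (if blkM n r = blkM n c then mat x r c else 0) = _
    split_ifs with hrc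
    · rcases lt_trichotomy r c with hlt | rfl | hlt
      · rw [Matrix.one_apply_ne hlt.ne]
        have hlt' : (r : ℕ) < (c : ℕ) := hlt
        simp only [blkM] at hrc
        split_ifs at hrc <;> try omega
        by_cases hrj : r = j
        · by_cases hcz : c = z
          · rw [hrj, hcz]; exact e3
          · have : (c : ℕ) ≠ (z : ℕ) := fun hh => hcz (Fin.ext hh)
            have : (r : ℕ) = (j : ℕ) := by rw [hrj]
            rw [hrj, show c = Fin.rev j from Fin.ext (by rw [Fin.val_rev]; omega)]; exact e1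
        · have : (r : ℕ) ≠ (j : ℕ) := fun hh => hrj (Fin.ext hh)
          rw [show r = z from Fin.ext (by omega), show c = Fin.rev j from Fin.ext (by rw [Fin.val_rev]; omega)]
          exact e2
      · rw [UH_diag hx, Matrix.one_apply_eq]
      · rw [UH_low hx hlt, Matrix.one_apply_ne hlt.ne']
    · exact (Matrix.one_apply_ne fun hh => hrc (congrArg _ hh)).symm
  · intro u hu
    obtain ⟨c₁, hc₁⟩ := hnorm 1
    obtain ⟨c₂, hc₂⟩ := hnorm (σ 1 / σ u)
    obtain ⟨g₁, -, hg₁, hg₁e⟩ := hG c₁ 1 one_ne_zero hc₁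
    obtain ⟨g₂, -, hg₂, hg₂e⟩ := hG c₂ _ (div_ne_zero ((map_ne_zero σ).2 one_ne_zero) ((map_ne_zero σ).2 hu)) hc₂
    refine ⟨g₂ * g₁, Subgroup.mul_mem _ hg₂ hg₁, ?_⟩
    rw [mat_mul, hg₁e, hg₂e, ← Matrix.SpecialLinearGroup.coe_mul]
    exact hz_eq h hjz hzj hjj one_ne_zero hu hc₁ hc₂

end CfsgLib.Involutions.UAnti
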