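import Cfsg.Agent.Lib.Involutions.PSpUnip

/-!
Root elements, torus, Borel normaliser and centralisers of Siegel radicals in `Sp_{2m}`.
-/

set_option autoImplicit false

namespace CfsgLib.Involutions.PSpUnip

open Matrix CfsgLib.KnownB.PSLAut CfsgLib.Involutions.PSLUnip

variable {m : ℕ} {F : Type*} [Field F]

local notation "Sp" => Matrix.symplecticGroup (Fin m) F
local notation "Mm" => Matrix (Fin m) (Fin m) F
local notation "SLm" => Matrix.SpecialLinearGroup (Fin m) F
local notation "GLm" => GL (Fin m) F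
local notation "V" => (Fin m ⊕ Fin m → F)

/-! ### Root elements -/

/-- The symmetric matrix `t (E_ij + E_ji)`. -/
def sh (i j : Fin m) (t : F) : Mm := Matrix.single i j t + Matrix.single j i t

theorem sh_symm (i j : Fin m) (t : F) : (sh i j t).IsSymm := by
  simp [Matrix.IsSymm, sh, add_comm]

/-- The long root element at `e_l`. -/
def xl (l : Fin m) (t : F) : Sp := A (Matrix.single l l t) (single_symm l t)

/-- The long root element at `f_l`. -/
def yl (l : Fin m) (t : F) : Sp := A' (Matrix.single l l t) (single_symm l t)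

/-- The Weyl element exchanging `e_l` and `f_l`. -/
def wl (l : Fin m) : Sp := xl l 1 * yl l (-1) * xl l 1

theorem mulVec_xl (l : Fin m) (t : F) (v : V) :
    (xl l t).1 *ᵥ v = v + Pi.single (Sum.inl l) (t * v (Sum.inr l)) := by
  rw [xl, A, Matrix.fromBlocks_mulVec]
  funext k
  rcases k with k | k <;> simp [Matrix.single_mulVec_eq, Pi.single_apply]

theorem mulVec_yl (l : Fin m) (t : F) (v : V) :
    (yl l t).1 *ᵥ v = v + Pi.single (Sum.inr l) (t * v (Sum.inl l)) := by
  rw [yl, A', Matrix.fromBlocks_mulVec]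
  funext k
  rcases k with k | k <;> simp [Matrix.single_mulVec_eq, Pi.single_apply, add_comm]

theorem mulVec_A_sh (i j : Fin m) (t : F) (v : V) :
    (A (sh i j t) (sh_symm i j t)).1 *ᵥ v = v + Pi.single (Sum.inl i) (t * v (Sum.inr j)) +
      Pi.single (Sum.inl j) (t * v (Sum.inr i)) := by
  rw [A, Matrix.fromBlocks_mulVec]
  funext k
  rcases k with k | k <;> simp [sh, Matrix.add_mulVec, Matrix.single_mulVec_eq, Pi.single_apply]
  ring

theorem mulVec_Ls_transvection {i j : Fin m} (h : i ≠ j) (t : F) (v : V) :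
    (Ls (Matrix.SpecialLinearGroup.transvection h t)).1 *ᵥ v = v + Pi.single (Sum.inl i) (t * v (Sum.inl j)) +
      Pi.single (Sum.inr j) (-t * v (Sum.inr i)) := by
  rw [val_eq, b11_Ls, b12_Ls, b21_Ls, b22_Ls, Matrix.SpecialLinearGroup.transvection_inv, Matrix.fromBlocks_mulVec]
  funext k
  rcases k with k | k <;>
    simp [Matrix.SpecialLinearGroup.transvection_coe, Matrix.transpose_add, Matrix.add_mulVec,
      Matrix.single_mulVec_eq, Pi.single_apply]
  split_ifs <;> simp

theorem mulVec_L_diag (t : Fin m → Fˣ) (v : V) :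
    (L (diagGL t)).1 *ᵥ v = Sum.elim (fun k => (t k : F) * v (Sum.inl k))
      (fun k => ((t k)⁻¹ : Fˣ) * v (Sum.inr k)) := by
  rw [val_eq, b11_L, b12_L, b21_L, b22_L, Matrix.fromBlocks_mulVec]
  have h1 : ((diagGL t : GLm) : Mm) = Matrix.diagonal fun i => (t i : F) := rfl
  have h2 : (((diagGL t)⁻¹ : GLm) : Mm) = Matrix.diagonal fun i => (((t i)⁻¹ : Fˣ) : F) := rfl
  funext k
  rcases k with k | k
  · simp [h1, Matrix.mulVec_diagonal]
  · rw [h2]; simp [Matrix.mulVec_diagonal]

theorem sp_ext' {g h : Sp} (he : ∀ v, g.1 *ᵥ v = h.1 *ᵥ v) : g = h :=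
  Subtype.ext (Matrix.ext_iff_mulVec.2 he)

theorem yl_inv (l : Fin m) (t : F) : (yl l t : Sp)⁻¹ = yl l (-t) := by
  refine inv_eq_of_mul_eq_one_right (sp_ext' fun v => ?_)
  show ((yl l t).1 * (yl l (-t)).1) *ᵥ v = (1 : Matrix (Fin m ⊕ Fin m) (Fin m ⊕ Fin m) F) *ᵥ v
  rw [← Matrix.mulVec_mulVec, mulVec_yl, mulVec_yl, Matrix.one_mulVec]
  funext k
  rcases k with k | k <;> simp [Pi.single_apply] <;> split_ifs <;> simp

theorem xl_inv (l : Fin m) (t : F) : (xl l t : Sp)⁻¹ = xl l (-t) := by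
  refine inv_eq_of_mul_eq_one_right (sp_ext' fun v => ?_)
  show ((xl l t).1 * (xl l (-t)).1) *ᵥ v = (1 : Matrix (Fin m ⊕ Fin m) (Fin m ⊕ Fin m) F) *ᵥ v
  rw [← Matrix.mulVec_mulVec, mulVec_xl, mulVec_xl, Matrix.one_mulVec]
  funext k
  rcases k with k | k <;> simp [Pi.single_apply] <;> split_ifs <;> simp

theorem wl_conj_short {i j : Fin m} (h : i ≠ j) (t : F) :
    wl j * A (sh i j t) (sh_symm i j t) * (wl j)⁻¹ = Ls (Matrix.SpecialLinearGroup.transvection h t) := by
  refine sp_ext' fun v => ?_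
  simp only [wl, _root_.mul_inv_rev, xl_inv, yl_inv, Submonoid.coe_mul, ← Matrix.mulVec_mulVec, mulVec_xl,
    mulVec_yl, mulVec_A_sh, mulVec_Ls_transvection]
  funext k
  rcases k with k | k
  · rcases eq_or_ne k j with rfl | hk
    · simp [h, h.symm, Pi.single_apply]
      ring
    · rcases eq_or_ne k i with rfl | hk'
      · simp [h, h.symm, Pi.single_apply]
      · simp [h, h.symm, hk, hk', Pi.single_apply]
  · rcases eq_or_ne k j with rfl | hk
    · simp [h, h.symm, Pi.single_apply]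
      ring
    · simp [h, h.symm, hk, Pi.single_apply]

theorem wl_conj_entry (l : Fin m) (x : Sp) : b21 (wl l * x * (wl l)⁻¹) l l = -b12 x l l := by
  have key : ∀ s : Sp, b21 s l l = (s.1 *ᵥ Pi.single (Sum.inl l) 1) (Sum.inr l) := fun s => by
    simp [b21, Matrix.toBlocks₂₁]
  rw [key]
  simp only [wl, _root_.mul_inv_rev, xl_inv, yl_inv, Submonoid.coe_mul, ← Matrix.mulVec_mulVec, mulVec_xl,
    mulVec_yl]
  simp [Pi.single_apply, Matrix.mulVec_add, b12, Matrix.toBlocks₁₂]

theorem torus_last (l : Fin m) (a : Fˣ) :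
    L (diagGL (Pi.mulSingle l a)) = xl l (a : F) * yl l (-((a⁻¹ : Fˣ) : F)) * xl l (a : F) *
      xl l (-1) * yl l 1 * xl l (-1) := by
  refine sp_ext' fun v => ?_
  simp only [Submonoid.coe_mul, ← Matrix.mulVec_mulVec, mulVec_xl, mulVec_yl, mulVec_L_diag]
  funext k
  rcases k with k | k
  · rcases eq_or_ne k l with rfl | hk
    · simp [Pi.single_apply]; field_simp; ring
    · simp [hk, Pi.single_apply]
  · rcases eq_or_ne k l with rfl | hk
    · simp [Pi.single_apply]; field_simp; ring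
    · simp [hk, Pi.single_apply]

theorem torus_adj {i j : Fin m} (h : i ≠ j) (a : Fˣ) :
    L (diagGL (Pi.mulSingle i a * Pi.mulSingle j a⁻¹)) =
      Ls (Matrix.SpecialLinearGroup.diag2n h (a : F) a.ne_zero) := by
  rw [Ls, MonoidHom.comp_apply]
  refine congrArg L (Units.ext ?_)
  show Matrix.diagonal _ = ((Matrix.SpecialLinearGroup.diag2n h (a : F) a.ne_zero : SLm) : Mm)
  rw [Matrix.SpecialLinearGroup.diag2n_coe]
  congr 1
  funext r
  rcases eq_or_ne r i with rfl | hri
  · simp [h]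
  · rcases eq_or_ne r j with rfl | hrj
    · simp [hri]
    · simp [hri, hrj]

theorem transvection_pow_char (p : ℕ) [CharP F p] {i j : Fin m} (h : i ≠ j) (c : F) :
    (Matrix.SpecialLinearGroup.transvection h c : SLm) ^ p = 1 := by
  have hpow : ∀ k : ℕ, (tv (Pi.single i c) (Pi.single j 1) : SLm) ^ k =
      tv (Pi.single i ((k : F) * c)) (Pi.single j 1) := by
    intro k
    induction k with
    | zero =>
      refine Subtype.ext ?_
      rw [pow_zero, tv_val (X_dot h _)]
      simp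
    | succ k ih =>
      rw [pow_succ, ih, tv_mul_left (X_dot h _) (X_dot h _), ← Pi.single_add, Nat.cast_succ, add_mul, one_mul]
  rw [← tv_single_eq h, hpow, CharP.cast_eq_zero, zero_mul]
  refine Subtype.ext ?_
  rw [tv_val (X_dot h _)]
  simp

/-! ### Normaliser and `p`-part -/

theorem mem_Usp_of {s : Sp} (h21 : b21 s = 0) (htri : (b11 s).BlockTriangular id) (hdiag : ∀ r, b11 s r r = 1) :
    s ∈ Usp m F :=
  ⟨h21, ⟨b11 s, by rw [Matrix.det_of_isUpperTriangular htri]; simp [hdiag]⟩, ⟨htri, hdiag⟩, rfl⟩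

theorem upper_pow {a : Mm} (ha : a.BlockTriangular id) (k : ℕ) :
    (a ^ k).BlockTriangular id ∧ ∀ i, (a ^ k) i i = a i i ^ k := by
  induction k with
  | zero => exact ⟨by rw [pow_zero]; exact Matrix.blockTriangular_one, fun i => by simp⟩
  | succ k ih =>
    exact ⟨by rw [pow_succ]; exact ih.1.mul ha,
      fun i => by rw [pow_succ, blockTriangular_diag_mul ih.1 ha, ih.2, pow_succ]⟩

theorem pow_blocks {s : Sp} (hs : b21 s = 0) (k : ℕ) : b21 (s ^ k) = 0 ∧ b11 (s ^ k) = b11 s ^ k := by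
  induction k with
  | zero => simp
  | succ k ih => exact ⟨by simp [pow_succ, b21_mul, ih.1, hs], by simp [pow_succ, b11_mul, ih.2, hs]⟩

theorem borel_of_normalizer [Finite F] {g : Sp} (hg : ∀ x ∈ Usp m F, g * x * g⁻¹ ∈ Usp m F) :
    b21 g = 0 ∧ (b11 g).BlockTriangular id := by
  have h21 : b21 g = 0 := by
    ext r i
    have hm := (hg _ (A_mem_par (hX := single_symm i (1 : F)) (U m F))).1
    have h0 : b21 (g * g⁻¹) = 0 := by rw [mul_inv_cancel, b21_one]
    rw [b21_mul, b11_inv, b21_inv] at h0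
    rw [b21_mul, b21_mul, b22_mul, b11_inv, b21_inv, b11_A, b12_A, b21_A, b22_A] at hm
    simp only [mul_one, mul_zero, add_zero, add_mul] at hm
    have hz : b21 g * Matrix.single i i 1 * -(b21 g)ᵀ = 0 := by
      have := sub_eq_zero.2 (hm.trans h0.symm)
      rw [← this]; abel
    have := congrFun (congrFun hz r) r
    rw [conj_single_entry, Matrix.neg_apply, Matrix.transpose_apply, Matrix.zero_apply, mul_neg, neg_eq_zero,
      mul_self_eq_zero] at this
    exact this
  refine ⟨h21, upper_of_entries (inv_b11 h21) fun i j k l hij hl => ?_⟩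
  have hx := hg _ (Ls_mem_par (transvection_mem_U hij (1 : F)))
  obtain ⟨-, u, hu, hue⟩ := hx
  rw [b11_conj h21 (b21_Ls _), b11_Ls, Matrix.SpecialLinearGroup.transvection_coe, mul_add, mul_one, add_mul,
    mul_eq_one_comm.1 (inv_b11 h21)] at hue
  have he := congrFun (congrFun hue k) l
  rw [Matrix.add_apply, conj_single_entry] at he
  rcases eq_or_lt_of_le hl with rfl | hlt
  · rw [hu.2, Matrix.one_apply_eq] at he
    simpa using he.symm
  · rw [hu.1 hlt, Matrix.one_apply_ne hlt.ne', zero_add] at he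
    exact he.symm

theorem eq_one_of_pow_char (p : ℕ) [Fact p.Prime] [CharP F p] {r : F} {k : ℕ} (h : r ^ p ^ k = 1) : r = 1 := by
  have h3 : (r - 1) ^ p ^ k = 0 := by rw [sub_pow_char_pow, h, one_pow, sub_self]
  exact sub_eq_zero.1 (eq_zero_of_pow_eq_zero h3)

theorem pEl_mem_Usp (p : ℕ) [Fact p.Prime] [CharP F p] [Finite F] {g : Sp}
    (hg : g ∈ Subgroup.normalizer (Usp m F : Set Sp)) {k : ℕ} (hk : g ^ p ^ k = 1) : g ∈ Usp m F := by
  obtain ⟨h21, htri⟩ := borel_of_normalizer fun x hx => (Subgroup.mem_normalizer_iff.1 hg x).1 hx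
  refine mem_Usp_of h21 htri fun r => eq_one_of_pow_char p (k := k) ?_
  rw [← (upper_pow htri (p ^ k)).2 r, ← (pow_blocks h21 (p ^ k)).2, hk, b11_one, Matrix.one_apply_eq]

theorem isPGroup_Usp (p : ℕ) [Fact p.Prime] [CharP F p] [Finite F] : IsPGroup p (Usp m F) := by
  have := Fintype.ofFinite F
  obtain ⟨f, hp, hq⟩ := FiniteField.card F p
  rw [← Nat.card_eq_fintype_card] at hq
  have hP : IsPGroup p (U m F) :=
    IsPGroup.of_card (n := (f : ℕ) * (m * (m - 1) / 2)) (by rw [card_U, hq, pow_mul])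
  rintro ⟨s, h21, u, hu, hue⟩
  obtain ⟨k, hk⟩ := hP ⟨u, hu⟩
  have hk' : u ^ p ^ k = 1 := congrArg Subtype.val hk
  refine ⟨k + 1, Subtype.ext ?_⟩
  show s ^ p ^ (k + 1) = 1
  have h1 := pow_blocks h21 (p ^ k)
  have h2 : b11 (s ^ p ^ k) = 1 := by
    rw [h1.2, ← hue, ← Matrix.SpecialLinearGroup.coe_pow, hk', Matrix.SpecialLinearGroup.coe_one]
  rw [pow_succ, pow_mul, decomp h1.1 (g := 1) (by rw [h2]; rfl), map_one, one_mul, A_pow_char p]

/-! ### Centralisers -/

theorem commute_A {s : Sp} {X : Mm} {hX : X.IsSymm} (h : s * A X hX = A X hX * s) :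
    X * b21 s = 0 ∧ b11 s * X = X * b22 s := by
  have h1 := congrArg b11 h
  have h2 := congrArg b12 h
  simp only [b11_mul, b12_mul, b11_A, b12_A, b21_A, b22_A, mul_one, one_mul, mul_zero, add_zero] at h1 h2
  refine ⟨left_eq_add.1 h1, ?_⟩
  rw [add_comm (b12 s) (X * b22 s)] at h2
  exact add_right_cancel h2

/-- What commutes with the radical of the last minimal parabolic. -/
theorem centralizer_last (hm : 2 ≤ m) {l : Fin m} {s : Sp}
    (h : ∀ (X : Mm) (hX : X.IsSymm), X l l = 0 → s * A X hX = A X hX * s) :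
    b21 s = 0 ∧ (∀ i k, i ≠ l → k ≠ i → b11 s k i = 0) ∧
      ∃ r : F, r * r = 1 ∧ ∀ i, b11 s i i = r := by
  obtain ⟨i₀, hi₀⟩ : ∃ i : Fin m, i ≠ l :=
    Fintype.exists_ne_of_one_lt_card (by rw [Fintype.card_fin]; omega) l
  have hE : ∀ i, i ≠ l → (∀ c, b21 s i c = 0) ∧ (∀ k, k ≠ i → b11 s k i = 0) ∧ b11 s i i = b22 s i i := by
    intro i hi
    obtain ⟨h1, h2⟩ := commute_A (h _ (single_symm i (1 : F)) (by simp [hi]))
    refine ⟨fun c => ?_, fun k hk => ?_, ?_⟩
    · simpa using congrFun (congrFun h1 i) c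
    · simpa [hk] using congrFun (congrFun h2 k) i
    · simpa using congrFun (congrFun h2 i) i
  have hS := fun i (hi : i ≠ l) => commute_A (h _ (sh_symm i l (1 : F)) (by simp [sh, hi]))
  have h21 : b21 s = 0 := by
    ext r c
    by_cases hr : r = l
    · subst hr
      have := congrFun (congrFun (hS i₀ hi₀).1 i₀) c
      simpa [sh, add_mul, hi₀, hi₀.symm] using this
    · exact (hE r hr).1 c
  refine ⟨h21, fun i k hi hk => (hE i hi).2.1 k hk, b11 s i₀ i₀, ?_, ?_⟩
  · have := congrFun (congrFun (inv_b11 h21) i₀) i₀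
    rw [Matrix.mul_apply, Finset.sum_eq_single i₀, Matrix.transpose_apply, Matrix.one_apply_eq,
      ← (hE i₀ hi₀).2.2] at this
    · exact this
    · intro k _ hk; rw [(hE i₀ hi₀).2.1 k hk, mul_zero]
    · simp
  · have hl : ∀ i, i ≠ l → b11 s l l = b11 s i i := by
      intro i hi
      have := congrFun (congrFun (hS i hi).2 l) i
      rw [(hE i hi).2.2]
      simpa [sh, mul_add, add_mul, hi, hi.symm] using this
    intro i
    by_cases hi : i = l
    · subst hi; exact hl i₀ hi₀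
    · exact (hl i hi).symm.trans (hl i₀ hi₀)

/-- What commutes with the whole Siegel radical. -/
theorem centralizer_siegel (hm : 2 ≤ m) {s : Sp}
    (h : ∀ (X : Mm) (hX : X.IsSymm), s * A X hX = A X hX * s) :
    b21 s = 0 ∧ ∃ r : F, r * r = 1 ∧ b11 s = r • 1 := by
  obtain ⟨h21, hoff, r, hr, hd⟩ := centralizer_last hm (l := ⟨m - 1, by omega⟩) fun X hX _ => h X hX
  obtain ⟨-, hoff', -⟩ := centralizer_last hm (l := ⟨0, by omega⟩) fun X hX _ => h X hX
  refine ⟨h21, r, hr, ?_⟩
  ext k i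
  rcases eq_or_ne k i with rfl | hki
  · simp [hd]
  · rw [Matrix.smul_apply, Matrix.one_apply_ne hki, smul_zero]
    by_cases hi : i = ⟨m - 1, by omega⟩
    · exact hoff' i k (by rw [hi, Ne, Fin.ext_iff]; show ¬ (m - 1 = 0); omega) hki
    · exact hoff i k hi hki

end CfsgLib.Involutions.PSpUnip
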