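import Cfsg.Agent.Lib.Involutions.UnitaryUnip
import Cfsg.Agent.Lib.Involutions.FusionSimpleQuotient
import Cfsg.Agent.Lib.Involutions.PSpRoots

/-!
The ingredients for the simplicity of the `p`-fusion system of `PSU_n`: root elements, conjugation identities,
the blocks of the minimal parabolic subgroups.
-/

set_option autoImplicit false

namespace CfsgLib.Involutions.UAnti

open Matrix CfsgLib.KnownB.PSLAut CfsgLib.Classical CfsgLib.Classical.Unitary CfsgLib.Involutions.PSLUnip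
  CfsgLib.Involutions.FusionSimpleParabolic

variable {n : ℕ} {F : Type*} [Field F] {σ : F →+* F} {q : ℕ}

local notation "SLn" => Matrix.SpecialLinearGroup (Fin n) F
local notation "Mn" => Matrix (Fin n) (Fin n) F
local notation "Vn" => (Fin n → F)

theorem G_ext {a b : H n σ} (he : ∀ v, mat a *ᵥ v = mat b *ᵥ v) : a = b :=
  mat_inj (Matrix.ext_iff_mulVec.2 he)

/-! ### Root elements as elements of the group -/

/-- A long root element. -/
def Lg (h : UFrob σ q) {p : Fin n} (hp : p ≠ Fin.rev p) (c : F) (hc : c + σ c = 0) : H n σ :=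
  ⟨lg hp c, lg_mem h hp hc⟩

/-- A short root element. -/
def Sh (h : UFrob σ q) {a b : Fin n} (hab : a ≠ b) (ha : a ≠ Fin.rev a) (hb : b ≠ Fin.rev b) (t : F) : H n σ :=
  ⟨sh hab σ t, sh_mem h hab ha hb t⟩

/-- A root element through the middle. -/
def Xz (h : UFrob σ q) {j z : Fin n} (hjz : j ≠ z) (hzj : z ≠ Fin.rev j) (hj : j ≠ Fin.rev j)
    (hz : Fin.rev z = z) (a e : F) (he : e + σ e + a * σ a = 0) : H n σ :=
  ⟨xz hjz hzj hj σ a e, xz_mem h hjz hzj hj hz he⟩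

theorem mulVec_Lg (h : UFrob σ q) {p : Fin n} (hp : p ≠ Fin.rev p) (c : F) (hc : c + σ c = 0) (v : Vn) :
    mat (Lg h hp c hc) *ᵥ v = v + Pi.single p (c * v (Fin.rev p)) := mulVec_lg hp c v

theorem mulVec_Sh (h : UFrob σ q) {a b : Fin n} (hab : a ≠ b) (ha : a ≠ Fin.rev a) (hb : b ≠ Fin.rev b) (t : F)
    (v : Vn) : mat (Sh h hab ha hb t) *ᵥ v =
      v + Pi.single (Fin.rev b) (-σ t * v (Fin.rev a)) + Pi.single a (t * v b) := mulVec_sh hab hb t v

theorem mulVec_Xz (h : UFrob σ q) {j z : Fin n} (hjz : j ≠ z) (hzj : z ≠ Fin.rev j) (hj : j ≠ Fin.rev j)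
    (hz : Fin.rev z = z) (a e : F) (he : e + σ e + a * σ a = 0) (v : Vn) :
    mat (Xz h hjz hzj hj hz a e he) *ᵥ v =
      v + Pi.single j (a * v z + e * v (Fin.rev j)) + Pi.single z (-σ a * v (Fin.rev j)) :=
  mulVec_xz hjz hzj hj a e v

theorem Lg_mem_UH (h : UFrob σ q) {p : Fin n} (hlt : p < Fin.rev p) (c : F) (hc : c + σ c = 0) :
    Lg h hlt.ne c hc ∈ UH n σ := transvection_mem_U hlt c

theorem Sh_mem_UH (h : UFrob σ q) {a b : Fin n} (hlt : a < b) (ha : a ≠ Fin.rev a) (hb : b ≠ Fin.rev b) (t : F) :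
    Sh h hlt.ne ha hb t ∈ UH n σ :=
  (U n F).mul_mem (transvection_mem_U hlt t) (transvection_mem_U (Fin.rev_lt_rev.2 hlt) _)

theorem Xz_mem_UH (h : UFrob σ q) {j z : Fin n} (hlt : j < z) (hz : Fin.rev z = z) (hj : j < Fin.rev j)
    (a e : F) (he : e + σ e + a * σ a = 0) :
    Xz h hlt.ne (fun hh => hlt.ne (Fin.rev_injective (hh.symm.trans hz.symm))) hj.ne hz a e he ∈ UH n σ :=
  (U n F).mul_mem ((U n F).mul_mem (transvection_mem_U hlt a)
    (transvection_mem_U (by have := Fin.rev_lt_rev.2 hlt; rwa [hz] at this) _)) (transvection_mem_U hj _)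

theorem exists_cond (h : UFrob σ q) (a : F) : ∃ e : F, e + σ e + a * σ a = 0 := by
  obtain ⟨τ, hτ⟩ := exists_trace h
  refine ⟨-(a * σ a) * τ, ?_⟩
  simp only [map_mul, map_neg, h.invol]
  linear_combination (-(a * σ a)) * hτ

/-- A diagonal element. -/
theorem exists_diag (t : Fin n → F) (hrel : ∀ k, t k * σ (t (Fin.rev k)) = 1) (hdet : ∏ k, t k = 1) :
    ∃ g : H n σ, mat g = Matrix.diagonal t := by
  refine ⟨⟨⟨Matrix.diagonal t, by rw [Matrix.det_diagonal, hdet]⟩, fun u v => ?_⟩, rfl⟩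
  refine Finset.sum_congr rfl fun k _ => ?_
  rw [Matrix.mulVec_diagonal, Matrix.mulVec_diagonal, map_mul]
  linear_combination (u k * σ (v (Fin.rev k))) * hrel k

/-! ### Conjugation identities -/

theorem diag_Lg (h : UFrob σ q) {p : Fin n} (hp : p ≠ Fin.rev p) {g : H n σ} {t : Fin n → F}
    (hg : mat g = Matrix.diagonal t) {c c' : F} (hc : c + σ c = 0) (hc' : c' + σ c' = 0)
    (he : t p * c = c' * t (Fin.rev p)) : g * Lg h hp c hc = Lg h hp c' hc' * g := by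
  refine G_ext fun v => ?_
  simp only [mat_mul, ← Matrix.mulVec_mulVec, mulVec_Lg, hg]
  funext k
  rcases eq_or_ne k p with rfl | hk
  · simp [Matrix.mulVec_diagonal]
    linear_combination v (Fin.rev k) * he
  · simp [Matrix.mulVec_diagonal, hk]

theorem comm_Sh_Lg (h : UFrob σ q) {a p : Fin n} (hap : a ≠ p) (ha : a ≠ Fin.rev a) (hp : p ≠ Fin.rev p)
    (hap' : a ≠ Fin.rev p) (t c : F) (hc : c + σ c = 0) (hc' : t * σ t * c + σ (t * σ t * c) = 0) :
    Sh h hap ha hp t * Lg h hp c hc = Lg h ha (t * σ t * c) hc' *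
      Sh h hap' ha (by rw [Fin.rev_rev]; exact hp.symm) (-t * σ c) * (Lg h hp c hc * Sh h hap ha hp t) := by
  have h2 : p ≠ Fin.rev a := fun hh => hap' (by rw [hh, Fin.rev_rev])
  have h1 : Fin.rev a ≠ Fin.rev p := fun hh => hap (Fin.rev_injective hh)
  refine G_ext fun v => ?_
  simp only [mat_mul, ← Matrix.mulVec_mulVec, mulVec_Lg, mulVec_Sh, Fin.rev_rev]
  have hσc : σ c = -c := by linear_combination hc
  funext k
  rcases eq_or_ne k a with rfl | hka
  · simp [hap, hap.symm, ha, ha.symm, hp, hp.symm, hap', hap'.symm, h1, h1.symm, h2, h2.symm, map_mul, hσc]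
    ring
  rcases eq_or_ne k p with rfl | hkp
  · simp [hap, hap.symm, ha, ha.symm, hp, hp.symm, hap', hap'.symm, h1, h1.symm, h2, h2.symm, map_mul, hσc, h.invol]
    ring
  rcases eq_or_ne k (Fin.rev p) with rfl | hkp'
  · simp [hap, hap.symm, ha, ha.symm, hp, hp.symm, hap', hap'.symm, h1, h1.symm, h2, h2.symm, map_mul, hσc]
  · simp [hka, hkp, hkp']

theorem comm_Sh_Xz (h : UFrob σ q) {j p z : Fin n} (hjp : j ≠ p) (hj : j ≠ Fin.rev j) (hp : p ≠ Fin.rev p)
    (hjp' : j ≠ Fin.rev p) (hjz : j ≠ z) (hpz : p ≠ z) (hzj : z ≠ Fin.rev j) (hzp : z ≠ Fin.rev p)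
    (hz : Fin.rev z = z) (a e : F) (he : e + σ e + a * σ a = 0) :
    Sh h hjp hj hp 1 * Xz h hpz hzp hp hz a e he = Xz h hjz hzj hj hz a e he *
      Sh h hjp' hj (by rw [Fin.rev_rev]; exact hp.symm) (-σ e) *
        (Xz h hpz hzp hp hz a e he * Sh h hjp hj hp 1) := by
  have h2 : p ≠ Fin.rev j := fun hh => hjp' (by rw [hh, Fin.rev_rev])
  have h1 : Fin.rev j ≠ Fin.rev p := fun hh => hjp (Fin.rev_injective hh)
  refine G_ext fun v => ?_
  simp only [mat_mul, ← Matrix.mulVec_mulVec, mulVec_Xz, mulVec_Sh, Fin.rev_rev]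
  funext k
  rcases eq_or_ne k j with rfl | hkj
  · simp [hjp, hjp.symm, hj, hj.symm, hp, hp.symm, hjp', hjp'.symm, h1, h1.symm, h2, h2.symm, hjz, hjz.symm,
      hpz, hpz.symm, hzj, hzj.symm, hzp, hzp.symm]
    linear_combination (v (Fin.rev p) - v (Fin.rev k)) * he
  rcases eq_or_ne k p with rfl | hkp
  · simp [hjp, hjp.symm, hj, hj.symm, hp, hp.symm, hjp', hjp'.symm, h1, h1.symm, h2, h2.symm, hjz, hjz.symm,
      hpz, hpz.symm, hzj, hzj.symm, hzp, hzp.symm, h.invol]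
    ring
  rcases eq_or_ne k (Fin.rev p) with rfl | hkp'
  · simp [hjp, hjp.symm, hj, hj.symm, hp, hp.symm, hjp', hjp'.symm, h1, h1.symm, h2, h2.symm, hjz, hjz.symm,
      hpz, hpz.symm, hzj, hzj.symm, hzp, hzp.symm]
  rcases eq_or_ne k z with rfl | hkz
  · simp [hjp, hjp.symm, hj, hj.symm, hp, hp.symm, hjp', hjp'.symm, h1, h1.symm, h2, h2.symm, hjz, hjz.symm,
      hpz, hpz.symm, hzj, hzj.symm, hzp, hzp.symm]
    ring
  · simp [hkj, hkp, hkp', hkz]

theorem Wp_Lg (h : UFrob σ q) {a b : Fin n} (hab : a ≠ b) (ha : a ≠ Fin.rev a) (hb : b ≠ Fin.rev b)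
    (hab' : a ≠ Fin.rev b) (c : F) (hc : c + σ c = 0) :
    (⟨Wp hab σ 1, Wp_mem h hab ha hb 1⟩ : H n σ) * Lg h ha c hc =
      Lg h hb c hc * ⟨Wp hab σ 1, Wp_mem h hab ha hb 1⟩ := by
  have h1 : Fin.rev a ≠ Fin.rev b := fun hh => hab (Fin.rev_injective hh)
  have h2 : b ≠ Fin.rev a := fun hh => hab' (by rw [hh, Fin.rev_rev])
  refine G_ext fun v => funext fun k => ?_
  simp only [mat_mul, ← Matrix.mulVec_mulVec, mulVec_Lg]
  have hw : ∀ (u : Vn) (k : Fin n), (mat (⟨Wp hab σ 1, Wp_mem h hab ha hb 1⟩ : H n σ) *ᵥ u) k = _ :=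
    mulVec_Wp hab ha hb hab' one_ne_zero
  simp only [hw, Pi.add_apply, Pi.single_apply]
  rcases eq_or_ne k a with rfl | hka
  · simp [hab, hab.symm, ha, ha.symm, hb, hb.symm, hab', hab'.symm, h1, h1.symm, h2, h2.symm]
    try ring
  rcases eq_or_ne k b with rfl | hkb
  · simp [hab, hab.symm, ha, ha.symm, hb, hb.symm, hab', hab'.symm, h1, h1.symm, h2, h2.symm]
    try ring
  rcases eq_or_ne k (Fin.rev b) with rfl | hkb'
  · simp [hab, hab.symm, ha, ha.symm, hb, hb.symm, hab', hab'.symm, h1, h1.symm, h2, h2.symm]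
    try ring
  rcases eq_or_ne k (Fin.rev a) with rfl | hka'
  · simp [hab, hab.symm, ha, ha.symm, hb, hb.symm, hab', hab'.symm, h1, h1.symm, h2, h2.symm]
    try ring
  · simp [hka, hkb, hkb', hka']

theorem Wp_Xz (h : UFrob σ q) {a b z : Fin n} (hab : a ≠ b) (ha : a ≠ Fin.rev a) (hb : b ≠ Fin.rev b)
    (hab' : a ≠ Fin.rev b) (haz : a ≠ z) (hbz : b ≠ z) (hza : z ≠ Fin.rev a) (hzb : z ≠ Fin.rev b)
    (hz : Fin.rev z = z) (x e : F) (he : e + σ e + x * σ x = 0) (he' : e + σ e + -x * σ (-x) = 0) :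
    (⟨Wp hab σ 1, Wp_mem h hab ha hb 1⟩ : H n σ) * Xz h haz hza ha hz x e he =
      Xz h hbz hzb hb hz (-x) e he' * ⟨Wp hab σ 1, Wp_mem h hab ha hb 1⟩ := by
  have h1 : Fin.rev a ≠ Fin.rev b := fun hh => hab (Fin.rev_injective hh)
  have h2 : b ≠ Fin.rev a := fun hh => hab' (by rw [hh, Fin.rev_rev])
  refine G_ext fun v => funext fun k => ?_
  simp only [mat_mul, ← Matrix.mulVec_mulVec, mulVec_Xz]
  have hw : ∀ (u : Vn) (k : Fin n), (mat (⟨Wp hab σ 1, Wp_mem h hab ha hb 1⟩ : H n σ) *ᵥ u) k = _ :=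
    mulVec_Wp hab ha hb hab' one_ne_zero
  simp only [hw, Pi.add_apply, Pi.single_apply]
  rcases eq_or_ne k a with rfl | hka
  · simp [hab, hab.symm, ha, ha.symm, hb, hb.symm, hab', hab'.symm, h1, h1.symm, h2, h2.symm, haz, haz.symm, hbz, hbz.symm, hza, hza.symm, hzb, hzb.symm]
    try ring
  rcases eq_or_ne k b with rfl | hkb
  · simp [hab, hab.symm, ha, ha.symm, hb, hb.symm, hab', hab'.symm, h1, h1.symm, h2, h2.symm, haz, haz.symm, hbz, hbz.symm, hza, hza.symm, hzb, hzb.symm]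
    try ring
  rcases eq_or_ne k (Fin.rev b) with rfl | hkb'
  · simp [hab, hab.symm, ha, ha.symm, hb, hb.symm, hab', hab'.symm, h1, h1.symm, h2, h2.symm, haz, haz.symm, hbz, hbz.symm, hza, hza.symm, hzb, hzb.symm]
    try ring
  rcases eq_or_ne k (Fin.rev a) with rfl | hka'
  · simp [hab, hab.symm, ha, ha.symm, hb, hb.symm, hab', hab'.symm, h1, h1.symm, h2, h2.symm, haz, haz.symm, hbz, hbz.symm, hza, hza.symm, hzb, hzb.symm]
    try ring
  rcases eq_or_ne k z with rfl | hkz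
  · simp [haz, haz.symm, hbz, hbz.symm, hza, hza.symm, hzb, hzb.symm, hb, hb.symm, hab', hab'.symm, h1, h1.symm]
  · simp [hka, hkb, hkb', hka', hkz]

theorem Wl_Sh (h : UFrob σ q) {a b : Fin n} (hab : a ≠ b) (ha : a ≠ Fin.rev a) (hb : b ≠ Fin.rev b)
    (hab' : a ≠ Fin.rev b) {d : F} (hd0 : d ≠ 0) (hd : d + σ d = 0) (s : F) :
    (⟨Wl hb d, Wl_mem h hb hd⟩ : H n σ) * Sh h hab' ha (by rw [Fin.rev_rev]; exact hb.symm) (-s / d) =
      Sh h hab ha hb s * ⟨Wl hb d, Wl_mem h hb hd⟩ := by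
  have h1 : Fin.rev a ≠ Fin.rev b := fun hh => hab (Fin.rev_injective hh)
  have h2 : b ≠ Fin.rev a := fun hh => hab' (by rw [hh, Fin.rev_rev])
  refine G_ext fun v => funext fun k => ?_
  simp only [mat_mul, ← Matrix.mulVec_mulVec, mulVec_Sh, Fin.rev_rev]
  have hw : ∀ (u : Vn) (k : Fin n), (mat (⟨Wl hb d, Wl_mem h hb hd⟩ : H n σ) *ᵥ u) k = _ := mulVec_Wl hb hd0
  have hσd : σ d = -d := by linear_combination hd
  simp only [hw, Pi.add_apply, Pi.single_apply]
  rcases eq_or_ne k a with rfl | hka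
  · simp [hab, hab.symm, ha, ha.symm, hb, hb.symm, hab', hab'.symm, h1, h1.symm, h2, h2.symm, map_div₀, hσd]
    try field_simp
    try ring
  rcases eq_or_ne k b with rfl | hkb
  · simp [hab, hab.symm, ha, ha.symm, hb, hb.symm, hab', hab'.symm, h1, h1.symm, h2, h2.symm, map_div₀, hσd]
    try field_simp
    try ring
  rcases eq_or_ne k (Fin.rev b) with rfl | hkb'
  · simp [hab, hab.symm, ha, ha.symm, hb, hb.symm, hab', hab'.symm, h1, h1.symm, h2, h2.symm, map_div₀, hσd]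
    try field_simp
    try ring
  rcases eq_or_ne k (Fin.rev a) with rfl | hka'
  · simp [hab, hab.symm, ha, ha.symm, hb, hb.symm, hab', hab'.symm, h1, h1.symm, h2, h2.symm, map_div₀, hσd]
    try field_simp
    try ring
  · simp [hka, hkb, hkb', hka']

end CfsgLib.Involutions.UAnti
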