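import Cfsg.Agent.Lib.Involutions.PSpFourSylow

/-!
The Sylow two-subgroup of `PSp₄(q)`, `q` odd, has no proper nontrivial strongly closed subgroup,
and the elements normalising it.
-/

set_option autoImplicit false
set_option linter.unusedSectionVars false

namespace CfsgLib.Involutions.PSpFour

open Matrix

variable {F : Type*} [Field F] [Fintype F] [NeZero (2 : F)] (d : SData F)

local notation "SL2" => Matrix.SpecialLinearGroup (Fin 2) F
local notation "G4" => Cfsg.PSp 2 F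

/-- A Sylow two-subgroup of `SL₂` is generalised quaternion. -/
theorem SData.exists_quaternion : ∃ k : ℕ, 1 ≤ k ∧
    Nonempty ((d.Q : Subgroup SL2) ≃* QuaternionGroup (2 ^ k)) :=
  CfsgLib.Classical.sylow_two_SL2 (NeZero.ne (2 : F)) d.Q

/-- The elements of square minus one generate `Q`. -/
theorem SData.le_of_mul_self {P : Subgroup SL2}
    (h : ∀ v ∈ (d.Q : Subgroup SL2), v * v = -1 → v ∈ P) : (d.Q : Subgroup SL2) ≤ P := by
  obtain ⟨k, -, ⟨e⟩⟩ := d.exists_quaternion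
  have hx : ∀ i, ((e.symm (QuaternionGroup.xa i) : (d.Q : Subgroup SL2)) : SL2) ∈ P := by
    intro i
    set u := e.symm (QuaternionGroup.xa i) with hu
    refine h _ u.2 ?_
    have ho : orderOf (u : SL2) = 4 := by
      rw [Subgroup.orderOf_coe, hu, MulEquiv.orderOf_eq, QuaternionGroup.orderOf_xa]
    have h4 : ((u : SL2) * (u : SL2)) ^ 2 = 1 := by
      rw [← pow_two, ← pow_mul, show 2 * 2 = 4 from rfl, ← ho, pow_orderOf_eq_one]
    rcases CfsgLib.Classical.sl2_eq_one_or_of_sq (NeZero.ne (2 : F)) (z := -1) (neg_coe 1) h4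
      with h1 | h1
    · rw [← pow_two] at h1
      have := orderOf_dvd_of_pow_eq_one h1
      rw [ho] at this
      exact absurd this (by norm_num)
    · exact h1
  intro q hq
  rcases hc : e ⟨q, hq⟩ with i | i
  · have he : e.symm (QuaternionGroup.xa 0) * e.symm (QuaternionGroup.xa (i - (2 ^ k : ℕ))) = ⟨q, hq⟩ := by
      rw [← map_mul, QuaternionGroup.xa_mul_xa, MulEquiv.symm_apply_eq, hc]
      congr 1
      ring
    have h1 := mul_mem (hx 0) (hx (i - (2 ^ k : ℕ)))
    rwa [← Subgroup.coe_mul, he] at h1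
  · have := hx i
    rwa [← hc, MulEquiv.symm_apply_apply] at this

/-- Only `⊥` and the whole Sylow subgroup are closed under conjugation within it. -/
theorem SData.closed_eq (hodd : Fintype.card F % 2 = 1) (T₀ : Subgroup G4) (hle : T₀ ≤ d.S0)
    (hT : ∀ x ∈ T₀, ∀ g : G4, g * x * g⁻¹ ∈ d.S0 → g * x * g⁻¹ ∈ T₀) :
    T₀ = ⊥ ∨ T₀ = d.S0 := by
  haveI : Fact (Nat.Prime 2) := ⟨Nat.prime_two⟩
  by_cases hne : T₀ = ⊥
  · exact Or.inl hne
  refine Or.inr (le_antisymm hle ?_)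
  obtain ⟨P, hP⟩ := d.exists_sylow_psp hodd
  have hS : IsPGroup 2 d.S0 := hP ▸ P.2
  haveI : (T₀.subgroupOf d.S0).Normal := ⟨fun x hx s => by
    rw [Subgroup.mem_subgroupOf] at hx ⊢
    exact hT _ hx _ (mul_mem (mul_mem s.2 x.2) (inv_mem s.2))⟩
  have hN : T₀.subgroupOf d.S0 ≠ ⊥ := fun h => hne (by
    have := congrArg (Subgroup.map d.S0.subtype) h
    rwa [Subgroup.map_bot, Subgroup.subgroupOf_map_subtype, inf_eq_left.2 hle] at this)
  have hz : zG F ∈ T₀ := by
    obtain ⟨u, hu, hu1⟩ := (Subgroup.bot_or_exists_ne_one _).resolve_left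
      (CfsgLib.PGroups.inf_center_ne_bot hS hN)
    obtain ⟨hu, huc⟩ := Subgroup.mem_inf.1 hu
    rcases d.eq_of_central (u := (u : G4)) u.2 (fun v hv =>
      congrArg Subtype.val (Subgroup.mem_center_iff.1 huc ⟨v, hv⟩).symm) with h | h
    · exact absurd (Subtype.ext h) hu1
    · exact h ▸ hu
  have ht : tG F ∈ T₀ := by
    have := hT _ hz (wG F) (wG_zG (F := F) ▸ d.tG_mem)
    rwa [wG_zG] at this
  have hanti : ∀ x ∈ (d.Q : Subgroup SL2), pr F (dp F (x, x⁻¹)) ∈ T₀ := by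
    intro x hx
    have e : pr F (dp F (x, 1)) * tG F * (pr F (dp F (x, 1)))⁻¹ = pr F (dp F (x, x⁻¹)) * tG F := by
      rw [tG, ← map_inv, ← map_mul, ← map_mul, ← map_mul, dp_inv, inv_one, mul_assoc, Tp_dp,
        ← mul_assoc, dp_mul, mul_one, one_mul]
    have h1 := hT _ ht (pr F (dp F (x, 1))) (e ▸ mul_mem (d.dp_mem_S0 hx (inv_mem hx)) d.tG_mem)
    rw [e] at h1
    have := mul_mem h1 (inv_mem ht)
    rwa [mul_inv_cancel_right] at this
  let P₂ : Subgroup SL2 := T₀.comap ((pr F).comp ((dp F).comp (MonoidHom.inr _ _)))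
  have hmem : ∀ v ∈ (d.Q : Subgroup SL2), v * v = -1 → av F * v ∈ P₂ := by
    intro v hv hv2
    obtain ⟨h, hh⟩ := exists_conj_of_trace hodd (trace_zero_of_mul_self hv2)
    have h0 := hanti _ d.ha
    rw [inv_of_mul_self av_sq] at h0
    have e : pr F (dp F (1, h)) * pr F (dp F (av F, -av F)) * (pr F (dp F (1, h)))⁻¹ =
        pr F (dp F (av F, v)) := by
      rw [← map_inv, ← map_mul, ← map_mul, dp_inv, dp_mul, dp_mul, hh]
      simp
    have h1 := hT _ h0 (pr F (dp F (1, h))) (e ▸ d.dp_mem_S0 d.ha hv)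
    rw [e] at h1
    have h2 := mul_mem (inv_mem h0) h1
    rw [← map_inv, ← map_mul, dp_inv, dp_mul, inv_mul_cancel, inv_of_mul_self (x := -av F) (by
      rw [neg_mul_neg, av_sq]), neg_neg] at h2
    exact h2
  have hab : (av F * d.b) * (av F * d.b) = -1 := by
    calc av F * d.b * (av F * d.b) = -(d.b * av F) * (av F * d.b) := by rw [← d.hab]
      _ = -(d.b * (av F * av F) * d.b) := by simp [mul_assoc]
      _ = _ := by rw [av_sq]; simp [d.hb]
  have h1 : -d.b ∈ P₂ := by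
    have := hmem _ (mul_mem d.ha d.hbQ) hab
    rwa [← mul_assoc, av_sq, neg_one_mul] at this
  have h2 : av F * d.b ∈ P₂ := hmem _ d.hbQ d.hb
  have h3 : av F ∈ P₂ := by
    have := inv_mem (mul_mem h2 (inv_mem h1))
    rw [inv_of_mul_self (x := -d.b) (by rw [neg_mul_neg, d.hb]), neg_neg, mul_assoc, d.hb,
      mul_neg, mul_one, inv_of_mul_self (x := -av F) (by rw [neg_mul_neg, av_sq]), neg_neg] at this
    exact this
  have hQ : (d.Q : Subgroup SL2) ≤ P₂ := d.le_of_mul_self fun v hv hv2 => by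
    have := mul_mem (inv_mem h3) (hmem v hv hv2)
    rwa [inv_mul_cancel_left] at this
  have hd : ∀ x ∈ (d.Q : Subgroup SL2), ∀ y ∈ (d.Q : Subgroup SL2), pr F (dp F (x, y)) ∈ T₀ := by
    intro x hx y hy
    have hy' : pr F (dp F (1, y)) ∈ T₀ := hQ hy
    have hx' : pr F (dp F (1, x)) ∈ T₀ := hQ hx
    have hx'' : pr F (dp F (x, 1)) ∈ T₀ := by
      have := mul_mem (mul_mem ht hx') ht
      rwa [tG, ← map_mul, ← map_mul, Tp_dp_Tp] at this
    have := mul_mem hx'' hy'
    rwa [← map_mul (pr F), dp_mul, mul_one, one_mul] at this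
  rintro _ ⟨g, ⟨x, hx, y, hy, rfl | rfl⟩, rfl⟩
  · exact hd x hx y hy
  · rw [map_mul]
    exact mul_mem (hd x hx y hy) ht

/-- The diagonal copy of `SL₂`. -/
def dd (F : Type*) [Field F] : Matrix.SpecialLinearGroup (Fin 2) F →* Cfsg.PSp 2 F :=
  (pr F).comp ((dp F).comp ((MonoidHom.id _).prod (MonoidHom.id _)))

theorem dd_apply (x : SL2) : dd F x = pr F (dp F (x, x)) := rfl

theorem dd_neg (x : SL2) : dd F (-x) = dd F x := by
  rw [dd_apply, dd_apply, ← nI_mul_dp, pr_nI_mul]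

theorem dd_eq {x y : SL2} (e : dd F x = dd F y) : y = x ∨ y = -x := by
  rcases pr_dp_eq e with ⟨h, -⟩ | ⟨h, -⟩
  · exact Or.inl h
  · exact Or.inr h

theorem wG_dd (x : SL2) : wG F * dd F x * (wG F)⁻¹ = dd F (gam F x) := by
  rw [dd_apply, wG, ← map_inv, ← map_mul, ← map_mul, Wp_dp_gam]
  rfl

theorem SData.mem_normalizer_of_conj {x : SL2}
    (h : ∀ q ∈ (d.Q : Subgroup SL2), x * q * x⁻¹ ∈ (d.Q : Subgroup SL2)) :
    x ∈ Subgroup.normalizer ((d.Q : Subgroup SL2) : Set SL2) := by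
  rw [Subgroup.mem_normalizer_iff_map_conj_eq]
  refine Subgroup.eq_of_le_of_card_ge ?_
    (Subgroup.card_map_of_injective (MulAut.conj x).injective).ge
  rintro _ ⟨q, hq, rfl⟩
  exact h q hq

/-- The normaliser of the Sylow subgroup comes from the normaliser of `Q` on the diagonal. -/
theorem SData.exists_of_mem_normalizer {g : G4}
    (hg : g ∈ Subgroup.normalizer (d.S0 : Set G4)) :
    ∃ x ∈ Subgroup.normalizer ((d.Q : Subgroup SL2) : Set SL2), ∃ s ∈ d.S0,
      g = s * dd F x ∨ g = s * dd F x * tG F := by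
  have hconj : ∀ v ∈ d.S0, g * v * g⁻¹ ∈ d.S0 := fun v hv =>
    (Subgroup.mem_normalizer_iff.1 hg v).1 hv
  have hconj' : ∀ v ∈ d.S0, g⁻¹ * v * g ∈ d.S0 := fun v hv => by
    have := (Subgroup.mem_normalizer_iff.1 (inv_mem hg) v).1 hv
    rwa [inv_inv] at this
  have hz : g * zG F = zG F * g := by
    rcases d.eq_of_central (hconj _ d.zG_mem) (fun v hv => by
      have := d.zG_mem
      obtain ⟨g', ⟨x, hx, y, hy, e⟩, e'⟩ := hconj' v hv
      have hzc : zG F * (g⁻¹ * v * g) = (g⁻¹ * v * g) * zG F := by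
        rw [← e']
        rcases e with rfl | rfl
        · rw [zG, Zp, ← map_mul (pr F), ← map_mul (pr F), dp_mul, dp_mul, mul_one, one_mul, neg_one_mul,
            mul_neg_one]
        · rw [zG, Zp, ← map_mul (pr F), ← map_mul (pr F), ← mul_assoc, dp_mul, mul_assoc _ (Tp F), Tp_dp,
            ← mul_assoc, dp_mul, one_mul, neg_one_mul, mul_one, mul_neg_one,
            ← pr_nI_mul (dp F (x, -y) * Tp F), ← mul_assoc, nI_mul_dp, neg_neg]
      calc g * zG F * g⁻¹ * v = g * (zG F * (g⁻¹ * v * g)) * g⁻¹ := by group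
        _ = v * (g * zG F * g⁻¹) := by rw [hzc]; group) with h | h
    · exact absurd (conj_eq_one_iff.1 h) zG_ne_one
    · exact mul_inv_eq_iff_eq_mul.1 h
  obtain ⟨x, y, e⟩ := exists_of_commute_zG hz
  have hn : pr F (dp F (x, y)) ∈ Subgroup.normalizer (d.S0 : Set G4) := by
    rcases e with e | e
    · rwa [e] at hg
    · have := mul_mem hg (inv_mem (Subgroup.le_normalizer d.tG_mem))
      rwa [e, mul_inv_cancel_right] at this
  have hc : ∀ v : Matrix.symplecticGroup (Fin 2) F, v ∈ d.Sp2 →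
      dp F (x, y) * v * (dp F (x, y))⁻¹ ∈ d.Sp2 := fun v hv => d.mem_Sp2_of_mem (by
    rw [map_mul, map_mul, map_inv]
    exact (Subgroup.mem_normalizer_iff.1 hn _).1 ⟨v, hv, rfl⟩)
  have hx : ∀ q ∈ (d.Q : Subgroup SL2), x * q * x⁻¹ ∈ (d.Q : Subgroup SL2) := fun q hq => by
    have := hc _ (d.dp_mem hq (one_mem _))
    rw [dp_inv, dp_mul, dp_mul] at this
    exact (d.mem_of_dp_mem this).1
  have hyx : y * x⁻¹ ∈ (d.Q : Subgroup SL2) := by
    have := hc _ d.Tp_mem
    rw [dp_inv, mul_assoc, Tp_dp, ← mul_assoc, dp_mul] at this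
    exact (d.mem_of_dp_mem ((Subgroup.mul_mem_cancel_right _ d.Tp_mem).1 this)).2
  refine ⟨x, d.mem_normalizer_of_conj hx, pr F (dp F (1, y * x⁻¹)),
    d.dp_mem_S0 (one_mem _) hyx, ?_⟩
  have e' : pr F (dp F (1, y * x⁻¹)) * dd F x = pr F (dp F (x, y)) := by
    rw [dd_apply, ← map_mul (pr F), dp_mul, one_mul, inv_mul_cancel_right]
  rwa [e']

end CfsgLib.Involutions.PSpFour
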