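import Cfsg.Agent.Lib.Involutions.PSpFourClosed
import Cfsg.Agent.Lib.Involutions.FusionSimpleParabolic
import Cfsg.Agent.Lib.Perm.Zass.SixTypes

/-!
The two-fusion system of `PSp₄(q)`, `q` odd, is simple.
-/

set_option autoImplicit false
set_option linter.unusedSectionVars false

namespace CfsgLib.Involutions.PSpFour

open Matrix CfsgLib.Involutions.FusionSimpleParabolic

variable {F : Type*} [Field F] [Fintype F] [NeZero (2 : F)] (d : SData F)

local notation "SL2" => Matrix.SpecialLinearGroup (Fin 2) F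
local notation "G4" => Cfsg.PSp 2 F

theorem zpowers_sup_le {x : SL2} (hx : x ∈ Subgroup.normalizer ((d.Q : Subgroup SL2) : Set SL2))
    {k : ℕ} (h : x ^ (2 ^ k) = 1) : x ∈ (d.Q : Subgroup SL2) := by
  have hsup := IsPGroup.to_sup_of_normal_left' d.Q.2 (isPGroup_zpowers_of_pow h)
    (Subgroup.zpowers_le.2 hx)
  have := d.Q.3 hsup le_sup_left
  exact this ▸ Subgroup.mem_sup_right (Subgroup.mem_zpowers x)

theorem mem_of_sq_mem {x : SL2} (hx : x ∈ Subgroup.normalizer ((d.Q : Subgroup SL2) : Set SL2))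
    (h : x * x ∈ (d.Q : Subgroup SL2)) : x ∈ (d.Q : Subgroup SL2) := by
  obtain ⟨k, hk⟩ := d.Q.2 ⟨x * x, h⟩
  refine zpowers_sup_le d hx (k := k + 1) ?_
  rw [pow_succ', pow_mul, pow_two]
  exact congrArg Subtype.val hk

/-- The Sylow subgroup of `SL₂` is self-normalising unless it has order eight. -/
theorem SData.normalizer_le (h8 : Nat.card (d.Q : Subgroup SL2) ≠ 8) :
    Subgroup.normalizer ((d.Q : Subgroup SL2) : Set SL2) ≤ (d.Q : Subgroup SL2) := by
  haveI : Fact (Nat.Prime 2) := ⟨Nat.prime_two⟩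
  intro x hx
  obtain ⟨k, hk1, ⟨e⟩⟩ := d.exists_quaternion
  have hk : 2 ≤ k := by
    by_contra hlt
    have hk' : k = 1 := by omega
    refine h8 ?_
    rw [Nat.card_congr e.toEquiv, Nat.card_eq_fintype_card, QuaternionGroup.card, hk']
    rfl
  set ψ : MulAut (d.Q : Subgroup SL2) := (d.Q : Subgroup SL2).normalizerMonoidHom ⟨x, hx⟩ with hψ
  obtain ⟨j, hj⟩ : ∃ j, orderOf ψ = 2 ^ j := by
    haveI : Finite (MulAut (d.Q : Subgroup SL2)) :=
      Finite.of_injective (fun α => (α : ↥(d.Q : Subgroup SL2) → ↥(d.Q : Subgroup SL2)))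
        fun a b h => MulEquiv.ext (congrFun h)
    refine ⟨_, Nat.eq_prime_pow_of_unique_prime_dvd (orderOf_pos ψ).ne' fun {p} hp hdvd => ?_⟩
    by_contra hp2
    haveI : Fact p.Prime := ⟨hp⟩
    have hord : orderOf (MulAut.congr e (ψ ^ (orderOf ψ / p))) = p := by
      rw [MulEquiv.orderOf_eq, orderOf_pow_orderOf_div (orderOf_pos ψ).ne' hdvd]
    have h1 := CfsgLib.Perm.Zass.mulAut_quaternion_odd (m := 2 ^ k) rfl hk hp2
      (MulAut.congr e (ψ ^ (orderOf ψ / p))) (orderOf_dvd_iff_pow_eq_one.1 (dvd_of_eq hord))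
    rw [h1, orderOf_one] at hord
    exact hp.ne_one hord.symm
  have hfix : ∀ q ∈ (d.Q : Subgroup SL2), x ^ (2 ^ j) * q * (x ^ (2 ^ j))⁻¹ = q := by
    intro q hq
    have h1 : (d.Q : Subgroup SL2).normalizerMonoidHom
        (⟨x, hx⟩ ^ (2 ^ j) : Subgroup.normalizer ((d.Q : Subgroup SL2) : Set SL2)) = 1 := by
      rw [map_pow, ← hj, ← hψ, pow_orderOf_eq_one]
    exact congrArg Subtype.val (DFunLike.congr_fun h1 ⟨q, hq⟩)
  refine zpowers_sup_le d hx (k := j + 1) ?_
  rcases d.eq_one_or_of_commute (mul_inv_eq_iff_eq_mul.1 (hfix _ d.ha))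
    (mul_inv_eq_iff_eq_mul.1 (hfix _ d.hbQ)) with h | h
  · rw [pow_succ, pow_mul, h, one_pow]
  · rw [pow_succ, pow_mul, h, neg_one_sq]

/-- With `Q` of order eight, `Q` consists of the four pairs `±1, ±a, ±b, ±ab`. -/
theorem SData.dd_cases (h8 : Nat.card (d.Q : Subgroup SL2) = 8) {q : SL2}
    (hq : q ∈ (d.Q : Subgroup SL2)) :
    dd F q = 1 ∨ dd F q = dd F (av F) ∨ dd F q = dd F d.b ∨ dd F q = dd F (av F * d.b) := by
  classical
  have hsq : ∀ v : SL2, v * v = -1 → dd F v * dd F v = 1 ∧ dd F v ≠ 1 := fun v hv => by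
    refine ⟨by rw [← map_mul, hv, dd_neg, map_one], fun h => ?_⟩
    rw [← map_one (dd F)] at h
    rcases dd_eq h with h | h
    · rw [← h, one_mul] at hv
      exact ne_neg (1 : SL2) hv
    · rw [show v = -1 by rw [h, neg_neg], neg_mul_neg, one_mul] at hv
      exact ne_neg (1 : SL2) hv
  obtain ⟨hA2, hA1⟩ := hsq _ (av_sq (F := F))
  obtain ⟨hB2, hB1⟩ := hsq _ d.hb
  have hne : dd F (av F) ≠ dd F d.b := by
    intro h
    rcases dd_eq h with h | h <;> have h' := d.hab <;> rw [h] at h'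
    · exact ne_neg (av F * av F) h'
    · rw [mul_neg, neg_mul, neg_neg] at h'
      exact ne_neg (av F * av F) h'.symm
  have hC1 : dd F (av F) * dd F d.b ≠ 1 := fun h => hne (by
    calc dd F (av F) = dd F (av F) * (dd F d.b * dd F d.b) := by rw [hB2, mul_one]
      _ = dd F d.b := by rw [← mul_assoc, h, one_mul])
  have hg : Function.Injective
      (![1, dd F (av F), dd F d.b, dd F (av F) * dd F d.b] : Fin 4 → Cfsg.PSp 2 F) := by
    intro i j h
    fin_cases i <;> fin_cases j <;> first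
      | rfl
      | (simp [hA1, hA1.symm, hB1, hB1.symm, hne, hne.symm, hC1, hC1.symm] at h)
  let f : Fin 4 × Bool → (d.Q : Subgroup SL2) := fun v =>
    if v.2 then ⟨-![1, av F, d.b, av F * d.b] v.1, d.neg_mem (by
      obtain ⟨i, s⟩ := v
      fin_cases i <;> simp [d.ha, d.hbQ, mul_mem d.ha d.hbQ])⟩
    else ⟨![1, av F, d.b, av F * d.b] v.1, by
      obtain ⟨i, s⟩ := v
      fin_cases i <;> simp [d.ha, d.hbQ, mul_mem d.ha d.hbQ]⟩
  have hf : Function.Injective f := by
    rintro ⟨i, s⟩ ⟨j, t⟩ h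
    have hd : ∀ k u, dd F ((f (k, u) : (d.Q : Subgroup SL2)) : SL2) =
        (![1, dd F (av F), dd F d.b, dd F (av F) * dd F d.b] : Fin 4 → Cfsg.PSp 2 F) k := by
      intro k u
      cases u <;> fin_cases k <;> simp [f, dd_neg]
    have := hg ((hd i s).symm.trans ((congrArg (fun u : (d.Q : Subgroup SL2) => dd F (u : SL2)) h).trans
      (hd j t)))
    subst this
    cases s <;> cases t <;> simp [f] at h ⊢
    · exact ne_neg _ h
    · exact ne_neg _ h.symm
  have hcard : Nat.card (Fin 4 × Bool) = Nat.card (d.Q : Subgroup SL2) := by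
    rw [h8, Nat.card_eq_fintype_card]; rfl
  obtain ⟨⟨i, s⟩, hv⟩ := ((Nat.bijective_iff_injective_and_card f).2 ⟨hf, hcard⟩).2 ⟨q, hq⟩
  have hv' := congrArg (fun u : (d.Q : Subgroup SL2) => dd F (u : SL2)) hv
  cases s <;> fin_cases i <;> simp [f, dd_neg] at hv' <;> simp [← hv']

/-- The group swapped by the exchange and fixed by it. -/
def SData.E : Subgroup (Cfsg.PSp 2 F) := d.S0 ⊓ Subgroup.centralizer {tG F}

theorem SData.mem_E_iff {u : G4} : u ∈ d.E ↔ u ∈ d.S0 ∧ u * tG F = tG F * u := by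
  rw [SData.E, Subgroup.mem_inf, Subgroup.mem_centralizer_singleton_iff]

theorem dd_commute_tG (x : SL2) : dd F x * tG F = tG F * dd F x := by
  rw [dd_apply, tG, ← map_mul (pr F), ← map_mul (pr F), Tp_dp]

theorem SData.dd_mem_E {q : SL2} (hq : q ∈ (d.Q : Subgroup SL2)) : dd F q ∈ d.E :=
  d.mem_E_iff.2 ⟨d.dp_mem_S0 hq hq, dd_commute_tG q⟩

theorem zG_commute_tG : zG F * tG F = tG F * zG F := by
  rw [zG, tG, Zp, ← map_mul, ← map_mul, Tp_dp, ← pr_nI_mul (dp F (1, -1) * Tp F), ← mul_assoc,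
    nI_mul_dp, neg_neg]

theorem SData.zG_mem_E : zG F ∈ d.E := d.mem_E_iff.2 ⟨d.zG_mem, zG_commute_tG⟩

theorem SData.tG_mem_E : tG F ∈ d.E := d.mem_E_iff.2 ⟨d.tG_mem, rfl⟩

theorem pr_dp_anti (x : SL2) : pr F (dp F (x, -x)) = dd F x * zG F := by
  rw [dd_apply, zG, Zp, ← map_mul (pr F), dp_mul, mul_neg_one, mul_one,
    ← pr_nI_mul (dp F (-x, x)), nI_mul_dp, neg_neg]

theorem commute_tG_iff {x y : SL2} (h : pr F (dp F (x, y)) * tG F = tG F * pr F (dp F (x, y))) :
    y = x ∨ y = -x := by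
  rw [tG, ← map_mul (pr F), ← map_mul (pr F), Tp_dp, map_mul, map_mul] at h
  rcases pr_dp_eq (mul_right_cancel h) with ⟨h1, -⟩ | ⟨h1, -⟩
  · exact Or.inl h1
  · exact Or.inr h1

theorem SData.mem_E_cases {u : G4} (hu : u ∈ d.E) : ∃ x ∈ (d.Q : Subgroup SL2),
    u = dd F x ∨ u = dd F x * zG F ∨ u = dd F x * tG F ∨ u = dd F x * zG F * tG F := by
  obtain ⟨⟨g, ⟨x, hx, y, hy, e⟩, rfl⟩, hc⟩ := d.mem_E_iff.1 hu
  rcases e with rfl | rfl
  · refine ⟨x, hx, ?_⟩
    rcases commute_tG_iff hc with rfl | rfl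
    · exact Or.inl rfl
    · exact Or.inr (Or.inl (pr_dp_anti x))
  · refine ⟨x, hx, ?_⟩
    rw [map_mul] at hc ⊢
    have hc' : pr F (dp F (x, y)) * tG F = tG F * pr F (dp F (x, y)) := by
      refine mul_right_cancel (b := tG F) ?_
      exact hc.trans (mul_assoc _ _ _).symm
    rcases commute_tG_iff hc' with rfl | rfl
    · exact Or.inr (Or.inr (Or.inl rfl))
    · exact Or.inr (Or.inr (Or.inr (by rw [pr_dp_anti]; rfl)))

theorem SData.commute_dd (h8 : Nat.card (d.Q : Subgroup SL2) = 8) {p q : SL2}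
    (hp : p ∈ (d.Q : Subgroup SL2)) (hq : q ∈ (d.Q : Subgroup SL2)) :
    dd F p * dd F q = dd F q * dd F p := by
  have hab : dd F (av F) * dd F d.b = dd F d.b * dd F (av F) := by
    rw [← map_mul, ← map_mul, d.hab, dd_neg]
  rcases d.dd_cases h8 hp with h | h | h | h <;> rcases d.dd_cases h8 hq with h' | h' | h' | h' <;>
    rw [h, h'] <;> (try simp only [map_mul, one_mul, mul_one]) <;>
    first
      | rfl
      | exact hab
      | exact hab.symm
      | exact Commute.mul_left (Commute.refl _) hab.symm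
      | exact Commute.mul_left hab (Commute.refl _)
      | exact Commute.mul_right (Commute.refl _) hab
      | exact Commute.mul_right hab.symm (Commute.refl _)

theorem dd_commute_zG (x : SL2) : dd F x * zG F = zG F * dd F x := by
  rw [dd_apply, zG, Zp, ← map_mul (pr F), ← map_mul (pr F), dp_mul, dp_mul]
  simp

theorem SData.normalizes_E (h8 : Nat.card (d.Q : Subgroup SL2) = 8) :
    d.S0 ≤ Subgroup.normalizer (d.E : Set G4) := by
  intro s hs
  rw [Subgroup.mem_normalizer_iff_map_conj_eq]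
  refine Subgroup.eq_of_le_of_card_ge ?_
    (Subgroup.card_map_of_injective (MulAut.conj s).injective).ge
  rintro _ ⟨u, hu, rfl⟩
  show s * u * s⁻¹ ∈ d.E
  obtain ⟨huS, hut⟩ := d.mem_E_iff.1 hu
  refine d.mem_E_iff.2 ⟨mul_mem (mul_mem hs huS) (inv_mem hs), ?_⟩
  have key : ∀ e ∈ d.E, s⁻¹ * tG F * s * e = e * (s⁻¹ * tG F * s) := by
    intro e he
    obtain ⟨g, ⟨x, hx, y, hy, hg⟩, rfl⟩ := hs
    obtain ⟨p, hp, hpe⟩ : ∃ p ∈ (d.Q : Subgroup SL2),
        (pr F g)⁻¹ * tG F * pr F g = dd F p * tG F ∨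
          (pr F g)⁻¹ * tG F * pr F g = dd F p * zG F * tG F := by
      obtain ⟨q, hq, hqe⟩ : ∃ q ∈ (d.Q : Subgroup SL2),
          (pr F g)⁻¹ * tG F * pr F g = pr F (dp F (q, q⁻¹)) * tG F := by
        rcases hg with rfl | rfl
        · refine ⟨x⁻¹ * y, mul_mem (inv_mem hx) hy, ?_⟩
          rw [tG, ← map_inv, ← map_mul, ← map_mul, dp_inv, mul_assoc, Tp_dp, ← mul_assoc, dp_mul,
            map_mul, _root_.mul_inv_rev, inv_inv]
        · refine ⟨y⁻¹ * x, mul_mem (inv_mem hy) hx, ?_⟩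
          rw [tG, ← map_inv, ← map_mul, ← map_mul, _root_.mul_inv_rev, dp_inv, Tp_inv]
          rw [show Tp F * dp F (x⁻¹, y⁻¹) * Tp F * (dp F (x, y) * Tp F) =
            Tp F * dp F (x⁻¹, y⁻¹) * (Tp F * dp F (x, y)) * Tp F by simp only [mul_assoc],
            Tp_dp x y, Tp_dp, ← mul_assoc, mul_assoc (dp F _) (Tp F) (dp F _), Tp_dp,
            ← mul_assoc, dp_mul, mul_assoc _ (Tp F) (Tp F), Tp_mul_self, mul_one, map_mul,
            _root_.mul_inv_rev, inv_inv]
      refine ⟨q, hq, ?_⟩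
      have hcase : q⁻¹ = q ∨ q⁻¹ = -q := by
        have h2 : dd F q * dd F q = 1 := by
          have hsq : ∀ v : SL2, v * v = -1 → dd F v * dd F v = 1 := fun v hv => by
            rw [← map_mul, hv, dd_neg, map_one]
          rcases d.dd_cases h8 hq with h | h | h | h <;> rw [h]
          · rw [one_mul]
          · exact hsq _ av_sq
          · exact hsq _ d.hb
          · rw [map_mul]
            calc dd F (av F) * dd F d.b * (dd F (av F) * dd F d.b)
                = dd F (av F) * (dd F d.b * dd F (av F)) * dd F d.b := by group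
              _ = (dd F (av F) * dd F (av F)) * (dd F d.b * dd F d.b) := by
                rw [d.commute_dd h8 d.hbQ d.ha]; group
              _ = 1 := by rw [hsq _ av_sq, hsq _ d.hb, one_mul]
        refine dd_eq ?_
        rw [map_inv]
        exact eq_inv_of_mul_eq_one_left h2
      rcases hcase with h | h
      · exact Or.inl (by rw [hqe, h]; rfl)
      · exact Or.inr (by rw [hqe, h, pr_dp_anti])
    have h1 : dd F p * e = e * dd F p := by
      obtain ⟨r, hr, h | h | h | h⟩ := d.mem_E_cases he <;> subst h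
      · exact d.commute_dd h8 hp hr
      · exact Commute.mul_right (d.commute_dd h8 hp hr) (dd_commute_zG p)
      · exact Commute.mul_right (d.commute_dd h8 hp hr) (dd_commute_tG p)
      · exact Commute.mul_right (Commute.mul_right (d.commute_dd h8 hp hr) (dd_commute_zG p))
          (dd_commute_tG p)
    have h2 : zG F * e = e * zG F := by
      obtain ⟨r, hr, h | h | h | h⟩ := d.mem_E_cases he <;> subst h
      · exact (dd_commute_zG r).symm
      · exact Commute.mul_right (dd_commute_zG r).symm rfl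
      · exact Commute.mul_right (dd_commute_zG r).symm zG_commute_tG
      · exact Commute.mul_right (Commute.mul_right (dd_commute_zG r).symm rfl) zG_commute_tG
    have h3 := (d.mem_E_iff.1 he).2
    rcases hpe with hp' | hp' <;> rw [hp']
    · rw [mul_assoc, ← h3, ← mul_assoc, h1, mul_assoc]
    · rw [mul_assoc, ← h3, ← mul_assoc, mul_assoc (dd F p), h2, ← mul_assoc, h1, mul_assoc, mul_assoc,
        mul_assoc]
  have := key u hu
  calc s * u * s⁻¹ * tG F = s * (u * (s⁻¹ * tG F * s)) * s⁻¹ := by group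
    _ = tG F * (s * u * s⁻¹) := by rw [← this]; group

theorem wG_pow_four : (wG F) ^ 4 = 1 := by rw [wG, ← map_pow, Wp_pow_four, map_one]

theorem SData.gam_mem (h8 : Nat.card (d.Q : Subgroup SL2) = 8) {q : SL2}
    (hq : q ∈ (d.Q : Subgroup SL2)) : dd F (gam F q) ∈ d.E := by
  rw [← wG_dd]
  rcases d.dd_cases h8 hq with h | h | h | h <;> rw [h]
  · rw [mul_one, mul_inv_cancel]; exact one_mem _
  · rw [wG_dd, gam_av]; exact d.dd_mem_E d.ha
  · rw [wG_dd, d.hgam]; exact d.dd_mem_E (mul_mem d.ha d.hbQ)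
  · rw [wG_dd, map_mul (gam F), gam_av, d.hgam]
    exact d.dd_mem_E (mul_mem d.ha (mul_mem d.ha d.hbQ))

theorem SData.wG_normalizes (h8 : Nat.card (d.Q : Subgroup SL2) = 8) :
    wG F ∈ Subgroup.normalizer (d.E : Set G4) := by
  rw [Subgroup.mem_normalizer_iff_map_conj_eq]
  refine Subgroup.eq_of_le_of_card_ge ?_
    (Subgroup.card_map_of_injective (MulAut.conj (wG F)).injective).ge
  rintro _ ⟨u, hu, rfl⟩
  show MulAut.conj (wG F) u ∈ d.E
  obtain ⟨r, hr, h | h | h | h⟩ := d.mem_E_cases hu <;>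
    subst h <;> simp only [map_mul, MulAut.conj_apply, wG_dd, wG_zG, wG_tG]
  · exact d.gam_mem h8 hr
  · exact mul_mem (d.gam_mem h8 hr) d.tG_mem_E
  · exact mul_mem (d.gam_mem h8 hr) d.zG_mem_E
  · exact mul_mem (mul_mem (d.gam_mem h8 hr) d.tG_mem_E) d.zG_mem_E

/-- An element normalising `Q` and fixing two classes lies in `Q`. -/
theorem SData.mem_of_fix (h8 : Nat.card (d.Q : Subgroup SL2) = 8) {x : SL2}
    (h1 : dd F x * dd F (av F) = dd F (av F) * dd F x)
    (h2 : dd F x * dd F d.b = dd F d.b * dd F x) : x ∈ (d.Q : Subgroup SL2) := by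
  rw [← map_mul, ← map_mul] at h1 h2
  obtain ⟨q, hq, k1, k2⟩ : ∃ q ∈ (d.Q : Subgroup SL2),
      q * x * av F = av F * (q * x) ∧ q * x * d.b = d.b * (q * x) := by
    rcases dd_eq h1 with h1 | h1 <;> rcases dd_eq h2 with h2 | h2
    · exact ⟨1, one_mem _, by rw [one_mul]; exact h1.symm, by rw [one_mul]; exact h2.symm⟩
    · refine ⟨av F, d.ha, by rw [mul_assoc, h1.symm], ?_⟩
      rw [mul_assoc, ← mul_assoc d.b, show d.b * av F = -(av F * d.b) by rw [d.hab, neg_neg],
        neg_mul, mul_assoc, h2, mul_neg, neg_neg]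
    · refine ⟨d.b, d.hbQ, ?_, by rw [mul_assoc, h2.symm]⟩
      rw [mul_assoc, ← mul_assoc (av F), d.hab, neg_mul, mul_assoc, h1, mul_neg, neg_neg]
    · refine ⟨av F * d.b, mul_mem d.ha d.hbQ, ?_, ?_⟩
      · have xa : x * av F = -(av F * x) := by rw [h1, neg_neg]
        have ba : ∀ y, d.b * (av F * y) = -(av F * (d.b * y)) := fun y => by
          rw [← mul_assoc, show d.b * av F = -(av F * d.b) by rw [d.hab, neg_neg], neg_mul, mul_assoc]
        simp [mul_assoc, xa, ba]
      · have xb : x * d.b = -(d.b * x) := by rw [h2, neg_neg]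
        have ba : ∀ y, d.b * (av F * y) = -(av F * (d.b * y)) := fun y => by
          rw [← mul_assoc, show d.b * av F = -(av F * d.b) by rw [d.hab, neg_neg], neg_mul, mul_assoc]
        simp [mul_assoc, xb, ba]
  have := d.eq_one_or_of_commute k1 k2
  have hqx : q * x ∈ (d.Q : Subgroup SL2) := by
    rcases this with h | h <;> rw [h]
    · exact one_mem _
    · exact d.neg_one_mem
  exact (Subgroup.mul_mem_cancel_left _ hq).1 hqx

/-- The diagonal elements normalising `Q` come from two-elements normalising `E`. -/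
theorem SData.dd_mem_pGen (h8 : Nat.card (d.Q : Subgroup SL2) = 8) {x : SL2}
    (hx : x ∈ Subgroup.normalizer ((d.Q : Subgroup SL2) : Set SL2))
    (hX : dd F x ∈ Subgroup.normalizer (d.E : Set G4)) (hS : IsPGroup 2 d.S0) :
    dd F x ∈ pGen 2 d.E := by
  haveI : Fact (Nat.Prime 2) := ⟨Nat.prime_two⟩
  have hgen : ∀ g : G4, g ∈ Subgroup.normalizer (d.E : Set G4) → ∀ j, g ^ (2 ^ j) = 1 →
      g ∈ pGen 2 d.E := fun g hg j hj => by
    obtain ⟨i, -, hi⟩ := (Nat.dvd_prime_pow Nat.prime_two).1 (orderOf_dvd_of_pow_eq_one hj)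
    exact Subgroup.subset_closure ⟨hg, i, hi⟩
  have hE : ∀ u ∈ d.E, u ∈ pGen 2 d.E := fun u hu => by
    obtain ⟨j, hj⟩ := hS ⟨u, hu.1⟩
    exact hgen u (Subgroup.le_normalizer hu) j (congrArg Subtype.val hj)
  by_cases hxQ : x ∈ (d.Q : Subgroup SL2)
  · exact hE _ (d.dd_mem_E hxQ)
  set A := dd F (av F) with hA
  set B := dd F d.b with hB
  set X := dd F x with hXdef
  have hAB : A * B = B * A := d.commute_dd h8 d.ha d.hbQ
  have hsq : ∀ v : SL2, v * v = -1 → dd F v * dd F v = 1 := fun v hv => by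
    rw [← map_mul, hv, dd_neg, map_one]
  have hA2 : A * A = 1 := hsq _ av_sq
  have hB2 : B * B = 1 := hsq _ d.hb
  have hA1 : A ≠ 1 := by
    rw [hA, ← map_one (dd F)]
    intro h
    rcases dd_eq h with h | h
    · exact av_ne_one h.symm
    · exact av_ne_neg_one (by rw [h, neg_neg])
  have hne : A ≠ B := by
    intro h
    rcases dd_eq h with h | h <;> have h' := d.hab <;> rw [h] at h'
    · exact ne_neg (av F * av F) h'
    · rw [mul_neg, neg_mul, neg_neg] at h'
      exact ne_neg (av F * av F) h'.symm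
  have hB1 : B ≠ 1 := by
    rw [hB, ← map_one (dd F)]
    intro h
    rcases dd_eq h with h | h <;> have h' := d.hb
    · rw [← h, one_mul] at h'
      exact ne_neg (1 : SL2) h'
    · rw [show d.b = -1 by rw [h, neg_neg], neg_mul_neg, one_mul] at h'
      exact ne_neg (1 : SL2) h'
  have cls : ∀ q ∈ (d.Q : Subgroup SL2), dd F q ≠ 1 →
      MulAut.conj X (dd F q) = A ∨ MulAut.conj X (dd F q) = B ∨ MulAut.conj X (dd F q) = A * B := by
    intro q hq hq1
    have e : MulAut.conj X (dd F q) = dd F (x * q * x⁻¹) := by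
      rw [MulAut.conj_apply, hXdef, ← map_inv, ← map_mul, ← map_mul]
    rcases d.dd_cases h8 ((Subgroup.mem_normalizer_iff.1 hx q).1 hq) with h | h | h | h
    · exfalso
      rw [← e] at h
      exact hq1 ((MulAut.conj X).map_eq_one_iff.1 h)
    · exact Or.inl (e.trans h)
    · exact Or.inr (Or.inl (e.trans h))
    · exact Or.inr (Or.inr (e.trans (h.trans (map_mul _ _ _))))
  set c := MulAut.conj X with hc
  have hcA := cls _ d.ha hA1
  have hcB := cls _ d.hbQ hB1
  have hcne : c A ≠ c B := fun h => hne (c.injective h)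
  have hfix : c (c A) = A → c (c B) = B → False := fun h1 h2 => hxQ (mem_of_sq_mem d hx
    (d.mem_of_fix h8
      (by rw [map_mul]; exact mul_inv_eq_iff_eq_mul.1 (by
        simpa [hc, MulAut.conj_apply, mul_assoc] using h1))
      (by rw [map_mul]; exact mul_inv_eq_iff_eq_mul.1 (by
        simpa [hc, MulAut.conj_apply, mul_assoc] using h2))))
  have hw : MulAut.conj (wG F) A = A ∧ MulAut.conj (wG F) B = A * B ∧
      MulAut.conj (wG F) (A * B) = B := by
    have ha' : MulAut.conj (wG F) A = A := by rw [MulAut.conj_apply, hA, wG_dd, gam_av]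
    have hb' : MulAut.conj (wG F) B = A * B := by
      rw [MulAut.conj_apply, hA, hB, wG_dd, d.hgam, map_mul]
    exact ⟨ha', hb', by rw [map_mul, ha', hb', ← mul_assoc, hA2, one_mul]⟩
  obtain ⟨hwA, hwB, hwAB⟩ := hw
  have hw' : ∀ {u v : G4}, MulAut.conj (wG F) u = v → MulAut.conj (wG F)⁻¹ v = u := fun h => by
    rw [← h, map_inv, MulAut.inv_apply_self]
  have hc' : ∀ {u v : G4}, c u = v → MulAut.conj X⁻¹ v = u := fun h => by
    rw [← h, hc, map_inv, MulAut.inv_apply_self]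
  set u₀ := gam F x * x⁻¹ * x⁻¹ with hu₀
  have hu₀X : dd F u₀ = wG F * X * (wG F)⁻¹ * X⁻¹ * X⁻¹ := by
    rw [hu₀, map_mul, map_mul, ← wG_dd, map_inv]
  have key : MulAut.conj (dd F u₀) A = A ∧ MulAut.conj (dd F u₀) B = B := by
    have ev : ∀ v, MulAut.conj (dd F u₀) v = MulAut.conj (wG F) (c (MulAut.conj (wG F)⁻¹
        (MulAut.conj X⁻¹ (MulAut.conj X⁻¹ v)))) := fun v => by
      rw [hu₀X, map_mul, map_mul, map_mul, map_mul]
      rfl
    rcases hcA with hcA | hcA | hcA <;> rcases hcB with hcB | hcB | hcB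
    · exact absurd (hcA.trans hcB.symm) hcne
    · exact (hfix (by rw [hcA, hcA]) (by rw [hcB, hcB])).elim
    · exact (hfix (by rw [hcA, hcA])
        (by rw [hcB, map_mul, hcA, hcB, ← mul_assoc, hA2, one_mul])).elim
    · exact (hfix (by rw [hcA, hcB]) (by rw [hcB, hcA])).elim
    · exact absurd (hcA.trans hcB.symm) hcne
    · have hcAB : c (A * B) = A := by
        rw [map_mul, hcA, hcB, hAB, ← mul_assoc, hB2, one_mul]
      constructor
      · rw [ev, hc' hcAB, hc' hcB, hw' hwAB, hcAB, hwA]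
      · rw [ev, hc' hcA, hc' hcAB, hw' hwB, hcB, hwAB]
    · have hcAB : c (A * B) = B := by
        rw [map_mul, hcA, hcB, mul_assoc, ← hAB, ← mul_assoc, hA2, one_mul]
      constructor
      · rw [ev, hc' hcB, hc' hcAB, hw' hwB, hcB, hwA]
      · rw [ev, hc' hcAB, hc' hcA, hw' hwA, hcA, hwAB]
    · exact (hfix (by rw [hcA, map_mul, hcA, hcB, mul_assoc, hB2, mul_one])
        (by rw [hcB, hcB])).elim
    · exact absurd (hcA.trans hcB.symm) hcne
  have hu₀Q : u₀ ∈ (d.Q : Subgroup SL2) := d.mem_of_fix h8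
    (mul_inv_eq_iff_eq_mul.1 key.1) (mul_inv_eq_iff_eq_mul.1 key.2)
  have hwK : wG F ∈ pGen 2 d.E := hgen _ (d.wG_normalizes h8) 2 wG_pow_four
  have hconjK : X * (wG F)⁻¹ * X⁻¹ ∈ pGen 2 d.E := by
    refine hgen _ (mul_mem (mul_mem hX (inv_mem (d.wG_normalizes h8))) (inv_mem hX)) 2 ?_
    rw [conj_pow, inv_pow, show 2 ^ 2 = 4 from rfl, wG_pow_four, inv_one, mul_one, mul_inv_cancel]
  have e : X = (dd F u₀)⁻¹ * (wG F * (X * (wG F)⁻¹ * X⁻¹)) := by
    rw [hu₀X]; group
  rw [e]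
  exact mul_mem (inv_mem (hE _ (d.dd_mem_E hu₀Q))) (mul_mem hwK hconjK)

/-- The centraliser of `E` is inside `E`. -/
theorem SData.centralizer_E (h8 : Nat.card (d.Q : Subgroup SL2) = 8) :
    Subgroup.centralizer (d.E : Set G4) ≤ d.E := by
  intro u hu
  have hcomm : ∀ v ∈ d.E, v * u = u * v := fun v hv => Subgroup.mem_centralizer_iff.1 hu v hv
  obtain ⟨x, y, e⟩ := exists_of_commute_zG (hcomm _ d.zG_mem_E).symm
  set u₁ := pr F (dp F (x, y)) with hu₁
  have hu₁c : ∀ v ∈ d.E, v * u₁ = u₁ * v := by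
    intro v hv
    rcases e with e | e
    · exact e ▸ hcomm v hv
    · have hvt := (d.mem_E_iff.1 hv).2
      have h1 := hcomm v hv
      rw [e] at h1
      refine mul_right_cancel (b := tG F) ?_
      rw [mul_assoc, h1, mul_assoc u₁ v, hvt, ← mul_assoc]
  have hu₁E : u₁ ∈ d.E := by
    rcases commute_tG_iff (hu₁c _ d.tG_mem_E).symm with rfl | rfl
    · refine d.dd_mem_E (d.mem_of_fix h8 ?_ ?_)
      · exact (hu₁c _ (d.dd_mem_E d.ha)).symm
      · exact (hu₁c _ (d.dd_mem_E d.hbQ)).symm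
    · have hu₁' : u₁ = dd F x * zG F := pr_dp_anti x
      have hq : ∀ q : SL2, dd F q * u₁ = u₁ * dd F q → dd F x * dd F q = dd F q * dd F x := by
        intro q hq
        refine mul_right_cancel (b := zG F) ?_
        rw [mul_assoc, dd_commute_zG q, ← mul_assoc, ← hu₁', ← hq, hu₁', mul_assoc]
      rw [hu₁']
      exact mul_mem (d.dd_mem_E (d.mem_of_fix h8 (hq _ (hu₁c _ (d.dd_mem_E d.ha)))
        (hq _ (hu₁c _ (d.dd_mem_E d.hbQ))))) d.zG_mem_E
  rcases e with e | e <;> rw [e]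
  · exact hu₁E
  · exact mul_mem hu₁E d.tG_mem_E

theorem isSimple (hodd : Fintype.card F % 2 = 1) (S : Sylow 2 G4) :
    (Cfsg.groupFusionSystem (S : Subgroup G4)).IsSimple 2 := by
  haveI : Fact (Nat.Prime 2) := ⟨Nat.prime_two⟩
  obtain ⟨d⟩ := nonempty_sData (F := F) hodd
  obtain ⟨S₀, hS₀⟩ := d.exists_sylow_psp hodd
  have hne : (S₀ : Subgroup G4) ≠ ⊥ := fun h =>
    zG_ne_one (Subgroup.mem_bot.1 (h ▸ hS₀ ▸ d.zG_mem))
  have hT : ∀ T : Subgroup G4, T ≤ (S₀ : Subgroup G4) →
      (∀ x ∈ T, ∀ g : G4, g * x * g⁻¹ ∈ (S₀ : Subgroup G4) → g * x * g⁻¹ ∈ T) →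
      T = ⊥ ∨ T = (S₀ : Subgroup G4) := by
    rw [hS₀]
    exact d.closed_eq hodd
  by_cases h8 : Nat.card (d.Q : Subgroup SL2) = 8
  · refine isSimple_of_parabolic S₀ hne hT (fun _ : Unit => d.E) ?_ ?_ ?_ ?_ ?_ S
    · intro _; rw [hS₀]; exact inf_le_left
    · intro _; rw [hS₀]; exact d.normalizes_E h8
    · intro _; exact d.centralizer_E h8
    · intro _
      refine ⟨wG F, d.wG_normalizes h8, fun x hx hwx => ?_⟩
      rw [hS₀] at hx hwx
      refine d.mem_E_iff.2 ⟨hx, ?_⟩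
      have hzc : ∀ v ∈ d.S0, v * zG F = zG F * v := by
        rintro _ ⟨g, ⟨a, -, b, -, rfl | rfl⟩, rfl⟩
        · rw [zG, Zp, ← map_mul (pr F), ← map_mul (pr F), dp_mul, dp_mul]
          simp
        · rw [map_mul, mul_assoc, show pr F (Tp F) = tG F from rfl, ← zG_commute_tG, ← mul_assoc,
            ← mul_assoc]
          congr 1
          rw [zG, Zp, ← map_mul (pr F), ← map_mul (pr F), dp_mul, dp_mul]
          simp
      have h1 := hzc _ hwx
      refine (MulAut.conj (wG F)).injective ?_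
      rw [map_mul, map_mul, MulAut.conj_apply, MulAut.conj_apply, wG_tG]
      exact h1
    · rw [hS₀]
      intro g hg
      obtain ⟨x, hx, s, hs, e⟩ := d.exists_of_mem_normalizer hg
      have hX : dd F x ∈ Subgroup.normalizer (d.S0 : Set G4) := by
        rcases e with e | e
        · have := mul_mem (inv_mem (Subgroup.le_normalizer hs)) hg
          rwa [e, inv_mul_cancel_left] at this
        · have := mul_mem (mul_mem (inv_mem (Subgroup.le_normalizer hs)) hg)
            (inv_mem (Subgroup.le_normalizer d.tG_mem))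
          rwa [e, ← mul_assoc, inv_mul_cancel_left, mul_inv_cancel_right] at this
      have hXE : dd F x ∈ Subgroup.normalizer (d.E : Set G4) := by
        rw [Subgroup.mem_normalizer_iff_map_conj_eq]
        refine Subgroup.eq_of_le_of_card_ge ?_
          (Subgroup.card_map_of_injective (MulAut.conj (dd F x)).injective).ge
        rintro _ ⟨u, hu, rfl⟩
        obtain ⟨huS, hut⟩ := d.mem_E_iff.1 hu
        refine d.mem_E_iff.2 ⟨(Subgroup.mem_normalizer_iff.1 hX u).1 huS, ?_⟩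
        show dd F x * u * (dd F x)⁻¹ * tG F = tG F * (dd F x * u * (dd F x)⁻¹)
        calc dd F x * u * (dd F x)⁻¹ * tG F
            = dd F x * u * ((dd F x)⁻¹ * (tG F * dd F x)) * (dd F x)⁻¹ := by group
          _ = dd F x * (u * tG F) * (dd F x)⁻¹ := by rw [← dd_commute_tG x]; group
          _ = (dd F x * tG F) * u * (dd F x)⁻¹ := by rw [hut]; group
          _ = tG F * (dd F x * u * (dd F x)⁻¹) := by rw [dd_commute_tG x]; group
      have hX' : dd F x ∈ d.S0 ⊔ ⨆ _ : Unit, pGen 2 d.E ⊓ Subgroup.normalizer (d.S0 : Set G4) :=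
        Subgroup.mem_sup_right (Subgroup.mem_iSup_of_mem () (Subgroup.mem_inf.2
          ⟨d.dd_mem_pGen h8 hx hXE (hS₀ ▸ S₀.2), hX⟩))
      rcases e with rfl | rfl
      · exact mul_mem (Subgroup.mem_sup_left hs) hX'
      · exact mul_mem (mul_mem (Subgroup.mem_sup_left hs) hX') (Subgroup.mem_sup_left d.tG_mem)
  · refine isSimple_of_parabolic S₀ hne hT (fun i : PEmpty.{1} => i.elim) (fun i => i.elim)
      (fun i => i.elim) (fun i => i.elim) (fun i => i.elim) ?_ S
    rw [hS₀]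
    intro g hg
    obtain ⟨x, hx, s, hs, e⟩ := d.exists_of_mem_normalizer hg
    have hX : dd F x ∈ d.S0 := d.dp_mem_S0 (d.normalizer_le h8 hx) (d.normalizer_le h8 hx)
    refine Subgroup.mem_sup_left ?_
    rcases e with rfl | rfl
    · exact mul_mem hs hX
    · exact mul_mem (mul_mem hs hX) d.tG_mem

end CfsgLib.Involutions.PSpFour
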