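import Cfsg.Agent.Lib.KnownB.PSLAut.Main

/-!
A nonzero additive set of symmetric matrices invariant under congruences contains the short root elements.
-/

set_option autoImplicit false

namespace CfsgLib.Involutions.SymmCongruence

open Matrix CfsgLib.KnownB.PSLAut

variable {m : ℕ} {F : Type*} [Field F]

local notation "Mm" => Matrix (Fin m) (Fin m) F
local notation "SLm" => Matrix.SpecialLinearGroup (Fin m) F
local notation "GLm" => GL (Fin m) F

theorem congr_diag (t : Fin m → Fˣ) (M : Mm) (r c : Fin m) :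
    ((diagGL t : GLm) : Mm).transpose = ((diagGL t : GLm) : Mm) ∧
    (((diagGL t : GLm) : Mm) * M * ((diagGL t : GLm) : Mm)ᵀ) r c = (t r : F) * M r c * (t c : F) := by
  have h : ((diagGL t : GLm) : Mm) = Matrix.diagonal fun i => (t i : F) := rfl
  refine ⟨by rw [h, Matrix.diagonal_transpose], ?_⟩
  rw [h, Matrix.diagonal_transpose, Matrix.mul_diagonal, Matrix.diagonal_mul]

theorem congr_perm (σ : Equiv.Perm (Fin m)) (M : Mm) (r c : Fin m) :
    (((permGL σ : GLm) : Mm) * M * ((permGL σ : GLm) : Mm)ᵀ) (σ r) (σ c) = M r c := by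
  have h : ((permGL σ : GLm) : Mm) = Matrix.of fun r s => if r = σ s then 1 else 0 := rfl
  rw [h, Matrix.mul_apply, Finset.sum_eq_single c, Matrix.mul_apply, Finset.sum_eq_single r]
  · simp
  · intro b _ hb; simp [σ.injective.eq_iff, hb.symm]
  · simp
  · intro b _ hb; simp [σ.injective.eq_iff, hb.symm]
  · simp

theorem congr_transvection {i j : Fin m} (h : i ≠ j) (M : Mm) (r c : Fin m) :
    (((Matrix.SpecialLinearGroup.transvection h (1 : F) : SLm) : Mm) * M *
      ((Matrix.SpecialLinearGroup.transvection h (1 : F) : SLm) : Mm)ᵀ) r c =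
      M r c + (if r = i then M j c else 0) + (if c = i then M r j else 0) +
        (if r = i ∧ c = i then M j j else 0) := by
  simp only [Matrix.SpecialLinearGroup.transvection_coe, Matrix.transpose_add, Matrix.transpose_one,
    Matrix.transpose_single, add_mul, mul_add, one_mul, mul_one, Matrix.add_apply]
  by_cases hr : r = i <;> by_cases hc : c = i
  · subst hr hc; simp; ring
  · subst hr; simp [hc]
  · subst hc; simp [hr]
  · simp [hr, hc]

/-- The hypotheses on the invariant set. -/
structure Inv (P : Matrix (Fin m) (Fin m) F → Prop) : Prop where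
  symm : ∀ M, P M → M.IsSymm
  sub : ∀ M N, P M → P N → P (M - N)
  congr : ∀ (g : GL (Fin m) F) (M : Matrix (Fin m) (Fin m) F),
    P M → P ((g : Matrix (Fin m) (Fin m) F) * M * (g : Matrix (Fin m) (Fin m) F)ᵀ)

variable {P : Matrix (Fin m) (Fin m) F → Prop}

theorem Inv.zero (hP : Inv P) {M : Mm} (h : P M) : P 0 := sub_self M ▸ hP.sub M M h h

theorem Inv.add (hP : Inv P) {M N : Mm} (h : P M) (h' : P N) : P (M + N) := by
  have := hP.sub M (0 - N) h (hP.sub 0 N (hP.zero h) h')
  rwa [zero_sub, sub_neg_eq_add] at this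

/-- The difference along an elementary congruence. -/
theorem Inv.diff (hP : Inv P) {M : Mm} (h : P M) {i j : Fin m} (hij : i ≠ j) :
    ∃ N, P N ∧ ∀ r c, N r c = (if r = i then M j c else 0) + (if c = i then M r j else 0) +
      (if r = i ∧ c = i then M j j else 0) := by
  refine ⟨_, hP.sub _ _ (hP.congr (Matrix.SpecialLinearGroup.toGL
    (Matrix.SpecialLinearGroup.transvection hij (1 : F))) M h) h, fun r c => ?_⟩
  rw [Matrix.sub_apply]
  refine (congrArg (· - M r c) (congr_transvection hij M r c)).trans ?_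
  ring

theorem exists_short (hm : 2 ≤ m) (hex : m = 2 → ∃ t : F, t ≠ 0 ∧ t ≠ 1) (hP : Inv P) {M : Mm} (h : P M)
    (hM : M ≠ 0) : ∃ (k l : Fin m) (x : F), k ≠ l ∧ x ≠ 0 ∧ P (Matrix.single k l x + Matrix.single l k x) := by
  obtain ⟨j, l, hjl⟩ : ∃ j l, M j l ≠ 0 := by
    by_contra hc
    push Not at hc
    exact hM (Matrix.ext hc)
  rcases (show m = 2 ∨ 3 ≤ m by omega) with rfl | hm3
  · obtain ⟨t, ht0, ht1⟩ := hex rfl
    -- a member with vanishing second diagonal entry
    obtain ⟨N, hN, hN11, hN01⟩ : ∃ N, P N ∧ N 1 1 = 0 ∧ N 0 1 ≠ 0 := by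
      have step : ∀ N, P N → N 1 1 ≠ 0 → ∃ N', P N' ∧ N' 1 1 = 0 ∧ N' 0 1 ≠ 0 := by
        intro N hN hne
        obtain ⟨N', hN', he⟩ := hP.diff hN (show (0 : Fin 2) ≠ 1 by simp)
        exact ⟨N', hN', by simp [he], by simpa [he] using hne⟩
      by_cases h11 : M 1 1 = 0
      swap
      · exact step M h h11
      by_cases h01 : M 0 1 = 0
      swap
      · exact ⟨M, h, h11, h01⟩
      have h10 : M 1 0 = 0 := by
        have := congrFun (congrFun (hP.symm M h) 0) 1
        rw [Matrix.transpose_apply] at this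
        rw [this, h01]
      have h00 : M 0 0 ≠ 0 := by
        intro h00
        refine hjl ?_
        fin_cases j <;> fin_cases l <;> assumption
      obtain ⟨N', hN', he⟩ := hP.diff h (show (1 : Fin 2) ≠ 0 by simp)
      exact step N' hN' (by simpa [he, h10, h01] using h00)
    have ht : Function.update (fun _ : Fin 2 => (1 : Fˣ)) 1 (Units.mk0 t ht0) 0 = 1 := by simp
    refine ⟨0, 1, (t - 1) * N 0 1, by simp, mul_ne_zero (sub_ne_zero.2 ht1) hN01, ?_⟩
    have hN10 : N 1 0 = N 0 1 := congrFun (congrFun (hP.symm N hN) 0) 1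
    convert hP.sub _ _ (hP.congr (diagGL (Function.update (fun _ => 1) 1 (Units.mk0 t ht0))) N hN) hN using 1
    ext r c
    rw [Matrix.sub_apply, (congr_diag _ N r c).2]
    fin_cases r <;> fin_cases c <;> simp [hN11, hN10] <;> ring
  · obtain ⟨i, hij, hil⟩ := third hm3 j l
    obtain ⟨N, hN, he⟩ := hP.diff h hij
    have hx : N l i = M j l := by
      have := congrFun (congrFun (hP.symm M h) j) l
      rw [Matrix.transpose_apply] at this
      simp [he, hil.symm, this]
    obtain ⟨k, hki, hkl⟩ := third hm3 i l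
    obtain ⟨N', hN', he'⟩ := hP.diff hN hkl
    refine ⟨k, i, M j l, hki, hjl, ?_⟩
    convert hN' using 1
    ext r c
    have hrow : ∀ c, N l c = if c = i then M j l else 0 := fun c => by
      split_ifs with hc
      · rw [hc, hx]
      · simp [he, hil.symm, hc]
    have hcol : ∀ r, N r l = if r = i then M j l else 0 := fun r => by
      rw [← hrow r]
      exact congrFun (congrFun (hP.symm N hN) l) r
    rw [he', Matrix.add_apply, hrow, hcol, hrow l, if_neg hil.symm]
    simp only [Matrix.single_apply]
    rcases eq_or_ne k r with rfl | hr <;> rcases eq_or_ne k c with rfl | hc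
    · simp [hki, hki.symm]
    · rcases eq_or_ne i c with rfl | hc' <;> simp [*, hki.symm, Ne.symm]
    · rcases eq_or_ne i r with rfl | hr' <;> simp [*, hki.symm, Ne.symm]
    · simp [*, Ne.symm]

theorem short_all (hP : Inv P) {k l : Fin m} {x : F} (hkl : k ≠ l) (hx : x ≠ 0)
    (h : P (Matrix.single k l x + Matrix.single l k x)) {a b : Fin m} (hab : a ≠ b) (t : F) :
    P (Matrix.single a b t + Matrix.single b a t) := by
  rcases eq_or_ne t 0 with rfl | ht
  · simpa using hP.zero h
  obtain ⟨σ, hσa, hσb⟩ : ∃ σ : Equiv.Perm (Fin m), σ k = a ∧ σ l = b := by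
    refine ⟨Equiv.swap (Equiv.swap k a l) b * Equiv.swap k a, ?_, by simp⟩
    rw [Equiv.Perm.mul_apply, Equiv.swap_apply_left]
    refine Equiv.swap_apply_of_ne_of_ne ?_ hab
    intro h'
    exact hkl ((Equiv.swap k a).injective ((Equiv.swap_apply_left k a).trans h'))
  have h1 := hP.congr (permGL σ) _ h
  have h2 := hP.congr (diagGL (Function.update (fun _ => 1) a (Units.mk0 (t / x) (div_ne_zero ht hx)))) _ h1
  convert h2 using 1
  ext r c
  rw [(congr_diag _ _ r c).2]
  obtain ⟨r', rfl⟩ := σ.surjective r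
  obtain ⟨c', rfl⟩ := σ.surjective c
  rw [congr_perm, ← hσa, ← hσb]
  simp only [Matrix.add_apply, Matrix.single_apply, Function.update_apply, σ.injective.eq_iff]
  by_cases hr : r' = k <;> by_cases hc : c' = l <;> by_cases hr' : r' = l <;> by_cases hc' : c' = k <;>
    simp_all [eq_comm, σ.injective.eq_iff] <;> field_simp

theorem diag_perm (hP : Inv P) {i : Fin m} {u : F} (h : P (Matrix.single i i u)) (a : Fin m) :
    P (Matrix.single a a u) := by
  convert hP.congr (permGL (Equiv.swap i a)) _ h using 1
  ext r c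
  obtain ⟨r', rfl⟩ := (Equiv.swap i a).surjective r
  obtain ⟨c', rfl⟩ := (Equiv.swap i a).surjective c
  rw [congr_perm]
  have key : ∀ x, a = Equiv.swap i a x ↔ i = x := fun x => by
    constructor
    · intro hx
      exact (Equiv.swap i a).injective ((Equiv.swap_apply_left i a).trans hx)
    · rintro rfl
      exact (Equiv.swap_apply_left _ _).symm
  simp only [Matrix.single_apply, key]

/-- All symmetric matrices, once shorts and diagonals are present. -/
theorem all_symm (hP : Inv P) (h0 : P 0)
    (hs : ∀ a b : Fin m, a ≠ b → ∀ t : F, P (Matrix.single a b t + Matrix.single b a t))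
    (hd : ∀ (a : Fin m) (t : F), P (Matrix.single a a t)) {X : Mm} (hX : X.IsSymm) : P X := by
  have hY : ∀ Y : Mm, P (Y + Yᵀ) := by
    intro Y
    induction Y using Matrix.induction_on' with
    | h_zero => simpa using h0
    | h_add p q hp hq => rw [Matrix.transpose_add, add_add_add_comm]; exact hP.add hp hq
    | h_std_basis a b t =>
      rw [Matrix.transpose_single]
      rcases eq_or_ne a b with rfl | hab
      · exact hP.add (hd a t) (hd a t)
      · exact hs a b hab t
  have hdiag : ∀ d : Fin m → F, P (Matrix.diagonal d) := by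
    intro d
    rw [← Matrix.sum_single_eq_diagonal]
    exact Finset.sum_induction _ P (fun _ _ => hP.add) h0 fun a _ => hd a _
  let Y : Mm := Matrix.of fun r c => if r < c then X r c else 0
  have he : X = Y + Yᵀ + Matrix.diagonal fun r => X r r := by
    ext r c
    rcases lt_trichotomy r c with hrc | rfl | hrc
    · simp [Y, hrc, not_lt.2 hrc.le, hrc.ne]
    · simp [Y]
    · simp [Y, hrc, not_lt.2 hrc.le, hrc.ne', hX.apply c r]
  rw [he]
  exact hP.add (hY Y) (hdiag _)

end CfsgLib.Involutions.SymmCongruence
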