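import Cfsg.Agent.Lib.Involutions.PSpRoots
import Cfsg.Agent.Lib.Involutions.SymmCongruence
import Cfsg.Agent.Lib.Involutions.FusionSimpleQuotient
import Cfsg.Prelude.Def_Classical
import Cfsg.Prelude.Def_FusionSystem

/-!
The `p`-fusion system of `PSp_{2m}` in defining characteristic is simple.
-/

set_option autoImplicit false

namespace CfsgLib.Involutions.PSpFusion

open Matrix CfsgLib.KnownB.PSLAut CfsgLib.Involutions.PSLUnip CfsgLib.Involutions.PSpUnip
  CfsgLib.Involutions.FusionSimpleParabolic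

variable {m : ℕ} {F : Type*} [Field F]

local notation "Sp" => Matrix.symplecticGroup (Fin m) F
local notation "Mm" => Matrix (Fin m) (Fin m) F
local notation "SLm" => Matrix.SpecialLinearGroup (Fin m) F
local notation "GLm" => GL (Fin m) F

theorem mem_normalizer_of_conj [Finite F] {R : Subgroup Sp} {g : Sp} (hg : ∀ x ∈ R, g * x * g⁻¹ ∈ R) :
    g ∈ Subgroup.normalizer (R : Set Sp) := by
  rw [Subgroup.mem_normalizer_iff_map_conj_eq]
  refine Subgroup.eq_of_le_of_card_ge ?_ (Subgroup.card_map_of_injective (MulAut.conj g).injective).ge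
  rintro _ ⟨x, hx, rfl⟩
  exact hg x hx

/-- The torus. -/
def τ : (Fin m → Fˣ) →* Matrix.symplecticGroup (Fin m) F :=
  L.comp
    { toFun := diagGL
      map_one' := Units.ext (by simp [diagGL])
      map_mul' := fun s t => Units.ext (by
        show Matrix.diagonal _ = Matrix.diagonal _ * Matrix.diagonal _
        rw [Matrix.diagonal_mul_diagonal]; rfl) }

theorem τ_apply (t : Fin m → Fˣ) : τ t = L (diagGL t) := rfl

theorem τ_normalizes [Finite F] (t : Fin m → Fˣ) : τ t ∈ Subgroup.normalizer (Usp m F : Set Sp) := by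
  refine mem_normalizer_of_conj fun x hx => ?_
  obtain ⟨hx21, u, hu, hue⟩ := hx
  have ht21 : b21 (τ t) = 0 := b21_L _
  refine mem_Usp_of (b21_conj ht21 hx21) ?_ ?_
  all_goals rw [b11_conj ht21 hx21, τ_apply, b11_L, b22_L, Matrix.transpose_transpose, ← hue]
  all_goals
    have h1 : ((diagGL t : GLm) : Mm) = Matrix.diagonal fun i => (t i : F) := rfl
    have h2 : (((diagGL t)⁻¹ : GLm) : Mm) = Matrix.diagonal fun i => (((t i)⁻¹ : Fˣ) : F) := rfl
    rw [h1, h2]
  · intro r c (hcr : c < r)
    rw [Matrix.mul_diagonal, Matrix.diagonal_mul, hu.1 hcr, mul_zero, zero_mul]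
  · intro r
    rw [Matrix.mul_diagonal, Matrix.diagonal_mul, hu.2, mul_one]
    simp

theorem center_pow_eq_one (hm : 2 ≤ m) (p : ℕ) [Fact p.Prime] [CharP F p] {z : Sp}
    (hz : z ∈ Subgroup.center Sp) {k : ℕ} (h : z ^ p ^ k = 1) : z = 1 := by
  have : NeZero m := ⟨by omega⟩
  rcases CfsgLib.Classical.mem_center_sp_iff.1 hz with h1 | h1
  · exact Subtype.ext h1
  · have hb : b11 z = (-1 : F) • (1 : Mm) ∧ b21 z = 0 := by
      constructor <;> ext r c <;>
        simp [b11, b21, h1, Matrix.toBlocks₁₁, Matrix.toBlocks₂₁, Matrix.one_apply]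
      split_ifs <;> simp
    have h2 := (pow_blocks hb.2 (p ^ k)).2
    rw [h, b11_one, hb.1, smul_pow, one_pow] at h2
    have h3 := congrFun (congrFun h2 0) 0
    simp only [Matrix.smul_apply, Matrix.one_apply_eq, smul_eq_mul, mul_one] at h3
    have h4 := eq_one_of_pow_char p h3.symm
    refine Subtype.ext (h1.trans ?_)
    rw [show ((1 : Sp).1) = (1 : Matrix (Fin m ⊕ Fin m) (Fin m ⊕ Fin m) F) from rfl,
      show (-1 : Matrix (Fin m ⊕ Fin m) (Fin m ⊕ Fin m) F) = (-1 : F) • 1 by simp, h4, one_smul]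

/-- The negative of the identity. -/
def negOne (m : ℕ) (F : Type*) [Field F] : Matrix.symplecticGroup (Fin m) F :=
  ⟨-1, SymplecticGroup.neg_mem (one_mem _)⟩

theorem negOne_center (hm : 2 ≤ m) : negOne m F ∈ Subgroup.center Sp := by
  have : NeZero m := ⟨by omega⟩
  exact CfsgLib.Classical.mem_center_sp_iff.2 (Or.inr rfl)

theorem b21_negOne : b21 (negOne m F) = 0 := by
  ext r c; simp [b21, negOne, Matrix.toBlocks₂₁, Matrix.one_apply]

theorem b11_negOne : b11 (negOne m F) = -1 := by
  ext r c; simp [b11, negOne, Matrix.toBlocks₁₁, Matrix.one_apply]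

/-- Reduce a centralising element to one with diagonal one. -/
theorem reduce_sign (hm : 2 ≤ m) {K : Subgroup Sp} {Q : Sp → Prop} {s : Sp}
    (hK : Subgroup.center Sp ≤ K) (hQ : ∀ z ∈ Subgroup.center Sp, ∀ x, Q x → Q (x * z))
    (hs : Q s) {r : F} (hr : r * r = 1) (h21 : b21 s = 0) (hd : ∀ i, b11 s i i = r)
    (h : ∀ x, Q x → (∀ i, b11 x i i = 1) → x ∈ K) : s ∈ K := by
  rcases mul_self_eq_one_iff.1 hr with rfl | rfl
  · exact h s hs hd
  · have h1 := h _ (hQ _ (negOne_center hm) s hs) fun i => by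
      rw [b11_mul, b21_negOne, mul_zero, add_zero, b11_negOne, mul_neg, mul_one, Matrix.neg_apply, hd, neg_neg]
    exact (K.mul_mem_cancel_right (hK (negOne_center hm))).1 h1

theorem centralizes_mul_center {R : Subgroup Sp} {x z : Sp} (hz : z ∈ Subgroup.center Sp)
    (hx : x ∈ Subgroup.centralizer (R : Set Sp)) : x * z ∈ Subgroup.centralizer (R : Set Sp) :=
  Subgroup.mul_mem _ hx (Subgroup.center_le_centralizer _ hz)

theorem pEl_mem_pGen (p : ℕ) [Fact p.Prime] {R : Subgroup Sp} {x : Sp}
    (hx : x ∈ Subgroup.normalizer (R : Set Sp)) (h : x ^ p = 1) : x ∈ pGen p R := by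
  obtain ⟨k, -, hk⟩ := (Nat.dvd_prime_pow (Fact.out : p.Prime) (m := 1)).1
    (orderOf_dvd_of_pow_eq_one (by rwa [pow_one]))
  exact Subgroup.subset_closure ⟨hx, k, hk⟩

theorem isSimple [Fintype F] (p : ℕ) [Fact p.Prime] [CharP F p] (hm : 2 ≤ m)
    (hex : m = 2 → 3 ≤ Fintype.card F) (S : Sylow p (Cfsg.PSp m F)) :
    (Cfsg.groupFusionSystem (S : Subgroup (Cfsg.PSp m F))).IsSimple p := by
  have : NeZero m := ⟨by omega⟩
  classical
  let a : Fin m := ⟨0, by omega⟩
  let l : Fin m := ⟨m - 1, by omega⟩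
  have hl : (l : ℕ) + 1 = m := by show m - 1 + 1 = m; omega
  have hal : a < l := by show (0 : ℕ) < m - 1; omega
  let Adj := {ij : Fin m × Fin m // (ij.2 : ℕ) = (ij.1 : ℕ) + 1}
  let R : Option Adj → Subgroup Sp := fun o => match o with
    | some e => par (rad m F e.1.1 e.1.2 e.2)
    | none => radLast m F l hl
  have hRle : ∀ o, R o ≤ Usp m F := fun o => match o with
    | some e => par_mono rad_le
    | none => fun _ hx => hx.1
  have hUn : ∀ o, Usp m F ≤ Subgroup.normalizer (R o : Set Sp) := by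
    rintro (_ | e) s hs
    · exact mem_normalizer_of_conj fun x hx => radLast_conj hs hx
    · obtain ⟨h21, u, hu, hue⟩ := hs
      exact mem_normalizer_of_conj fun x hx => conj_mem_par h21 hue (fun w hw => rad_conj_U hu hw) hx
  have hxl : ∀ t : F, xl l t ∈ Subgroup.normalizer (R none : Set Sp) := fun t =>
    hUn none (A_mem_par (U m F))
  have hyl : ∀ t : F, yl l t ∈ Subgroup.normalizer (R none : Set Sp) := fun t =>
    mem_normalizer_of_conj fun x hx => radLast_lower hx t
  have hxe : ∀ (e : Adj) (t : F), Ls (Matrix.SpecialLinearGroup.transvection (adj_lt (hij := e.2)).ne t) ∈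
      Subgroup.normalizer (R (some e) : Set Sp) := fun e t =>
    hUn (some e) (Ls_mem_par (transvection_mem_U (adj_lt (hij := e.2)) t))
  have hye : ∀ (e : Adj) (t : F), Ls (Matrix.SpecialLinearGroup.transvection (adj_lt (hij := e.2)).ne' t) ∈
      Subgroup.normalizer (R (some e) : Set Sp) := fun e t =>
    mem_normalizer_of_conj fun x hx => conj_mem_par (b21_Ls _) (b11_Ls _).symm
      (fun w hw => rad_conj_lower hw t) hx
  have hsing : ∀ t : F, (Matrix.single a a t).IsSymm := single_symm a
  refine FusionSimpleQuotient.isSimple_quotient (fun z hz k h => center_pow_eq_one hm p hz h) (Usp m F)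
    (isPGroup_Usp p) ?_ (fun g hg k hk => pEl_mem_Usp p hg hk) ?_ R hRle hUn ?_ ?_ ?_ S
  · intro h
    have h1 : A (Matrix.single a a (1 : F)) (hsing 1) = 1 :=
      (Subgroup.eq_bot_iff_forall _).1 h _ (A_mem_par (U m F))
    have h2 := congrFun (congrFun (congrArg b12 h1) a) a
    simp at h2
  · -- no proper strongly closed subgroup
    intro T hT hTc
    refine or_iff_not_imp_left.2 fun hne => le_antisymm hT ?_
    have hTn : (T.subgroupOf (Usp m F)).Normal := ⟨fun x hx g => by
      rw [Subgroup.mem_subgroupOf] at hx ⊢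
      exact hTc _ hx g ((Usp m F).mul_mem ((Usp m F).mul_mem g.2 x.2) ((Usp m F).inv_mem g.2))⟩
    have hne' : T.subgroupOf (Usp m F) ≠ ⊥ := by
      rw [Ne, Subgroup.subgroupOf_eq_bot, disjoint_iff, inf_eq_left.2 hT]
      exact hne
    obtain ⟨z, hz, hz1⟩ := (Subgroup.bot_or_exists_ne_one _).resolve_left
      (CfsgLib.PGroups.inf_center_ne_bot (isPGroup_Usp (m := m) (F := F) p) hne')
    rw [Subgroup.mem_inf, Subgroup.mem_subgroupOf, Subgroup.mem_center_iff] at hz
    -- the symmetric matrices met by `T`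
    let P : Mm → Prop := fun X => ∃ hX : X.IsSymm, A X hX ∈ T
    have hP : SymmCongruence.Inv P := by
      refine ⟨fun M hM => hM.1, fun M N ⟨hM, hM'⟩ ⟨hN, hN'⟩ => ⟨hM.sub hN, ?_⟩, fun g M ⟨hM, hM'⟩ => ?_⟩
      · have := T.mul_mem hM' (T.inv_mem hN')
        rw [A_inv, A_mul] at this
        exact A_congr (sub_eq_add_neg M N).symm ▸ this
      · refine ⟨congr_symm _ hM, ?_⟩
        rw [← L_conj_A]
        exact hTc _ hM' (L g) (by rw [L_conj_A]; exact A_mem_par (U m F))
    obtain ⟨X₀, hX₀, hX₀0⟩ : ∃ X, P X ∧ X ≠ 0 := by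
      obtain ⟨h21, r, -, h11⟩ := centralizer_siegel hm (s := (z : Sp)) fun X hX => by
        exact (congrArg Subtype.val (hz.2 ⟨A X hX, A_mem_par (U m F)⟩)).symm
      obtain ⟨-, u, hu, hue⟩ := z.2
      have hr : r = 1 := by
        have := congrFun (congrFun (hue.trans h11) a) a
        rw [hu.2, Matrix.smul_apply, Matrix.one_apply_eq, smul_eq_mul, mul_one] at this
        exact this.symm
      have hd := decomp h21 (g := 1) (by rw [h11, hr, one_smul]; rfl)
      rw [map_one, one_mul] at hd
      refine ⟨_, ⟨symm_of_b21 h21, hd ▸ hz.1⟩, fun h0 => hz1 (Subtype.ext ?_)⟩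
      rw [hd, OneMemClass.coe_one, ← A_zero]
      exact A_congr h0
    obtain ⟨k₀, l₀, x₀, hkl, hx₀, hsh₀⟩ := SymmCongruence.exists_short hm (fun h2 => by
      have : 2 < (Finset.univ : Finset F).card := by rw [Finset.card_univ]; exact hex h2
      obtain ⟨t, -, ht⟩ := Finset.exists_mem_notMem_of_card_lt_card
        (s := ({0, 1} : Finset F)) (t := Finset.univ) (lt_of_le_of_lt Finset.card_le_two this)
      simp only [Finset.mem_insert, Finset.mem_singleton, not_or] at ht
      exact ⟨t, ht⟩) hP hX₀ hX₀0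
    have hshort : ∀ i j : Fin m, i ≠ j → ∀ t : F, P (sh i j t) :=
      fun i j hij t => SymmCongruence.short_all hP hkl hx₀ hsh₀ hij t
    have hLs : ∀ (i j : Fin m) (hij : i < j) (t : F), Ls (Matrix.SpecialLinearGroup.transvection hij.ne t) ∈ T := by
      intro i j hij t
      obtain ⟨hs, hmem⟩ := hshort i j hij.ne t
      rw [← wl_conj_short hij.ne t]
      exact hTc _ hmem (wl j) (by rw [wl_conj_short hij.ne]; exact Ls_mem_par (transvection_mem_U hij t))
    have hdiag : ∀ (i : Fin m) (t : F), P (Matrix.single i i t) := by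
      intro i u
      refine SymmCongruence.diag_perm hP (i := a) ?_ i
      let g : SLm := Matrix.SpecialLinearGroup.transvection hal.ne (1 : F)
      have hY := single_symm l u
      have hx : Ls g ∈ T := hLs a l hal 1
      have h1 : Ls g * A (Matrix.single l l u) hY * (Ls g)⁻¹ * (A (Matrix.single l l u) hY)⁻¹ ∈ T := by
        have h2 := hTc _ (T.inv_mem hx) (A (Matrix.single l l u) hY)
          ((Usp m F).mul_mem ((Usp m F).mul_mem (A_mem_par (U m F)) ((Usp m F).inv_mem (hT hx)))
            ((Usp m F).inv_mem (A_mem_par (U m F))))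
        simpa only [mul_assoc] using T.mul_mem hx h2
      rw [Ls, MonoidHom.comp_apply, L_conj_A, A_inv, A_mul] at h1
      have h3 := hP.sub _ _ ⟨_, h1⟩ (hshort a l hal.ne u)
      convert h3 using 1
      ext r c
      rw [Matrix.sub_apply, Matrix.add_apply, Matrix.neg_apply,
        show ((Matrix.SpecialLinearGroup.toGL g : GLm) : Mm) = (g : Mm) from rfl,
        SymmCongruence.congr_transvection hal.ne, sh, Matrix.add_apply]
      by_cases hr : r = a <;> by_cases hc : c = a
      · subst hr hc; simp [hal.ne, hal.ne']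
      · subst hr; simp [hc, Ne.symm hc, hal.ne, hal.ne', Matrix.single_apply]
      · subst hc; simp [hr, Ne.symm hr, hal.ne, hal.ne', Matrix.single_apply]
      · simp [hr, hc, Ne.symm hr, Ne.symm hc, Matrix.single_apply]
    intro s hs
    obtain ⟨u, hu, X, hX, rfl⟩ := par_decomp hs
    refine T.mul_mem ?_ ?_
    · exact U_le (H := T.comap Ls) (fun i j hij c => hLs i j hij c) hu
    · exact (SymmCongruence.all_symm hP (hP.zero hX₀) hshort hdiag hX).2
  · -- self-centralising
    rintro (_ | e) s hs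
    · have hA : ∀ x, x ∈ Subgroup.centralizer (R none : Set Sp) → ∀ (X : Mm) (hX : X.IsSymm),
          X l l = 0 → x * A X hX = A X hX * x := fun x hx X hX h0 =>
        (Subgroup.mem_centralizer_iff.1 hx _ ⟨A_mem_par (U m F), by rw [b12_A]; exact h0⟩).symm
      obtain ⟨h21, -, r, hr, hd⟩ := centralizer_last hm (hA s hs)
      refine reduce_sign hm (Q := fun x => x ∈ Subgroup.centralizer (R none : Set Sp)) le_sup_right
        (fun z hz x hx => centralizes_mul_center hz hx) hs hr h21 hd fun x hx hd1 => ?_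
      refine Subgroup.mem_sup_left ?_
      obtain ⟨x21, xoff, -⟩ := centralizer_last hm (hA x hx)
      have hxU : x ∈ Usp m F := mem_Usp_of x21 (fun k i (hik : i < k) => xoff i k (by
        rintro rfl
        rw [Fin.lt_def] at hik
        have := k.2
        omega) hik.ne') hd1
      refine ⟨hxU, ?_⟩
      let j : Fin m := ⟨m - 2, by omega⟩
      have hjl : j < l := by show m - 2 < m - 1; omega
      let g : SLm := Matrix.SpecialLinearGroup.transvection hjl.ne (1 : F)
      have hgR : Ls g ∈ R none := ⟨Ls_mem_par (transvection_mem_U hjl 1), by simp⟩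
      have hc := congrFun (congrFun (congrArg b12 (Subgroup.mem_centralizer_iff.1 hx _ hgR)) j) l
      rw [b12_mul, b12_mul, b11_Ls, b12_Ls, b22_Ls, zero_mul, mul_zero, add_zero, zero_add,
        Matrix.SpecialLinearGroup.transvection_inv, Matrix.SpecialLinearGroup.transvection_coe,
        Matrix.SpecialLinearGroup.transvection_coe] at hc
      simpa [add_mul, mul_add, Matrix.transpose_add, hjl.ne, hjl.ne'] using hc
    · have hA : ∀ x, x ∈ Subgroup.centralizer (R (some e) : Set Sp) → ∀ (X : Mm) (hX : X.IsSymm),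
          x * A X hX = A X hX * x := fun x hx X hX =>
        (Subgroup.mem_centralizer_iff.1 hx _ (A_mem_par _)).symm
      obtain ⟨h21, r, hr, h11⟩ := centralizer_siegel hm (hA s hs)
      refine reduce_sign hm (Q := fun x => x ∈ Subgroup.centralizer (R (some e) : Set Sp)) le_sup_right
        (fun z hz x hx => centralizes_mul_center hz hx) hs hr h21 (fun i => by simp [h11]) fun x hx hd1 => ?_
      obtain ⟨x21, r', -, x11⟩ := centralizer_siegel hm (hA x hx)
      have hr' : r' = 1 := by simpa [x11] using hd1 a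
      exact Subgroup.mem_sup_left ⟨x21, 1, Subgroup.one_mem _, by
        rw [x11, hr', one_smul, Matrix.SpecialLinearGroup.coe_one]⟩
  · -- intersection with a conjugate
    rintro (_ | e)
    · refine ⟨wl l, ?_, fun x hx hwx => ⟨hx, ?_⟩⟩
      · exact Subgroup.mul_mem _ (Subgroup.mul_mem _ (hxl 1) (hyl (-1))) (hxl 1)
      · have := congrFun (congrFun hwx.1 l) l
        rwa [wl_conj_entry, Matrix.zero_apply, neg_eq_zero] at this
    · obtain ⟨⟨i, j⟩, hij⟩ := e
      have hlt : i < j := adj_lt (hij := hij)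
      refine ⟨Ls (Matrix.SpecialLinearGroup.transvection hlt.ne 1 *
        Matrix.SpecialLinearGroup.transvection hlt.ne' (-1) *
        Matrix.SpecialLinearGroup.transvection hlt.ne 1), ?_, fun x hx hwx => ?_⟩
      · rw [map_mul, map_mul]
        exact Subgroup.mul_mem _ (Subgroup.mul_mem _ (hxe ⟨(i, j), hij⟩ 1) (hye ⟨(i, j), hij⟩ (-1)))
          (hxe ⟨(i, j), hij⟩ 1)
      · obtain ⟨hx21, u, hu, hue⟩ := hx
        refine ⟨hx21, u, ⟨hu, ?_⟩, hue⟩
        obtain ⟨-, v, hv, hve⟩ := hwx
        rw [b11_conj (b21_Ls _) hx21, b11_Ls, b22_Ls, Matrix.transpose_transpose, ← hue,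
          ← Matrix.SpecialLinearGroup.coe_mul, ← Matrix.SpecialLinearGroup.coe_mul] at hve
        have h0 := hv.1 hlt
        rw [hve, weyl_conj_entry hlt u, neg_eq_zero] at h0
        exact h0
  · -- generation of the normaliser
    refine le_trans ?_ le_sup_left
    intro g hg
    obtain ⟨h21, htri⟩ := borel_of_normalizer fun x hx => (Subgroup.mem_normalizer_iff.1 hg x).1 hx
    set H := Usp m F ⊔ ⨆ o, pGen p (R o) ⊓ Subgroup.normalizer (Usp m F : Set Sp) with hH
    have hτ : ∀ t : Fin m → Fˣ, τ t ∈ H := by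
      intro t
      have htop : H.comap τ = ⊤ := by
        refine torus_gen _ (fun i j hij c => ?_) (fun i hi c => ?_)
        · refine Subgroup.mem_comap.2 (Subgroup.mem_sup_right (Subgroup.mem_iSup_of_mem (some ⟨(i, j), hij⟩)
            ⟨?_, τ_normalizes _⟩))
          have hlt : i < j := adj_lt (hij := hij)
          rw [τ_apply, torus_adj hlt.ne, CfsgLib.Classical.diag2n_decompose _ (c : F) c.ne_zero]
          simp only [map_mul]
          have hx : ∀ t : F, Ls (Matrix.SpecialLinearGroup.transvection hlt.ne t) ∈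
              pGen p (R (some ⟨(i, j), hij⟩)) := fun t =>
            pEl_mem_pGen p (hxe ⟨(i, j), hij⟩ t) (by rw [← map_pow, transvection_pow_char p, map_one])
          have hy : ∀ t : F, Ls (Matrix.SpecialLinearGroup.transvection hlt.ne' t) ∈
              pGen p (R (some ⟨(i, j), hij⟩)) := fun t =>
            pEl_mem_pGen p (hye ⟨(i, j), hij⟩ t) (by rw [← map_pow, transvection_pow_char p, map_one])
          exact Subgroup.mul_mem _ (Subgroup.mul_mem _ (Subgroup.mul_mem _ (Subgroup.mul_mem _
            (Subgroup.mul_mem _ (hx _) (hy _)) (hx _)) (hx _)) (hy _)) (hx _)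
        · have hil : i = l := Fin.ext (show (i : ℕ) = m - 1 by omega)
          subst hil
          refine Subgroup.mem_comap.2 (Subgroup.mem_sup_right (Subgroup.mem_iSup_of_mem none ⟨?_, τ_normalizes _⟩))
          rw [τ_apply, torus_last]
          have hx : ∀ t : F, xl l t ∈ pGen p (R none) := fun t => pEl_mem_pGen p (hxl t) (A_pow_char p)
          have hy : ∀ t : F, yl l t ∈ pGen p (R none) := fun t => pEl_mem_pGen p (hyl t) (A'_pow_char p)
          exact Subgroup.mul_mem _ (Subgroup.mul_mem _ (Subgroup.mul_mem _ (Subgroup.mul_mem _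
            (Subgroup.mul_mem _ (hx _) (hy _)) (hx _)) (hx _)) (hy _)) (hx _)
      exact Subgroup.mem_comap.1 (htop ▸ Subgroup.mem_top t : t ∈ H.comap τ)
    have hne : ∀ r, b11 g r r ≠ 0 := by
      intro r h0
      have hdet : IsUnit (b11 g).det := Matrix.isUnit_det_of_left_inverse (inv_b11 h21)
      rw [Matrix.det_of_isUpperTriangular htri,
        Finset.prod_eq_zero (f := fun r => b11 g r r) (Finset.mem_univ r) h0] at hdet
      exact not_isUnit_zero hdet
    let t : Fin m → Fˣ := fun r => Units.mk0 (b11 g r r) (hne r)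
    have ht21 : b21 (τ t)⁻¹ = 0 := by rw [← map_inv]; exact b21_L _
    have hu : g * (τ t)⁻¹ ∈ Usp m F := by
      have he : b11 (g * (τ t)⁻¹) = b11 g * Matrix.diagonal fun r => (b11 g r r)⁻¹ := by
        rw [b11_mul, ht21, mul_zero, add_zero, τ_apply, b11_inv, b22_L, Matrix.transpose_transpose]
        congr 1
      refine mem_Usp_of (by rw [b21_mul, h21, ht21, zero_mul, mul_zero, add_zero]) ?_ ?_
      · intro r c (hcr : c < r)
        rw [he, Matrix.mul_diagonal, htri hcr, zero_mul]
      · intro r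
        rw [he, Matrix.mul_diagonal, mul_inv_cancel₀ (hne r)]
    have := H.mul_mem (Subgroup.mem_sup_left hu) (hτ t)
    rwa [inv_mul_cancel_right] at this

end CfsgLib.Involutions.PSpFusion
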