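import Cfsg.Agent.Lib.Involutions.PSLUnipGen
import Cfsg.Agent.Lib.Classical.SympSimple

/-!
Block matrices in `Sp_{2m}`: the Siegel parabolic subgroup, the unipotent subgroup, the root elements.
-/

set_option autoImplicit false

namespace CfsgLib.Involutions.PSpUnip

open Matrix CfsgLib.KnownB.PSLAut CfsgLib.Involutions.PSLUnip

variable {m : ℕ} {F : Type*} [Field F]

local notation "Sp" => Matrix.symplecticGroup (Fin m) F
local notation "Mm" => Matrix (Fin m) (Fin m) F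
local notation "SLm" => Matrix.SpecialLinearGroup (Fin m) F
local notation "GLm" => GL (Fin m) F
local notation "V" => (Fin m ⊕ Fin m → F)

/-- The upper left block. -/
def b11 (s : Sp) : Mm := s.1.toBlocks₁₁
/-- The upper right block. -/
def b12 (s : Sp) : Mm := s.1.toBlocks₁₂
/-- The lower left block. -/
def b21 (s : Sp) : Mm := s.1.toBlocks₂₁
/-- The lower right block. -/
def b22 (s : Sp) : Mm := s.1.toBlocks₂₂

theorem val_eq (s : Sp) : s.1 = Matrix.fromBlocks (b11 s) (b12 s) (b21 s) (b22 s) :=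
  (Matrix.fromBlocks_toBlocks _).symm

theorem blocks_rel (s : Sp) : (b11 s)ᵀ * b21 s = (b21 s)ᵀ * b11 s ∧
    (b12 s)ᵀ * b22 s = (b22 s)ᵀ * b12 s ∧ (b11 s)ᵀ * b22 s - (b21 s)ᵀ * b12 s = 1 :=
  SymplecticGroup.fromBlocks_mem_iff.1 (val_eq s ▸ s.2)

theorem ext_blocks {s t : Sp} (h₁ : b11 s = b11 t) (h₂ : b12 s = b12 t) (h₃ : b21 s = b21 t)
    (h₄ : b22 s = b22 t) : s = t := Subtype.ext (by rw [val_eq s, val_eq t, h₁, h₂, h₃, h₄])

theorem mul_val (s t : Sp) : (s * t).1 =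
    Matrix.fromBlocks (b11 s * b11 t + b12 s * b21 t) (b11 s * b12 t + b12 s * b22 t)
      (b21 s * b11 t + b22 s * b21 t) (b21 s * b12 t + b22 s * b22 t) := by
  show s.1 * t.1 = _
  rw [val_eq s, val_eq t, Matrix.fromBlocks_multiply]

theorem b11_mul (s t : Sp) : b11 (s * t) = b11 s * b11 t + b12 s * b21 t :=
  (congrArg Matrix.toBlocks₁₁ (mul_val s t)).trans (Matrix.toBlocks_fromBlocks₁₁ _ _ _ _)
theorem b12_mul (s t : Sp) : b12 (s * t) = b11 s * b12 t + b12 s * b22 t :=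
  (congrArg Matrix.toBlocks₁₂ (mul_val s t)).trans (Matrix.toBlocks_fromBlocks₁₂ _ _ _ _)
theorem b21_mul (s t : Sp) : b21 (s * t) = b21 s * b11 t + b22 s * b21 t :=
  (congrArg Matrix.toBlocks₂₁ (mul_val s t)).trans (Matrix.toBlocks_fromBlocks₂₁ _ _ _ _)
theorem b22_mul (s t : Sp) : b22 (s * t) = b21 s * b12 t + b22 s * b22 t :=
  (congrArg Matrix.toBlocks₂₂ (mul_val s t)).trans (Matrix.toBlocks_fromBlocks₂₂ _ _ _ _)

theorem one_val : (1 : Sp).1 = Matrix.fromBlocks 1 0 0 1 := Matrix.fromBlocks_one.symm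

@[simp] theorem b11_one : b11 (1 : Sp) = 1 :=
  (congrArg Matrix.toBlocks₁₁ one_val).trans (Matrix.toBlocks_fromBlocks₁₁ _ _ _ _)
@[simp] theorem b12_one : b12 (1 : Sp) = 0 :=
  (congrArg Matrix.toBlocks₁₂ one_val).trans (Matrix.toBlocks_fromBlocks₁₂ _ _ _ _)
@[simp] theorem b21_one : b21 (1 : Sp) = 0 :=
  (congrArg Matrix.toBlocks₂₁ one_val).trans (Matrix.toBlocks_fromBlocks₂₁ _ _ _ _)
@[simp] theorem b22_one : b22 (1 : Sp) = 1 :=
  (congrArg Matrix.toBlocks₂₂ one_val).trans (Matrix.toBlocks_fromBlocks₂₂ _ _ _ _)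

theorem inv_val (s : Sp) : (s⁻¹).1 = Matrix.fromBlocks (b22 s)ᵀ (-(b12 s)ᵀ) (-(b21 s)ᵀ) (b11 s)ᵀ := by
  rw [SymplecticGroup.coe_inv, val_eq s, Matrix.fromBlocks_transpose, Matrix.J]
  simp [Matrix.fromBlocks_multiply, Matrix.fromBlocks_neg]

theorem b11_inv (s : Sp) : b11 s⁻¹ = (b22 s)ᵀ :=
  (congrArg Matrix.toBlocks₁₁ (inv_val s)).trans (Matrix.toBlocks_fromBlocks₁₁ _ _ _ _)
theorem b12_inv (s : Sp) : b12 s⁻¹ = -(b12 s)ᵀ :=
  (congrArg Matrix.toBlocks₁₂ (inv_val s)).trans (Matrix.toBlocks_fromBlocks₁₂ _ _ _ _)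
theorem b21_inv (s : Sp) : b21 s⁻¹ = -(b21 s)ᵀ :=
  (congrArg Matrix.toBlocks₂₁ (inv_val s)).trans (Matrix.toBlocks_fromBlocks₂₁ _ _ _ _)
theorem b22_inv (s : Sp) : b22 s⁻¹ = (b11 s)ᵀ :=
  (congrArg Matrix.toBlocks₂₂ (inv_val s)).trans (Matrix.toBlocks_fromBlocks₂₂ _ _ _ _)

/-- The embedding of `GL_m`. -/
def L : GL (Fin m) F →* Matrix.symplecticGroup (Fin m) F where
  toFun g := ⟨Matrix.fromBlocks (g : Mm) 0 0 ((g⁻¹ : GLm) : Mm)ᵀ, SymplecticGroup.fromBlocks_mem_iff.2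
    ⟨by simp, by simp, by rw [Matrix.transpose_zero, zero_mul, sub_zero, ← Matrix.transpose_mul, Units.inv_mul,
      Matrix.transpose_one]⟩⟩
  map_one' := Subtype.ext (by simp [Matrix.fromBlocks_one])
  map_mul' g h := Subtype.ext (by
    show _ = Matrix.fromBlocks _ _ _ _ * Matrix.fromBlocks _ _ _ _
    simp [Matrix.fromBlocks_multiply, Matrix.transpose_mul])

@[simp] theorem b11_L (g : GLm) : b11 (L g) = (g : Mm) := Matrix.toBlocks_fromBlocks₁₁ _ _ _ _
@[simp] theorem b12_L (g : GLm) : b12 (L g) = 0 := Matrix.toBlocks_fromBlocks₁₂ _ _ _ _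
@[simp] theorem b21_L (g : GLm) : b21 (L g) = 0 := Matrix.toBlocks_fromBlocks₂₁ _ _ _ _
@[simp] theorem b22_L (g : GLm) : b22 (L g) = ((g⁻¹ : GLm) : Mm)ᵀ := Matrix.toBlocks_fromBlocks₂₂ _ _ _ _

/-- The embedding of `SL_m`. -/
def Ls : Matrix.SpecialLinearGroup (Fin m) F →* Matrix.symplecticGroup (Fin m) F :=
  L.comp Matrix.SpecialLinearGroup.toGL

@[simp] theorem b11_Ls (u : SLm) : b11 (Ls u) = (u : Mm) := b11_L _
@[simp] theorem b12_Ls (u : SLm) : b12 (Ls u) = 0 := b12_L _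
@[simp] theorem b21_Ls (u : SLm) : b21 (Ls u) = 0 := b21_L _
@[simp] theorem b22_Ls (u : SLm) : b22 (Ls u) = ((u⁻¹ : SLm) : Mm)ᵀ := by
  rw [Ls, MonoidHom.comp_apply, b22_L, ← map_inv]
  rfl

/-- The elements of the Siegel radical. -/
def A (X : Mm) (hX : X.IsSymm) : Sp :=
  ⟨Matrix.fromBlocks 1 X 0 1, SymplecticGroup.fromBlocks_mem_iff.2 ⟨by simp, by simp [hX.eq], by simp⟩⟩

/-- The opposite elements. -/
def A' (Y : Mm) (hY : Y.IsSymm) : Sp :=
  ⟨Matrix.fromBlocks 1 0 Y 1, SymplecticGroup.fromBlocks_mem_iff.2 ⟨by simp [hY.eq], by simp, by simp⟩⟩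

variable {X Y : Matrix (Fin m) (Fin m) F} {hX : X.IsSymm} {hY : Y.IsSymm}

@[simp] theorem b11_A : b11 (A X hX) = 1 := Matrix.toBlocks_fromBlocks₁₁ _ _ _ _
@[simp] theorem b12_A : b12 (A X hX) = X := Matrix.toBlocks_fromBlocks₁₂ _ _ _ _
@[simp] theorem b21_A : b21 (A X hX) = 0 := Matrix.toBlocks_fromBlocks₂₁ _ _ _ _
@[simp] theorem b22_A : b22 (A X hX) = 1 := Matrix.toBlocks_fromBlocks₂₂ _ _ _ _
@[simp] theorem b11_A' : b11 (A' Y hY) = 1 := Matrix.toBlocks_fromBlocks₁₁ _ _ _ _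
@[simp] theorem b12_A' : b12 (A' Y hY) = 0 := Matrix.toBlocks_fromBlocks₁₂ _ _ _ _
@[simp] theorem b21_A' : b21 (A' Y hY) = Y := Matrix.toBlocks_fromBlocks₂₁ _ _ _ _
@[simp] theorem b22_A' : b22 (A' Y hY) = 1 := Matrix.toBlocks_fromBlocks₂₂ _ _ _ _

theorem A_congr {X' : Mm} {hX' : X'.IsSymm} (h : X = X') : A X hX = A X' hX' := by
  subst h; rfl

theorem A_zero : A (0 : Mm) Matrix.isSymm_zero = 1 := by
  apply ext_blocks <;> simp

theorem A_mul : A X hX * A Y hY = A (X + Y) (hX.add hY) := by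
  apply ext_blocks <;> simp [b11_mul, b12_mul, b21_mul, b22_mul, add_comm]

theorem A'_mul : A' X hX * A' Y hY = A' (X + Y) (hX.add hY) := by
  apply ext_blocks <;> simp [b11_mul, b12_mul, b21_mul, b22_mul]

theorem A_inv : (A X hX)⁻¹ = A (-X) hX.neg := by
  refine inv_eq_of_mul_eq_one_right ?_
  rw [A_mul, ← A_zero]
  exact A_congr (add_neg_cancel X)

theorem A_pow (k : ℕ) : (A X hX) ^ k = A (k • X) (hX.smul k) := by
  induction k with
  | zero => rw [pow_zero, ← A_zero]; exact A_congr (zero_smul ℕ X).symm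
  | succ k ih => rw [pow_succ, ih, A_mul]; exact A_congr (succ_nsmul X k).symm

theorem A'_pow (k : ℕ) : (A' Y hY) ^ k = A' (k • Y) (hY.smul k) := by
  induction k with
  | zero => apply ext_blocks <;> simp
  | succ k ih => rw [pow_succ, ih, A'_mul]; apply ext_blocks <;> simp [add_mul]

theorem A_pow_char (p : ℕ) [CharP F p] : (A X hX) ^ p = 1 := by
  rw [A_pow, ← A_zero]
  exact A_congr (by rw [nsmul_eq_mul]; ext i j; simp [Matrix.natCast_apply, Matrix.mul_apply])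

theorem A'_pow_char (p : ℕ) [CharP F p] : (A' Y hY) ^ p = 1 := by
  rw [A'_pow]
  apply ext_blocks <;> simp [nsmul_eq_mul, ← Matrix.ext_iff, Matrix.natCast_apply, Matrix.mul_apply]

theorem congr_symm (g : Mm) (hX : X.IsSymm) : (g * X * gᵀ).IsSymm := by
  simp [Matrix.IsSymm, Matrix.transpose_mul, hX.eq, mul_assoc]

theorem L_conj_A (g : GLm) : L g * A X hX * (L g)⁻¹ = A ((g : Mm) * X * (g : Mm)ᵀ) (congr_symm _ hX) := by
  apply ext_blocks <;>
    simp [b11_mul, b12_mul, b21_mul, b22_mul, b11_inv, b12_inv, b21_inv, b22_inv, ← Matrix.transpose_mul]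

/-! ### The parabolic subgroups -/

theorem inv_b11 {s : Sp} (hs : b21 s = 0) : (b22 s)ᵀ * b11 s = 1 := by
  have h := (blocks_rel s).2.2
  rw [hs, Matrix.transpose_zero, zero_mul, sub_zero] at h
  have := congrArg Matrix.transpose h
  rwa [Matrix.transpose_mul, Matrix.transpose_transpose, Matrix.transpose_one] at this

/-- The elements of the Siegel parabolic subgroup with upper left block in `W`. -/
def par (W : Subgroup (Matrix.SpecialLinearGroup (Fin m) F)) : Subgroup (Matrix.symplecticGroup (Fin m) F) where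
  carrier := {s | b21 s = 0 ∧ ∃ u ∈ W, (u : Matrix (Fin m) (Fin m) F) = b11 s}
  one_mem' := ⟨b21_one, 1, W.one_mem, by simp⟩
  mul_mem' := by
    rintro s t ⟨hs, u, hu, hue⟩ ⟨ht, v, hv, hve⟩
    exact ⟨by rw [b21_mul, hs, ht, zero_mul, mul_zero, add_zero], u * v, W.mul_mem hu hv,
      by rw [Matrix.SpecialLinearGroup.coe_mul, hue, hve, b11_mul, ht, mul_zero, add_zero]⟩
  inv_mem' := by
    rintro s ⟨hs, u, hu, hue⟩
    refine ⟨by rw [b21_inv, hs, Matrix.transpose_zero, neg_zero], u⁻¹, W.inv_mem hu, ?_⟩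
    rw [b11_inv]
    refine (left_inv_eq_right_inv (inv_b11 hs) ?_).symm
    rw [← hue, ← Matrix.SpecialLinearGroup.coe_mul, mul_inv_cancel, Matrix.SpecialLinearGroup.coe_one]

theorem mem_par {W : Subgroup SLm} {s : Sp} :
    s ∈ par W ↔ b21 s = 0 ∧ ∃ u ∈ W, (u : Mm) = b11 s := Iff.rfl

theorem par_mono {W W' : Subgroup SLm} (h : W ≤ W') : par W ≤ par W' :=
  fun _ ⟨h1, u, hu, he⟩ => ⟨h1, u, h hu, he⟩

theorem A_mem_par (W : Subgroup SLm) : A X hX ∈ par W := ⟨b21_A, 1, W.one_mem, by simp⟩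

theorem Ls_mem_par {W : Subgroup SLm} {u : SLm} (hu : u ∈ W) : Ls u ∈ par W :=
  ⟨b21_Ls u, u, hu, (b11_Ls u).symm⟩

theorem symm_of_b21 {s : Sp} (hs : b21 s = 0) : ((b22 s)ᵀ * b12 s).IsSymm := by
  have h := (blocks_rel s).2.1
  rw [Matrix.IsSymm, Matrix.transpose_mul, Matrix.transpose_transpose]
  exact h

theorem exists_GL {s : Sp} (hs : b21 s = 0) : ∃ g : GLm, (g : Mm) = b11 s :=
  ⟨⟨b11 s, (b22 s)ᵀ, mul_eq_one_comm.1 (inv_b11 hs), inv_b11 hs⟩, rfl⟩

theorem decomp {s : Sp} (hs : b21 s = 0) {g : GLm} (hg : (g : Mm) = b11 s) :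
    s = L g * A ((b22 s)ᵀ * b12 s) (symm_of_b21 hs) := by
  have hd : ((g⁻¹ : GLm) : Mm) = (b22 s)ᵀ :=
    (left_inv_eq_right_inv (a := (g : Mm)) (hg ▸ inv_b11 hs) g.mul_inv).symm
  apply ext_blocks
  · simp [b11_mul, hg]
  · rw [b12_mul, b11_L, b12_A, b12_L, zero_mul, add_zero, ← mul_assoc, ← hd, Units.mul_inv, one_mul]
  · simp [b21_mul, hs]
  · simp [b22_mul, hd]

theorem par_decomp {W : Subgroup SLm} {s : Sp} (hs : s ∈ par W) :
    ∃ u ∈ W, ∃ (X : Mm) (hX : X.IsSymm), s = Ls u * A X hX := by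
  obtain ⟨h21, u, hu, hue⟩ := hs
  exact ⟨u, hu, _, _, decomp h21 (g := Matrix.SpecialLinearGroup.toGL u) hue⟩

theorem b11_conj {s t : Sp} (hs : b21 s = 0) (ht : b21 t = 0) :
    b11 (s * t * s⁻¹) = b11 s * b11 t * (b22 s)ᵀ := by
  rw [b11_mul, b11_mul, ht, b11_inv, b21_inv, hs, Matrix.transpose_zero, neg_zero, mul_zero, mul_zero, add_zero,
    add_zero]

theorem b21_conj {s t : Sp} (hs : b21 s = 0) (ht : b21 t = 0) : b21 (s * t * s⁻¹) = 0 := by
  simp [b21_mul, b21_inv, hs, ht]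

theorem conj_mem_par {W : Subgroup SLm} {s x : Sp} {u : SLm} (hs : b21 s = 0) (hu : (u : Mm) = b11 s)
    (hW : ∀ w ∈ W, u * w * u⁻¹ ∈ W) (hx : x ∈ par W) : s * x * s⁻¹ ∈ par W := by
  obtain ⟨hx21, w, hw, hwe⟩ := hx
  refine ⟨b21_conj hs hx21, u * w * u⁻¹, hW w hw, ?_⟩
  have hd : ((u⁻¹ : SLm) : Mm) = (b22 s)ᵀ := by
    refine (left_inv_eq_right_inv (inv_b11 hs) ?_).symm
    rw [← hu, ← Matrix.SpecialLinearGroup.coe_mul, mul_inv_cancel, Matrix.SpecialLinearGroup.coe_one]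
  rw [b11_conj hs hx21, Matrix.SpecialLinearGroup.coe_mul, Matrix.SpecialLinearGroup.coe_mul, hu, hwe, hd]

variable (m F) in
/-- The unipotent radical of the Borel subgroup. -/
def Usp : Subgroup (Matrix.symplecticGroup (Fin m) F) := par (U m F)

theorem Usp_b22 {s : Sp} (hs : s ∈ Usp m F) {l : Fin m} (hl : (l : ℕ) + 1 = m) (k : Fin m) :
    b22 s k l = (1 : Mm) k l := by
  obtain ⟨hs', u, hu, hue⟩ := (Usp m F).inv_mem hs
  have h : b22 s k l = ((u : SLm) : Mm) l k := by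
    rw [hue, b11_inv, Matrix.transpose_apply]
  rw [h]
  rcases eq_or_ne k l with rfl | hkl
  · rw [hu.2, Matrix.one_apply_eq]
  · rw [hu.1 (show k < l by
      rw [Fin.lt_def]
      have := k.2
      exact lt_of_le_of_ne (by omega) fun h' => hkl (Fin.ext h')), Matrix.one_apply_ne hkl]

theorem Usp_b11 {s : Sp} (hs : s ∈ Usp m F) {l : Fin m} (hl : (l : ℕ) + 1 = m) (k : Fin m) :
    b11 s l k = (1 : Mm) l k := by
  obtain ⟨-, u, hu, hue⟩ := hs
  rw [← hue]
  rcases eq_or_ne l k with rfl | hkl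
  · rw [hu.2, Matrix.one_apply_eq]
  · rw [hu.1 (show k < l by
      rw [Fin.lt_def]
      have := k.2
      exact lt_of_le_of_ne (by omega) fun h' => hkl (Fin.ext h'.symm)), Matrix.one_apply_ne hkl]

/-- The corner coordinate is additive on the unipotent subgroup. -/
theorem corner_add {s t : Sp} (hs : s ∈ Usp m F) (ht : t ∈ Usp m F) {l : Fin m} (hl : (l : ℕ) + 1 = m) :
    b12 (s * t) l l = b12 s l l + b12 t l l := by
  rw [b12_mul, Matrix.add_apply, Matrix.mul_apply, Matrix.mul_apply, Finset.sum_eq_single l,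
    Finset.sum_eq_single l, Usp_b11 hs hl, Usp_b22 ht hl, Matrix.one_apply_eq, one_mul, mul_one, add_comm]
  · intro k _ hk; rw [Usp_b22 ht hl, Matrix.one_apply_ne hk, mul_zero]
  · simp
  · intro k _ hk; rw [Usp_b11 hs hl, Matrix.one_apply_ne hk.symm, zero_mul]
  · simp

variable (m F) in
/-- The radical of the last minimal parabolic subgroup. -/
def radLast (l : Fin m) (hl : (l : ℕ) + 1 = m) : Subgroup (Matrix.symplecticGroup (Fin m) F) where
  carrier := {s | s ∈ Usp m F ∧ b12 s l l = 0}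
  one_mem' := ⟨(Usp m F).one_mem, by simp⟩
  mul_mem' {s t} hs ht := ⟨(Usp m F).mul_mem hs.1 ht.1, by rw [corner_add hs.1 ht.1 hl, hs.2, ht.2, add_zero]⟩
  inv_mem' {s} hs := ⟨(Usp m F).inv_mem hs.1, by
    rw [b12_inv, Matrix.neg_apply, Matrix.transpose_apply, hs.2, neg_zero]⟩

theorem radLast_conj {l : Fin m} {hl : (l : ℕ) + 1 = m} {s x : Sp} (hs : s ∈ Usp m F)
    (hx : x ∈ radLast m F l hl) : s * x * s⁻¹ ∈ radLast m F l hl := by
  refine ⟨(Usp m F).mul_mem ((Usp m F).mul_mem hs hx.1) ((Usp m F).inv_mem hs), ?_⟩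
  rw [corner_add ((Usp m F).mul_mem hs hx.1) ((Usp m F).inv_mem hs) hl, corner_add hs hx.1 hl, hx.2, add_zero,
    ← corner_add hs ((Usp m F).inv_mem hs) hl, mul_inv_cancel, b12_one, Matrix.zero_apply]

theorem single_symm (l : Fin m) (t : F) : (Matrix.single l l t).IsSymm := by
  simp [Matrix.IsSymm]

theorem radLast_lower {l : Fin m} {hl : (l : ℕ) + 1 = m} {x : Sp} (hx : x ∈ radLast m F l hl) (t : F) :
    A' (Matrix.single l l t) (single_symm l t) * x * (A' (Matrix.single l l t) (single_symm l t))⁻¹ ∈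
      radLast m F l hl := by
  obtain ⟨⟨hx21, u, hu, hue⟩, hx12⟩ := hx
  have ha : ∀ k, b11 x l k = (1 : Mm) l k := Usp_b11 ⟨hx21, u, hu, hue⟩ hl
  have hd : ∀ k, b22 x k l = (1 : Mm) k l := Usp_b22 ⟨hx21, u, hu, hue⟩ hl
  set y := A' (Matrix.single l l t) (single_symm l t) with hy
  have e12 : b12 (y * x * y⁻¹) = b12 x := by
    simp [hy, b12_mul, b11_mul, b12_inv, b22_inv]
  have e11 : b11 (y * x * y⁻¹) = b11 x - b12 x * Matrix.single l l t := by
    simp [hy, b11_mul, b12_mul, b11_inv, b21_inv, sub_eq_add_neg]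
  have e21 : b21 (y * x * y⁻¹) = Matrix.single l l t * b11 x -
      (Matrix.single l l t * b12 x + b22 x) * Matrix.single l l t := by
    simp [hy, b21_mul, b22_mul, b11_inv, b21_inv, hx21, sub_eq_add_neg]
  refine ⟨⟨?_, ?_⟩, by rw [e12, hx12]⟩
  · rw [e21]
    ext r c
    have hl' : ∀ (M : Mm) (r c : Fin m), (Matrix.single l l t * M) r c = if r = l then t * M l c else 0 := by
      intro M r c; split_ifs with h
      · subst h; simp
      · simp [h]
    have hr' : ∀ (M : Mm) (r c : Fin m), (M * Matrix.single l l t) r c = if c = l then M r l * t else 0 := by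
      intro M r c; split_ifs with h
      · subst h; simp
      · simp [h]
    rw [Matrix.sub_apply, Matrix.zero_apply, hl', hr', Matrix.add_apply, hl', ha, hd, hx12, mul_zero]
    by_cases hr : r = l <;> by_cases hc : c = l
    · subst hr hc; simp
    · subst hr; simp [hc, Ne.symm hc]
    · subst hc; simp [hr]
    · simp [hr, hc]
  · have hmat : ∀ r c, (b11 (y * x * y⁻¹)) r c = b11 x r c - (if c = l then t * b12 x r l else 0) := by
      intro r c
      rw [e11, Matrix.sub_apply]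
      split_ifs with hc
      · subst hc; simp [mul_comm]
      · simp [hc]
    have htri : (b11 (y * x * y⁻¹)).BlockTriangular id := fun r c (hcr : c < r) => by
      have hcl : c ≠ l := fun h => by
        rw [h, Fin.lt_def] at hcr; have := r.2; omega
      rw [hmat, if_neg hcl, sub_zero, ← hue]
      exact hu.1 hcr
    have hdiag : ∀ r, b11 (y * x * y⁻¹) r r = 1 := fun r => by
      rw [hmat, ← hue, hu.2]
      split_ifs with hr
      · subst hr; rw [hx12, mul_zero, sub_zero]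
      · rw [sub_zero]
    exact ⟨⟨b11 (y * x * y⁻¹), by rw [Matrix.det_of_isUpperTriangular htri]; simp [hdiag]⟩, ⟨htri, hdiag⟩, rfl⟩

end CfsgLib.Involutions.PSpUnip
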