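import Mathlib
import Cfsg.Agent.Lib.Involutions.SLTwoTori
import Cfsg.Agent.S2427

/-!
A group of order prime to the characteristic normalised by a unipotent element of `SL₂`.
-/

set_option autoImplicit false
set_option linter.unusedSectionVars false

namespace CfsgLib.Involutions.PStableSLTwo

open Matrix CfsgLib.GLTwo CfsgLib.Involutions.SLTwoTori
open scoped commutatorElement

variable {F : Type} [Field F] [Fintype F] {p : ℕ} [Fact p.Prime] [CharP F p]

local notation "SL2" => Matrix.SpecialLinearGroup (Fin 2) F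
local notation "M2" => Matrix (Fin 2) (Fin 2) F
local notation "S3" => Matrix.SpecialLinearGroup (Fin 2) (ZMod 3)

theorem trace_two_of_pgroup {x : SL2} (hx : ∃ k : ℕ, x ^ (p ^ k) = 1) : (x : M2).trace = 2 := by
  obtain ⟨k, hk⟩ := hx
  have hk' : (x : M2) ^ (p ^ k) = 1 := by
    rw [← Matrix.SpecialLinearGroup.coe_pow, hk]; rfl
  have : ((x : M2) - 1) ^ (p ^ k) = 0 := by
    rw [sub_pow_char_pow_of_commute p k (Commute.one_right (x : M2)), one_pow, hk', sub_self]
  have h0 := congrArg Matrix.det this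
  rw [Matrix.det_pow, Matrix.det_zero] at h0
  have h1 := (pow_eq_zero_iff (pow_ne_zero k (Fact.out : p.Prime).ne_zero)).1 h0
  have hd := x.2
  rw [Matrix.det_fin_two] at hd h1
  simp at h1
  rw [Matrix.trace_fin_two]
  linear_combination hd - h1

theorem pow_matrix {x : SL2} (hx : (x : M2).trace = 2) (i : ℕ) :
    ((x ^ i : SL2) : M2) = 1 + (i : F) • ((x : M2) - 1) := by
  have hN : ((x : M2) - 1) * ((x : M2) - 1) = 0 := by
    rw [sub_mul, mul_sub, sq_eq, hx, x.2]
    simp only [mul_one, one_mul, one_smul, two_smul]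
    abel
  induction i with
  | zero => simp
  | succ i ih =>
    rw [pow_succ, Matrix.SpecialLinearGroup.coe_mul, ih]
    have : (x : M2) = 1 + ((x : M2) - 1) := by abel
    nth_rewrite 2 [this]
    rw [add_mul, mul_add, mul_add, smul_mul_assoc, smul_mul_assoc, hN, smul_zero, mul_one, one_mul, mul_one, Nat.cast_succ,
      add_smul, one_smul]
    abel

/-- An element of `R ⊔ ⟨a⟩` outside `R` has trace `± 2`. -/
theorem trace_outside {a : SL2} {R : Subgroup SL2} (hap : orderOf a = p)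
    (haR : a ∈ Subgroup.normalizer (R : Set SL2)) (hR : (Nat.card R).Coprime p) {x : SL2}
    (hx : x ∈ R ⊔ Subgroup.zpowers a) (hxR : x ∉ R) :
    (x : M2).trace = 2 ∨ (x : M2).trace = -2 := by
  have hp := (Fact.out : p.Prime)
  have hle : Subgroup.zpowers a ≤ Subgroup.normalizer (R : Set SL2) := by simpa using haR
  have hxp : ∀ y ∈ R ⊔ Subgroup.zpowers a, y ^ p ∈ R := by
    intro y hy
    obtain ⟨r, hr, i, rfl⟩ : ∃ r ∈ R, ∃ i : ℕ, y = r * a ^ i := by
      have : ∃ r ∈ R, ∃ z ∈ Subgroup.zpowers a, y = r * z := by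
        have h2 : y ∈ (↑(R ⊔ Subgroup.zpowers a) : Set SL2) := hy
        rw [Subgroup.coe_mul_of_right_le_normalizer_left R (Subgroup.zpowers a) hle] at h2
        obtain ⟨r, hr, z, hz, rfl⟩ := Set.mem_mul.1 h2
        exact ⟨r, hr, z, hz, rfl⟩
      obtain ⟨r, hr, z, hz, rfl⟩ := this
      obtain ⟨i, rfl⟩ := mem_powers_iff_mem_zpowers.2 hz
      exact ⟨r, hr, i, rfl⟩
    have key : ∀ n : ℕ, ∃ s ∈ R, (r * a ^ i) ^ n = s * (a ^ i) ^ n := by
      intro n
      induction n with
      | zero => exact ⟨1, R.one_mem, by simp⟩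
      | succ n ih =>
        obtain ⟨s, hs, e⟩ := ih
        refine ⟨s * ((a ^ i) ^ n * r * ((a ^ i) ^ n)⁻¹), R.mul_mem hs
          ((Subgroup.mem_normalizer_iff.1 (pow_mem (pow_mem haR i) n) r).1 hr), ?_⟩
        rw [pow_succ, e, pow_succ]
        simp only [mul_assoc, inv_mul_cancel_left]
    obtain ⟨s, hs, e⟩ := key p
    rw [e, ← pow_mul, mul_comm i p, pow_mul, ← hap, pow_orderOf_eq_one, one_pow, mul_one]
    exact hs
  have hdvd : p ∣ orderOf x := by
    by_contra h
    apply hxR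
    have hcop : p.Coprime (orderOf x) := hp.coprime_iff_not_dvd.2 h
    obtain ⟨m, hm⟩ := exists_pow_eq_self_of_coprime (x := x) hcop
    rw [← hm]
    exact pow_mem (hxp x hx) m
  obtain ⟨c, hc⟩ := hdvd
  have hc0 : 0 < c := Nat.pos_of_ne_zero fun h => by
    rw [h, mul_zero] at hc
    exact (orderOf_pos x).ne' hc
  set y := x ^ c with hy
  have hoy : orderOf y = p := by
    rw [hy, orderOf_pow' x hc0.ne', hc, Nat.gcd_eq_right (dvd_mul_left c p), Nat.mul_div_cancel _ hc0]
  obtain ⟨hyns, hytr, -⟩ := (orderOf_eq_char p slMat slMat_injective y).1 hoy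
  change ¬ IsScalar2 (y : M2) at hyns
  change (y : M2).trace = 2 at hytr
  obtain ⟨α, β, e, hn⟩ := exists_coord hyns (z := x) (by
    rw [Subgroup.mem_centralizer_singleton_iff]; exact (Commute.self_pow x c).eq)
  rw [hytr] at hn
  have htr : (x : M2).trace = 2 * (α + β) := by
    rw [e, Matrix.trace_add, Matrix.trace_smul, Matrix.trace_smul, Matrix.trace_one, hytr]
    simp; ring
  have hsq : (α + β) ^ 2 = 1 := by linear_combination hn
  rcases _root_.sq_eq_one_iff.1 hsq with h | h <;> rw [htr, h] <;> [left; right] <;> ring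

theorem eq_one_of_mem {a : SL2} {R : Subgroup SL2} (hap : orderOf a = p) (hR : (Nat.card R).Coprime p)
    {i : ℕ} (h : a ^ i ∈ R) : a ^ i = 1 := by
  rw [← orderOf_eq_one_iff]
  refine Nat.eq_one_of_dvd_coprimes hR (Subgroup.orderOf_dvd_natCard _ h) ?_
  rw [← hap]
  exact orderOf_pow_dvd i

theorem pair_trace {a : SL2} {R : Subgroup SL2} (hap : orderOf a = p)
    (haR : a ∈ Subgroup.normalizer (R : Set SL2)) (hR : (Nat.card R).Coprime p) {r : SL2} (hr : r ∈ R)
    {i j : ℕ} (hij : ¬ p ∣ i + j) :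
    (i : F) * j * ((((a : M2) - 1) * (((r * a * r⁻¹ : SL2) : M2) - 1)).trace) = 0 ∨
      (i : F) * j * ((((a : M2) - 1) * (((r * a * r⁻¹ : SL2) : M2) - 1)).trace) = -4 := by
  set w := r * a * r⁻¹ with hw
  have ha2 : (a : M2).trace = 2 := trace_two_of_pgroup ⟨1, by rw [pow_one, ← hap, pow_orderOf_eq_one]⟩
  have hw2 : (w : M2).trace = 2 := (trace_eq_of_isConj_sl (isConj_iff.2 ⟨r, rfl⟩)).symm.trans ha2
  have htr : ((a ^ i * w ^ j : SL2) : M2).trace = 2 + (i : F) * j * ((((a : M2) - 1) * ((w : M2) - 1)).trace) := by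
    rw [Matrix.SpecialLinearGroup.coe_mul, pow_matrix ha2, pow_matrix hw2, add_mul, mul_add, mul_add, one_mul, one_mul,
      mul_one, smul_mul_assoc, mul_smul_comm, smul_smul, Matrix.trace_add, Matrix.trace_add, Matrix.trace_add,
      Matrix.trace_smul, Matrix.trace_smul, Matrix.trace_smul, Matrix.trace_one, Matrix.trace_sub, Matrix.trace_sub,
      ha2, hw2, Matrix.trace_one]
    simp
  have hle : R ≤ R ⊔ Subgroup.zpowers a := le_sup_left
  have haH : a ∈ R ⊔ Subgroup.zpowers a := Subgroup.mem_sup_right (Subgroup.mem_zpowers a)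
  have hwH : w ∈ R ⊔ Subgroup.zpowers a := mul_mem (mul_mem (hle hr) haH) (inv_mem (hle hr))
  have hnot : a ^ i * w ^ j ∉ R := fun h => hij (by
    have hmem : a ^ (i + j) ∈ R := by
      have h1 : a ^ i * w ^ j = (a ^ i * r * (a ^ i)⁻¹) * a ^ (i + j) * r⁻¹ := by
        rw [hw, conj_pow, pow_add]; group
      rw [h1] at h
      have h2 := R.mul_mem (R.inv_mem ((Subgroup.mem_normalizer_iff.1 (pow_mem haR i) r).1 hr))
        (R.mul_mem h hr)
      simpa [mul_assoc] using h2
    rw [← hap, orderOf_dvd_iff_pow_eq_one]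
    exact eq_one_of_mem hap hR hmem)
  rcases trace_outside hap haR hR (mul_mem (pow_mem haH i) (pow_mem hwH j)) hnot with h | h
  · left; rw [htr] at h; linear_combination h
  · right; rw [htr] at h; linear_combination h

/-- Conjugation by an invertible matrix, as an automorphism of `SL₂`. -/
noncomputable def conjX (X : M2) (hX : X.det ≠ 0) : SL2 ≃* SL2 where
  toFun g := ⟨X⁻¹ * (g : M2) * X, by
    rw [Matrix.det_mul, Matrix.det_mul, g.2, Matrix.det_nonsing_inv, Ring.inverse_eq_inv', mul_one,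
      inv_mul_cancel₀ hX]⟩
  invFun g := ⟨X * (g : M2) * X⁻¹, by
    rw [Matrix.det_mul, Matrix.det_mul, g.2, Matrix.det_nonsing_inv, Ring.inverse_eq_inv', mul_one,
      mul_inv_cancel₀ hX]⟩
  left_inv g := Subtype.ext (by
    show X * (X⁻¹ * (g : M2) * X) * X⁻¹ = g
    simp only [mul_assoc, Matrix.mul_nonsing_inv _ hX.isUnit, mul_one]
    rw [Matrix.mul_nonsing_inv_cancel_left _ _ hX.isUnit])
  right_inv g := Subtype.ext (by
    show X⁻¹ * (X * (g : M2) * X⁻¹) * X = g
    simp only [mul_assoc, Matrix.nonsing_inv_mul _ hX.isUnit, mul_one]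
    rw [Matrix.nonsing_inv_mul_cancel_left _ _ hX.isUnit])
  map_mul' g h := Subtype.ext (by
    show X⁻¹ * ((g : M2) * (h : M2)) * X = X⁻¹ * (g : M2) * X * (X⁻¹ * (h : M2) * X)
    simp only [mul_assoc]
    rw [Matrix.mul_nonsing_inv_cancel_left _ _ hX.isUnit])

/-- The upper generator over `ZMod 3`. -/
def u3 (k : ZMod 3) : S3 := ⟨!![1, k; 0, 1], by simp [Matrix.det_fin_two]⟩

/-- The lower generator over `ZMod 3`. -/
def l3 (k : ZMod 3) : S3 := ⟨!![1, 0; k, 1], by simp [Matrix.det_fin_two]⟩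

set_option maxHeartbeats 1000000 in
theorem gen3 : ∀ M : S3, ∃ x y z : ZMod 3, M = u3 x * l3 z * u3 y ∨ M = (l3 1)⁻¹ * (u3 x * l3 z * u3 y) := by
  decide +kernel

set_option maxHeartbeats 1000000 in
theorem conj3 : ∀ N : S3, N.1 0 0 + N.1 1 1 = 2 → (N.1 0 1 = 0 ∨ N.1 0 1 = 1) → (N.1 1 0 = 0 ∨ N.1 1 0 = 2) →
    N ≠ 1 → ∃ M : S3, M * u3 1 * M⁻¹ = N := by
  decide +kernel

theorem u3_cube : u3 1 ^ 3 = 1 := by decide +kernel

theorem u3_ne : u3 1 ≠ 1 := by decide +kernel

theorem u3_pow : ∀ k : ZMod 3, u3 k = u3 1 ^ k.val := by decide +kernel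

theorem l3_pow : ∀ k : ZMod 3, l3 k = l3 (-1) ^ (2 * k.val) := by decide +kernel

theorem center_iff3 : ∀ M : S3, M * u3 1 = u3 1 * M → ∃ k : ZMod 3, M = u3 k ∨ M = -u3 k := by
  decide +kernel

theorem normal_form {a : SL2} {R : Subgroup SL2} [CharP F 3] [Fact (Nat.Prime 3)]
    (ha : (a : M2) = !![1, 1; 0, 1]) (r₀ : SL2) (hr₀ : r₀ ∈ R)
    (hb : ((r₀ * a * r₀⁻¹ : SL2) : M2) = !![1, 0; -1, 1])
    (haR : a ∈ Subgroup.normalizer (R : Set SL2)) (hR : (Nat.card R).Coprime 3) :
    Nonempty (↥R ≃* QuaternionGroup 2) ∧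
      Nonempty (↥(R ⊔ Subgroup.zpowers a) ≃* Matrix.SpecialLinearGroup (Fin 2) (ZMod 3)) := by
  classical
  let c : ZMod 3 →+* F := ZMod.castHom (dvd_refl 3) F
  have hc : Function.Injective c := c.injective
  let f : S3 →* SL2 := Matrix.SpecialLinearGroup.map c
  have hfe : ∀ M : S3, ∀ i j, (f M : M2) i j = c (M.1 i j) := fun M i j => rfl
  have hf : Function.Injective f := fun M N h => by
    refine Matrix.SpecialLinearGroup.ext _ _ fun i j => hc ?_
    rw [← hfe, ← hfe, h]
  have hau : f (u3 1) = a := Matrix.SpecialLinearGroup.ext _ _ fun i j => by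
    rw [hfe, ha]; fin_cases i <;> fin_cases j <;> simp [u3]
  have hbl : f (l3 (-1)) = r₀ * a * r₀⁻¹ := Matrix.SpecialLinearGroup.ext _ _ fun i j => by
    rw [hfe, hb]; fin_cases i <;> fin_cases j <;> simp [l3]
  set H := R ⊔ Subgroup.zpowers a with hH
  have hle : R ≤ H := le_sup_left
  have haH : a ∈ H := Subgroup.mem_sup_right (Subgroup.mem_zpowers a)
  have hao : orderOf a = 3 := by
    rw [← hau, orderOf_injective f hf]
    exact orderOf_eq_prime u3_cube u3_ne
  have hu : ∀ k : ZMod 3, f (u3 k) ∈ H := fun k => by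
    have : u3 k = u3 1 ^ k.val := u3_pow k
    rw [this, map_pow, hau]
    exact pow_mem haH _
  have hl : ∀ k : ZMod 3, f (l3 k) ∈ H := fun k => by
    have : l3 k = l3 (-1) ^ (2 * k.val) := l3_pow k
    rw [this, map_pow, hbl]
    exact pow_mem (mul_mem (mul_mem (hle hr₀) haH) (inv_mem (hle hr₀))) _
  have hKH : f.range ≤ H := by
    rintro _ ⟨M, rfl⟩
    obtain ⟨x, y, z, h | h⟩ := gen3 M
    · rw [h, map_mul, map_mul]; exact mul_mem (mul_mem (hu x) (hl z)) (hu y)
    · rw [h, map_mul, map_mul, map_mul, map_inv]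
      exact mul_mem (inv_mem (hl 1)) (mul_mem (mul_mem (hu x) (hl z)) (hu y))
  have h3 : (3 : F) = 0 := by exact_mod_cast CharP.cast_eq_zero F 3
  have hRK : ∀ r ∈ R, r ∈ f.range := by
    intro r hr
    set w := r * a * r⁻¹ with hw
    have ha2 : (a : M2).trace = 2 := by rw [ha, Matrix.trace_fin_two]; norm_num
    have hw2 : (w : M2).trace = 2 := (trace_eq_of_isConj_sl (isConj_iff.2 ⟨r, rfl⟩)).symm.trans ha2
    have h1 := pair_trace hao haR hR hr (i := 1) (j := 1) (by norm_num)
    have hmem : r₀⁻¹ * r ∈ R := mul_mem (inv_mem hr₀) hr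
    have h2 := pair_trace hao haR hR hmem (i := 1) (j := 1) (by norm_num)
    have e2 : ((((a : M2) - 1) * (((r₀⁻¹ * r * a * (r₀⁻¹ * r)⁻¹ : SL2) : M2) - 1)).trace) =
        ((((r₀ * a * r₀⁻¹ : SL2) : M2) - 1) * ((w : M2) - 1)).trace := by
      have e3 : w = r₀ * (r₀⁻¹ * r * a * (r₀⁻¹ * r)⁻¹) * r₀⁻¹ := by rw [hw]; group
      set z := r₀⁻¹ * r * a * (r₀⁻¹ * r)⁻¹
      rw [e3]
      simp only [Matrix.SpecialLinearGroup.coe_mul]
      have hrr : ((r₀⁻¹ : SL2) : M2) * (r₀ : M2) = 1 := by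
        rw [← Matrix.SpecialLinearGroup.coe_mul, inv_mul_cancel]; rfl
      have hrr' : (r₀ : M2) * ((r₀⁻¹ : SL2) : M2) = 1 := by
        rw [← Matrix.SpecialLinearGroup.coe_mul, mul_inv_cancel]; rfl
      have hsub : ∀ X : M2, (r₀ : M2) * X * ((r₀⁻¹ : SL2) : M2) - 1 = (r₀ : M2) * (X - 1) * ((r₀⁻¹ : SL2) : M2) := fun X => by
        rw [mul_sub, sub_mul, mul_one, hrr']
      rw [hsub, hsub]
      have : ∀ X Y : M2, (r₀ : M2) * X * ((r₀⁻¹ : SL2) : M2) * ((r₀ : M2) * Y * ((r₀⁻¹ : SL2) : M2)) =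
          (r₀ : M2) * (X * Y) * ((r₀⁻¹ : SL2) : M2) := fun X Y => by
        calc _ = (r₀ : M2) * X * (((r₀⁻¹ : SL2) : M2) * (r₀ : M2)) * Y * ((r₀⁻¹ : SL2) : M2) := by
              simp only [mul_assoc]
          _ = _ := by rw [hrr, mul_one, mul_assoc (r₀ : M2)]
      rw [this, Matrix.trace_mul_cycle, hrr, one_mul]
    rw [e2] at h2
    rw [← hw] at h1
    simp only [ha, hb, Nat.cast_one, one_mul, Matrix.trace_fin_two, Matrix.mul_apply, Fin.sum_univ_two,
      Matrix.sub_apply, Matrix.one_apply_eq, Matrix.one_apply_ne (show (0 : Fin 2) ≠ 1 by decide),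
      Matrix.one_apply_ne (show (1 : Fin 2) ≠ 0 by decide), Matrix.of_apply, Matrix.cons_val', Matrix.cons_val_zero,
      Matrix.cons_val_one, Matrix.cons_val_fin_one] at h1 h2
    have hγ : (w : M2) 1 0 = 0 ∨ (w : M2) 1 0 = 2 := by
      rcases h1 with h | h
      · exact Or.inl (by linear_combination h)
      · exact Or.inr (by linear_combination h - 2 * h3)
    have hβ : (w : M2) 0 1 = 0 ∨ (w : M2) 0 1 = 1 := by
      rcases h2 with h | h
      · exact Or.inl (by linear_combination -h)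
      · exact Or.inr (by linear_combination -h + h3)
    have hd := w.2
    rw [Matrix.det_fin_two] at hd
    rw [Matrix.trace_fin_two] at hw2
    have hα : ∃ k : ZMod 3, (w : M2) 0 0 = c k := by
      have hsq : ((w : M2) 0 0 - 1) * ((w : M2) 0 0 - 1) = -((w : M2) 0 1 * (w : M2) 1 0) := by
        linear_combination (w : M2) 0 0 * hw2 - hd
      rcases hβ with hb | hb
      · exact ⟨1, by rw [hb, zero_mul, neg_zero, mul_self_eq_zero, sub_eq_zero] at hsq; rw [hsq, map_one]⟩
      · rcases hγ with hg | hg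
        · exact ⟨1, by rw [hg, mul_zero, neg_zero, mul_self_eq_zero, sub_eq_zero] at hsq; rw [hsq, map_one]⟩
        · rw [hb, hg, one_mul] at hsq
          have : ((w : M2) 0 0 - 1) ^ 2 = 1 := by linear_combination hsq - h3
          rcases _root_.sq_eq_one_iff.1 this with h | h
          · exact ⟨2, by rw [map_ofNat]; linear_combination h⟩
          · exact ⟨0, by rw [map_zero]; linear_combination h⟩
    obtain ⟨k, hk⟩ := hα
    obtain ⟨β, hβ', hβe⟩ : ∃ β : ZMod 3, (β = 0 ∨ β = 1) ∧ (w : M2) 0 1 = c β := by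
      rcases hβ with h | h
      · exact ⟨0, Or.inl rfl, by rw [h, map_zero]⟩
      · exact ⟨1, Or.inr rfl, by rw [h, map_one]⟩
    obtain ⟨γ, hγ', hγe⟩ : ∃ γ : ZMod 3, (γ = 0 ∨ γ = 2) ∧ (w : M2) 1 0 = c γ := by
      rcases hγ with h | h
      · exact ⟨0, Or.inl rfl, by rw [h, map_zero]⟩
      · exact ⟨2, Or.inr rfl, by rw [h, map_ofNat]⟩
    have h11 : (w : M2) 1 1 = c (2 - k) := by rw [map_sub, map_ofNat, ← hk]; linear_combination hw2
    let N : S3 := ⟨!![k, β; γ, 2 - k], hc (by
      rw [Matrix.det_fin_two, map_one]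
      simp [map_sub, map_mul, map_ofNat, ← hk, ← hβe, ← hγe]
      linear_combination hd - (w : M2) 0 0 * hw2)⟩
    have hN : f N = w := Matrix.SpecialLinearGroup.ext _ _ fun i j => by
      rw [hfe]
      fin_cases i <;> fin_cases j <;> simp [N, hk, hβe, hγe, h11]
    have hw1 : w ≠ 1 := fun h => by
      rw [hw, mul_inv_eq_one, mul_eq_left] at h
      rw [h, orderOf_one] at hao
      exact absurd hao (by norm_num)
    obtain ⟨M, hM⟩ := conj3 N (by simp [N]) (by simpa [N] using hβ') (by simpa [N] using hγ')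
      (fun h => hw1 (by rw [← hN, h, map_one]))
    have hMw : f M * a * (f M)⁻¹ = w := by rw [← hau, ← map_inv, ← map_mul, ← map_mul, hM, hN]
    set z := (f M)⁻¹ * r with hz
    have hzH : z ∈ H := mul_mem (inv_mem (hKH ⟨M, rfl⟩)) (hle hr)
    have hzc : z * a = a * z := by
      have : z * a * z⁻¹ = a := by
        calc z * a * z⁻¹ = (f M)⁻¹ * w * f M := by rw [hz, hw]; group
          _ = a := by rw [← hMw]; group
      exact mul_inv_eq_iff_eq_mul.1 this
    obtain ⟨α, β', e, hn⟩ := exists_coord (z := z) (g := a)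
      (by rw [ha]; simp [IsScalar2]) (Subgroup.mem_centralizer_singleton_iff.2 hzc)
    have ht2 : (α + β') * (α + β') = 1 := by rw [ha2] at hn; linear_combination hn
    have hA2 : ((z * z : SL2) : M2) = !![1, 2 * β' * (α + β'); 0, 1] := by
      rw [Matrix.SpecialLinearGroup.coe_mul, e, ha]
      ext i j
      fin_cases i <;> fin_cases j <;> simp [Matrix.mul_apply, Fin.sum_univ_two] <;>
        first | linear_combination ht2 | ring
    have hzz : z * z ∈ Subgroup.zpowers a := by
      have hz2 : (z * z) ^ 3 = 1 := Subtype.ext (by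
        rw [pow_matrix (by rw [hA2, Matrix.trace_fin_two]; norm_num), Nat.cast_ofNat, h3, zero_smul, add_zero]
        rfl)
      have h2 : z * z ∈ (↑(R ⊔ Subgroup.zpowers a) : Set SL2) := mul_mem hzH hzH
      rw [Subgroup.coe_mul_of_right_le_normalizer_left R (Subgroup.zpowers a) (by simpa using haR)] at h2
      obtain ⟨s, hs, t, ht, hst⟩ := Set.mem_mul.1 h2
      obtain ⟨n, rfl⟩ := mem_powers_iff_mem_zpowers.2 ht
      have hs' : s = z * z * (a ^ n)⁻¹ := by rw [← hst, mul_inv_cancel_right]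
      have hs3 : s ^ 3 = 1 := by
        have hca : Commute (z * z) ((a ^ n)⁻¹) :=
          (((show Commute z a from hzc).mul_left (show Commute z a from hzc)).pow_right n).inv_right
        rw [hs', hca.mul_pow, hz2, inv_pow, ← pow_mul, mul_comm, pow_mul, ← hao, pow_orderOf_eq_one, one_pow]
        simp
      have : orderOf s = 1 := Nat.eq_one_of_dvd_coprimes hR (Subgroup.orderOf_dvd_natCard _ hs)
        (orderOf_dvd_of_pow_eq_one hs3)
      rw [orderOf_eq_one_iff.1 this, one_mul] at hst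
      rw [← hst]
      exact ht
    obtain ⟨m, hm⟩ := mem_powers_iff_mem_zpowers.2 hzz
    have hm' : ((a ^ m : SL2) : M2) = ((z * z : SL2) : M2) := congrArg _ hm
    rw [pow_matrix ha2, hA2, ha] at hm'
    have h01 := congrFun (congrFun hm' 0) 1
    simp at h01
    obtain ⟨s, hs, hs'⟩ : ∃ s : ZMod 3, (α + β' = c s) ∧ c s * c s = 1 := by
      rcases mul_self_eq_one_iff.1 ht2 with h | h
      · exact ⟨1, by rw [h, map_one], by simp⟩
      · exact ⟨-1, by rw [h, map_neg, map_one], by simp⟩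
    have hzr : z ∈ f.range := by
      have hb' : β' = c (2 * (m : ZMod 3) * s) := by
        rw [map_mul, map_mul, map_ofNat, map_natCast, ← hs, h01]
        linear_combination (-4 * β') * ht2 - β' * h3
      refine ⟨⟨!![s, 2 * (m : ZMod 3) * s; 0, s], hc ?_⟩, Matrix.SpecialLinearGroup.ext _ _ fun i j => ?_⟩
      · rw [Matrix.det_fin_two, map_one]; simp [map_mul, hs']
      · show c ((!![s, 2 * (m : ZMod 3) * s; 0, s] : Matrix (Fin 2) (Fin 2) (ZMod 3)) i j) = _
        rw [e, ha]
        fin_cases i <;> fin_cases j <;> simp <;> first | exact hs.symm | (rw [hb', map_mul, map_mul, map_ofNat, map_natCast])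
    have hr' : r = f M * z := by rw [hz, mul_inv_cancel_left]
    rw [hr']
    exact mul_mem ⟨M, rfl⟩ hzr
  have hHK : H = f.range := le_antisymm (sup_le hRK (by rw [Subgroup.zpowers_le]; exact ⟨_, hau⟩)) hKH
  refine ⟨?_, ⟨(MulEquiv.subgroupCongr hHK).trans (MonoidHom.ofInjective hf).symm⟩⟩
  set R' := R.comap f with hR'
  have hnorm : f.range ≤ Subgroup.normalizer (R : Set SL2) := by
    rw [← hHK]; exact sup_le Subgroup.le_normalizer (by rwa [Subgroup.zpowers_le])
  haveI : R'.Normal := ⟨fun n hn M => by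
    show f (M * n * M⁻¹) ∈ R
    rw [map_mul, map_mul, map_inv]
    exact (Subgroup.mem_normalizer_iff.1 (hnorm ⟨M, rfl⟩) _).1 hn⟩
  have hmap : R'.map f = R := Subgroup.map_comap_eq_self hRK
  have eR : ↥R' ≃* ↥R := (R'.equivMapOfInjective f hf).trans (MulEquiv.subgroupCongr hmap)
  obtain ⟨-, -, -, ⟨eQ⟩, -, hall⟩ := Cfsg.Agent.S2427.result
  have hncomm : ¬ r₀ * a = a * r₀ := fun h => by
    have h2 : ((r₀ * a * r₀⁻¹ : SL2) : M2) = (a : M2) := by rw [h, mul_inv_cancel_right]
    rw [hb, ha] at h2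
    have := congrFun (congrFun h2 0) 1
    simp at this
  rcases hall R' inferInstance with h | h | h | h
  · exfalso
    obtain ⟨M, hM⟩ := hRK r₀ hr₀
    have : M ∈ R' := by show f M ∈ R; rw [hM]; exact hr₀
    rw [h, Subgroup.mem_bot] at this
    apply hncomm
    rw [← hM, this, map_one, one_mul, mul_one]
  · exfalso
    have h1 := eq_one_of_mem hao hR (i := 1) (by
      rw [pow_one, ← hau]
      show u3 1 ∈ R'
      rw [h]; trivial)
    rw [pow_one] at h1
    rw [h1, orderOf_one] at hao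
    exact absurd hao (by norm_num)
  · exfalso
    obtain ⟨M, hM⟩ := hRK r₀ hr₀
    have : M ∈ R' := by show f M ∈ R; rw [hM]; exact hr₀
    rw [h, Subgroup.mem_center_iff] at this
    apply hncomm
    rw [← hM, ← hau, ← map_mul, ← map_mul, this]
  · exact ⟨eR.symm.trans ((MulEquiv.subgroupCongr h).trans eQ)⟩

theorem main (hp : p ≠ 2) (a : SL2) (ha : IsPGroup p ↥(Subgroup.zpowers a)) (R : Subgroup SL2)
    (hR : (Nat.card R).Coprime p) (haR : a ∈ Subgroup.normalizer (R : Set SL2))
    (hnt : ⁅R, Subgroup.zpowers a⁆ ≠ ⊥) :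
    p = 3 ∧ Nonempty (↥R ≃* QuaternionGroup 2) ∧
      Nonempty (↥(R ⊔ Subgroup.zpowers a) ≃* Matrix.SpecialLinearGroup (Fin 2) (ZMod 3)) := by
  classical
  have hpp := (Fact.out : p.Prime)
  have h2 : (2 : F) ≠ 0 := by
    intro h
    have : ((2 : ℕ) : F) = 0 := by exact_mod_cast h
    rw [CharP.cast_eq_zero_iff F p] at this
    exact hp ((Nat.prime_dvd_prime_iff_eq hpp Nat.prime_two).1 this)
  obtain ⟨r₀, hr₀, hnc⟩ : ∃ r ∈ R, r * a ≠ a * r := by
    by_contra! h
    apply hnt
    rw [Subgroup.commutator_eq_bot_iff_le_centralizer]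
    intro r hr
    rw [Subgroup.mem_centralizer_iff]
    rintro z ⟨n, rfl⟩
    exact ((show Commute r a from h r hr).zpow_right n).symm.eq
  obtain ⟨k, hk⟩ := ha ⟨a, Subgroup.mem_zpowers a⟩
  have hk' : a ^ p ^ k = 1 := by simpa using congrArg Subtype.val hk
  have ha2 : (a : M2).trace = 2 := trace_two_of_pgroup ⟨k, hk'⟩
  have hans : ¬ IsScalar2 (a : M2) := fun hs => by
    rcases scalar_eq hs with h | h <;> exact hnc (by rw [h]; simp)
  have hao : orderOf a = p := (orderOf_eq_char p slMat slMat_injective a).2 ⟨hans, ha2, a.2⟩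
  set w := r₀ * a * r₀⁻¹ with hwdef
  have hw2 : (w : M2).trace = 2 := (trace_eq_of_isConj_sl (isConj_iff.2 ⟨r₀, rfl⟩)).symm.trans ha2
  set A := (a : M2) - 1 with hA
  set B := (w : M2) - 1 with hB
  have hAA : A * A = 0 := by
    rw [hA, sub_mul, mul_sub, sq_eq, ha2, a.2]
    simp only [mul_one, one_mul, one_smul, two_smul]; abel
  have hBB : B * B = 0 := by
    rw [hB, sub_mul, mul_sub, sq_eq, hw2, w.2]
    simp only [mul_one, one_mul, one_smul, two_smul]; abel
  set μ := (A * B).trace with hμdef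
  have hμ : μ ≠ 0 := by
    intro h0
    apply hnc
    have hwa : w = a := by
      have hmem : a⁻¹ * w ∈ R := by
        have h1 := (Subgroup.mem_normalizer_iff.1 (inv_mem haR) r₀).1 hr₀
        have : a⁻¹ * w = a⁻¹ * r₀ * a⁻¹⁻¹ * r₀⁻¹ := by rw [hwdef]; group
        rw [this]
        exact mul_mem h1 (inv_mem hr₀)
      have ht : ((a⁻¹ * w : SL2) : M2).trace = 2 := by
        rw [Matrix.SpecialLinearGroup.coe_mul, coe_inv_eq, ha2,
          show (a : M2) = A + 1 by rw [hA, sub_add_cancel], show (w : M2) = B + 1 by rw [hB, sub_add_cancel]]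
        have tA : A.trace = 0 := by rw [hA, Matrix.trace_sub, ha2, Matrix.trace_one]; simp
        have tB : B.trace = 0 := by rw [hB, Matrix.trace_sub, hw2, Matrix.trace_one]; simp
        simp only [add_mul, mul_add, smul_mul_assoc, one_mul, mul_one, Matrix.trace_add, Matrix.trace_smul,
          Matrix.trace_one, smul_add, tA, tB, ← hμdef, h0, Fintype.card_fin, Nat.cast_ofNat, smul_eq_mul]
        ring
      by_contra hne
      have hns : ¬ IsScalar2 ((a⁻¹ * w : SL2) : M2) := fun hs => by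
        rcases scalar_eq hs with h | h
        · exact hne (inv_mul_eq_one.1 h).symm
        · rw [h, Matrix.trace_fin_two] at ht
          simp at ht
          exact h2 (mul_self_eq_zero.1 (by linear_combination -ht))
      have ho : orderOf (a⁻¹ * w) = p := (orderOf_eq_char p slMat slMat_injective _).2 ⟨hns, ht, (a⁻¹ * w).2⟩
      have := Subgroup.orderOf_dvd_natCard R hmem
      rw [ho] at this
      exact hpp.not_dvd_one (hR ▸ Nat.dvd_gcd this dvd_rfl)
    rw [hwdef, mul_inv_eq_iff_eq_mul] at hwa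
    exact hwa
  -- so `μ = -1` and the characteristic is `3`
  have hμ4 : ∀ i j : ℕ, ¬ p ∣ i + j → ¬ p ∣ i → ¬ p ∣ j → (i : F) * j * μ = -4 := by
    intro i j hij hi hj
    refine (pair_trace hao haR hR hr₀ hij).resolve_left ?_
    refine mul_ne_zero (mul_ne_zero ?_ ?_) hμ <;> rwa [Ne, CharP.cast_eq_zero_iff F p]
  have hp3 : p = 3 := by
    by_contra h
    have hp5 : 5 ≤ p := by
      have := hpp.two_le
      have : p ≠ 4 := fun h4 => by rw [h4] at hpp; exact absurd hpp (by norm_num)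
      omega
    have nd : ∀ n, 0 < n → n < p → ¬ p ∣ n := fun n h0 h1 hd => absurd (Nat.le_of_dvd h0 hd) (by omega)
    have e1 := hμ4 1 1 (nd 2 (by norm_num) (by omega)) (nd 1 (by norm_num) (by omega)) (nd 1 (by norm_num) (by omega))
    have e2 := hμ4 1 2 (nd 3 (by norm_num) (by omega)) (nd 1 (by norm_num) (by omega)) (nd 2 (by norm_num) (by omega))
    push_cast at e1 e2
    exact hμ (by linear_combination e2 - e1)
  subst hp3
  have h3 : (3 : F) = 0 := by exact_mod_cast CharP.cast_eq_zero F 3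
  have hμ1 : μ = -1 := by
    have := hμ4 1 1 (by norm_num) (by norm_num) (by norm_num)
    push_cast at this
    linear_combination this - h3
  refine ⟨rfl, ?_⟩
  -- change of basis
  obtain ⟨v, hv0, hAv⟩ : ∃ v : Fin 2 → F, v ≠ 0 ∧ A.mulVec v = 0 := Matrix.exists_mulVec_eq_zero_iff.2 (by
    have := congrArg Matrix.det hAA
    rw [Matrix.det_mul, Matrix.det_zero] at this
    exact mul_self_eq_zero.1 this)
  have hsum : A * B + B * A = -1 := by
    have tA : A 1 1 = -A 0 0 := by
      have : A.trace = 0 := by rw [hA, Matrix.trace_sub, ha2, Matrix.trace_one]; simp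
      rw [Matrix.trace_fin_two] at this; linear_combination this
    have tB : B 1 1 = -B 0 0 := by
      have : B.trace = 0 := by rw [hB, Matrix.trace_sub, hw2, Matrix.trace_one]; simp
      rw [Matrix.trace_fin_two] at this; linear_combination this
    have hm := hμ1
    rw [hμdef, Matrix.trace_fin_two] at hm
    simp [Matrix.mul_apply, Fin.sum_univ_two, tA, tB] at hm
    ext i j
    fin_cases i <;> fin_cases j <;> simp [Matrix.mul_apply, Fin.sum_univ_two, tA, tB] <;>
      first | linear_combination hm | ring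
  set v' := -(B.mulVec v) with hv'
  have hAv' : A.mulVec v' = v := by
    have := congrArg (fun X : M2 => X.mulVec v) hsum
    simp only [Matrix.add_mulVec, ← Matrix.mulVec_mulVec, hAv, Matrix.mulVec_zero, add_zero, Matrix.neg_mulVec,
      Matrix.one_mulVec] at this
    rw [hv', Matrix.mulVec_neg, this, neg_neg]
  set X : M2 := !![v 0, v' 0; v 1, v' 1] with hXdef
  have hX : X.det ≠ 0 := by
    intro h
    obtain ⟨d, hd0, hd⟩ := Matrix.exists_mulVec_eq_zero_iff.2 h
    have hd' : d 0 • v + d 1 • v' = 0 := by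
      funext i
      have := congrFun hd i
      simp only [hXdef, Matrix.mulVec, dotProduct, Fin.sum_univ_two, Pi.zero_apply] at this
      fin_cases i <;> simp at this ⊢ <;> linear_combination this
    have h1 := congrArg A.mulVec hd'
    simp [Matrix.mulVec_add, Matrix.mulVec_smul, hAv, hAv', hv0] at h1
    rw [h1, zero_smul, add_zero, smul_eq_zero, or_iff_left hv0] at hd'
    exact hd0 (funext fun i => by fin_cases i <;> assumption)
  have col : ∀ (M : M2) (u u' : Fin 2 → F), M * !![u 0, u' 0; u 1, u' 1] = !![(M.mulVec u) 0, (M.mulVec u') 0; (M.mulVec u) 1, (M.mulVec u') 1] := by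
    intro M u u'
    ext i j
    fin_cases i <;> fin_cases j <;> simp [Matrix.mul_apply, Fin.sum_univ_two, Matrix.mulVec, dotProduct]
  have hAX : A * X = X * !![0, 1; 0, 0] := by
    rw [hXdef, col, hAv, hAv']
    ext i j
    fin_cases i <;> fin_cases j <;> simp [Matrix.mul_apply, Fin.sum_univ_two]
  have hBv : B.mulVec v = -v' := by rw [hv', neg_neg]
  have hBv' : B.mulVec v' = 0 := by rw [hv', Matrix.mulVec_neg, Matrix.mulVec_mulVec, hBB, Matrix.zero_mulVec, neg_zero]
  have hBX : B * X = X * !![0, 0; -1, 0] := by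
    rw [hXdef, col, hBv, hBv']
    ext i j
    fin_cases i <;> fin_cases j <;> simp [Matrix.mul_apply, Fin.sum_univ_two]
  let φ := conjX X hX
  have hφ : ∀ (g : SL2) (N : M2), ((g : M2) - 1) * X = X * N → (φ g : M2) = 1 + N := by
    intro g N h
    show X⁻¹ * (g : M2) * X = 1 + N
    rw [show (g : M2) = ((g : M2) - 1) + 1 by rw [sub_add_cancel], mul_assoc, add_mul, one_mul, h, mul_add,
      ← mul_assoc, Matrix.nonsing_inv_mul _ hX.isUnit, one_mul, add_comm]
  obtain ⟨⟨eR⟩, ⟨eH⟩⟩ := normal_form (a := φ a) (R := R.map φ.toMonoidHom)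
    (by rw [hφ a _ hAX]; ext i j; fin_cases i <;> fin_cases j <;> simp)
    (φ r₀) (Subgroup.mem_map_of_mem _ hr₀)
    (by rw [← map_inv, ← map_mul, ← map_mul, hφ _ _ hBX]; ext i j; fin_cases i <;> fin_cases j <;> simp)
    (by
      have := Subgroup.mem_map_of_mem φ.toMonoidHom haR
      exact Subgroup.le_normalizer_map _ this)
    (by rwa [Nat.card_congr (R.equivMapOfInjective _ φ.injective).symm.toEquiv])
  refine ⟨⟨(R.equivMapOfInjective φ.toMonoidHom φ.injective).trans eR⟩, ⟨((R ⊔ Subgroup.zpowers a).equivMapOfInjective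
    φ.toMonoidHom φ.injective).trans ((MulEquiv.subgroupCongr ?_).trans eH)⟩⟩
  rw [Subgroup.map_sup, MonoidHom.map_zpowers]
  rfl

end CfsgLib.Involutions.PStableSLTwo
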