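import Mathlib
import Cfsg.Prelude.Def_ParabolicCharacters
import Cfsg.Agent.Lib.Chars.Induction
import Cfsg.Agent.Lib.Chars.Linear
import Cfsg.Agent.Lib.CharApps.Basic

/-!
Mackey's formula for the principal series of the two by two linear groups.
-/

set_option autoImplicit false
set_option linter.style.haveILetI false

namespace CfsgLib.Involutions.PrincipalSeries

open Cfsg CfsgLib.Chars
open scoped ComplexConjugate

universe u

/-- Two double cosets: inner product of functions induced from `B` when the cosets other than `B` are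
`w t B` and `B ∩ (w t) B (w t)⁻¹` is the image of a torus `T`. -/
theorem inner_indFun_indFun {G : Type u} [Group G] [Fintype G] (B : Subgroup G) [Fintype B]
    {T P : Type*} [Fintype T] [Fintype P] (w : P → G)
    (hcos : ∀ x : G, x ∉ B → ∃! t, (w t)⁻¹ * x ∈ B) (hw : ∀ t, w t ∉ B)
    (θ η : B → ℂ) (hη : IsClassFunction B η)
    (eB : T × P ≃ B) (l m : T → ℂ) (sw : T → T)
    (hl : ∀ x, θ (eB x) = l x.1) (hm : ∀ x, η (eB x) = m x.1)
    (e : P → T → B) (hinj : ∀ t, Function.Injective (e t))
    (hrange : ∀ t (b : B), (w t)⁻¹ * (b : G) * w t ∈ B → ∃ τ, e t τ = b)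
    (hel : ∀ t τ, θ (e t τ) = l τ)
    (hem : ∀ t τ, extendByZero B η ((w t)⁻¹ * (e t τ : G) * w t) = m (sw τ)) :
    classInner (indFun B θ) (indFun B η) =
      (Fintype.card T : ℂ)⁻¹ * (∑ τ, l τ * conj (m τ) + ∑ τ, l τ * conj (m (sw τ))) := by
  classical
  -- the values on `B`
  have hval : ∀ b : B, indFun B η (b : G) = η b + ∑ t, extendByZero B η ((w t)⁻¹ * (b : G) * w t) := by
    intro b
    have hconjB : ∀ (g : G) (c : B), extendByZero B η ((c : G)⁻¹ * g * c) = extendByZero B η g := by
      intro g c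
      by_cases hg : g ∈ B
      · have hg' : (c : G)⁻¹ * g * c ∈ B := B.mul_mem (B.mul_mem (B.inv_mem c.2) hg) c.2
        rw [extendByZero_of_mem B η hg, extendByZero_of_mem B η hg']
        have := hη ⟨g, hg⟩ c⁻¹
        rw [← this]
        exact congrArg η (Subtype.ext (by simp))
      · rw [extendByZero_of_not_mem B η hg, extendByZero_of_not_mem B η]
        intro h
        apply hg
        have := B.mul_mem (B.mul_mem c.2 h) (B.inv_mem c.2)
        simpa [mul_assoc] using this
    have hsplit : ∑ x : G, extendByZero B η (x⁻¹ * (b : G) * x) =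
        (Nat.card B : ℂ) * (η b + ∑ t, extendByZero B η ((w t)⁻¹ * (b : G) * w t)) := by
      let R : Option P → G := fun o => o.elim 1 w
      have hbij : Function.Bijective fun p : Option P × B => R p.1 * (p.2 : G) := by
        constructor
        · rintro ⟨o, c⟩ ⟨o', c'⟩ h
          have ho : o = o' := by
            rcases o with _ | t <;> rcases o' with _ | t'
            · rfl
            · exfalso
              apply hw t'
              have : w t' = (c : G) * (c' : G)⁻¹ := by
                simp only [R, Option.elim, one_mul] at h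
                rw [h, mul_inv_cancel_right]
              rw [this]; exact B.mul_mem c.2 (B.inv_mem c'.2)
            · exfalso
              apply hw t
              have : w t = (c' : G) * (c : G)⁻¹ := by
                simp only [R, Option.elim, one_mul] at h
                rw [← h, mul_inv_cancel_right]
              rw [this]; exact B.mul_mem c'.2 (B.inv_mem c.2)
            · have hx : w t * (c : G) ∉ B := fun hm => hw t (by
                have := B.mul_mem hm (B.inv_mem c.2)
                rwa [mul_inv_cancel_right] at this)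
              obtain ⟨t₀, -, huniq⟩ := hcos _ hx
              have h1 := huniq t (show (w t)⁻¹ * (w t * (c : G)) ∈ B by rw [inv_mul_cancel_left]; exact c.2)
              have h2 := huniq t' (show (w t')⁻¹ * (w t * (c : G)) ∈ B by
                simp only [R, Option.elim] at h
                rw [h, inv_mul_cancel_left]; exact c'.2)
              rw [h1, h2]
          subst ho
          exact Prod.ext rfl (Subtype.ext (mul_left_cancel h))
        · intro x
          by_cases hx : x ∈ B
          · exact ⟨(none, ⟨x, hx⟩), one_mul x⟩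
          · obtain ⟨t, ht, -⟩ := hcos x hx
            exact ⟨(some t, ⟨_, ht⟩), mul_inv_cancel_left (w t) x⟩
      rw [← (Equiv.ofBijective _ hbij).sum_comp]
      simp only [Equiv.ofBijective_apply, mul_inv_rev, Fintype.sum_prod_type]
      rw [Fintype.sum_option, mul_add, Finset.mul_sum]
      have hterm : ∀ o, ∑ c : B, extendByZero B η ((c : G)⁻¹ * (R o)⁻¹ * (b : G) * (R o * c)) =
          (Nat.card B : ℂ) * extendByZero B η ((R o)⁻¹ * (b : G) * R o) := by
        intro o
        rw [Finset.sum_congr rfl (fun c _ => show _ = extendByZero B η ((R o)⁻¹ * (b : G) * R o) by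
          rw [show (c : G)⁻¹ * (R o)⁻¹ * (b : G) * (R o * c) = (c : G)⁻¹ * ((R o)⁻¹ * (b : G) * R o) * c by group,
            hconjB]), Finset.sum_const, Finset.card_univ, nsmul_eq_mul, Nat.card_eq_fintype_card]
      rw [hterm none]
      refine congrArg₂ (· + ·) ?_ (Finset.sum_congr rfl fun t _ => hterm (some t))
      simp only [R, Option.elim, inv_one, one_mul, mul_one, extendByZero_coe]
    rw [indFun_apply, hsplit, ← mul_assoc, inv_mul_cancel₀ (Nat.cast_ne_zero.2 Nat.card_pos.ne'), one_mul]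
  have hsub : classInner (indFun B θ) (indFun B η) = (Nat.card B : ℂ)⁻¹ *
      (∑ b : B, θ b * conj (η b) + ∑ t, ∑ b : B, θ b * conj (extendByZero B η ((w t)⁻¹ * (b : G) * w t))) := by
    rw [inner_indFun B θ (isClassFunction_indFun B η), inner_def]
    simp only [hval, map_add, map_sum, mul_add, Finset.mul_sum, Finset.sum_add_distrib]
    rw [Finset.sum_comm (γ := P)]
  have h1 : ∑ b : B, θ b * conj (η b) = (Fintype.card P : ℂ) * ∑ τ, l τ * conj (m τ) := by
    rw [← eB.sum_comp, Fintype.sum_prod_type]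
    simp only [hl, hm, Finset.sum_const, Finset.card_univ, nsmul_eq_mul, Finset.mul_sum]
  have h2 : ∀ t, ∑ b : B, θ b * conj (extendByZero B η ((w t)⁻¹ * (b : G) * w t)) =
      ∑ τ, l τ * conj (m (sw τ)) := by
    intro t
    symm
    refine Finset.sum_bij_ne_zero (fun τ _ _ => e t τ) (fun τ _ _ => Finset.mem_univ _)
      (fun τ _ _ τ' _ _ h => hinj t h) ?_ (fun τ _ _ => by rw [hel, hem])
    intro b _ hb
    obtain ⟨τ, rfl⟩ := hrange t b (by
      by_contra h
      exact hb (by rw [extendByZero_of_not_mem B η h, map_zero, mul_zero]))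
    refine ⟨τ, Finset.mem_univ _, ?_, rfl⟩
    rwa [← hel t τ, ← hem t τ]
  rw [hsub, h1, Finset.sum_congr rfl (fun t _ => h2 t), Finset.sum_const, Finset.card_univ, nsmul_eq_mul,
    ← mul_add, ← mul_assoc]
  refine congrArg₂ (· * ·) ?_ rfl
  have hcard : Nat.card B = Fintype.card T * Fintype.card P := by
    rw [Nat.card_eq_fintype_card, ← Fintype.card_congr eB, Fintype.card_prod]
  have hP0 : (Fintype.card P : ℂ) ≠ 0 := by
    have : 0 < Nat.card B := Nat.card_pos
    rw [hcard] at this
    exact Nat.cast_ne_zero.2 (Nat.pos_of_mul_pos_left this).ne'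
  rw [hcard, Nat.cast_mul, mul_inv, mul_assoc, inv_mul_cancel₀ hP0, mul_one]

variable {F : Type*} [Field F] [Fintype F] [DecidableEq F]

theorem sum_mulChar (α β : MulChar F ℂ) [Decidable (α = β)] :
    ∑ x : Fˣ, α (x : F) * conj (β (x : F)) = if α = β then (Fintype.card Fˣ : ℂ) else 0 := by
  have h : ∀ x : Fˣ, α (x : F) * conj (β (x : F)) = (α * β⁻¹) (x : F) := fun x => by
    rw [MulChar.mul_apply, starRingEnd_apply, MulChar.star_apply']
  simp only [h]
  split_ifs with he
  · subst he
    simp [MulChar.one_apply_coe]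
  · have hne : α * β⁻¹ ≠ 1 := fun h1 => he (mul_inv_eq_one.1 h1)
    have hs := MulChar.sum_eq_zero_of_ne_one hne
    rw [← Finset.sum_subset (Finset.subset_univ (Finset.univ.filter fun a : F => a ≠ 0))
      (fun a _ ha => by
        simp only [Finset.mem_filter, Finset.mem_univ, true_and, not_not] at ha
        rw [ha, MulChar.map_zero])] at hs
    rw [← hs]
    refine Finset.sum_bij (fun (x : Fˣ) _ => (x : F)) (fun x _ => by simp)
      (fun x _ y _ h => Units.ext h) (fun a ha => ?_) (fun x _ => rfl)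
    simp only [Finset.mem_filter, Finset.mem_univ, true_and] at ha
    exact ⟨Units.mk0 a ha, Finset.mem_univ _, rfl⟩

theorem mem_upper {g : GL (Fin 2) F} :
    g ∈ upperTriangularGL 2 F ↔ (g : Matrix (Fin 2) (Fin 2) F) 1 0 = 0 := by
  refine ⟨fun h => h (show (id 0 : Fin 2) < id 1 by decide), fun h i j hij => ?_⟩
  fin_cases i <;> fin_cases j <;> first | exact h | exact absurd hij (by decide)

theorem diag_ne_zero (b : ↥(upperTriangularGL 2 F)) :
    ((b : GL (Fin 2) F) : Matrix (Fin 2) (Fin 2) F) 0 0 ≠ 0 ∧ ((b : GL (Fin 2) F) : Matrix (Fin 2) (Fin 2) F) 1 1 ≠ 0 := by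
  have h := ((Matrix.isUnit_iff_isUnit_det _).1 (Units.isUnit (b : GL (Fin 2) F))).ne_zero
  rw [Matrix.det_fin_two, mem_upper.1 b.2, mul_zero, sub_zero] at h
  exact ⟨left_ne_zero_of_mul h, right_ne_zero_of_mul h⟩

/-- The two diagonal entries of an upper triangular matrix. -/
noncomputable def diagHom : ↥(upperTriangularGL 2 F) →* Fˣ × Fˣ where
  toFun b := (Units.mk0 _ (diag_ne_zero b).1, Units.mk0 _ (diag_ne_zero b).2)
  map_one' := by ext <;> simp
  map_mul' a b := by
    have ha := mem_upper.1 a.2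
    have hb := mem_upper.1 b.2
    ext <;> simp [Matrix.mul_apply, Fin.sum_univ_two, ha, hb]

/-- The linear character of the Borel subgroup of the general linear group. -/
noncomputable def borelChar (α β : MulChar F ℂ) : ↥(upperTriangularGL 2 F) →* ℂˣ :=
  (α.toUnitHom.comp ((MonoidHom.fst Fˣ Fˣ).comp diagHom)) * (β.toUnitHom.comp ((MonoidHom.snd Fˣ Fˣ).comp diagHom))

theorem borelChar_apply (α β : MulChar F ℂ) (b : ↥(upperTriangularGL 2 F)) :
    (borelChar α β b : ℂ) = α (((b : GL (Fin 2) F) : Matrix (Fin 2) (Fin 2) F) 0 0) *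
      β (((b : GL (Fin 2) F) : Matrix (Fin 2) (Fin 2) F) 1 1) := by
  simp [borelChar, diagHom, MulChar.coe_toUnitHom]

theorem isClassFunction_hom {H : Type u} [Group H] (f : H →* ℂˣ) : IsClassFunction H fun h => (f h : ℂ) := by
  intro g h
  simp [mul_comm]

/-- Mackey's formula for the general linear group. -/
theorem inner_gl (α β α' β' : MulChar F ℂ) [Decidable (α = α')] [Decidable (β = β')]
    [Decidable (α = β')] [Decidable (β = α')] :
    classInner (indFun (upperTriangularGL 2 F) fun b => α (((b : GL (Fin 2) F) : Matrix (Fin 2) (Fin 2) F) 0 0) *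
        β (((b : GL (Fin 2) F) : Matrix (Fin 2) (Fin 2) F) 1 1))
      (indFun (upperTriangularGL 2 F) fun b => α' (((b : GL (Fin 2) F) : Matrix (Fin 2) (Fin 2) F) 0 0) *
        β' (((b : GL (Fin 2) F) : Matrix (Fin 2) (Fin 2) F) 1 1)) =
      (if α = α' ∧ β = β' then 1 else 0) + (if α = β' ∧ β = α' then 1 else 0) := by
  classical
  let mk : F → F → F → F → Matrix (Fin 2) (Fin 2) F := fun a b c d => !![a, b; c, d]
  let up : Fˣ × Fˣ → F → ↥(upperTriangularGL 2 F) := fun τ c =>
    ⟨Matrix.GeneralLinearGroup.mkOfDetNeZero !![(τ.1 : F), c; 0, (τ.2 : F)] (by simp [Matrix.det_fin_two]),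
      mem_upper.2 rfl⟩
  have hup : ∀ τ c, ((up τ c : GL (Fin 2) F) : Matrix (Fin 2) (Fin 2) F) = !![(τ.1 : F), c; 0, (τ.2 : F)] :=
    fun τ c => rfl
  let eB : (Fˣ × Fˣ) × F ≃ ↥(upperTriangularGL 2 F) :=
    { toFun := fun x => up x.1 x.2
      invFun := fun b => (diagHom b, ((b : GL (Fin 2) F) : Matrix (Fin 2) (Fin 2) F) 0 1)
      left_inv := fun x => Prod.ext (Prod.ext (Units.ext rfl) (Units.ext rfl)) rfl
      right_inv := fun b => by
        refine Subtype.ext (Units.ext ?_)
        rw [hup]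
        ext i j
        fin_cases i <;> fin_cases j <;> first | rfl | exact (mem_upper.1 b.2).symm }
  let w : F → GL (Fin 2) F := fun t =>
    Matrix.GeneralLinearGroup.mkOfDetNeZero !![t, 1; 1, 0] (by simp [Matrix.det_fin_two])
  have hwinv : ∀ t, ((w t)⁻¹ : GL (Fin 2) F) =
      Matrix.GeneralLinearGroup.mkOfDetNeZero !![0, 1; 1, -t] (by simp [Matrix.det_fin_two]) := fun t => by
    refine inv_eq_of_mul_eq_one_right (Units.ext ?_)
    show (!![t, 1; 1, 0] : Matrix (Fin 2) (Fin 2) F) * !![0, 1; 1, -t] = 1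
    ext i j
    fin_cases i <;> fin_cases j <;> simp [Matrix.mul_apply, Fin.sum_univ_two]
  have h := inner_indFun_indFun (upperTriangularGL 2 F) w ?_ ?_
    (fun b => (borelChar α β b : ℂ)) (fun b => (borelChar α' β' b : ℂ)) (isClassFunction_hom _) eB
    (fun τ => α (τ.1 : F) * β (τ.2 : F)) (fun τ => α' (τ.1 : F) * β' (τ.2 : F)) Prod.swap ?_ ?_
    (fun t τ => up τ (((τ.2 : F) - τ.1) * t)) ?_ ?_ ?_ ?_
  · simp only [borelChar_apply] at h
    rw [h]
    simp only [Fintype.sum_prod_type, Prod.swap]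
    have e1 : ∀ (a a' b b' : MulChar F ℂ), ∑ x : Fˣ, ∑ y : Fˣ, a (x : F) * b (y : F) * conj (a' (x : F) * b' (y : F)) =
        (∑ x : Fˣ, a (x : F) * conj (a' (x : F))) * ∑ y : Fˣ, b (y : F) * conj (b' (y : F)) := by
      intro a a' b b'
      rw [Finset.sum_mul_sum]
      refine Finset.sum_congr rfl fun x _ => Finset.sum_congr rfl fun y _ => ?_
      rw [map_mul]; ring
    have e2 : ∑ x : Fˣ, ∑ y : Fˣ, α (x : F) * β (y : F) * conj (α' (y : F) * β' (x : F)) =
        (∑ x : Fˣ, α (x : F) * conj (β' (x : F))) * ∑ y : Fˣ, β (y : F) * conj (α' (y : F)) := by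
      rw [← e1]
      simp only [mul_comm (α' _) (β' _)]
    have hc : (Fintype.card Fˣ : ℂ) ≠ 0 := Nat.cast_ne_zero.2 Fintype.card_ne_zero
    rw [e1, e2, sum_mulChar, sum_mulChar, sum_mulChar, sum_mulChar, Fintype.card_prod, Nat.cast_mul]
    split_ifs <;> first | (field_simp; done) | (field_simp; ring; done) | (exfalso; simp_all; done) | simp
  · intro x hx
    have hx0 : (x : Matrix (Fin 2) (Fin 2) F) 1 0 ≠ 0 := fun h => hx (mem_upper.2 h)
    refine ⟨(x : Matrix (Fin 2) (Fin 2) F) 0 0 / (x : Matrix (Fin 2) (Fin 2) F) 1 0, ?_, fun t ht => ?_⟩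
    · show _ ∈ upperTriangularGL 2 F
      rw [mem_upper, hwinv]
      simp [Matrix.mul_apply, Fin.sum_univ_two]
      field_simp
      ring
    · replace ht : (w t)⁻¹ * x ∈ upperTriangularGL 2 F := ht
      rw [mem_upper, hwinv] at ht
      simp [Matrix.mul_apply, Fin.sum_univ_two] at ht
      rw [eq_div_iff hx0]
      linear_combination -ht
  · intro t ht
    rw [mem_upper] at ht
    exact one_ne_zero (α := F) ht
  · intro x
    rw [borelChar_apply]; rfl
  · intro x
    rw [borelChar_apply]; rfl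
  · intro t τ τ' h
    have h' := congrArg diagHom h
    exact Prod.ext (Units.ext (congrArg (fun z : Fˣ × Fˣ => (z.1 : F)) h' :))
      (Units.ext (congrArg (fun z : Fˣ × Fˣ => (z.2 : F)) h' :))
  · intro t b hb
    rw [mem_upper, hwinv] at hb
    have h10 := mem_upper.1 b.2
    simp [w, Matrix.mul_apply, Matrix.vecMul, dotProduct, Fin.sum_univ_two, h10] at hb
    refine ⟨diagHom b, Subtype.ext (Units.ext ?_)⟩
    rw [hup]
    ext i j
    fin_cases i <;> fin_cases j <;>
      first | rfl | exact h10.symm | (simp [diagHom]; linear_combination -hb)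
  · intro t τ
    rw [borelChar_apply]; rfl
  · intro t τ
    have hmem : (w t)⁻¹ * ((up τ (((τ.2 : F) - τ.1) * t) : ↥(upperTriangularGL 2 F)) : GL (Fin 2) F) * w t ∈
        upperTriangularGL 2 F := by
      rw [mem_upper, hwinv]
      simp [w, hup, Matrix.mul_apply, Fin.sum_univ_two]
      ring
    rw [extendByZero_of_mem _ _ hmem, borelChar_apply]
    simp only [Prod.swap]
    congr 2 <;> rw [hwinv] <;> simp [w, hup, Matrix.mul_apply, Fin.sum_univ_two]

/-- The diagonal entry as a character of the Borel subgroup of the special linear group. -/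
noncomputable def borelCharSL (α : MulChar F ℂ) :
    ↥((upperTriangularGL 2 F).comap Matrix.SpecialLinearGroup.toGL) →* ℂˣ :=
  (borelChar α 1).comp ((Matrix.SpecialLinearGroup.toGL).subgroupComap (upperTriangularGL 2 F))

theorem borelCharSL_apply (α : MulChar F ℂ)
    (b : ↥((upperTriangularGL 2 F).comap (Matrix.SpecialLinearGroup.toGL (n := Fin 2)))) :
    (borelCharSL α b : ℂ) = α (((b : Matrix.SpecialLinearGroup (Fin 2) F) : Matrix (Fin 2) (Fin 2) F) 0 0) := by
  rw [borelCharSL, MonoidHom.comp_apply, borelChar_apply, MulChar.one_apply]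
  · rw [mul_one]; rfl
  · exact IsUnit.mk0 _ (diag_ne_zero _).2

/-- Mackey's formula for the special linear group. -/
theorem inner_sl (α β : MulChar F ℂ) [Decidable (α = β)] [Decidable (α = β⁻¹)] :
    classInner (indFun ((upperTriangularGL 2 F).comap Matrix.SpecialLinearGroup.toGL)
        fun b => α (((b : Matrix.SpecialLinearGroup (Fin 2) F) : Matrix (Fin 2) (Fin 2) F) 0 0))
      (indFun ((upperTriangularGL 2 F).comap Matrix.SpecialLinearGroup.toGL)
        fun b => β (((b : Matrix.SpecialLinearGroup (Fin 2) F) : Matrix (Fin 2) (Fin 2) F) 0 0)) =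
      (if α = β then 1 else 0) + (if α = β⁻¹ then 1 else 0) := by
  classical
  set B := (upperTriangularGL 2 F).comap (Matrix.SpecialLinearGroup.toGL (n := Fin 2)) with hB
  have memB : ∀ g : Matrix.SpecialLinearGroup (Fin 2) F, g ∈ B ↔ (g : Matrix (Fin 2) (Fin 2) F) 1 0 = 0 :=
    fun g => mem_upper
  let up : Fˣ → F → ↥B := fun τ c =>
    ⟨⟨!![(τ : F), c; 0, ((τ⁻¹ : Fˣ) : F)], by simp [Matrix.det_fin_two]⟩, (memB _).2 rfl⟩
  have hne : ∀ b : ↥B, ((b : Matrix.SpecialLinearGroup (Fin 2) F) : Matrix (Fin 2) (Fin 2) F) 0 0 *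
      ((b : Matrix.SpecialLinearGroup (Fin 2) F) : Matrix (Fin 2) (Fin 2) F) 1 1 = 1 := fun b => by
    have h := (b : Matrix.SpecialLinearGroup (Fin 2) F).2
    rw [Matrix.det_fin_two, (memB _).1 b.2, mul_zero, sub_zero] at h
    exact h
  have hfix : ∀ (b : ↥B) (c : F), c = ((b : Matrix.SpecialLinearGroup (Fin 2) F) : Matrix (Fin 2) (Fin 2) F) 0 1 →
      up (Units.mk0 _ (left_ne_zero_of_mul_eq_one (hne b))) c = b := by
    intro b c hc
    refine Subtype.ext (Subtype.ext ?_)
    ext i j
    fin_cases i <;> fin_cases j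
    · rfl
    · exact hc
    · exact ((memB _).1 b.2).symm
    · simpa [up] using inv_eq_of_mul_eq_one_right (hne b)
  let eB : Fˣ × F ≃ ↥B :=
    { toFun := fun x => up x.1 x.2
      invFun := fun b => (Units.mk0 _ (left_ne_zero_of_mul_eq_one (hne b)),
        ((b : Matrix.SpecialLinearGroup (Fin 2) F) : Matrix (Fin 2) (Fin 2) F) 0 1)
      left_inv := fun x => Prod.ext (Units.ext rfl) rfl
      right_inv := fun b => hfix b _ rfl }
  let w : F → Matrix.SpecialLinearGroup (Fin 2) F := fun t => ⟨!![t, -1; 1, 0], by simp [Matrix.det_fin_two]⟩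
  have hwinv : ∀ t, (w t)⁻¹ = ⟨!![0, 1; -1, t], by simp [Matrix.det_fin_two]⟩ := fun t => by
    refine inv_eq_of_mul_eq_one_right (Subtype.ext ?_)
    show (!![t, -1; 1, 0] : Matrix (Fin 2) (Fin 2) F) * !![0, 1; -1, t] = 1
    ext i j
    fin_cases i <;> fin_cases j <;> simp [Matrix.mul_apply, Fin.sum_univ_two]
  have hwinvM : ∀ t, (((w t)⁻¹ : Matrix.SpecialLinearGroup (Fin 2) F) : Matrix (Fin 2) (Fin 2) F) = !![0, 1; -1, t] :=
    fun t => by rw [hwinv t]
  have hwM : ∀ t, ((w t : Matrix.SpecialLinearGroup (Fin 2) F) : Matrix (Fin 2) (Fin 2) F) = !![t, -1; 1, 0] := fun t => rfl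
  have hupM : ∀ τ c, (((up τ c : ↥B) : Matrix.SpecialLinearGroup (Fin 2) F) : Matrix (Fin 2) (Fin 2) F) =
      !![(τ : F), c; 0, ((τ⁻¹ : Fˣ) : F)] := fun τ c => rfl
  have h := inner_indFun_indFun B w ?_ ?_ (fun b => (borelCharSL α b : ℂ)) (fun b => (borelCharSL β b : ℂ))
    (isClassFunction_hom _) eB (fun τ => α (τ : F)) (fun τ => β (τ : F)) (fun τ => τ⁻¹) ?_ ?_
    (fun t τ => up τ ((((τ⁻¹ : Fˣ) : F) - τ) * t)) ?_ ?_ ?_ ?_
  · simp only [borelCharSL_apply] at h
    rw [h]
    have e2 : ∑ τ : Fˣ, α (τ : F) * conj (β ((τ⁻¹ : Fˣ) : F)) = ∑ τ : Fˣ, α (τ : F) * conj (β⁻¹ (τ : F)) := by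
      refine Finset.sum_congr rfl fun τ _ => ?_
      rw [MulChar.inv_apply', Units.val_inv_eq_inv_val]
    have hc : (Fintype.card Fˣ : ℂ) ≠ 0 := Nat.cast_ne_zero.2 Fintype.card_ne_zero
    rw [e2, sum_mulChar, sum_mulChar]
    split_ifs <;> first | (field_simp; done) | (field_simp; ring; done) | (exfalso; simp_all; done) | simp
  · intro x hx
    have hx0 : (x : Matrix (Fin 2) (Fin 2) F) 1 0 ≠ 0 := fun h => hx ((memB _).2 h)
    refine ⟨(x : Matrix (Fin 2) (Fin 2) F) 0 0 / (x : Matrix (Fin 2) (Fin 2) F) 1 0, ?_, fun t ht => ?_⟩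
    · show _ ∈ B
      rw [memB, Matrix.SpecialLinearGroup.coe_mul, hwinvM]
      simp [Matrix.mul_apply, Fin.sum_univ_two]
      field_simp
      ring
    · replace ht : (w t)⁻¹ * x ∈ B := ht
      rw [memB, Matrix.SpecialLinearGroup.coe_mul, hwinvM] at ht
      simp [Matrix.mul_apply, Fin.sum_univ_two] at ht
      rw [eq_div_iff hx0]
      linear_combination ht
  · intro t ht
    rw [memB] at ht
    exact one_ne_zero (α := F) ht
  · intro x
    rw [borelCharSL_apply]; rfl
  · intro x
    rw [borelCharSL_apply]; rfl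
  · intro t τ τ' h
    exact Units.ext (congrArg (fun z : ↥B => ((z : Matrix.SpecialLinearGroup (Fin 2) F) : Matrix (Fin 2) (Fin 2) F) 0 0) h)
  · intro t b hb
    rw [memB, Matrix.SpecialLinearGroup.coe_mul, Matrix.SpecialLinearGroup.coe_mul, hwinvM, hwM] at hb
    have h10 := (memB _).1 b.2
    simp [Matrix.mul_apply, Matrix.vecMul, dotProduct, Fin.sum_univ_two, h10] at hb
    refine ⟨Units.mk0 _ (left_ne_zero_of_mul_eq_one (hne b)), hfix b _ ?_⟩
    simp only [Units.val_inv_eq_inv_val, Units.val_mk0, inv_eq_of_mul_eq_one_right (hne b)]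
    linear_combination hb
  · intro t τ
    rw [borelCharSL_apply]; rfl
  · intro t τ
    have hmem : (w t)⁻¹ * ((up τ ((((τ⁻¹ : Fˣ) : F) - τ) * t) : ↥B) : Matrix.SpecialLinearGroup (Fin 2) F) * w t ∈ B := by
      rw [memB, Matrix.SpecialLinearGroup.coe_mul, Matrix.SpecialLinearGroup.coe_mul, hwinvM, hwM, hupM]
      simp [Matrix.mul_apply, Fin.sum_univ_two]
      ring
    rw [extendByZero_of_mem _ _ hmem, borelCharSL_apply]
    congr 1
    rw [Matrix.SpecialLinearGroup.coe_mul, Matrix.SpecialLinearGroup.coe_mul, hwinvM, hwM, hupM]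
    simp [Matrix.mul_apply, Fin.sum_univ_two]

end CfsgLib.Involutions.PrincipalSeries
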