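import Cfsg.Agent.Lib.Involutions.QDWRCentralizer
import Cfsg.Agent.Lib.PGroups.Basic
import Cfsg.Agent.Lib.Base.MinimalNormal
import Cfsg.Agent.S0219
import Cfsg.Agent.S1200

/-!
# The centre of a rank two Sylow 2-subgroup, and simple sections
-/

set_option autoImplicit false
set_option linter.style.haveILetI false

namespace CfsgLib.Involutions

open Subgroup Cfsg

universe u

variable {G : Type u} [Group G] [Finite G]

/-- A cyclic subgroup of `P` centralized by `P` is centralized by its normalizer. -/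
theorem normalizer_le_centralizer_of_cyclic (P : Sylow 2 G) {Z : Subgroup G} [IsCyclic Z]
    (hZP : Z ≤ (P : Subgroup G))
    (hc : (P : Subgroup G) ≤ centralizer (Z : Set G)) :
    normalizer (Z : Set G) ≤ centralizer (Z : Set G) := by
  set N := normalizer (Z : Set G)
  set C := centralizer (Z : Set G)
  have hCN : C ≤ N := centralizer_le_normalizer _
  haveI : (C.subgroupOf N).Normal := by
    rw [← normalizerMonoidHom_ker]; infer_instance
  have hp : IsPGroup 2 (↥N ⧸ C.subgroupOf N) := by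
    intro q
    obtain ⟨⟨y, hy⟩, rfl⟩ := QuotientGroup.mk'_surjective (C.subgroupOf N) q
    obtain ⟨k, m, hm2, hk⟩ :=
      Nat.exists_eq_pow_mul_and_not_dvd (orderOf_pos y).ne' 2 (by norm_num)
    refine ⟨k, ?_⟩
    rw [← map_pow, QuotientGroup.mk'_apply, QuotientGroup.eq_one_iff, mem_subgroupOf]
    have hyN : y ^ 2 ^ k ∈ N := pow_mem hy _
    have hodd : Odd (orderOf (y ^ 2 ^ k)) :=
      Odd.of_dvd_nat (Nat.odd_iff.2 (Nat.two_dvd_ne_zero.1 hm2))
        (orderOf_dvd_of_pow_eq_one (by rw [← pow_mul, ← hk, pow_orderOf_eq_one]))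
    exact mem_centralizer_iff.2 fun a ha => (commute_of_cyclic (P.isPGroup'.to_le hZP) hodd
      (fun a ha => (mem_normalizer_iff.1 hyN a).1 ha) a ha).eq.symm
  obtain ⟨j, hj⟩ := IsPGroup.iff_card.1 hp
  have h1 : C.relIndex N ∣ 2 ^ j := by rw [← hj]; exact dvd_of_eq rfl
  have h2 : ¬ 2 ∣ C.relIndex N := fun h => P.not_dvd_index
    (h.trans ((relIndex_dvd_index_of_le hCN).trans (index_dvd_of_le hc)))
  refine relIndex_eq_one.1 ?_
  obtain ⟨i, -, hi⟩ := (Nat.dvd_prime_pow Nat.prime_two).1 h1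
  rcases Nat.eq_zero_or_pos i with rfl | hi0
  · simpa using hi
  · exact absurd (hi ▸ dvd_pow_self 2 hi0.ne') h2

/-- If the subgroups of `Z(S)` are weakly closed, `H = O(H) C(Z(S))`. -/
theorem exists_oddCore_mul_centralizer {H : Type u} [Group H] [Finite H] (S : Sylow 2 H)
    (hS : IsQuasiDihedral (S : Subgroup H) ∨ IsWreathed (S : Subgroup H))
    (hwc : ∀ Z₀ : Subgroup H, Z₀ ≤ (center (S : Subgroup H)).map (S : Subgroup H).subtype →
      IsWeaklyClosed Z₀ (S : Subgroup H)) (h : H) :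
    ∃ o ∈ oddCore H, ∃ c ∈ centralizer
      (((center (S : Subgroup H)).map (S : Subgroup H).subtype : Subgroup H) : Set H),
      h = o * c := by
  set Z := (center (S : Subgroup H)).map (S : Subgroup H).subtype with hZ
  have hcyc : IsCyclic (center (S : Subgroup H)) := by
    rcases hS with h | h
    · obtain ⟨d⟩ := nonempty_qd h; rw [d.center_eq]; infer_instance
    · obtain ⟨d⟩ := nonempty_wr h; rw [d.center_eq]; infer_instance
  obtain ⟨z, hzZ, hz2⟩ : ∃ z ∈ Z, orderOf z = 2 := by
    rcases hS with h | h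
    · obtain ⟨d⟩ := nonempty_qd h
      exact ⟨_, ⟨d.z, d.z_mem_center, rfl⟩, d.orderOf_coe_z⟩
    · obtain ⟨d⟩ := nonempty_wr h
      exact ⟨_, d.z0_mem_ZG, d.orderOf_z0G⟩
  have hZS : Z ≤ (S : Subgroup H) := map_subtype_le _
  have hiso : IsIsolatedInvolution z := by
    refine isolated_of_sylow S hz2 fun g hg => ?_
    have hw := hwc (zpowers z) (zpowers_le.2 hzZ)
    have h1 := hw.2 g (by rw [MonoidHom.map_zpowers]; exact zpowers_le.2 hg)
    have h2 : g * z * g⁻¹ ∈ zpowers z := h1.le ⟨z, mem_zpowers z, rfl⟩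
    exact ((mem_zpowers_invol hz2).1 h2).resolve_left (invol_ne_one (conj_invol g hz2))
  set N := oddCore H ⊔ Z with hN
  haveI hNn : N.Normal := normal_oddCore_sup_center S hS (hZS hzZ) hiso
  haveI : (oddCore H).Normal := pPrimeCore_normal 2 H
  haveI : IsCyclic Z := isCyclic_of_surjective
    ((center (S : Subgroup H)).equivMapOfInjective (S : Subgroup H).subtype
      (S : Subgroup H).subtype_injective).toMonoidHom
    ((center (S : Subgroup H)).equivMapOfInjective (S : Subgroup H).subtype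
      (S : Subgroup H).subtype_injective).surjective
  -- `Z` is a Sylow subgroup of `N`
  let T : Sylow 2 N := (S.isPGroup'.comap_subtype (K := N)).toSylow
    (Transfer.not_dvd_index_subgroupOf_of_normal S N)
  have hTmap : (T : Subgroup N).map N.subtype = Z := by
    show ((S : Subgroup H).subgroupOf N).map N.subtype = Z
    rw [subgroupOf_map_subtype]
    refine le_antisymm ?_ (le_inf hZS le_sup_right)
    rintro a ⟨haS, haN⟩
    obtain ⟨o, ho, w, hw, rfl⟩ := mem_sup_of_normal_left.1 haN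
    have ho1 : o ∈ (S : Subgroup H) ⊓ oddCore H :=
      ⟨(mul_mem_cancel_right (hZS hw)).1 haS, ho⟩
    rw [Base.inf_eq_bot_of_isPGroup_of_coprime S.isPGroup' (Base.pPrimeCore_coprime 2 H),
      mem_bot] at ho1
    rwa [ho1, one_mul]
  obtain ⟨n, hn, m, hm, hnm⟩ := mem_sup_of_normal_right.1
    ((Sylow.normalizer_sup_eq_top T).symm ▸ mem_top h : h ∈ _)
  rw [hTmap] at hn
  obtain ⟨o, ho, w, hw, rfl⟩ := mem_sup_of_normal_left.1 hm
  have hScent : (S : Subgroup H) ≤ centralizer (Z : Set H) := fun s hs =>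
    mem_centralizer_iff.2 fun a ha => by
      obtain ⟨c, hc, rfl⟩ := ha
      exact congrArg Subtype.val (mem_center_iff.1 hc ⟨s, hs⟩).symm
  refine ⟨n * o * n⁻¹, ‹(oddCore H).Normal›.conj_mem o ho n, n * w,
    mul_mem (normalizer_le_centralizer_of_cyclic S hZS hScent hn) (hScent (hZS hw)), ?_⟩
  rw [← hnm]
  group

/-- With `O(G) = 1`, no subgroup of index two, one class of involutions and a rank two Sylow
2-subgroup with cyclic quotient by its involutions, there is a simple normal subgroup of odd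
index. -/
theorem exists_simple_of_one_class (hO : oddCore G = ⊥) (hG : ∀ H : Subgroup G, H.index ≠ 2)
    (S : Sylow 2 G) {z : G} (hzS : z ∈ (S : Subgroup G)) (hz : orderOf z = 2)
    (hzc : ∀ s ∈ (S : Subgroup G), Commute z s)
    (hone : ∀ t : G, orderOf t = 2 → IsConj z t)
    (huniq : ∀ w ∈ (S : Subgroup G), orderOf w = 2 →
      (∀ t ∈ (S : Subgroup G), orderOf t = 2 → Commute w t) → w = z)
    {a b : G} (ha : a ∈ (S : Subgroup G)) (hb : b ∈ (S : Subgroup G)) (ha2 : orderOf a = 2)
    (hb2 : orderOf b = 2) (hab : ¬ Commute a b)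
    {x : G} (hx : x ∈ (S : Subgroup G))
    (hgen : ∀ T : Subgroup G, (∀ t ∈ (S : Subgroup G), orderOf t = 2 → t ∈ T) → x ∈ T →
      (S : Subgroup G) ≤ T) :
    ∃ L : Subgroup G, L.Normal ∧ Odd L.index ∧ IsSimpleGroup L ∧ ¬ IsMulCommutative L := by
  have heven : 2 ∣ Nat.card G := hz ▸ orderOf_dvd_natCard z
  haveI : Nontrivial G := ⟨⟨z, 1, invol_ne_one hz⟩⟩
  obtain ⟨L, hLmin⟩ := Base.exists_isMinimalNormal (G := G)
  haveI hLn : L.Normal := hLmin.normal
  have hOL : oddCore L = ⊥ := by
    have e := Base.map_pPrimeCore_eq_inf (p := 2) L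
    rw [show pPrimeCore 2 G = ⊥ from hO, bot_inf_eq] at e
    exact (map_eq_bot_iff_of_injective _ L.subtype_injective).1 e
  -- every nontrivial normal subgroup of `L` contains `z`
  have hcont : ∀ M : Subgroup L, M.Normal → M ≠ ⊥ → z ∈ M.map L.subtype := by
    intro M hMn hMne
    have hMev : 2 ∣ Nat.card M := by
      rw [← Nat.not_odd_iff_even.trans even_iff_two_dvd]
      exact fun h => hMne (le_bot_iff.1 (hOL ▸ Base.le_oddCore (N := M) h))
    set M' := M.map L.subtype with hM'
    let T : Sylow 2 L := (S.isPGroup'.comap_subtype (K := L)).toSylow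
      (Transfer.not_dvd_index_subgroupOf_of_normal S L)
    haveI := hMn
    set N₀ := M.subgroupOf (T : Subgroup L) with hN₀
    have hN₀ne : N₀ ≠ ⊥ := by
      intro h
      have hidx := Transfer.not_dvd_index_subgroupOf_of_normal T M
      have hbot : (T : Subgroup L).subgroupOf M = ⊥ := by
        rw [eq_bot_iff]
        rintro ⟨v, hvM⟩ hv
        have : (⟨v, hv⟩ : (T : Subgroup L)) ∈ N₀ := hvM
        rw [h, mem_bot] at this
        exact Subtype.ext (congrArg Subtype.val this :)
      rw [hbot, index_bot] at hidx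
      exact hidx hMev
    obtain ⟨w, hw, hw1⟩ : ∃ w ∈ N₀ ⊓ center (T : Subgroup L), w ≠ 1 :=
      (ne_bot_iff_exists_ne_one.1 (PGroups.inf_center_ne_bot T.isPGroup' hN₀ne)).elim
        fun v hv => ⟨v, v.2, fun h => hv (Subtype.ext h)⟩
    obtain ⟨k, hk⟩ := IsPGroup.iff_orderOf.1 T.isPGroup' w
    have hk0 : k ≠ 0 := fun h => hw1 (orderOf_eq_one_iff.1 (by rw [hk, h, pow_zero]))
    set v := w ^ 2 ^ (k - 1) with hv
    have hv2 : orderOf v = 2 := by
      rw [hv, orderOf_pow_of_dvd (by positivity) (hk ▸ pow_dvd_pow 2 (Nat.sub_le k 1)), hk,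
        Nat.pow_div (Nat.sub_le k 1) two_pos, show k - (k - 1) = 1 by omega, pow_one]
    have hvmem := pow_mem hw (2 ^ (k - 1))
    have hvS : (((v : L)) : G) ∈ (S : Subgroup G) := mem_subgroupOf.1 v.2
    have hvord : orderOf (((v : L)) : G) = 2 := by
      rw [Subgroup.orderOf_coe, Subgroup.orderOf_coe, hv2]
    have hvz : (((v : L)) : G) = z := by
      refine huniq _ hvS hvord fun t htS ht => ?_
      -- `t` lies in `L`, which contains an involution
      obtain ⟨g, hg⟩ := isConj_iff.1 ((hone _ hvord).symm.trans (hone t ht))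
      have htL : t ∈ L := hg ▸ hLn.conj_mem _ (v : L).2 g
      exact congrArg (fun u : (T : Subgroup L) => ((u : L) : G))
        (mem_center_iff.1 hvmem.2 ⟨⟨t, htL⟩, mem_subgroupOf.2 htS⟩).symm
    exact ⟨(v : L), hvmem.1, hvz⟩
  have hzL : z ∈ L := by
    have := hcont ⊤ inferInstance (fun h => hLmin.ne_bot (by
      have h2 := congrArg (Subgroup.map L.subtype) h
      rwa [← MonoidHom.range_eq_map, range_subtype, Subgroup.map_bot] at h2))
    exact map_subtype_le _ this
  have hinv : ∀ t : G, orderOf t = 2 → t ∈ L := fun t ht => by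
    obtain ⟨g, hg⟩ := isConj_iff.1 (hone t ht)
    exact hg ▸ hLn.conj_mem z hzL g
  have hnc : ¬ IsMulCommutative L := fun h => hab (congrArg Subtype.val
    (h.is_comm.comm ⟨a, hinv a ha2⟩ ⟨b, hinv b hb2⟩))
  have hsimple : IsSimpleGroup L := by
    haveI : Nontrivial L := ⟨⟨⟨z, hzL⟩, 1, fun h => invol_ne_one hz (congrArg Subtype.val h)⟩⟩
    refine ⟨fun M hM => or_iff_not_imp_left.2 fun hMne => ?_⟩
    obtain ⟨M₀, hle, hM₀⟩ := Base.exists_isMinimalNormal_le (N := M) hMne
    haveI hM₀n := hM₀.normal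
    set M' := M₀.map L.subtype with hM'
    have hzM : z ∈ M' := hcont M₀ hM₀n hM₀.ne_bot
    have hMn' : M'.Normal := by
      refine ⟨fun m hm g => ?_⟩
      set φ : L ≃* L := MulAut.conjNormal g
      have hM₁ := hcont (M₀.map φ.toMonoidHom) (hM₀n.map _ φ.surjective)
        (fun h => hM₀.ne_bot ((map_eq_bot_iff_of_injective M₀ φ.injective).1 h))
      obtain ⟨v, hv, hvz⟩ := hM₁
      -- both minimal normal subgroups contain `z`
      have hvM : v ∈ M₀ := by
        obtain ⟨u, hu, huz⟩ := hzM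
        rwa [show v = u from Subtype.ext (hvz.trans huz.symm)]
      have hmin1 : M₀.map φ.toMonoidHom ⊓ M₀ ≠ ⊥ := fun h => invol_ne_one hz (by
        rw [← hvz, show v = 1 from mem_bot.1 (h.le ⟨hv, hvM⟩)]; rfl)
      haveI : (M₀.map φ.toMonoidHom).Normal := hM₀n.map _ φ.surjective
      have hle' : M₀ ≤ M₀.map φ.toMonoidHom :=
        (hM₀.le_or_inf_eq_bot _).resolve_right fun h => hmin1 (by rw [inf_comm]; exact h)
      have heq : M₀ = M₀.map φ.toMonoidHom :=
        eq_of_le_of_card_ge hle' (Subgroup.card_map_of_injective φ.injective).le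
      obtain ⟨u, hu, rfl⟩ := hm
      exact ⟨φ u, heq.ge ⟨u, hu, rfl⟩, MulAut.conjNormal_apply g u⟩
    rcases hLmin.eq_bot_or_eq hMn' (map_subtype_le _) with h | h
    · exact absurd (h.le hzM) (fun h' => invol_ne_one hz (mem_bot.1 h'))
    · refine top_le_iff.1 (le_trans ?_ hle)
      intro v _
      obtain ⟨u, hu, e⟩ := h.ge v.2
      rwa [show v = u from Subtype.ext e.symm]
  refine ⟨L, hLn, ?_, hsimple, hnc⟩
  rw [← Nat.not_even_iff_odd]
  intro hev
  set π := QuotientGroup.mk' L
  have hsurj : Function.Surjective π := QuotientGroup.mk'_surjective L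
  have hcyc : IsCyclic (((S.mapSurjective hsurj : Sylow 2 (G ⧸ L))) : Subgroup (G ⧸ L)) := by
    have hle : (S : Subgroup G) ≤ (zpowers (π x)).comap π :=
      hgen _ (fun t _ ht => by
        show π t ∈ zpowers (π x)
        rw [show π t = 1 from (QuotientGroup.eq_one_iff t).2 (hinv t ht)]
        exact one_mem _) (mem_zpowers _)
    have hle' : ((S.mapSurjective hsurj : Sylow 2 (G ⧸ L)) : Subgroup (G ⧸ L)) ≤ zpowers (π x) := by
      rw [Sylow.coe_mapSurjective, map_le_iff_le_comap]
      exact hle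
    exact isCyclic_of_injective (inclusion hle') (inclusion_injective hle')
  obtain ⟨H, hH⟩ := Cfsg.Agent.S0219.result (by rwa [← index_eq_card]) (S.mapSurjective hsurj) hcyc
  exact hG (H.comap π) (by rwa [index_comap_of_surjective _ hsurj])

/-- `G / O(G)` has a non-abelian simple normal subgroup of odd index. -/
theorem exists_simple_of_qd_or_wr (S : Sylow 2 G)
    (hS : IsQuasiDihedral (S : Subgroup G) ∨ IsWreathed (S : Subgroup G))
    (hG : ∀ H : Subgroup G, H.index ≠ 2) :
    ∃ L : Subgroup (G ⧸ oddCore G), L.Normal ∧ Odd L.index ∧ IsSimpleGroup L ∧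
      ¬ IsMulCommutative L := by
  haveI : (oddCore G).Normal := pPrimeCore_normal 2 G
  set π := QuotientGroup.mk' (oddCore G) with hπ
  have hsurj : Function.Surjective π := QuotientGroup.mk'_surjective _
  set S' := S.mapSurjective hsurj with hS'
  have hO : oddCore (G ⧸ oddCore G) = ⊥ := Base.pPrimeCore_quotient_pPrimeCore 2 G
  have hG' : ∀ H : Subgroup (G ⧸ oddCore G), H.index ≠ 2 := fun H hH =>
    hG (H.comap π) (by rwa [index_comap_of_surjective _ hsurj])
  have hinj : Function.Injective (π.comp (S : Subgroup G).subtype) := by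
    rw [← MonoidHom.ker_eq_bot_iff, eq_bot_iff]
    intro a ha
    have h1 : (a : G) ∈ (S : Subgroup G) ⊓ oddCore G :=
      ⟨a.2, (QuotientGroup.eq_one_iff (a : G)).1 ha⟩
    rw [Base.inf_eq_bot_of_isPGroup_of_coprime S.isPGroup' (Base.pPrimeCore_coprime 2 G)] at h1
    exact Subtype.ext (mem_bot.1 h1)
  let e : (S : Subgroup G) ≃* (S' : Subgroup (G ⧸ oddCore G)) :=
    (MonoidHom.ofInjective hinj).trans (MulEquiv.subgroupCongr (by
      rw [MonoidHom.range_eq_map, ← Subgroup.map_map, ← MonoidHom.range_eq_map, range_subtype,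
        hS', Sylow.coe_mapSurjective]))
  rcases hS with h | h
  · obtain ⟨d₀⟩ := nonempty_qd h
    set d := d₀.map e
    obtain ⟨hT, -⟩ := d.pattern_of_no_index_two hG'
    refine exists_simple_of_one_class hO hG' S' (SetLike.coe_mem d.z) d.orderOf_coe_z
      (fun s hs => congrArg Subtype.val (d.commute_z ⟨s, hs⟩).eq.symm) ?_ ?_
      (SetLike.coe_mem (d.x ^ (0 : ℤ) * d.y)) (SetLike.coe_mem (d.x ^ (2 : ℤ) * d.y))
      (by rw [Subgroup.orderOf_coe, d.orderOf_refl_even Even.zero])
      (by rw [Subgroup.orderOf_coe, d.orderOf_refl_even even_two]) ?_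
      (SetLike.coe_mem d.x) ?_
    · intro t ht
      obtain ⟨g, hg⟩ := exists_conj_mem_sylow_one S' ht
      refine IsConj.trans ?_ (isConj_iff.2 ⟨g, rfl⟩ : IsConj t (g * t * g⁻¹)).symm
      rcases d.invol_cases (g := ⟨_, hg⟩) (by rw [Subgroup.orderOf_mk]; exact conj_invol g ht) with
        e | ⟨i, hi, e⟩ <;> replace e := congrArg Subtype.val e <;> simp only at e <;> rw [e]
      obtain ⟨c, -, hc, -⟩ := hT i hi
      exact isConj_iff.2 ⟨c, hc⟩
    · intro w hw hw2 hall
      rcases d.invol_cases (g := ⟨w, hw⟩) (by rw [Subgroup.orderOf_mk]; exact hw2) with e | ⟨i, hi, e⟩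
      · exact congrArg Subtype.val e
      · exfalso
        have h1 := hall (↑(d.x ^ (i + 2) * d.y) : G ⧸ oddCore G) (SetLike.coe_mem _)
          (by rw [Subgroup.orderOf_coe, d.orderOf_refl_even (hi.add even_two)])
        have h2 : Commute (d.x ^ (i + 2) * d.y) (d.x ^ i * d.y) := by
          refine (Subtype.ext ?_ : Commute (d.x ^ i * d.y) (d.x ^ (i + 2) * d.y)).symm
          rw [← e]
          exact h1.eq
        rcases d.commute_refl h2 with h3 | h3 | h3 | h3
        · exact d.refl_not_mem (i + 2) (h3 ▸ one_mem _)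
        · exact d.refl_not_mem (i + 2) (h3 ▸ zpow_mem (mem_zpowers _) _)
        · rw [mul_left_inj, d.zpow_x_inj] at h3
          have := Int.le_of_dvd (by norm_num : (0:ℤ) < 2) (by simpa using h3)
          have := d.half_pos
          have := d.four_dvd_half
          omega
        · rw [mul_assoc (d.x ^ i), (d.commute_z d.y).eq, ← mul_assoc, mul_left_inj,
            show d.z = d.x ^ d.half from rfl, ← zpow_add, d.zpow_x_inj] at h3
          obtain ⟨c, hc⟩ := h3
          obtain ⟨f, hf⟩ := d.four_dvd_half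
          rw [hf, show 2 * (4 * f) * c = 8 * (f * c) by ring] at hc
          omega
    · intro h
      have h2 : Commute (d.x ^ (2 : ℤ) * d.y) (d.x ^ (0 : ℤ) * d.y) := (Subtype.ext h.eq).symm
      rcases d.commute_refl h2 with h3 | h3 | h3 | h3
      · exact d.refl_not_mem 2 (h3 ▸ one_mem _)
      · exact d.refl_not_mem 2 (h3 ▸ zpow_mem (mem_zpowers _) _)
      · rw [mul_left_inj, d.zpow_x_inj] at h3
        have := Int.le_of_dvd (by norm_num : (0:ℤ) < 2) (by simpa using h3)
        have := d.half_pos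
        have := d.four_dvd_half
        omega
      · rw [mul_assoc (d.x ^ (0 : ℤ)), (d.commute_z d.y).eq, ← mul_assoc, mul_left_inj,
          show d.z = d.x ^ d.half from rfl, ← zpow_add, d.zpow_x_inj] at h3
        obtain ⟨c, hc⟩ := h3
        obtain ⟨f, hf⟩ := d.four_dvd_half
        rw [hf, show 2 * (4 * f) * c = 8 * (f * c) by ring] at hc
        omega
    · intro T hT2 hxT a ha
      have hy : (↑d.y : G ⧸ oddCore G) ∈ T := by
        have := hT2 (↑(d.x ^ (0 : ℤ) * d.y) : G ⧸ oddCore G) (SetLike.coe_mem _)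
          (by rw [Subgroup.orderOf_coe, d.orderOf_refl_even Even.zero])
        simpa using this
      rcases d.cover ⟨a, ha⟩ with ⟨i, h⟩ | ⟨i, h⟩ <;>
        replace h := congrArg Subtype.val h <;> simp only at h <;> rw [h]
      · rw [Subgroup.coe_zpow]; exact zpow_mem hxT i
      · rw [Subgroup.coe_mul, Subgroup.coe_zpow]; exact mul_mem (zpow_mem hxT i) hy
  · obtain ⟨d₀⟩ := nonempty_wr h
    set d := d₀.map e
    obtain ⟨hU, hV⟩ := d.pattern_of_no_index_two hG'
    refine exists_simple_of_one_class hO hG' S' (d.ZG_le d.z0_mem_ZG) d.orderOf_z0G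
      (fun s hs => d.commute_ZG d.z0_mem_ZG hs) ?_ ?_
      (d.UG_le (d.uG_mem_UG d.half 0)) (SetLike.coe_mem (d.r 0)) d.orderOf_aG (d.orderOf_rG 0) ?_
      (SetLike.coe_mem d.x) ?_
    · intro t ht
      obtain ⟨g, hg⟩ := exists_conj_mem_sylow_one S' ht
      refine IsConj.trans ?_ (isConj_iff.2 ⟨g, rfl⟩ : IsConj t (g * t * g⁻¹)).symm
      rcases d.invol_P_cases hg (conj_invol g ht) with e | e | e
      · exact e ▸ IsConj.refl _
      · exact (d.isConj_aG_z0 hU).trans e
      · exact ((d.isConj_aG_z0 hU).trans (d.isConj_aG_rG hV)).trans e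
    · intro w hw hw2 hall
      refine d.eq_z0_of_mem_ZG ?_ hw2
      exact d.mem_ZG_of_commute (k := 0) hw
        (hall _ (d.UG_le (d.uG_mem_UG d.half 0)) d.orderOf_aG)
        (hall _ (SetLike.coe_mem (d.r 0)) (d.orderOf_rG 0))
    · exact fun h => d.not_commute_a_r 0 (Subtype.ext h.eq)
    · intro T hT2 hxT a ha
      have hz : (↑d.z : G ⧸ oddCore G) ∈ T :=
        hT2 (↑d.z : G ⧸ oddCore G) (SetLike.coe_mem _) (by rw [Subgroup.orderOf_coe, d.orderOf_z])
      have hy : (↑d.y : G ⧸ oddCore G) ∈ T := by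
        rw [← d.conj_x, Subgroup.coe_mul, Subgroup.coe_mul, Subgroup.coe_inv]
        exact mul_mem (mul_mem hz hxT) (inv_mem hz)
      rcases d.cover ⟨a, ha⟩ with ⟨i, j, h⟩ | ⟨i, j, h⟩ <;>
        replace h := congrArg Subtype.val h <;> simp only at h <;> rw [h, WR.u]
      · rw [Subgroup.coe_mul, Subgroup.coe_zpow, Subgroup.coe_zpow]
        exact mul_mem (zpow_mem hxT i) (zpow_mem hy j)
      · rw [Subgroup.coe_mul, Subgroup.coe_mul, Subgroup.coe_zpow, Subgroup.coe_zpow]
        exact mul_mem (mul_mem (zpow_mem hxT i) (zpow_mem hy j)) hz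

end CfsgLib.Involutions
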