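import Cfsg.Agent.Lib.Involutions.FourSection
import Cfsg.Agent.Lib.Involutions.QuasiDihedralMax

/-!
# Local analysis in a quasi-dihedral 2-subgroup

`P` is a quasi-dihedral subgroup of a finite group `G`, `TG i` (`i` even) are its four-groups and
`QG i` (`i` odd) its quaternion subgroups of order 8.
-/

set_option autoImplicit false

namespace CfsgLib.Involutions

open Subgroup

universe u

theorem mem_zpowers_invol {G : Type*} [Group G] {z g : G} (hz : orderOf z = 2) :
    g ∈ zpowers z ↔ g = 1 ∨ g = z := by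
  refine ⟨?_, ?_⟩
  · rintro ⟨k, rfl⟩
    rcases Int.even_or_odd' k with ⟨m, rfl | rfl⟩
    · exact Or.inl (by simp only [zpow_mul, zpow_two, invol_mul_self hz, one_zpow])
    · exact Or.inr (by simp only [zpow_add, zpow_mul, zpow_two, invol_mul_self hz, one_zpow, one_mul, zpow_one])
  · rintro (rfl | rfl)
    · exact one_mem _
    · exact mem_zpowers _

theorem mem_normalizer_closure {G : Type*} [Group G] [Finite G] {g : G} {s : Set G}
    (h : ∀ a ∈ s, g * a * g⁻¹ ∈ closure s) : g ∈ normalizer (closure s : Set G) := by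
  rw [mem_normalizer_iff_map_conj_eq]
  refine eq_of_le_of_card_ge ?_ (Subgroup.card_map_of_injective (MulAut.conj g).injective).ge
  rw [MonoidHom.map_closure, closure_le]
  rintro _ ⟨a, ha, rfl⟩
  exact h a ha

namespace QD

section

variable {S : Type*} [Group S] [Finite S] (d : QD S)

theorem quat_list {i : ℤ} (hi : Odd i) {g : S} (hg : g ∈ closure {d.q, d.x ^ i * d.y}) :
    ∃ k : ℤ, g = d.q ^ k ∨ g = d.q ^ k * (d.x ^ i * d.y) := by
  set r := d.x ^ i * d.y with hr
  have hrq : ∀ k : ℤ, r * d.q ^ k = d.q ^ (-k) * r := fun k => by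
    rw [← mul_inv_eq_iff_eq_mul, ← conj_zpow, d.conj_q_refl, ← d.q_eq_inv, inv_zpow, zpow_neg]
  have hrr : r * r = d.q ^ (2 : ℤ) := by
    rw [hr, d.sq_refl, d.z_zpow_of_odd hi, zpow_two, d.q_mul_q]
  induction hg using closure_induction_left with
  | one => exact ⟨0, Or.inl (zpow_zero _).symm⟩
  | mul_left a ha b _ ih =>
    obtain ⟨k, rfl | rfl⟩ := ih <;> rcases ha with rfl | rfl
    · exact ⟨1 + k, Or.inl (by rw [zpow_one_add])⟩
    · exact ⟨-k, Or.inr (hrq k)⟩
    · exact ⟨1 + k, Or.inr (by rw [zpow_one_add, mul_assoc])⟩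
    · exact ⟨-k + 2, Or.inl (by rw [← mul_assoc, hrq, mul_assoc, hrr, zpow_add])⟩
  | inv_mul_cancel a ha b _ ih =>
    have hri : r⁻¹ = d.q ^ (-2 : ℤ) * r := by
      rw [zpow_neg, ← hrr]
      group
    obtain ⟨k, rfl | rfl⟩ := ih <;> rcases ha with rfl | rfl
    · exact ⟨-1 + k, Or.inl (by rw [zpow_add, zpow_neg_one])⟩
    · exact ⟨-2 + -k, Or.inr (by rw [hri, mul_assoc, hrq, zpow_add, mul_assoc])⟩
    · exact ⟨-1 + k, Or.inr (by rw [zpow_add, zpow_neg_one, mul_assoc])⟩
    · exact ⟨-2 + -k + 2, Or.inl (by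
        rw [hri, mul_assoc, ← mul_assoc r, hrq, mul_assoc, hrr, zpow_add, zpow_add, mul_assoc])⟩

end

variable {G : Type u} [Group G] [Finite G] {P : Subgroup G} (d : QD P)

/-- The four-groups. -/
def TG (i : ℤ) : Subgroup G := closure {((d.z : P) : G), ((d.x ^ i * d.y : P) : G)}

/-- The quaternion subgroups of order eight. -/
def QG (i : ℤ) : Subgroup G := closure {((d.q : P) : G), ((d.x ^ i * d.y : P) : G)}

theorem QG_eq_map (i : ℤ) : d.QG i = (closure {d.q, d.x ^ i * d.y}).map P.subtype := by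
  rw [MonoidHom.map_closure, Set.image_pair]; rfl

omit [Finite G] in
theorem orderOf_coe_z : orderOf ((d.z : P) : G) = 2 := by rw [Subgroup.orderOf_coe, d.orderOf_z]

theorem mem_TG {i : ℤ} (hi : Even i) {g : G} :
    g ∈ d.TG i ↔ g = 1 ∨ g = ((d.z : P) : G) ∨ g = ((d.x ^ i * d.y : P) : G) ∨
      g = ((d.z * (d.x ^ i * d.y) : P) : G) := by
  refine mem_closure_commute_pair d.orderOf_coe_z ?_ ?_
  · rw [Subgroup.orderOf_coe, d.orderOf_refl_even hi]
  · exact congrArg Subtype.val (d.commute_z _).eq.symm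

theorem TG_le (i : ℤ) : d.TG i ≤ P := by
  rw [TG, closure_le]
  rintro a (rfl | rfl) <;> exact SetLike.coe_mem _

theorem QG_le (i : ℤ) : d.QG i ≤ P := by
  rw [QG, closure_le]
  rintro a (rfl | rfl) <;> exact SetLike.coe_mem _

theorem klein_eq {T : Subgroup G} (hTP : T ≤ P) (hT : IsKleinFour T) :
    ∃ i : ℤ, Even i ∧ T = d.TG i := by
  have hT' : IsKleinFour (T.subgroupOf P) :=
    ⟨(Nat.card_congr (subgroupOfEquivOfLe hTP).toEquiv).trans IsKleinFour.card_four,
      (Monoid.exponent_eq_of_mulEquiv (subgroupOfEquivOfLe hTP)).trans IsKleinFour.exponent_two⟩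
  obtain ⟨i, hi, -, hTC⟩ := d.exists_klein_eq hT'
  refine ⟨i, hi, ?_⟩
  ext g
  rw [d.mem_TG hi]
  constructor
  · intro hg
    have h : (⟨g, hTP hg⟩ : P) ∈ T.subgroupOf P := hg
    rw [hTC, d.mem_centralizer_refl] at h
    rcases h with h | h | h | h <;> have h := congrArg Subtype.val h
    · exact Or.inl h
    · exact Or.inr (Or.inl h)
    · exact Or.inr (Or.inr (Or.inl h))
    · exact Or.inr (Or.inr (Or.inr (h.trans (congrArg Subtype.val (d.commute_z _).eq))))
  · intro h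
    have key : ∀ a : P, a ∈ centralizer ({d.x ^ i * d.y} : Set P) → (a : G) ∈ T := fun a ha => by
      rw [← hTC] at ha; exact ha
    rcases h with rfl | rfl | rfl | rfl
    · exact one_mem _
    · exact key _ (d.mem_centralizer_refl.2 (Or.inr (Or.inl rfl)))
    · exact key _ (d.mem_centralizer_refl.2 (Or.inr (Or.inr (Or.inl rfl))))
    · exact key _ (d.mem_centralizer_refl.2 (Or.inr (Or.inr (Or.inr (d.commute_z _).eq.symm))))

theorem quat_eq {Q : Subgroup G} (hQP : Q ≤ P) (e : Q ≃* QuaternionGroup 2) :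
    ∃ i : ℤ, Odd i ∧ Q = d.QG i := by
  obtain ⟨i, hi, -, -, hQ⟩ := d.exists_quat_eq ((subgroupOfEquivOfLe hQP).trans e)
  refine ⟨i, hi, ?_⟩
  rw [d.QG_eq_map, ← hQ, map_subgroupOf_eq_of_le hQP]

/-- The self-centralizing subgroups with an automorphism of odd order are the four-groups and
the quaternion groups of order eight. -/
theorem centric_cases {D : Subgroup G} (hD : CentricIn D P) {y : G}
    (hy : y ∈ normalizer (D : Set G)) (hodd : Odd (orderOf y)) :
    (∀ a ∈ D, Commute y a) ∨ (∃ i : ℤ, Even i ∧ D = d.TG i) ∨ ∃ i : ℤ, Odd i ∧ D = d.QG i := by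
  obtain ⟨hDP, hcen⟩ := hD
  set X := D.subgroupOf P with hX
  have hXD : X.map P.subtype = D := map_subgroupOf_eq_of_le hDP
  have hp : IsPGroup 2 D := (d.isPGroup).to_le hDP
  have hzX : d.z ∈ X := mem_subgroupOf.2 (hcen _ d.z.2 (mem_centralizer_iff.2 fun a ha =>
    congrArg Subtype.val (d.commute_z (⟨a, hDP ha⟩ : P)).eq))
  -- conjugation by `y` as a map on `X`
  have hconj : ∀ a ∈ X, ∃ b ∈ X, (b : G) = y * a * y⁻¹ := fun a ha =>
    ⟨⟨_, hDP ((mem_normalizer_iff.1 hy _).1 (mem_subgroupOf.1 ha))⟩,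
      mem_subgroupOf.2 ((mem_normalizer_iff.1 hy _).1 (mem_subgroupOf.1 ha)), rfl⟩
  by_cases hXx : X ≤ zpowers d.x
  · left
    haveI : IsCyclic X := isCyclic_of_injective (inclusion hXx) (inclusion_injective hXx)
    haveI : IsCyclic D := isCyclic_of_surjective (subgroupOfEquivOfLe hDP).toMonoidHom
      (subgroupOfEquivOfLe hDP).surjective
    exact commute_of_cyclic hp hodd fun a ha => (mem_normalizer_iff.1 hy a).1 ha
  obtain ⟨r, hrX, hrx⟩ := SetLike.not_le_iff_exists.1 hXx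
  obtain ⟨i, rfl⟩ : ∃ i : ℤ, r = d.x ^ i * d.y := by
    rcases d.cover r with ⟨i, rfl⟩ | h
    · exact absurd (zpow_mem (mem_zpowers _) _) hrx
    · exact h
  set C := X ⊓ zpowers d.x with hC
  haveI : IsCyclic C := isCyclic_of_injective (inclusion (inf_le_right : C ≤ zpowers d.x))
    (inclusion_injective _)
  obtain ⟨⟨w, hwC⟩, hw⟩ := IsCyclic.exists_generator (α := C)
  have hCw : ∀ c ∈ C, c ∈ zpowers w := fun c hc => by
    obtain ⟨k, hk⟩ := hw ⟨c, hc⟩
    exact ⟨k, congrArg Subtype.val hk⟩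
  have hXcases : ∀ a ∈ X, a ∈ C ∨ ∃ c ∈ C, a = c * (d.x ^ i * d.y) := fun a ha => by
    by_cases hax : a ∈ zpowers d.x
    · exact Or.inl ⟨ha, hax⟩
    · refine Or.inr ⟨a * (d.x ^ i * d.y)⁻¹, ⟨X.mul_mem ha (X.inv_mem hrX), ?_⟩,
        (inv_mul_cancel_right _ _).symm⟩
      exact (mul_mem_iff_of_index_two d.index_zpowers).2
        (iff_of_false hax (fun h => hrx ((Subgroup.inv_mem_iff _).1 h)))
  -- if `y` fixes the cyclic subgroup it centralises `D`
  have stab : (∀ b ∈ X, (b : G) = y * w * y⁻¹ → b ∈ zpowers d.x) → ∀ a ∈ D, Commute y a := by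
    intro hfix
    obtain ⟨b, hbX, hb⟩ := hconj w hwC.1
    set CG := C.map P.subtype with hCG
    have hCGn : ∀ a ∈ CG, y * a * y⁻¹ ∈ CG := by
      rintro _ ⟨c, hc, rfl⟩
      obtain ⟨k, rfl⟩ := hCw c hc
      refine ⟨b ^ k, zpow_mem (show b ∈ C from ⟨hbX, hfix b hbX hb⟩) k, ?_⟩
      show ((b ^ k : P) : G) = y * ((w ^ k : P) : G) * y⁻¹
      rw [Subgroup.coe_zpow, Subgroup.coe_zpow, hb, conj_zpow]
    haveI : IsCyclic CG := isCyclic_of_surjective (C.equivMapOfInjective P.subtype P.subtype_injective).toMonoidHom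
      (C.equivMapOfInjective P.subtype P.subtype_injective).surjective
    have hCGD : CG ≤ D := hXD ▸ map_mono inf_le_left
    have hCGp : IsPGroup 2 CG := hp.to_le hCGD
    have hfixC := commute_of_cyclic hCGp hodd hCGn
    have hiff : ∀ a ∈ X, ∀ e ∈ X, (e : G) = y * a * y⁻¹ → (a ∈ C ↔ e ∈ C) := by
      intro a ha e he hea
      constructor
      · intro haC
        have h1 : y * (a : G) * y⁻¹ = a :=
          mul_inv_eq_iff_eq_mul.2 (hfixC _ ⟨a, haC, rfl⟩).eq
        rwa [show e = a from Subtype.ext (hea.trans h1)]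
      · intro heC
        have h1 : Commute y⁻¹ (e : G) := (hfixC _ ⟨e, heC, rfl⟩).inv_left
        have h2 : (a : G) = e := by
          calc (a : G) = y⁻¹ * (y * a * y⁻¹) * y := by group
            _ = y⁻¹ * e * y := by rw [hea]
            _ = e := by rw [h1.eq, inv_mul_cancel_right]
        rwa [show a = e from Subtype.ext h2]
    intro a ha
    have hfixC' : ∀ c ∈ CG, Commute y c := hfixC
    obtain ⟨e, heX, he⟩ := hconj ⟨a, hDP ha⟩ (mem_subgroupOf.2 ha)
    refine commute_of_stab (W := CG) hCGp hodd hfixC'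
      ⟨e * (⟨a, hDP ha⟩ : P)⁻¹, ⟨X.mul_mem heX (X.inv_mem (mem_subgroupOf.2 ha)), ?_⟩, ?_⟩
    · refine (mul_mem_iff_of_index_two d.index_zpowers).2 ?_
      rw [Subgroup.inv_mem_iff]
      have hvX : (⟨a, hDP ha⟩ : P) ∈ X := mem_subgroupOf.2 ha
      have := hiff ⟨a, hDP ha⟩ hvX e heX he
      exact ⟨fun h => (this.2 ⟨heX, h⟩).2, fun h => (this.1 ⟨hvX, h⟩).2⟩
    · show ((e * (⟨a, hDP ha⟩ : P)⁻¹ : P) : G) = _
      rw [Subgroup.coe_mul, he]
      rfl
  -- orders
  have hordw : ∀ b ∈ X, (b : G) = y * w * y⁻¹ → orderOf b = orderOf w := fun b _ hb => by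
    rw [← Subgroup.orderOf_coe, hb, orderOf_conj_eq, Subgroup.orderOf_coe]
  rcases le_or_gt (orderOf w) 4 with hle | hgt
  swap
  · left
    refine stab fun b hbX hb => ?_
    rcases d.cover b with ⟨k, rfl⟩ | ⟨k, rfl⟩
    · exact zpow_mem (mem_zpowers _) _
    · exfalso
      have := hordw _ hbX hb
      rcases Int.even_or_odd k with hk | hk
      · rw [d.orderOf_refl_even hk] at this; omega
      · rw [d.orderOf_refl_odd hk] at this; omega
  obtain ⟨k, -, hk⟩ : ∃ k, k ≤ d.n + 1 ∧ orderOf w = 2 ^ k :=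
    (Nat.dvd_prime_pow Nat.prime_two).1 (d.card_eq ▸ orderOf_dvd_natCard w)
  have hzC : d.z ∈ C := ⟨hzX, zpow_mem (mem_zpowers _) _⟩
  have hk' : k = 1 ∨ k = 2 := by
    rcases Nat.lt_or_ge k 1 with h | h
    · exfalso
      obtain rfl : k = 0 := by omega
      rw [pow_zero, orderOf_eq_one_iff] at hk
      have := hCw _ hzC
      rw [hk, zpowers_one_eq_bot, mem_bot] at this
      exact d.z_ne_one this
    · have : k ≤ 2 := by
        by_contra h'
        have : 2 ^ 3 ≤ 2 ^ k := Nat.pow_le_pow_right two_pos (by omega)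
        omega
      omega
  rcases hk' with rfl | rfl
  · -- `C = ⟨z⟩`
    have hwz : w = d.z := by
      rcases (mem_zpowers_invol (by simpa using hk)).1 (hCw _ hzC) with h | h
      · exact absurd h d.z_ne_one
      · exact h.symm
    have hX4 : ∀ a ∈ X, a = 1 ∨ a = d.z ∨ a = d.x ^ i * d.y ∨ a = d.z * (d.x ^ i * d.y) := by
      intro a ha
      rcases hXcases a ha with h | ⟨c, hc, rfl⟩
      · rcases (mem_zpowers_invol (by simpa using hk)).1 (hCw _ h) with h1 | h1
        · exact Or.inl h1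
        · exact Or.inr (Or.inl (h1.trans hwz))
      · rcases (mem_zpowers_invol (by simpa using hk)).1 (hCw _ hc) with h1 | h1
        · exact Or.inr (Or.inr (Or.inl (by rw [h1, one_mul])))
        · exact Or.inr (Or.inr (Or.inr (by rw [h1, hwz])))
    rcases Int.even_or_odd i with hi | hi
    · refine Or.inr (Or.inl ⟨i, hi, le_antisymm (fun g hg => ?_) ?_⟩)
      · rw [d.mem_TG hi]
        rcases hX4 ⟨g, hDP hg⟩ (mem_subgroupOf.2 hg) with h | h | h | h <;>
          have h := congrArg Subtype.val h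
        · exact Or.inl h
        · exact Or.inr (Or.inl h)
        · exact Or.inr (Or.inr (Or.inl h))
        · exact Or.inr (Or.inr (Or.inr h))
      · rw [TG, closure_le]
        rintro a (rfl | rfl)
        · exact mem_subgroupOf.1 hzX
        · exact mem_subgroupOf.1 hrX
    · left
      have hrr : (d.x ^ i * d.y) * (d.x ^ i * d.y) = d.z := by rw [d.sq_refl, d.z_zpow_of_odd hi]
      have hXr : X ≤ zpowers (d.x ^ i * d.y) := fun a ha => by
        have hz' : d.z ∈ zpowers (d.x ^ i * d.y) := ⟨2, (zpow_two _).trans hrr⟩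
        rcases hX4 a ha with rfl | rfl | rfl | rfl
        · exact one_mem _
        · exact hz'
        · exact mem_zpowers _
        · exact mul_mem hz' (mem_zpowers _)
      haveI : IsCyclic X := isCyclic_of_injective (inclusion hXr) (inclusion_injective hXr)
      haveI : IsCyclic D := isCyclic_of_surjective (subgroupOfEquivOfLe hDP).toMonoidHom
        (subgroupOfEquivOfLe hDP).surjective
      exact commute_of_cyclic hp hodd fun a ha => (mem_normalizer_iff.1 hy a).1 ha
  · -- `C = ⟨q⟩`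
    have hq : d.q ∈ C ∧ ∀ c ∈ C, c ∈ zpowers d.q := by
      rcases d.four_cases (by simpa using hk) with h | h | ⟨j, -, h⟩
      · exact ⟨h ▸ hwC, fun c hc => h ▸ hCw c hc⟩
      · rw [← d.q_eq_inv] at h
        refine ⟨inv_inv d.q ▸ h ▸ inv_mem hwC, fun c hc => ?_⟩
        have := hCw c hc
        rwa [h, zpowers_inv] at this
      · exact absurd (h ▸ hwC.2) (d.refl_not_mem j)
    rcases Int.even_or_odd i with hi | hi
    · left
      refine stab fun b hbX hb => ?_
      by_contra hbx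
      rcases hXcases b hbX with h | ⟨c, hc, rfl⟩
      · exact hbx h.2
      obtain ⟨m, rfl⟩ := hq.2 c hc
      have hev : Even ((2 : ℤ) ^ (d.n - 2) * m + i) :=
        ((even_iff_two_dvd.2 (dvd_pow_self 2 (by have := d.three_le; omega))).mul_right m).add hi
      have e : d.q ^ m * (d.x ^ i * d.y) = d.x ^ ((2 : ℤ) ^ (d.n - 2) * m + i) * d.y := by
        rw [zpow_add, zpow_mul, mul_assoc]; rfl
      have := hordw _ hbX hb
      rw [hk, e, d.orderOf_refl_even hev] at this
      norm_num at this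
    · refine Or.inr (Or.inr ⟨i, hi, le_antisymm (fun g hg => ?_) ?_⟩)
      · rw [d.QG_eq_map]
        refine ⟨⟨g, hDP hg⟩, ?_, rfl⟩
        have hqm : d.q ∈ closure {d.q, d.x ^ i * d.y} := subset_closure (by simp)
        have htm : d.x ^ i * d.y ∈ closure {d.q, d.x ^ i * d.y} := subset_closure (by simp)
        rcases hXcases ⟨g, hDP hg⟩ (mem_subgroupOf.2 hg) with h | ⟨c, hc, h⟩
        · exact (zpowers_le.2 hqm) (hq.2 _ h)
        · rw [h]; exact mul_mem ((zpowers_le.2 hqm) (hq.2 _ hc)) htm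
      · rw [QG, closure_le]
        rintro a (rfl | rfl)
        · exact mem_subgroupOf.1 hq.1.1
        · exact mem_subgroupOf.1 hrX

/-- The elements of a quaternion subgroup modulo its centre. -/
theorem QG_mem_cases {i : ℤ} (hi : Odd i) {g : G} (hg : g ∈ d.QG i) :
    g ∈ zpowers ((d.z : P) : G) ∨
      ∃ v : P, (v = d.q ∨ v = d.x ^ i * d.y ∨ v = d.q * (d.x ^ i * d.y)) ∧
        g * ((v : P) : G)⁻¹ ∈ zpowers ((d.z : P) : G) := by
  rw [d.QG_eq_map] at hg
  obtain ⟨g, hg, rfl⟩ := hg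
  have hz : ∀ m : ℤ, ((d.q ^ (2 * m) : P) : G) ∈ zpowers ((d.z : P) : G) := fun m => by
    rw [zpow_mul, zpow_two, d.q_mul_q, Subgroup.coe_zpow]
    exact zpow_mem (mem_zpowers _) m
  have hz' : ∀ (m : ℤ) (v : P), ((d.q ^ (2 * m) * v : P) : G) * ((v : P) : G)⁻¹
      ∈ zpowers ((d.z : P) : G) := fun m v => by
    rw [Subgroup.coe_mul, mul_inv_cancel_right]
    exact hz m
  obtain ⟨k, rfl | rfl⟩ := d.quat_list hi hg <;> rcases Int.even_or_odd' k with ⟨m, rfl | rfl⟩
  · exact Or.inl (hz m)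
  · refine Or.inr ⟨_, Or.inl rfl, ?_⟩
    show ((d.q ^ (2 * m + 1) : P) : G) * _ ∈ _
    rw [zpow_add_one]
    exact hz' m _
  · exact Or.inr ⟨_, Or.inr (Or.inl rfl), hz' m _⟩
  · refine Or.inr ⟨_, Or.inr (Or.inr rfl), ?_⟩
    show ((d.q ^ (2 * m + 1) * (d.x ^ i * d.y) : P) : G) * _ ∈ _
    rw [zpow_add_one, mul_assoc]
    exact hz' m _

theorem sq_gen {i : ℤ} (hi : Odd i) {v : P}
    (hv : v = d.q ∨ v = d.x ^ i * d.y ∨ v = d.q * (d.x ^ i * d.y)) : v * v = d.z := by
  rcases hv with rfl | rfl | rfl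
  · exact d.q_mul_q
  · rw [d.sq_refl, d.z_zpow_of_odd hi]
  · rw [show d.q * (d.x ^ i * d.y) = d.x ^ ((2 : ℤ) ^ (d.n - 2) + i) * d.y by
      rw [zpow_add, mul_assoc]; rfl, d.sq_refl, d.z_zpow_of_odd]
    exact (even_iff_two_dvd.2 (dvd_pow_self 2 (by have := d.three_le; omega))).add_odd hi

theorem eq_z_of_invol {i : ℤ} (hi : Odd i) {g : G} (hg : g ∈ d.QG i) (h2 : orderOf g = 2) :
    g = ((d.z : P) : G) := by
  rcases d.QG_mem_cases hi hg with h | ⟨v, hv, h⟩
  · exact ((mem_zpowers_invol d.orderOf_coe_z).1 h).resolve_left (invol_ne_one h2)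
  · exfalso
    have hvv : ((v : P) : G) * (v : G) = ((d.z : P) : G) := congrArg Subtype.val (d.sq_gen hi hv)
    have hzv : Commute ((d.z : P) : G) (v : G) := congrArg Subtype.val (d.commute_z v).eq.symm
    have hne := invol_ne_one d.orderOf_coe_z
    rcases (mem_zpowers_invol d.orderOf_coe_z).1 h with h1 | h1
    · rw [mul_inv_eq_one] at h1
      exact hne (hvv ▸ h1 ▸ invol_mul_self h2)
    · rw [mul_inv_eq_iff_eq_mul] at h1
      have := invol_mul_self h2
      rw [h1, hzv.symm.mul_mul_mul_comm, invol_mul_self d.orderOf_coe_z, hvv, one_mul] at this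
      exact hne this

theorem conj_z_of_normalizer {i : ℤ} (hi : Odd i) {n : G}
    (hn : n ∈ normalizer (d.QG i : Set G)) : n * ((d.z : P) : G) * n⁻¹ = ((d.z : P) : G) := by
  have hzQ : ((d.z : P) : G) ∈ d.QG i := by
    rw [← d.q_mul_q, Subgroup.coe_mul]
    exact mul_mem (subset_closure (by simp)) (subset_closure (by simp))
  exact d.eq_z_of_invol hi ((mem_normalizer_iff.1 hn _).1 hzQ) (conj_invol n d.orderOf_coe_z)

/-- The four-section of a quaternion subgroup. -/
theorem tri_QG {i : ℤ} (hi : Odd i) :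
    Tri (normalizer (d.QG i : Set G)) (zpowers ((d.z : P) : G)) ((d.q : P) : G)
      ((d.x ^ i * d.y : P) : G) := by
  have hqQ : ((d.q : P) : G) ∈ d.QG i := subset_closure (by simp)
  have hrQ : ((d.x ^ i * d.y : P) : G) ∈ d.QG i := subset_closure (by simp)
  have hne := invol_ne_one d.orderOf_coe_z
  have hnotW : ∀ v : P, v = d.q ∨ v = d.x ^ i * d.y ∨ v = d.q * (d.x ^ i * d.y) →
      (v : G) ∉ zpowers ((d.z : P) : G) := fun v hv h => by
    have hvv : (v : G) * (v : G) = ((d.z : P) : G) := congrArg Subtype.val (d.sq_gen hi hv)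
    rcases (mem_zpowers_invol d.orderOf_coe_z).1 h with h1 | h1
    · exact hne (by rw [← hvv, h1, one_mul])
    · exact hne (by rw [← hvv, h1, invol_mul_self d.orderOf_coe_z])
  have hnormW : ∀ n ∈ normalizer (d.QG i : Set G), ∀ w ∈ zpowers ((d.z : P) : G),
      n * w * n⁻¹ ∈ zpowers ((d.z : P) : G) := by
    intro n hn w hw
    rcases (mem_zpowers_invol d.orderOf_coe_z).1 hw with rfl | rfl
    · rw [mul_one, mul_inv_cancel]; exact one_mem _
    · rw [d.conj_z_of_normalizer hi hn]; exact mem_zpowers _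
  have hinv : ∀ n ∈ normalizer (d.QG i : Set G), ∀ v : P, v = d.q ∨ v = d.x ^ i * d.y →
      (n * (v : G) * n⁻¹ * ((d.q : P) : G)⁻¹ ∈ zpowers ((d.z : P) : G) ∨
      n * (v : G) * n⁻¹ * ((d.x ^ i * d.y : P) : G)⁻¹ ∈ zpowers ((d.z : P) : G) ∨
      n * (v : G) * n⁻¹ * (((d.q : P) : G) * ((d.x ^ i * d.y : P) : G))⁻¹
        ∈ zpowers ((d.z : P) : G)) := by
    intro n hn v hv
    have hvQ : (v : G) ∈ d.QG i := by rcases hv with rfl | rfl <;> assumption
    rcases d.QG_mem_cases hi ((mem_normalizer_iff.1 hn _).1 hvQ) with h | ⟨w, hw, h⟩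
    · refine absurd ?_ (hnotW v (hv.imp_right Or.inl))
      have := hnormW n⁻¹ (inv_mem hn) _ h
      simpa [mul_assoc] using this
    · rcases hw with rfl | rfl | rfl
      · exact Or.inl h
      · exact Or.inr (Or.inl h)
      · exact Or.inr (Or.inr h)
  have hcomm : d.q * (d.x ^ i * d.y) * d.q⁻¹ * (d.x ^ i * d.y)⁻¹ = d.z := by
    rw [mul_assoc d.q, mul_assoc d.q, ← conj_inv, d.conj_q_refl, ← d.q_eq_inv, inv_inv, d.q_mul_q]
  refine ⟨zpowers_le.2 (le_normalizer ?_), hnormW, le_normalizer hqQ, le_normalizer hrQ, ?_, ?_, ?_,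
    hnotW _ (Or.inl rfl), hnotW _ (Or.inr (Or.inl rfl)), hnotW _ (Or.inr (Or.inr rfl)),
    fun n hn => hinv n hn _ (Or.inl rfl), fun n hn => hinv n hn _ (Or.inr rfl)⟩
  · rw [← d.q_mul_q, Subgroup.coe_mul]
    exact mul_mem hqQ hqQ
  · rw [← Subgroup.coe_mul, d.sq_gen hi (Or.inl rfl)]; exact mem_zpowers _
  · rw [← Subgroup.coe_mul, d.sq_gen hi (Or.inr (Or.inl rfl))]; exact mem_zpowers _
  · rw [← Subgroup.coe_inv, ← Subgroup.coe_inv, ← Subgroup.coe_mul, ← Subgroup.coe_mul,
      ← Subgroup.coe_mul, hcomm]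
    exact mem_zpowers _

/-- `Q C(Q)` is the kernel of the action on the four-section. -/
theorem mem_QG_sup_centralizer {i : ℤ} (hi : Odd i) {n : G}
    (hn : n ∈ normalizer (d.QG i : Set G)) :
    n ∈ d.QG i ⊔ centralizer (d.QG i : Set G) ↔
      n * ((d.q : P) : G) * n⁻¹ * ((d.q : P) : G)⁻¹ ∈ zpowers ((d.z : P) : G) ∧
        n * ((d.x ^ i * d.y : P) : G) * n⁻¹ * ((d.x ^ i * d.y : P) : G)⁻¹
          ∈ zpowers ((d.z : P) : G) := by
  have t := d.tri_QG hi
  set N := normalizer (d.QG i : Set G) with hN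
  set q := ((d.q : P) : G) with hq
  set r := ((d.x ^ i * d.y : P) : G) with hr
  set z := ((d.z : P) : G) with hz
  constructor
  · intro h
    obtain ⟨H, _, _, φ, -, hker, -⟩ := t.exists_hom
    have hle : d.QG i ⊔ centralizer (d.QG i : Set G) ≤ φ.ker.map N.subtype := by
      refine sup_le ((closure_le _).2 ?_) fun c hc => ?_
      · have hqW : q * r * q⁻¹ * r⁻¹ ∈ zpowers z := t.comm
        have h2 : r * q * r⁻¹ * q⁻¹ ∈ zpowers z := by
          have := inv_mem hqW
          simpa [mul_assoc] using this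
        rintro a (rfl | rfl)
        · refine ⟨⟨q, t.memA⟩, (hker _).2 ⟨?_, hqW⟩, rfl⟩
          show q * q * q⁻¹ * q⁻¹ ∈ zpowers z
          simp
        · refine ⟨⟨r, t.memB⟩, (hker _).2 ⟨h2, ?_⟩, rfl⟩
          show r * r * r⁻¹ * r⁻¹ ∈ zpowers z
          simp
      · refine ⟨⟨c, centralizer_le_normalizer _ hc⟩, (hker _).2 ⟨?_, ?_⟩, rfl⟩ <;>
        · dsimp only
          rw [← mem_centralizer_iff.1 hc _ (subset_closure (by simp [hq, hr]))]
          simp
    obtain ⟨m, hm, rfl⟩ := hle h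
    exact (hker m).1 hm
  · rintro ⟨h1, h2⟩
    have hzq : Commute z q := congrArg Subtype.val (d.commute_z d.q).eq.symm
    have hzr : Commute z r := congrArg Subtype.val (d.commute_z (d.x ^ i * d.y)).eq.symm
    have hqr : q * r = r * q * z := by
      rw [hq, hr, hz, ← Subgroup.coe_mul, ← Subgroup.coe_mul, ← Subgroup.coe_mul]
      refine congrArg Subtype.val ?_
      symm
      calc d.x ^ i * d.y * d.q * d.z
          = (d.x ^ i * d.y * d.q * (d.x ^ i * d.y)⁻¹) * ((d.x ^ i * d.y) * d.z) := by group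
        _ = d.q * d.z * (d.z * (d.x ^ i * d.y)) := by rw [d.conj_q_refl, (d.commute_z (d.x ^ i * d.y)).eq]
        _ = d.q * (d.x ^ i * d.y) := by
          rw [mul_assoc d.q d.z, ← mul_assoc d.z d.z, invol_mul_self d.orderOf_z, one_mul]
    have hcases : ∀ a : G, Commute z a → n * a * n⁻¹ * a⁻¹ ∈ zpowers z →
        n * a * n⁻¹ = a ∨ n * a * n⁻¹ = a * z := fun a hza h => by
      rcases (mem_zpowers_invol d.orderOf_coe_z).1 h with h | h
      · exact Or.inl (mul_inv_eq_one.1 h)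
      · exact Or.inr ((mul_inv_eq_iff_eq_mul.1 h).trans hza.eq)
    obtain ⟨v, hv, hva, hvb⟩ := exists_centralizing_of_commutator hqr
      (invol_mul_self d.orderOf_coe_z) hzq hzr (hcases q hzq h1) (hcases r hzr h2)
    rw [← mul_inv_cancel_left v n]
    refine mul_mem (mem_sup_left hv) (mem_sup_right ?_)
    rw [QG, centralizer_closure, mem_centralizer_iff]
    rintro a (rfl | rfl)
    · exact hva.eq.symm
    · exact hvb.eq.symm

/-- An element of odd order in `Q C(Q)` centralises `Q`. -/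
theorem commute_QG {i : ℤ} (hi : Odd i) {y : G} (hy : y ∈ normalizer (d.QG i : Set G))
    (hodd : Odd (orderOf y)) (hyM : y ∈ d.QG i ⊔ centralizer (d.QG i : Set G)) :
    ∀ a ∈ d.QG i, Commute y a := by
  obtain ⟨h1, h2⟩ := (d.mem_QG_sup_centralizer hi hy).1 hyM
  have hW : IsPGroup 2 (zpowers ((d.z : P) : G)) :=
    IsPGroup.of_card (n := 1) (by rw [Nat.card_zpowers, d.orderOf_coe_z, pow_one])
  have hfix : ∀ w ∈ zpowers ((d.z : P) : G), Commute y w := fun w hw => by
    rcases (mem_zpowers_invol d.orderOf_coe_z).1 hw with rfl | rfl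
    · exact Commute.one_right y
    · exact mul_inv_eq_iff_eq_mul.1 (d.conj_z_of_normalizer hi hy)
  intro a ha
  have hK : d.QG i ≤ centralizer ({y} : Set G) := by
    rw [QG, closure_le]
    have hgen : ∀ v : G, Commute ((d.z : P) : G) v → y * v * y⁻¹ * v⁻¹ ∈ zpowers ((d.z : P) : G) →
        v ∈ centralizer ({y} : Set G) := fun v _ h =>
      mem_centralizer_singleton_iff.2 (commute_of_stab hW hodd hfix h).eq.symm
    rintro v (rfl | rfl)
    · exact hgen _ (congrArg Subtype.val (d.commute_z d.q).eq.symm) h1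
    · exact hgen _ (congrArg Subtype.val (d.commute_z (d.x ^ i * d.y)).eq.symm) h2
  exact (mem_centralizer_singleton_iff.1 (hK ha)).symm

theorem exists_mem_normalizer_QG {i : ℤ} (hi : Odd i) :
    ∃ s : P, (s : G) ∈ normalizer (d.QG i : Set G) ∧
      (s : G) ∉ d.QG i ⊔ centralizer (d.QG i : Set G) := by
  obtain ⟨j, hj⟩ := d.exists_conj_refl (i := i) (k := i + 2 ^ (d.n - 2)) (by
    rw [add_sub_cancel_left, even_iff_two_dvd]
    exact dvd_pow_self 2 (by have := d.three_le; omega))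
  have hja : d.x ^ j * (d.x ^ i * d.y) * (d.x ^ j)⁻¹ = d.q * (d.x ^ i * d.y) := by
    rw [hj, add_comm, zpow_add, mul_assoc]; rfl
  have h1 : ((d.x ^ j : P) : G) * ((d.q : P) : G) * ((d.x ^ j : P) : G)⁻¹ = ((d.q : P) : G) :=
    congrArg Subtype.val (show d.x ^ j * d.q * (d.x ^ j)⁻¹ = d.q by
      rw [(d.commute_q_zpow j).eq, mul_inv_cancel_right])
  have h2 : ((d.x ^ j : P) : G) * ((d.x ^ i * d.y : P) : G) * ((d.x ^ j : P) : G)⁻¹
      = ((d.q : P) : G) * ((d.x ^ i * d.y : P) : G) :=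
    congrArg Subtype.val hja
  have hN : ((d.x ^ j : P) : G) ∈ normalizer (d.QG i : Set G) := by
    refine mem_normalizer_closure ?_
    rintro a (rfl | rfl)
    · rw [h1]; exact subset_closure (by simp)
    · rw [h2]; exact mul_mem (subset_closure (by simp)) (subset_closure (by simp))
  refine ⟨d.x ^ j, hN, fun h => (d.tri_QG hi).notA ?_⟩
  have := ((d.mem_QG_sup_centralizer hi hN).1 h).2
  rwa [h2, mul_inv_cancel_right] at this

theorem relIndex_QG {i : ℤ} (hi : Odd i) :
    (d.QG i ⊔ centralizer (d.QG i : Set G)).relIndex (normalizer (d.QG i : Set G)) = 2 ∨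
      (d.QG i ⊔ centralizer (d.QG i : Set G)).relIndex (normalizer (d.QG i : Set G)) = 6 := by
  obtain ⟨s, hs, hs'⟩ := d.exists_mem_normalizer_QG hi
  obtain ⟨k, hk⟩ := d.isPGroup s
  exact (d.tri_QG hi).two_or_six (fun n hn => d.mem_QG_sup_centralizer hi hn) hs
    (congrArg Subtype.val hk) hs'

/-- The four-section of a four-group. -/
theorem tri_TG {i : ℤ} (hi : Even i) :
    Tri (normalizer (d.TG i : Set G)) ⊥ ((d.z : P) : G) ((d.x ^ i * d.y : P) : G) := by
  have hr2 : orderOf ((d.x ^ i * d.y : P) : G) = 2 := by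
    rw [Subgroup.orderOf_coe, d.orderOf_refl_even hi]
  have hzT : ((d.z : P) : G) ∈ d.TG i := subset_closure (by simp)
  have hrT : ((d.x ^ i * d.y : P) : G) ∈ d.TG i := subset_closure (by simp)
  have hinv : ∀ n ∈ normalizer (d.TG i : Set G), ∀ v : G, v ∈ d.TG i → v ≠ 1 →
      (n * v * n⁻¹ * ((d.z : P) : G)⁻¹ ∈ (⊥ : Subgroup G) ∨
      n * v * n⁻¹ * ((d.x ^ i * d.y : P) : G)⁻¹ ∈ (⊥ : Subgroup G) ∨
      n * v * n⁻¹ * (((d.z : P) : G) * ((d.x ^ i * d.y : P) : G))⁻¹ ∈ (⊥ : Subgroup G)) := by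
    intro n hn v hv hv1
    simp only [mem_bot, mul_inv_eq_one]
    rcases (d.mem_TG hi).1 ((mem_normalizer_iff.1 hn v).1 hv) with h | h | h | h
    · exact absurd (conj_eq_one_iff.1 h) hv1
    · exact Or.inl h
    · exact Or.inr (Or.inl h)
    · exact Or.inr (Or.inr h)
  refine ⟨bot_le, fun n _ w hw => by rw [mem_bot.1 hw, mul_one, mul_inv_cancel]; exact one_mem _,
    le_normalizer hzT, le_normalizer hrT, mem_bot.2 (invol_mul_self d.orderOf_coe_z),
    mem_bot.2 (invol_mul_self hr2), ?_, fun h => invol_ne_one d.orderOf_coe_z (mem_bot.1 h),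
    fun h => invol_ne_one hr2 (mem_bot.1 h), fun h => ?_,
    fun n hn => hinv n hn _ hzT (invol_ne_one d.orderOf_coe_z),
    fun n hn => hinv n hn _ hrT (invol_ne_one hr2)⟩
  · rw [mem_bot, ← Subgroup.coe_inv, ← Subgroup.coe_inv, ← Subgroup.coe_mul, ← Subgroup.coe_mul,
      ← Subgroup.coe_mul, show d.z * (d.x ^ i * d.y) * d.z⁻¹ * (d.x ^ i * d.y)⁻¹ = 1 by
        rw [← (d.commute_z _).eq, mul_inv_cancel_right, mul_inv_cancel]]
    rfl
  · rw [mem_bot, ← Subgroup.coe_mul, OneMemClass.coe_eq_one] at h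
    refine d.refl_not_mem i ?_
    rw [eq_inv_of_mul_eq_one_right h]
    exact inv_mem (zpow_mem (mem_zpowers _) _)

theorem mem_centralizer_TG {i : ℤ} {n : G} :
    n ∈ centralizer (d.TG i : Set G) ↔
      n * ((d.z : P) : G) * n⁻¹ * ((d.z : P) : G)⁻¹ ∈ (⊥ : Subgroup G) ∧
        n * ((d.x ^ i * d.y : P) : G) * n⁻¹ * ((d.x ^ i * d.y : P) : G)⁻¹ ∈ (⊥ : Subgroup G) := by
  simp only [mem_bot, mul_inv_eq_one]
  rw [TG, centralizer_closure, mem_centralizer_iff]
  constructor
  · intro h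
    exact ⟨mul_inv_eq_iff_eq_mul.2 (h _ (by simp)).symm, mul_inv_eq_iff_eq_mul.2 (h _ (by simp)).symm⟩
  · rintro ⟨h1, h2⟩ a (rfl | rfl)
    · exact (mul_inv_eq_iff_eq_mul.1 h1).symm
    · exact (mul_inv_eq_iff_eq_mul.1 h2).symm

theorem relIndex_TG {i : ℤ} (hi : Even i) :
    (centralizer (d.TG i : Set G)).relIndex (normalizer (d.TG i : Set G)) = 2 ∨
      (centralizer (d.TG i : Set G)).relIndex (normalizer (d.TG i : Set G)) = 6 := by
  obtain ⟨j, hj⟩ := d.exists_conj_refl (i := i) (k := i + d.half) (by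
    rw [add_sub_cancel_left]; exact d.even_half)
  have hja : d.x ^ j * (d.x ^ i * d.y) * (d.x ^ j)⁻¹ = d.x ^ i * d.y * d.z := by
    rw [hj, zpow_add, show d.x ^ d.half = d.z from rfl, mul_assoc, ← (d.commute_z d.y).eq,
      ← mul_assoc]
  have hN : ((d.x ^ j : P) : G) ∈ normalizer (d.TG i : Set G) := by
    refine mem_normalizer_closure ?_
    rintro a (rfl | rfl)
    · rw [← Subgroup.coe_inv, ← Subgroup.coe_mul, ← Subgroup.coe_mul,
        show d.x ^ j * d.z * (d.x ^ j)⁻¹ = d.z by rw [(d.commute_z _).eq, mul_inv_cancel_right]]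
      exact subset_closure (by simp)
    · rw [← Subgroup.coe_inv, ← Subgroup.coe_mul, ← Subgroup.coe_mul, hja, Subgroup.coe_mul _ _ d.z]
      exact mul_mem (subset_closure (by simp)) (subset_closure (by simp))
  obtain ⟨k, hk⟩ := d.isPGroup (d.x ^ j)
  refine (d.tri_TG hi).two_or_six (fun n _ => d.mem_centralizer_TG) hN (congrArg Subtype.val hk)
    fun h => d.refl_mul_z_ne i ?_
  rw [← hja]
  refine mul_inv_eq_iff_eq_mul.2 ?_
  exact Subtype.ext (mem_centralizer_iff.1 h _ (subset_closure (by simp))).symm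

/-- All four-groups of `P` are conjugate in `P`. -/
theorem exists_conj_TG {i k : ℤ} (hi : Even i) (hk : Even k) :
    ∃ s : P, (d.TG i).map (MulAut.conj (s : G)).toMonoidHom = d.TG k := by
  obtain ⟨j, hj⟩ := d.exists_conj_refl (i := i) (k := k) (hk.sub hi)
  refine ⟨d.x ^ j, ?_⟩
  rw [TG, TG, MonoidHom.map_closure, Set.image_pair]
  congr 2
  · exact congrArg Subtype.val (show d.x ^ j * d.z * (d.x ^ j)⁻¹ = d.z by
      rw [(d.commute_z _).eq, mul_inv_cancel_right])
  · exact congrArg (fun a : P => ({(a : G)} : Set G)) hj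

/-- All quaternion subgroups of order eight of `P` are conjugate in `P`. -/
theorem exists_conj_QG {i k : ℤ} (hi : Odd i) (hk : Odd k) :
    ∃ s : P, (d.QG i).map (MulAut.conj (s : G)).toMonoidHom = d.QG k := by
  obtain ⟨j, hj⟩ := d.exists_conj_refl (i := i) (k := k) (Odd.sub_odd hk hi)
  refine ⟨d.x ^ j, ?_⟩
  rw [QG, QG, MonoidHom.map_closure, Set.image_pair]
  congr 2
  · exact congrArg Subtype.val (show d.x ^ j * d.q * (d.x ^ j)⁻¹ = d.q by
      rw [(d.commute_q_zpow j).eq, mul_inv_cancel_right])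
  · exact congrArg (fun a : P => ({(a : G)} : Set G)) hj

end QD

end CfsgLib.Involutions
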