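import Cfsg.Agent.Lib.PGroups.UniqueOrderP
import Cfsg.Agent.Lib.Involutions.ZStar.BrauerSuzuki

/-!
Two-groups with a generalized quaternion quotient by a maximal subgroup of the centre.
-/

set_option autoImplicit false

namespace CfsgLib.Involutions.QuatExt

open scoped commutatorElement

variable {S : Type*} [Group S] [Finite S]

local notation "Z" => Subgroup.center S

theorem map_le_center (C : Subgroup ↥(Subgroup.center S)) : C.map (Subgroup.center S).subtype ≤ Z := by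
  rintro _ ⟨x, -, rfl⟩; exact x.2

theorem mem_map_iff {C : Subgroup ↥(Subgroup.center S)} {x : S} (hx : x ∈ Z) :
    x ∈ C.map (Subgroup.center S).subtype ↔ (⟨x, hx⟩ : ↥(Subgroup.center S)) ∈ C := by
  constructor
  · rintro ⟨y, hy, rfl⟩; exact hy
  · exact fun h => ⟨_, h, rfl⟩

theorem exists_not_mem {C : Subgroup ↥(Subgroup.center S)} (hC : IsCoatom C) :
    ∃ z ∈ Z, z ∉ C.map (Subgroup.center S).subtype := by
  obtain ⟨z, -, hz⟩ := SetLike.exists_of_lt hC.1.lt_top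
  exact ⟨z, z.2, fun h => hz ((mem_map_iff z.2).1 h)⟩

/-- Quotients with one involution: what squares into the subgroup is central. -/
theorem mem_center_of_sq {C : Subgroup ↥(Subgroup.center S)} [(C.map (Subgroup.center S).subtype).Normal]
    (hS : IsPGroup 2 S) (hC : IsCoatom C)
    (hu : ∃! x : S ⧸ C.map (Subgroup.center S).subtype, orderOf x = 2) {x : S}
    (hx : x ^ 2 ∈ C.map (Subgroup.center S).subtype) : x ∈ Z := by
  set D := C.map (Subgroup.center S).subtype with hD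
  by_cases hxD : x ∈ D
  · exact map_le_center C hxD
  obtain ⟨z, hz, hzD⟩ := exists_not_mem hC
  have hidx : C.index = 2 := CfsgLib.PGroups.index_eq_of_isCoatom (hS.to_subgroup _) hC
  have hz2 : z ^ 2 ∈ D := (mem_map_iff ((Z).pow_mem hz 2)).2 (Subgroup.sq_mem_of_index_two hidx ⟨z, hz⟩)
  have hord : ∀ y : S, y ∉ D → y ^ 2 ∈ D → orderOf (y : S ⧸ D) = 2 := fun y hy hy2 =>
    orderOf_eq_prime (by rw [← QuotientGroup.mk_pow, QuotientGroup.eq_one_iff]; exact hy2)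
      (fun h => hy ((QuotientGroup.eq_one_iff y).1 h))
  obtain ⟨w, -, hw⟩ := hu
  have h := QuotientGroup.eq.1 ((hw _ (hord z hzD hz2)).trans (hw _ (hord x hxD hx)).symm)
  have : z⁻¹ * x ∈ Z := map_le_center C h
  have := (Z).mul_mem hz this
  rwa [mul_inv_cancel_left] at this

/-- The shape of the group over its centre. -/
structure Gens (a b : S) (M : ℕ) : Prop where
  pos : 1 ≤ M
  a_pow : a ^ (2 * M) ∈ Z
  b_sq : b ^ 2 ∈ Z
  rel : b * a * b⁻¹ * a ∈ Z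
  ord : ∀ i : ℕ, a ^ i ∈ Z → 2 * M ∣ i
  out : ∀ i : ℕ, a ^ i * b ∉ Z
  gen : ∀ s : S, ∃ i : ℕ, ∃ z ∈ Z, s = a ^ i * z ∨ s = a ^ i * b * z

theorem exists_gens {C : Subgroup ↥(Subgroup.center S)} [(C.map (Subgroup.center S).subtype).Normal]
    (hS : IsPGroup 2 S) (hC : IsCoatom C)
    (hna : ¬ IsMulCommutative (S ⧸ C.map (Subgroup.center S).subtype))
    (hu : ∃! x : S ⧸ C.map (Subgroup.center S).subtype, orderOf x = 2) :
    ∃ (a b : S) (M : ℕ), Gens a b M := by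
  set D := C.map (Subgroup.center S).subtype with hD
  obtain ⟨w, hw, hwu⟩ := hu
  have huniq : ∀ y : S ⧸ D, y ^ 2 = 1 → y ∈ Subgroup.zpowers w := by
    intro y hy
    rcases eq_or_ne y 1 with rfl | h1
    · exact one_mem _
    · rw [hwu y (orderOf_eq_prime hy h1)]; exact Subgroup.mem_zpowers w
  rcases CfsgLib.PGroups.isCyclic_or_quaternion_of_unique (hS.to_quotient D) (z := w)
    (by rw [← hw, pow_orderOf_eq_one]) huniq with hcyc | ⟨-, m, hm, ⟨e⟩⟩
  · exact absurd IsCyclic.isMulCommutative hna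
  obtain ⟨a, ha⟩ := QuotientGroup.mk_surjective (e.symm (QuaternionGroup.a 1))
  obtain ⟨b, hb⟩ := QuotientGroup.mk_surjective (e.symm (QuaternionGroup.xa 0))
  obtain ⟨k, rfl⟩ : ∃ k, m = k + 1 := ⟨m - 1, by omega⟩
  have hM : 2 ≤ 2 ^ (k + 1) := by
    calc 2 = 2 ^ 1 := (pow_one 2).symm
      _ ≤ _ := Nat.pow_le_pow_right (by norm_num) (by omega)
  have hN : 2 ^ (k + 1) = 2 * 2 ^ k := pow_succ' 2 k
  -- the image of the centre
  obtain ⟨z, hz, hzD⟩ := exists_not_mem hC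
  have hcen : ∀ y : S, y ∈ Z → e (y : S ⧸ D) = 1 ∨ e (y : S ⧸ D) = QuaternionGroup.a ((2 ^ (k + 1) : ℕ) : ZMod _) := by
    intro y hy
    refine CfsgLib.Involutions.ZStar.quaternion_mul_self_eq_one
      (CfsgLib.Involutions.ZStar.quaternion_comm hM fun v => ?_)
    obtain ⟨v, rfl⟩ := e.surjective v
    obtain ⟨v, rfl⟩ := QuotientGroup.mk_surjective v
    rw [← map_mul, ← map_mul, ← QuotientGroup.mk_mul, ← QuotientGroup.mk_mul,
      Subgroup.mem_center_iff.1 hy v]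
  have hzw : e (z : S ⧸ D) = QuaternionGroup.a ((2 ^ (k + 1) : ℕ) : ZMod _) := by
    refine (hcen z hz).resolve_left fun h => hzD ?_
    rw [EmbeddingLike.map_eq_one_iff, QuotientGroup.eq_one_iff] at h
    exact h
  have hin : ∀ y : S, (e (y : S ⧸ D) = 1 ∨ e (y : S ⧸ D) = QuaternionGroup.a ((2 ^ (k + 1) : ℕ) : ZMod _)) →
      y ∈ Z := by
    intro y hy
    rcases hy with h | h
    · rw [EmbeddingLike.map_eq_one_iff, QuotientGroup.eq_one_iff] at h
      exact map_le_center C h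
    · rw [← hzw] at h
      have h' := map_le_center C (QuotientGroup.eq.1 (e.injective h).symm)
      have := (Z).mul_mem hz h'
      rwa [mul_inv_cancel_left] at this
  have hea : ∀ i : ℕ, e ((a ^ i : S) : S ⧸ D) = QuaternionGroup.a (i : ZMod (2 * 2 ^ (k + 1))) := fun i => by
    rw [QuotientGroup.mk_pow, map_pow, ha, e.apply_symm_apply, QuaternionGroup.a_one_pow]
  have heb : e (b : S ⧸ D) = QuaternionGroup.xa 0 := by rw [hb, e.apply_symm_apply]
  refine ⟨a, b, 2 ^ k, Nat.one_le_two_pow, hin _ (Or.inr ?_), hin _ (Or.inr ?_), hin _ (Or.inl ?_),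
    fun i hi => ?_, fun i hi => ?_, fun s => ?_⟩
  · rw [hea, hN]
  · rw [pow_two, QuotientGroup.mk_mul, map_mul, heb, QuaternionGroup.xa_mul_xa, sub_zero, add_zero]
  · rw [QuotientGroup.mk_mul, QuotientGroup.mk_mul, QuotientGroup.mk_mul, QuotientGroup.mk_inv, map_mul, map_mul,
      map_mul, map_inv, heb, ha, e.apply_symm_apply]
    rw [show (QuaternionGroup.xa 0 * QuaternionGroup.a 1 * (QuaternionGroup.xa 0)⁻¹ :
      QuaternionGroup (2 ^ (k + 1))) = QuaternionGroup.a (-1) from by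
        rw [mul_inv_eq_iff_eq_mul, QuaternionGroup.a_mul_xa, QuaternionGroup.xa_mul_a, sub_neg_eq_add],
      QuaternionGroup.a_mul_a, neg_add_cancel, QuaternionGroup.one_def]
  · rw [← hN]
    rcases hcen _ hi with h | h <;> rw [hea] at h
    · rw [QuaternionGroup.one_def, QuaternionGroup.a.injEq, ZMod.natCast_eq_zero_iff] at h
      exact (dvd_mul_left _ 2).trans h
    · rw [QuaternionGroup.a.injEq, ZMod.natCast_eq_natCast_iff] at h
      exact (Nat.modEq_zero_iff_dvd.1 ((Nat.ModEq.of_mul_left 2 h).trans (Nat.modEq_zero_iff_dvd.2 dvd_rfl)))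
  · rcases hcen _ hi with h | h <;> rw [QuotientGroup.mk_mul, map_mul, hea, heb, QuaternionGroup.a_mul_xa] at h
    · rw [QuaternionGroup.one_def] at h; cases h
    · cases h
  · obtain ⟨q, hq⟩ : ∃ q, e (s : S ⧸ D) = q := ⟨_, rfl⟩
    rcases q with j | j
    · refine ⟨j.val, (a ^ j.val)⁻¹ * s, map_le_center C (QuotientGroup.eq.1 (e.injective ?_)),
        Or.inl (by rw [mul_inv_cancel_left])⟩
      rw [hq, hea, ZMod.natCast_zmod_val]
    · refine ⟨(-j).val, (a ^ (-j).val * b)⁻¹ * s, map_le_center C (QuotientGroup.eq.1 (e.injective ?_)),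
        Or.inr (by rw [mul_inv_cancel_left])⟩
      rw [hq, QuotientGroup.mk_mul, map_mul, hea, heb, ZMod.natCast_zmod_val, QuaternionGroup.a_mul_xa]
      simp

theorem exists_cyclic_characteristic {a b : S} {M : ℕ} (h : Gens a b M) :
    ∃ K : Subgroup S, K ≠ ⊥ ∧ IsCyclic ↥K ∧ K.Characteristic := by
  obtain ⟨c, hc⟩ : ∃ c, c = b * a * b⁻¹ * a := ⟨_, rfl⟩
  have hcZ : ∀ x : S, x * c = c * x := Subgroup.mem_center_iff.1 (hc ▸ h.rel)
  obtain ⟨w, hw⟩ : ∃ w, w = b * a * b⁻¹ * a⁻¹ := ⟨_, rfl⟩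
  have hw' : w = c * (a ^ 2)⁻¹ := by rw [hw, hc]; group
  have hfa : a * w * a⁻¹ = w := by
    rw [hw', ← mul_assoc a, hcZ a]; group
  have hfb : b * w * b⁻¹ = w⁻¹ := by
    have e1 : b * a * b⁻¹ = c * a⁻¹ := by rw [hc]; group
    have e2 : b * (a ^ 2)⁻¹ * b⁻¹ = ((b * a * b⁻¹) * (b * a * b⁻¹))⁻¹ := by group
    calc b * w * b⁻¹ = b * c * (a ^ 2)⁻¹ * b⁻¹ := by rw [hw']; group
      _ = c * (b * (a ^ 2)⁻¹ * b⁻¹) := by rw [hcZ b]; group
      _ = c * (a * (c⁻¹ * a) * c⁻¹) := by rw [e2, e1]; group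
      _ = a * c * (c⁻¹ * a) * c⁻¹ := by rw [hcZ a]; group
      _ = w⁻¹ := by rw [hw']; simp [pow_two, mul_assoc]
  have hnor : (Subgroup.zpowers w).Normal := by
    refine Subgroup.normalizer_eq_top_iff.1 (eq_top_iff.2 fun s _ => ?_)
    have hmem : ∀ g : S, g * w * g⁻¹ = w ∨ g * w * g⁻¹ = w⁻¹ →
        g ∈ Subgroup.normalizer (Subgroup.zpowers w : Set S) := by
      intro g hg
      rw [Subgroup.mem_normalizer_iff_map_conj_eq, MonoidHom.map_zpowers]
      show Subgroup.zpowers (g * w * g⁻¹) = _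
      rcases hg with hg | hg <;> simp [hg]
    obtain ⟨i, z, hz, hs⟩ := h.gen s
    have hzn : z ∈ Subgroup.normalizer (Subgroup.zpowers w : Set S) :=
      hmem z (Or.inl (by rw [← Subgroup.mem_center_iff.1 hz w, mul_inv_cancel_right]))
    rcases hs with rfl | rfl
    · exact Subgroup.mul_mem _ (Subgroup.pow_mem _ (hmem a (Or.inl hfa)) _) hzn
    · exact Subgroup.mul_mem _ (Subgroup.mul_mem _ (Subgroup.pow_mem _ (hmem a (Or.inl hfa)) _)
        (hmem b (Or.inr hfb))) hzn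
  have hle : commutator S ≤ Subgroup.zpowers w := by
    rw [commutator_def, Subgroup.commutator_le]
    intro x _ y _
    rw [← QuotientGroup.eq_one_iff, ← QuotientGroup.mk'_apply, map_commutatorElement,
      commutatorElement_eq_one_iff_mul_comm]
    obtain ⟨A, hA⟩ : ∃ A : S ⧸ Subgroup.zpowers w, A = QuotientGroup.mk' _ a := ⟨_, rfl⟩
    obtain ⟨B, hB⟩ : ∃ B : S ⧸ Subgroup.zpowers w, B = QuotientGroup.mk' _ b := ⟨_, rfl⟩
    have hAB : Commute B A := by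
      rw [commute_iff_eq, hA, hB, ← commutatorElement_eq_one_iff_mul_comm, ← map_commutatorElement]
      refine (QuotientGroup.eq_one_iff _).2 ?_
      rw [commutatorElement_def, ← hw]
      exact Subgroup.mem_zpowers w
    have hzc : ∀ z ∈ Z, ∀ u, Commute (QuotientGroup.mk' (Subgroup.zpowers w) z) u := by
      intro z hz u
      obtain ⟨u, rfl⟩ := QuotientGroup.mk'_surjective _ u
      exact (show Commute z u from (Subgroup.mem_center_iff.1 hz u).symm).map _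
    obtain ⟨i, z, hz, hx⟩ := h.gen x
    obtain ⟨j, z', hz', hy⟩ := h.gen y
    have h1 : Commute (A ^ i) (A ^ j) := Commute.pow_pow (Commute.refl A) i j
    have h2 : Commute B (A ^ j) := hAB.pow_right j
    have h3 : Commute (A ^ i) B := (hAB.pow_right i).symm
    refine Commute.eq ?_
    rcases hx with rfl | rfl <;> rcases hy with rfl | rfl <;>
      simp only [map_mul, map_pow, ← hA, ← hB] <;>
      refine Commute.mul_left (Commute.mul_right ?_ (hzc z' hz' _).symm) (hzc z hz _)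
    · exact h1
    · exact h1.mul_right h3
    · exact h1.mul_left h2
    · exact (h1.mul_left h2).mul_right (h3.mul_left (Commute.refl B))
  refine ⟨commutator S, fun hb => ?_, Subgroup.isCyclic_of_le hle, inferInstance⟩
  have h1 : ⁅b, a⁆ = 1 := by
    rw [← Subgroup.mem_bot, ← hb, commutator_def]
    exact Subgroup.commutator_mem_commutator (Subgroup.mem_top b) (Subgroup.mem_top a)
  rw [commutatorElement_def, ← hw, hw'] at h1
  have h2 : a ^ 2 ∈ Z := by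
    rw [← mul_inv_eq_one.1 h1]
    exact hc ▸ h.rel
  have h3 := Nat.le_of_dvd two_pos (h.ord 2 h2)
  have hM := h.pos
  -- `b` then inverts and centralises `a` modulo the centre
  have hM1 : M = 1 := by omega
  subst hM1
  have hba : b * a = a * b := by
    have : b * a * b⁻¹ * a⁻¹ = 1 := by rw [← hw, hw']; exact h1
    calc b * a = b * a * b⁻¹ * a⁻¹ * (a * b) := by group
      _ = a * b := by rw [this, one_mul]
  have hacen : a ∈ Z := Subgroup.mem_center_iff.2 fun s => by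
    obtain ⟨i, z, hz, hs⟩ := h.gen s
    have hza : z * a = a * z := (Subgroup.mem_center_iff.1 hz a).symm
    rcases hs with rfl | rfl
    · rw [mul_assoc, hza, ← mul_assoc, ← pow_succ, pow_succ', mul_assoc]
    · rw [mul_assoc (a ^ i * b), hza, ← mul_assoc, mul_assoc (a ^ i), hba, ← mul_assoc, ← pow_succ, pow_succ',
        mul_assoc (a * a ^ i), mul_assoc a, mul_assoc (a ^ i)]
  have := h.ord 1 (by rwa [pow_one])
  omega

theorem exists_split {n : ℕ} (C : Fin n → Subgroup ↥(Subgroup.center S)) (hn : 0 < n) (hS : IsPGroup 2 S)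
    (hCmax : ∀ i, IsCoatom (C i)) (hCint : ⨅ i, C i = ⊥)
    (hsq : ∀ i (x : S), x ^ 2 ∈ (C i).map (Subgroup.center S).subtype → x ∈ Z)
    {a b : S} {M : ℕ} (h : Gens a b M) :
    ∃ E Q : Subgroup S, (∀ x ∈ E, x ∈ Z) ∧ (∀ x ∈ E, x ^ 2 = 1) ∧ E ⊓ Q = ⊥ ∧ E ⊔ Q = ⊤ ∧
      a ∈ Q ∧ b ∈ Q ∧ a * b ≠ b * a ∧ ∃ ζ ∈ Q, orderOf ζ = 2 ∧ ∀ x ∈ Q, x ^ 2 = 1 → x = 1 ∨ x = ζ := by
  have hidx : ∀ i, (C i).index = 2 := fun i =>
    CfsgLib.PGroups.index_eq_of_isCoatom (hS.to_subgroup _) (hCmax i)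
  have hmem : ∀ {i : Fin n} {x : S} (hx : x ∈ Z),
      x ∈ (C i).map (Subgroup.center S).subtype ↔ (⟨x, hx⟩ : ↥(Subgroup.center S)) ∈ C i :=
    fun hx => mem_map_iff hx
  have hall : ∀ {x : S}, x ∈ Z → (∀ i, x ∈ (C i).map (Subgroup.center S).subtype) → x = 1 := by
    intro x hx hxi
    have : (⟨x, hx⟩ : ↥(Subgroup.center S)) ∈ ⨅ i, C i := Subgroup.mem_iInf.2 fun i => (hmem hx).1 (hxi i)
    rw [hCint, Subgroup.mem_bot] at this
    exact congrArg Subtype.val this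
  have hsq1 : ∀ {x : S}, x ∈ Z → x ^ 2 = 1 := fun {x} hx => hall ((Z).pow_mem hx 2) fun i =>
    (hmem ((Z).pow_mem hx 2)).2 (Subgroup.sq_mem_of_index_two (hidx i) ⟨x, hx⟩)
  have hout : ∀ i {x : S}, x ∉ Z → ∀ hx : x ^ 2 ∈ Z, (⟨x ^ 2, hx⟩ : ↥(Subgroup.center S)) ∉ C i :=
    fun i x hx hx2 hm => hx (hsq i x ((hmem hx2).2 hm))
  obtain ⟨ζ, hζ⟩ : ∃ ζ, ζ = b ^ 2 := ⟨_, rfl⟩
  have hζZ : ζ ∈ Z := hζ ▸ h.b_sq
  have hbZ : b ∉ Z := by simpa using h.out 0
  have haMZ : a ^ M ∉ Z := fun hm => by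
    have := Nat.le_of_dvd h.pos (h.ord M hm); have := h.pos; omega
  have hζC : ∀ i, (⟨ζ, hζZ⟩ : ↥(Subgroup.center S)) ∉ C i := fun i => by
    have := hout i hbZ h.b_sq
    simpa only [← hζ] using this
  have haN : a ^ (2 * M) = ζ := by
    have hp : a ^ (2 * M) * ζ⁻¹ ∈ Z := (Z).mul_mem h.a_pow ((Z).inv_mem hζZ)
    refine mul_inv_eq_one.1 (hall hp fun i => (hmem hp).2 ?_)
    have h1 := hout i haMZ (by rw [← pow_mul, mul_comm]; exact h.a_pow)
    have e : (⟨(a ^ M) ^ 2, by rw [← pow_mul, mul_comm]; exact h.a_pow⟩ : ↥(Subgroup.center S)) =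
        ⟨a ^ (2 * M), h.a_pow⟩ := Subtype.ext (by show (a ^ M) ^ 2 = _; rw [← pow_mul, mul_comm])
    rw [e] at h1
    exact (Subgroup.mul_mem_iff_of_index_two (hidx i) (a := ⟨a ^ (2 * M), h.a_pow⟩) (b := ⟨ζ⁻¹, (Z).inv_mem hζZ⟩)).2
      (iff_of_false h1 fun h' => hζC i ((C i).inv_mem_iff.1 h'))
  have hc : b * a * b⁻¹ * a = 1 := by
    obtain ⟨c, hcd⟩ : ∃ c, c = b * a * b⁻¹ * a := ⟨_, rfl⟩
    have hcZ : c ∈ Z := hcd ▸ h.rel
    rw [← hcd]
    refine hall hcZ fun i => (hmem hcZ).2 ?_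
    have hab : (a * b) ∉ Z := by simpa using h.out 1
    have e1 : (a * b) ^ 2 = c * ζ := by
      rw [hζ, pow_two (a * b)]
      calc a * b * (a * b) = a * (b * a * b⁻¹ * a) * a⁻¹ * (b ^ 2) := by group
        _ = c * b ^ 2 := by rw [← hcd, (Subgroup.mem_center_iff.1 hcZ a), mul_inv_cancel_right]
    have h1 := hout i hab (e1 ▸ (Z).mul_mem hcZ hζZ)
    have e2 : (⟨(a * b) ^ 2, e1 ▸ (Z).mul_mem hcZ hζZ⟩ : ↥(Subgroup.center S)) = ⟨c, hcZ⟩ * ⟨ζ, hζZ⟩ :=
      Subtype.ext e1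
    rw [e2, Subgroup.mul_mem_iff_of_index_two (hidx i)] at h1
    by_contra h2
    exact h1 (iff_of_false h2 (hζC i))
  have hζ1 : ζ ≠ 1 := fun h1 => hζC ⟨0, hn⟩ (by
    rw [show (⟨ζ, hζZ⟩ : ↥(Subgroup.center S)) = 1 from Subtype.ext h1]; exact (C _).one_mem)
  have ha4 : a ^ (4 * M) = 1 := by
    rw [show 4 * M = 2 * M * 2 by ring, pow_mul, haN, hsq1 hζZ]
  have hba : b * a * b⁻¹ = a⁻¹ := mul_eq_one_iff_eq_inv.1 hc
  obtain ⟨r, hr⟩ : ∃ r, 4 * M = r + 1 := ⟨4 * M - 1, by have := h.pos; omega⟩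
  have hinv : a⁻¹ = a ^ r := inv_eq_of_mul_eq_one_left (by rw [← pow_succ, ← hr, ha4])
  have hpow : ∀ j : ℕ, b * a ^ j = a ^ (r * j) * b := by
    intro j
    rw [pow_mul, ← hinv, ← hba, conj_pow, inv_mul_cancel_right]
  have hbb : b * b = a ^ (2 * M) := by rw [← pow_two, ← hζ, haN]
  let Q : Subgroup S :=
    { carrier := {s | ∃ i : ℕ, s = a ^ i ∨ s = a ^ i * b}
      one_mem' := ⟨0, Or.inl (pow_zero a).symm⟩
      mul_mem' := by
        rintro s t ⟨i, rfl | rfl⟩ ⟨j, rfl | rfl⟩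
        · exact ⟨i + j, Or.inl (pow_add a i j).symm⟩
        · exact ⟨i + j, Or.inr (by rw [pow_add, mul_assoc])⟩
        · exact ⟨i + r * j, Or.inr (by rw [mul_assoc, hpow, pow_add, mul_assoc])⟩
        · exact ⟨i + r * j + 2 * M, Or.inl (by
            rw [mul_assoc, ← mul_assoc b, hpow, mul_assoc, hbb, pow_add, pow_add, mul_assoc])⟩
      inv_mem' := by
        rintro s ⟨i, rfl | rfl⟩
        · exact ⟨r * i, Or.inl (by rw [pow_mul, ← hinv, inv_pow])⟩
        · refine ⟨i + 2 * M, Or.inr (inv_eq_of_mul_eq_one_right ?_)⟩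
          rw [mul_assoc, ← mul_assoc b, hpow, mul_assoc, hbb, ← mul_assoc, ← pow_add, ← pow_add,
            show i + r * (i + 2 * M) + 2 * M = 4 * M * (i + 2 * M) by
              rw [hr]; ring, pow_mul, ha4, one_pow] }
  have hQZ : ∀ x ∈ Q, x ∈ Z → x = 1 ∨ x = ζ := by
    rintro x ⟨i, rfl | rfl⟩ hx
    · obtain ⟨q, rfl⟩ := h.ord i hx
      rw [pow_mul, haN]
      rcases Nat.even_or_odd q with ⟨u, rfl⟩ | ⟨u, rfl⟩
      · left; rw [← two_mul, pow_mul, hsq1 hζZ, one_pow]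
      · right; rw [pow_succ, pow_mul, hsq1 hζZ, one_pow, one_mul]
    · exact absurd hx (h.out i)
  have hEZ : ∀ x ∈ (C ⟨0, hn⟩).map (Subgroup.center S).subtype, x ∈ Z := fun x hx => map_le_center _ hx
  have hsq' : ∀ x : S, x ^ 2 = 1 → x ∈ Z := fun x hx =>
    hsq ⟨0, hn⟩ x (by rw [hx]; exact one_mem _)
  refine ⟨(C ⟨0, hn⟩).map (Subgroup.center S).subtype, Q, hEZ, fun x hx => hsq1 (hEZ x hx), ?_, ?_,
    ⟨1, Or.inl (pow_one a).symm⟩, ⟨0, Or.inr (by rw [pow_zero, one_mul])⟩, fun hcom => ?_,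
    ζ, ⟨2 * M, Or.inl haN.symm⟩, orderOf_eq_prime (hsq1 hζZ) hζ1, fun x hx hx2 => hQZ x hx (hsq' x hx2)⟩
  · refine (Subgroup.eq_bot_iff_forall _).2 fun x hx => (hQZ x hx.2 (hEZ x hx.1)).resolve_right fun he => ?_
    exact hζC ⟨0, hn⟩ ((hmem hζZ).1 (he ▸ hx.1))
  · refine eq_top_iff.2 fun s _ => ?_
    have hz : ∀ z ∈ Z, z ∈ (C ⟨0, hn⟩).map (Subgroup.center S).subtype ⊔ Q := by
      intro z hz
      by_cases hzC : (⟨z, hz⟩ : ↥(Subgroup.center S)) ∈ C ⟨0, hn⟩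
      · exact Subgroup.mem_sup_left ((hmem hz).2 hzC)
      · have h1 : z * ζ ∈ (C ⟨0, hn⟩).map (Subgroup.center S).subtype :=
          (hmem ((Z).mul_mem hz hζZ)).2 ((Subgroup.mul_mem_iff_of_index_two (hidx _)
            (a := ⟨z, hz⟩) (b := ⟨ζ, hζZ⟩)).2 (iff_of_false hzC (hζC _)))
        refine (Subgroup.mul_mem_cancel_right _ ?_).1 (Subgroup.mem_sup_left h1)
        exact Subgroup.mem_sup_right ⟨2 * M, Or.inl haN.symm⟩
    obtain ⟨i, z, hzZ, rfl | rfl⟩ := h.gen s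
    · exact Subgroup.mul_mem _ (Subgroup.mem_sup_right ⟨i, Or.inl rfl⟩) (hz z hzZ)
    · exact Subgroup.mul_mem _ (Subgroup.mem_sup_right ⟨i, Or.inr rfl⟩) (hz z hzZ)
  · have h2 : a ^ 2 = 1 := by
      have : a⁻¹ = a := by rw [← hba, ← hcom, mul_inv_cancel_right]
      rw [pow_two]; nth_rw 1 [← this]; exact inv_mul_cancel a
    exact hζ1 (by rw [← haN, pow_mul, h2, one_pow])

end CfsgLib.Involutions.QuatExt
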