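import Cfsg.Agent.Lib.Perm.Zass.SLFive
import Cfsg.Agent.Lib.Classical.SLGen
import Cfsg.Agent.Lib.Recog.OrderSixty

/-!
# Elements of order three of `SL(2,5)` inside `Sp(4,3)`
-/

set_option autoImplicit false

open Matrix

namespace CfsgLib.Involutions

local notation "SL25" => Matrix.SpecialLinearGroup (Fin 2) (ZMod 5)

/-- The standard element of order three. -/
def x25 : SL25 := ⟨!![0, 4; 1, 4], by decide +kernel⟩

/-- A conjugate of the standard element of order three. -/
def y25 : SL25 := ⟨!![4, 4; 1, 0], by decide +kernel⟩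

/-- The element conjugating one into the other. -/
def g25 : SL25 := ⟨!![0, 1; 4, 0], by decide +kernel⟩

theorem g25_conj : g25 * x25 * g25⁻¹ = y25 := by decide +kernel

theorem x25_order : orderOf x25 = 3 := orderOf_eq_prime (p := 3) (by decide +kernel) (by decide +kernel)

theorem closure_pair25 : Subgroup.closure ({x25, y25} : Set SL25) = ⊤ := by
  haveI : Fact (Nat.Prime 5) := ⟨by norm_num⟩
  set H := Subgroup.closure ({x25, y25} : Set SL25) with hH
  have hx : x25 ∈ H := Subgroup.subset_closure (Set.mem_insert _ _)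
  have hy : y25 ∈ H := Subgroup.subset_closure (Set.mem_insert_of_mem _ rfl)
  have h01 : y25 * x25 * y25 * x25 ∈ H := mul_mem (mul_mem (mul_mem hy hx) hy) hx
  have h10 : y25 * y25 * x25 * x25 * y25 * y25 * x25 * x25 ∈ H :=
    mul_mem (mul_mem (mul_mem (mul_mem (mul_mem (mul_mem (mul_mem hy hy) hx) hx) hy) hy) hx) hx
  refine CfsgLib.Classical.eq_top_of_transvection_mem H fun i j hij c => ?_
  have key : ∀ c : ZMod 5, ∀ i j : Fin 2, i ≠ j →
      Matrix.transvection i j c = (((y25 * x25 * y25 * x25) ^ c.val : SL25) : Matrix (Fin 2) (Fin 2) (ZMod 5)) ∨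
      Matrix.transvection i j c = (((y25 * y25 * x25 * x25 * y25 * y25 * x25 * x25) ^ c.val : SL25) :
        Matrix (Fin 2) (Fin 2) (ZMod 5)) := by decide +kernel
  rcases key c i j hij with h | h
  · rw [show SpecialLinearGroup.transvection hij c = (y25 * x25 * y25 * x25) ^ c.val from
      Subtype.ext h]
    exact pow_mem h01 _
  · rw [show SpecialLinearGroup.transvection hij c =
      (y25 * y25 * x25 * x25 * y25 * y25 * x25 * x25) ^ c.val from Subtype.ext h]
    exact pow_mem h10 _

/-- Every element of order three generates with one of its conjugates. -/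
theorem exists_conj_generate25 (x : SL25) (hx : orderOf x = 3) :
    ∃ g : SL25, Subgroup.closure ({x, g * x * g⁻¹} : Set SL25) = ⊤ := by
  haveI : Fact (Nat.Prime 3) := ⟨Nat.prime_three⟩
  haveI : Fact (Nat.Prime 5) := ⟨by norm_num⟩
  have hcard : Nat.card SL25 = 120 := by
    rw [Nat.card_eq_fintype_card]; decide +kernel
  have hsyl : ∀ u : SL25, orderOf u = 3 → ∃ P : Sylow 3 SL25, (P : Subgroup SL25) = Subgroup.zpowers u := by
    intro u hu
    refine ⟨Sylow.ofCard (Subgroup.zpowers u) ?_, rfl⟩
    rw [Nat.card_zpowers, hu, hcard]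
    have : (120 : ℕ).factorization 3 = 1 := by
      rw [show (120 : ℕ) = 3 ^ 1 * 40 from rfl, Nat.factorization_mul (by norm_num) (by norm_num),
        Finsupp.add_apply, Nat.Prime.factorization_pow Nat.prime_three,
        Nat.factorization_eq_zero_of_not_dvd (by norm_num : ¬ 3 ∣ 40), Finsupp.single_eq_same]
    rw [this, pow_one]
  obtain ⟨P, hP⟩ := hsyl x25 x25_order
  obtain ⟨Q, hQ⟩ := hsyl x hx
  obtain ⟨h, rfl⟩ := MulAction.exists_smul_eq SL25 P Q
  have hmem : h * x25 * h⁻¹ ∈ Subgroup.zpowers x := by
    rw [← hQ]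
    exact ⟨x25, by rw [hP]; exact Subgroup.mem_zpowers _, rfl⟩
  refine ⟨h * g25 * h⁻¹, ?_⟩
  set K := Subgroup.closure ({x, h * g25 * h⁻¹ * x * (h * g25 * h⁻¹)⁻¹} : Set SL25) with hK
  have h1 : h * x25 * h⁻¹ ∈ K :=
    Subgroup.zpowers_le.mpr (Subgroup.subset_closure (Set.mem_insert _ _)) hmem
  have h2 : h * y25 * h⁻¹ ∈ K := by
    obtain ⟨i, hi⟩ := hmem
    have e : h * y25 * h⁻¹ = (h * g25 * h⁻¹ * x * (h * g25 * h⁻¹)⁻¹) ^ i := by
      rw [conj_zpow, show x ^ i = h * x25 * h⁻¹ from hi, ← g25_conj]; group
    rw [e]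
    exact zpow_mem (Subgroup.subset_closure (Set.mem_insert_of_mem _ (Set.mem_singleton _))) i
  rw [eq_top_iff]
  intro a _
  have h3 : Subgroup.closure ({x25, y25} : Set SL25) ≤ K.comap (MulAut.conj h).toMonoidHom := by
    rw [Subgroup.closure_le]
    rintro b (rfl | rfl)
    · exact h1
    · exact h2
  rw [closure_pair25] at h3
  have := h3 (Subgroup.mem_top (h⁻¹ * a * h))
  rw [Subgroup.mem_comap, MulEquiv.coe_toMonoidHom, MulAut.conj_apply] at this
  rwa [show h * (h⁻¹ * a * h) * h⁻¹ = a by group] at this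

/-- A homomorphism from a perfect group to a solvable group is trivial. -/
theorem hom_eq_one_of_perfect {G H : Type*} [Group G] [Group H] [Group.IsSolvable H]
    (hG : commutator G = ⊤) (f : G →* H) (g : G) : f g = 1 := by
  obtain ⟨n, hn⟩ := Group.IsSolvable.solvable (G := H)
  have htop : ∀ m, derivedSeries G m = ⊤ := by
    intro m
    induction m with
    | zero => exact derivedSeries_zero G
    | succ m ih => rw [derivedSeries_succ, ih, ← commutator_def, hG]
  have h := map_derivedSeries_le_derivedSeries f n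
    (Subgroup.mem_map_of_mem f ((htop n).symm ▸ Subgroup.mem_top g : g ∈ derivedSeries G n))
  rwa [hn, Subgroup.mem_bot] at h

section Linear

variable {F : Type*} [Field F] {V : Type*} [AddCommGroup V] [Module F V] [FiniteDimensional F V]

/-- A two-generated perfect group of linear maps of a four-dimensional space over `GF(3)` cannot be
generated by two transvections. -/
theorem false_of_transvection_pair [Finite F] (hF : Nat.card F = 3)
    (hV : Module.finrank F V = 4) {G : Type*} [Group G] (hG : commutator G = ⊤)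
    (ρ : G →* Module.End F V) (hρ : Function.Injective ρ) {x y : G}
    (hgen : Subgroup.closure ({x, y} : Set G) = ⊤)
    (hx : Module.finrank F (LinearMap.ker (ρ x - 1)) = 3)
    (hy : Module.finrank F (LinearMap.ker (ρ y - 1)) = 3) : False := by
  set K := LinearMap.ker (ρ x - 1) ⊓ LinearMap.ker (ρ y - 1) with hK
  have hKd : 2 ≤ Module.finrank F K := by
    have h1 := Submodule.finrank_sup_add_finrank_inf_eq (LinearMap.ker (ρ x - 1))
      (LinearMap.ker (ρ y - 1))
    have h2 := Submodule.finrank_le (LinearMap.ker (ρ x - 1) ⊔ LinearMap.ker (ρ y - 1))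
    rw [hx, hy] at h1
    rw [hV] at h2
    rw [hK]
    omega
  have hfix : ∀ g : G, ∀ k ∈ K, ρ g k = k := by
    intro g
    have hg : g ∈ Subgroup.closure ({x, y} : Set G) := hgen ▸ Subgroup.mem_top g
    induction hg using Subgroup.closure_induction with
    | mem a ha =>
      intro k hk
      rcases ha with rfl | rfl
      · simpa [sub_eq_zero] using (Submodule.mem_inf.mp hk).1
      · simpa [sub_eq_zero] using (Submodule.mem_inf.mp hk).2
    | one => intro k _; simp
    | mul a b _ _ iha ihb => intro k hk; rw [map_mul, Module.End.mul_apply, ihb k hk, iha k hk]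
    | inv a _ iha =>
      intro k hk
      conv_lhs => rw [← iha k hk]
      rw [← Module.End.mul_apply, ← map_mul, inv_mul_cancel, map_one, Module.End.one_apply]
  let σ : G →* Module.End F (V ⧸ K) :=
    { toFun := fun g => K.mapQ K (ρ g) (fun k hk => by
        rw [Submodule.mem_comap, hfix g k hk]; exact hk)
      map_one' := by ext v; simp
      map_mul' := fun a b => by ext v; simp }
  have hd : Module.finrank F (V ⧸ K) ≤ 2 := by
    have := K.finrank_quotient_add_finrank
    omega
  haveI : Module.Finite F (V ⧸ K) := inferInstance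
  let d := Module.finrank F (V ⧸ K)
  let bb := Module.finBasis F (V ⧸ K)
  let τ : Module.End F (V ⧸ K) →* Matrix (Fin d) (Fin d) F :=
    (LinearMap.toMatrixAlgEquiv bb).toMonoidHom
  let π : G →* GL (Fin d) F := (τ.comp σ).toHomUnits
  haveI : Fintype F := Fintype.ofFinite F
  haveI : Group.IsSolvable (GL (Fin d) F) := by
    refine CfsgLib.Recog.isSolvable_of_card_lt_sixty ?_
    rw [Matrix.card_GL_field, ← Nat.card_eq_fintype_card, hF]
    have hd' : d ≤ 2 := hd
    have key : ∀ m : ℕ, m ≤ 2 → ∏ i : Fin m, (3 ^ m - 3 ^ (i : ℕ)) < 60 := by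
      intro m hm
      interval_cases m <;> simp [Fin.prod_univ_succ]
    exact key d hd'
  have hσ : ∀ g v, ρ g v - v ∈ K := by
    intro g v
    have h1 : τ (σ g) = 1 := congrArg Units.val (hom_eq_one_of_perfect hG π g)
    have h2 : σ g = 1 :=
      (LinearMap.toMatrixAlgEquiv bb).injective (h1.trans (map_one τ).symm)
    have := LinearMap.congr_fun h2 (Submodule.Quotient.mk v)
    simpa [σ, Submodule.Quotient.eq] using this
  have hcomm : ∀ a b : G, a * b = b * a := by
    intro a b
    refine hρ (LinearMap.ext fun v => ?_)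
    rw [map_mul, map_mul, Module.End.mul_apply, Module.End.mul_apply]
    have h1 : ρ a (ρ b v) = ρ a v + (ρ b v - v) := by
      rw [← hfix a _ (hσ b v), ← map_add, add_sub_cancel]
    have h2 : ρ b (ρ a v) = ρ b v + (ρ a v - v) := by
      rw [← hfix b _ (hσ a v), ← map_add, add_sub_cancel]
    rw [h1, h2]; abel
  have hbot : commutator G = ⊥ := by
    rw [commutator_def, eq_bot_iff, Subgroup.commutator_le]
    intro a _ b _
    rw [Subgroup.mem_bot, commutatorElement_eq_one_iff_mul_comm]
    exact hcomm a b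
  have hxy : ρ x = 1 := by
    rw [← map_one ρ]
    congr 1
    exact Subgroup.mem_bot.mp (hbot ▸ hG.symm ▸ Subgroup.mem_top x)
  rw [hxy, sub_self, LinearMap.ker_zero, finrank_top, hV] at hx
  omega

end Linear

/-- Fixed space of an element of order three of `SL(2,5)` inside `Sp(4,3)`. -/
theorem fixedSpace25 {F : Type*} [Field F] [Fintype F] (hF : Fintype.card F = 3)
    (φ : SL25 →* ↥(Matrix.symplecticGroup (Fin 2) F)) (hφ : Function.Injective φ)
    (x : SL25) (hx : orderOf x = 3) :
    Module.finrank F ↥(LinearMap.ker (Matrix.toLin'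
      ((φ x : Matrix (Fin 2 ⊕ Fin 2) (Fin 2 ⊕ Fin 2) F)) - LinearMap.id)) = 2 ∧
      ∀ v w : Fin 2 ⊕ Fin 2 → F,
        (φ x : Matrix (Fin 2 ⊕ Fin 2) (Fin 2 ⊕ Fin 2) F).mulVec v = v →
        (φ x : Matrix (Fin 2 ⊕ Fin 2) (Fin 2 ⊕ Fin 2) F).mulVec w = w →
          dotProduct v ((Matrix.J (Fin 2) F).mulVec w) = 0 := by
  have h3 : (3 : F) = 0 := by
    haveI : Fact (Nat.Prime 3) := ⟨Nat.prime_three⟩
    have := FiniteField.cast_card_eq_zero (K := F)
    rw [hF] at this
    exact_mod_cast this
  have h2 : (2 : F) ≠ 0 := fun h => one_ne_zero (α := F) (by linear_combination h3 - h)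
  let ι : ↥(Matrix.symplecticGroup (Fin 2) F) →* Module.End F (Fin 2 ⊕ Fin 2 → F) :=
    ((Matrix.toLinAlgEquiv' : Matrix (Fin 2 ⊕ Fin 2) (Fin 2 ⊕ Fin 2) F ≃ₐ[F] _).toMonoidHom).comp
      (Matrix.symplecticGroup (Fin 2) F).subtype
  let ρ : SL25 →* Module.End F (Fin 2 ⊕ Fin 2 → F) := ι.comp φ
  have hρ : Function.Injective ρ :=
    ((Matrix.toLinAlgEquiv'.injective).comp Subtype.val_injective).comp hφ
  set T := ρ x with hT
  have hTap : ∀ (g : SL25) v, ρ g v =
      (φ g : Matrix (Fin 2 ⊕ Fin 2) (Fin 2 ⊕ Fin 2) F) *ᵥ v := fun g v => rfl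
  have hT3 : T ^ 3 = 1 := by rw [hT, ← map_pow, ← hx, pow_orderOf_eq_one, map_one]
  set N := T - 1 with hN
  have hTN : T = N + 1 := (sub_add_cancel T 1).symm
  have hN3 : ∀ v, N (N (N v)) = 0 := by
    intro v
    have h := LinearMap.congr_fun hT3 v
    simp only [pow_succ, pow_zero, one_mul, Module.End.mul_apply, Module.End.one_apply, hTN,
      LinearMap.add_apply, map_add] at h
    have e : N (N (N v)) + (3 : F) • N (N v) + (3 : F) • N v + v = v := by
      refine Eq.trans ?_ h
      module
    rw [h3, zero_smul, zero_smul, add_zero, add_zero] at e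
    exact add_eq_right.mp e
  -- the alternating form
  let B : (Fin 2 ⊕ Fin 2 → F) → (Fin 2 ⊕ Fin 2 → F) → F := fun v w => v ⬝ᵥ (Matrix.J (Fin 2) F *ᵥ w)
  have hBadd : ∀ u v w, B (u + v) w = B u w + B v w := fun u v w => add_dotProduct _ _ _
  have hBadd' : ∀ u v w, B u (v + w) = B u v + B u w := fun u v w => by
    simp only [B, mulVec_add, dotProduct_add]
  have hBsmul : ∀ (c : F) u v, B (c • u) v = c * B u v := fun c u v => by
    simp [B, smul_dotProduct]
  have hBsmul' : ∀ (c : F) u v, B u (c • v) = c * B u v := fun c u v => by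
    simp [B, mulVec_smul, dotProduct_smul]
  have hskew : ∀ u v, B v u = - B u v := by
    intro u v
    simp only [B]
    rw [dotProduct_mulVec, ← mulVec_transpose, Matrix.J_transpose, neg_mulVec, neg_dotProduct,
      dotProduct_comm]
  have hnd : ∀ u, (∀ v, B u v = 0) → u = 0 := by
    intro u hu
    refine dotProduct_eq_zero u fun w => ?_
    have h := hu (-(Matrix.J (Fin 2) F *ᵥ w))
    simp only [B, mulVec_neg, mulVec_mulVec, Matrix.J_squared, neg_mulVec, one_mulVec,
      neg_neg] at h
    exact h
  have hinv : ∀ u v, B (T u) (T v) = B u v := by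
    intro u v
    simp only [B, hT, hTap]
    rw [← vecMul_transpose, ← dotProduct_mulVec, mulVec_mulVec, mulVec_mulVec,
      SymplecticGroup.mem_iff'.mp (φ x).2]
  have hadj : ∀ u v, B (N u) v = B u (N (N v) + (2 : F) • N v) := by
    intro u v
    have h1 : B (T u) v = B u (T (T v)) := by
      have h := LinearMap.congr_fun hT3 v
      simp only [pow_succ, pow_zero, one_mul, Module.End.mul_apply, Module.End.one_apply] at h
      conv_lhs => rw [← h]
      rw [hinv]
    have h2' : T (T v) = N (N v) + (2 : F) • N v + v := by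
      simp only [hTN, LinearMap.add_apply, Module.End.one_apply, map_add]
      module
    rw [h2', hBadd'] at h1
    have h4 : B (T u) v = B (N u) v + B u v := by
      rw [← hBadd]; congr 1
      simp [hTN]
    rw [h4] at h1
    exact add_right_cancel h1
  have hN2 : ∀ v, N (N v) = 0 := by
    by_contra hne
    push Not at hne
    obtain ⟨v, hv⟩ := hne
    let f := fun a b => B (N (N a)) b
    have hf : ∀ a b, f a b = B a (N (N b)) := by
      intro a b
      show B (N (N a)) b = _
      rw [hadj, hadj]
      simp only [map_add, map_smul, hN3, map_zero, zero_add, smul_zero, smul_smul]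
      rw [show (2 : F) * 2 = 1 by linear_combination h3, one_smul]
    have hfs : ∀ a, f a a = 0 := by
      intro a
      have h := hf a a
      rw [hskew (N (N a)) a] at h
      have : (2 : F) * f a a = 0 := by
        show (2 : F) * B (N (N a)) a = 0
        linear_combination (h : B (N (N a)) a = - B (N (N a)) a)
      exact (mul_eq_zero.mp this).resolve_left h2
    obtain ⟨w, hw⟩ : ∃ w, f v w ≠ 0 := by
      by_contra h
      push Not at h
      exact hv (hnd _ h)
    set R := LinearMap.range (N * N) with hR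
    have hR2 : 2 ≤ Module.finrank F R := by
      have hli : LinearIndependent F ![(⟨N (N v), v, rfl⟩ : R), ⟨N (N w), w, rfl⟩] := by
        rw [LinearIndependent.pair_iff]
        intro a b hab
        have h := congrArg Subtype.val hab
        simp only [Submodule.coe_add, Submodule.coe_smul, ZeroMemClass.coe_zero] at h
        have e1 : B (a • N (N v) + b • N (N w)) v = 0 := by
          rw [h]; simp [B]
        have e2 : B (N (N w)) v = - f v w := by
          rw [show f v w = B v (N (N w)) from hf v w, ← hskew]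
        rw [hBadd, hBsmul, hBsmul, show B (N (N v)) v = 0 from hfs v, e2, mul_zero, zero_add,
          mul_neg, neg_eq_zero] at e1
        have hb : b = 0 := (mul_eq_zero.mp e1).resolve_right hw
        subst hb
        rw [zero_smul, add_zero, smul_eq_zero] at h
        exact ⟨h.resolve_right hv, rfl⟩
      simpa using hli.fintype_card_le_finrank
    have hle : R ≤ LinearMap.range N := by
      rintro _ ⟨u, rfl⟩
      exact ⟨N u, rfl⟩
    have hker : R ≤ LinearMap.ker N := by
      rintro _ ⟨u, rfl⟩
      exact LinearMap.mem_ker.mpr (hN3 u)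
    have h5 := LinearMap.finrank_range_add_finrank_ker N
    rw [Module.finrank_pi, Fintype.card_sum, Fintype.card_fin] at h5
    have h6 := Submodule.finrank_mono hle
    have h7 := Submodule.finrank_mono hker
    have heq : R = LinearMap.range N := Submodule.eq_of_le_of_finrank_le hle (by omega)
    obtain ⟨u, hu⟩ : N v ∈ R := heq ▸ LinearMap.mem_range_self N v
    refine hv ?_
    rw [← hu]
    exact hN3 u
  have hlei : LinearMap.range N ≤ LinearMap.ker N := by
    rintro _ ⟨u, rfl⟩
    exact LinearMap.mem_ker.mpr (hN2 u)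
  have hkereq : LinearMap.ker (Matrix.toLin'
      ((φ x : Matrix (Fin 2 ⊕ Fin 2) (Fin 2 ⊕ Fin 2) F)) - LinearMap.id) = LinearMap.ker N := rfl
  have h5 := LinearMap.finrank_range_add_finrank_ker N
  rw [Module.finrank_pi, Fintype.card_sum, Fintype.card_fin] at h5
  have h6 := Submodule.finrank_mono hlei
  have h4 : Module.finrank F (LinearMap.ker N) ≠ 4 := by
    intro h
    have htop : LinearMap.ker N = ⊤ := Submodule.eq_top_of_finrank_eq (by
      rw [h, Module.finrank_pi, Fintype.card_sum, Fintype.card_fin])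
    have hT1 : T = 1 := by rw [hTN, LinearMap.ker_eq_top.mp htop, zero_add]
    have := hρ (hT1.trans (map_one ρ).symm)
    rw [this, orderOf_one] at hx
    exact absurd hx (by norm_num)
  have h3' : Module.finrank F (LinearMap.ker N) ≠ 3 := by
    intro h
    obtain ⟨g, hg⟩ := exists_conj_generate25 x hx
    refine false_of_transvection_pair (by rw [Nat.card_eq_fintype_card, hF])
      (by rw [Module.finrank_pi, Fintype.card_sum, Fintype.card_fin])
      CfsgLib.Perm.Zass.commutator_SL_five ρ hρ hg h ?_
    -- the conjugate is again a transvection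
    have he : ∀ v, ρ g (ρ g⁻¹ v) = v := fun v => by
      rw [← Module.End.mul_apply, ← map_mul, mul_inv_cancel, map_one, Module.End.one_apply]
    have he' : ∀ v, ρ g⁻¹ (ρ g v) = v := fun v => by
      rw [← Module.End.mul_apply, ← map_mul, inv_mul_cancel, map_one, Module.End.one_apply]
    let e : (Fin 2 ⊕ Fin 2 → F) ≃ₗ[F] (Fin 2 ⊕ Fin 2 → F) :=
      LinearEquiv.ofLinearMap (ρ g) (ρ g⁻¹) (LinearMap.ext he) (LinearMap.ext he')
    have hk : LinearMap.ker (ρ (g * x * g⁻¹) - 1) = (LinearMap.ker N).map e.toLinearMap := by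
      ext v
      rw [Submodule.mem_map_equiv, LinearMap.mem_ker, LinearMap.mem_ker]
      show (ρ (g * x * g⁻¹) v - v = 0) ↔ (T (ρ g⁻¹ v) - ρ g⁻¹ v = 0)
      rw [sub_eq_zero, sub_eq_zero, map_mul, map_mul, Module.End.mul_apply, Module.End.mul_apply]
      constructor
      · intro h'
        conv_rhs => rw [← h', he']
      · intro h'
        rw [show ρ x (ρ g⁻¹ v) = ρ g⁻¹ v from h', he]
    rw [hk, LinearEquiv.finrank_map_eq, h]
  refine ⟨by rw [hkereq]; have := Submodule.finrank_le (LinearMap.ker N); omega, ?_⟩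
  intro v w hv hw
  have h2ker : Module.finrank F (LinearMap.ker N) = 2 := by
    have := Submodule.finrank_le (LinearMap.ker N); omega
  have heq : LinearMap.range N = LinearMap.ker N :=
    Submodule.eq_of_le_of_finrank_le hlei (by omega)
  obtain ⟨u, hu⟩ : v ∈ LinearMap.range N := by
    rw [heq]
    show T v - v = 0
    rw [sub_eq_zero, hT, hTap]; exact hv
  have hwN : N w = 0 := by
    show T w - w = 0
    rw [sub_eq_zero, hT, hTap]; exact hw
  show B v w = 0
  rw [← hu, hadj, hwN, map_zero, smul_zero, add_zero]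
  simp [B]

end CfsgLib.Involutions
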