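import Cfsg.Agent.Lib.Classical.Order

/-!
`SL₂` in odd characteristic is not a product of two proper subgroups commuting up to sign; consequence for
central products of two such groups.
-/

set_option autoImplicit false

namespace CfsgLib.Involutions.SLTwoPair

open Matrix

variable {F : Type*} [Field F]

local notation "SL2" => Matrix.SpecialLinearGroup (Fin 2) F

theorem two_ne_zero_of_odd [Fintype F] (hF : Odd (Fintype.card F)) : (2 : F) ≠ 0 := by
  intro h
  have hc : ringChar F = 2 := by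
    have h1 : ringChar F ∣ 2 := (ringChar.spec F 2).1 (by exact_mod_cast h)
    rcases (Nat.dvd_prime Nat.prime_two).1 h1 with h2 | h2
    · exact absurd h2 (CharP.ringChar_ne_one)
    · exact h2
  exact (Nat.not_even_iff_odd.2 hF) (Nat.even_iff.2 (FiniteField.even_card_iff_char_two.1 hc))

/-- An involution of `SL₂` in odd characteristic is `-1`. -/
theorem eq_one_or_neg_one (h2 : (2 : F) ≠ 0) {x : SL2} (hx : x * x = 1) : x = 1 ∨ x = -1 := by
  have hi : x⁻¹ = x := inv_eq_of_mul_eq_one_right hx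
  have he := congrArg (fun g : SL2 => (g : Matrix (Fin 2) (Fin 2) F)) hi
  simp only [Matrix.SpecialLinearGroup.coe_inv, Matrix.adjugate_fin_two] at he
  have h00 := congrFun (congrFun he 0) 0
  have h01 := congrFun (congrFun he 0) 1
  have h10 := congrFun (congrFun he 1) 0
  simp at h00 h01 h10
  have z01 : x 0 1 = 0 := (mul_eq_zero.1 (show 2 * x 0 1 = 0 by linear_combination -h01)).resolve_left h2
  have z10 : x 1 0 = 0 := (mul_eq_zero.1 (show 2 * x 1 0 = 0 by linear_combination -h10)).resolve_left h2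
  have hd : x 0 0 * x 1 1 - x 0 1 * x 1 0 = 1 := by rw [← Matrix.det_fin_two]; exact x.2
  rw [z01, zero_mul, sub_zero, h00] at hd
  rcases mul_self_eq_one_iff.1 hd with h | h
  · left; ext i k; fin_cases i <;> fin_cases k <;> simp [z01, z10, h00, h]
  · right; ext i k; fin_cases i <;> fin_cases k <;> simp [z01, z10, h00, h]

/-- Two subgroups commuting up to sign whose product is everything: one of them is `{±1}`. -/
theorem split [Finite F] (h2 : (2 : F) ≠ 0) (P₁ P₂ : Subgroup SL2) (hn₁ : (-1 : SL2) ∈ P₁)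
    (hn₂ : (-1 : SL2) ∈ P₂) (hcomm : ∀ a ∈ P₁, ∀ b ∈ P₂, a * b = b * a ∨ a * b = -(b * a))
    (hgen : ∀ g : SL2, ∃ a ∈ P₁, ∃ b ∈ P₂, g = a * b) :
    (∀ a ∈ P₁, a = 1 ∨ a = -1) ∨ (∀ b ∈ P₂, b = 1 ∨ b = -1) := by
  by_contra hcon
  push Not at hcon
  obtain ⟨⟨a₁, ha₁, ha₁1, ha₁n⟩, ⟨b₁, hb₁, hb₁1, hb₁n⟩⟩ := hcon
  -- the two unipotent root elements
  let u : SL2 := Matrix.SpecialLinearGroup.transvection (zero_ne_one : (0 : Fin 2) ≠ 1) 1
  let w : SL2 := ⟨!![0, 1; -1, 0], by simp [Matrix.det_fin_two]⟩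
  have hu : (u : Matrix (Fin 2) (Fin 2) F) = !![1, 1; 0, 1] := by
    ext i k; fin_cases i <;> fin_cases k <;>
      simp [u, Matrix.SpecialLinearGroup.transvection_coe, Matrix.single_apply]
  have htr : ∀ {c x : SL2}, c * x = x * c ∨ c * x = -(x * c) → (x : Matrix (Fin 2) (Fin 2) F).trace ≠ 0 →
      c * x = x * c := by
    intro c x h hx
    refine h.resolve_right fun he => hx ?_
    have e1 : x = -(c⁻¹ * (x * c)) := by
      rw [← mul_neg, ← he, inv_mul_cancel_left]
    have e2 := congrArg (fun g : SL2 => (g : Matrix (Fin 2) (Fin 2) F).trace) e1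
    simp only [Matrix.SpecialLinearGroup.coe_neg, Matrix.trace_neg, Matrix.SpecialLinearGroup.coe_mul] at e2
    rw [← Matrix.SpecialLinearGroup.coe_mul, ← Matrix.SpecialLinearGroup.coe_mul] at e2
    rw [Matrix.SpecialLinearGroup.coe_mul, Matrix.trace_mul_comm, Matrix.SpecialLinearGroup.coe_mul,
      mul_assoc, ← Matrix.SpecialLinearGroup.coe_mul c, mul_inv_cancel, Matrix.SpecialLinearGroup.coe_one,
      mul_one] at e2
    exact (mul_eq_zero.1 (show 2 * _ = (0 : F) by linear_combination e2)).resolve_left h2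
  -- what commutes with `u` and its transpose inverse is scalar
  have hscal : ∀ c : SL2, c * u = u * c → c * (w * u * w⁻¹) = w * u * w⁻¹ * c → c = 1 ∨ c = -1 := by
    intro c e e'
    have h1 := congrArg (fun g : SL2 => (g : Matrix (Fin 2) (Fin 2) F)) e
    have h2' := congrArg (fun g : SL2 => (g : Matrix (Fin 2) (Fin 2) F)) e'
    have hwu : ((w * u * w⁻¹ : SL2) : Matrix (Fin 2) (Fin 2) F) = !![1, 0; -1, 1] := by
      rw [Matrix.SpecialLinearGroup.coe_mul, Matrix.SpecialLinearGroup.coe_mul, Matrix.SpecialLinearGroup.coe_inv,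
        hu]
      simp [w, Matrix.adjugate_fin_two]
    simp only [Matrix.SpecialLinearGroup.coe_mul, hu] at h1
    simp only [Matrix.SpecialLinearGroup.coe_mul c, Matrix.SpecialLinearGroup.coe_mul _ c, hwu] at h2'
    have a00 := congrFun (congrFun h1 0) 0
    have a01 := congrFun (congrFun h1 0) 1
    have b00 := congrFun (congrFun h2' 0) 0
    simp [Matrix.mul_apply, Fin.sum_univ_two] at a00 a01 b00
    refine eq_one_or_neg_one h2 ?_
    have hd : c 0 0 * c 1 1 - c 0 1 * c 1 0 = 1 := by rw [← Matrix.det_fin_two]; exact c.2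
    ext i k
    fin_cases i <;> fin_cases k <;> simp [Matrix.mul_apply, Fin.sum_univ_two] <;> grind
  -- decompose `u`
  obtain ⟨p, hp⟩ := CharP.exists F
  have hpp : Fact p.Prime := ⟨CharP.char_is_prime F p⟩
  have hpodd : Odd p := hpp.out.odd_of_ne_two fun h => h2 (by
    have := CharP.cast_eq_zero F p; rw [h] at this; exact_mod_cast this)
  obtain ⟨a, ha, b, hb, hab⟩ := hgen u
  have hcu : ∀ {x : SL2}, (x * u = u * x ∨ x * u = -(u * x)) → x * u = u * x := fun h =>
    htr h (by rw [hu]; simp [Matrix.trace_fin_two, show (1 : F) + 1 = 2 by norm_num, h2])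
  have hau : a * u = u * a := hcu (by
    rw [hab]
    rcases hcomm a ha b hb with e | e
    · exact Or.inl (by rw [mul_assoc a b a, ← e])
    · exact Or.inr (by rw [mul_assoc a b a, show b * a = -(a * b) by rw [e, neg_neg]]; simp [mul_assoc]))
  have hbu : b * u = u * b := by
    have : b = a⁻¹ * u := by rw [hab, inv_mul_cancel_left]
    rw [this, mul_assoc, ← mul_assoc u a⁻¹ u]
    rw [show u * a⁻¹ = a⁻¹ * u from (Commute.inv_right (show Commute u a from hau.symm)).eq, mul_assoc]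
  -- an element commuting with `u` is upper unitriangular up to sign
  have hform : ∀ c : SL2, c * u = u * c → c 1 0 = 0 ∧ c 0 0 = c 1 1 ∧ (c 0 0 = 1 ∨ c 0 0 = -1) := by
    intro c e
    have h1 := congrArg (fun g : SL2 => (g : Matrix (Fin 2) (Fin 2) F)) e
    simp only [Matrix.SpecialLinearGroup.coe_mul, hu] at h1
    have a00 := congrFun (congrFun h1 0) 0
    have a01 := congrFun (congrFun h1 0) 1
    simp [Matrix.mul_apply, Fin.sum_univ_two] at a00 a01
    have hd : c 0 0 * c 1 1 - c 0 1 * c 1 0 = 1 := by rw [← Matrix.det_fin_two]; exact c.2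
    refine ⟨by grind, by grind, mul_self_eq_one_iff.1 (by grind)⟩
  obtain ⟨-, -, ha0⟩ := hform a hau
  obtain ⟨ha10, ha11, -⟩ := hform a hau
  obtain ⟨hb10, hb11, -⟩ := hform b hbu
  -- a root element in a factor
  have key : ∀ (P Q : Subgroup SL2), (-1 : SL2) ∈ P →
      (∀ x ∈ Q, ∀ y ∈ P, x * y = y * x ∨ x * y = -(y * x)) →
      (∀ g : SL2, ∃ x ∈ P, ∃ y ∈ Q, g = x * y ∨ g = y * x) →
      ∀ r ∈ P, r * u = u * r → r 0 1 ≠ 0 → ∀ c ∈ Q, c = 1 ∨ c = -1 := by
    intro P Q hnP hPQ hg r hr hru hr0 c hc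
    obtain ⟨r10, r11, r00⟩ := hform r hru
    have htr0 : (r : Matrix (Fin 2) (Fin 2) F).trace ≠ 0 := by
      rw [Matrix.trace_fin_two, ← r11]
      rcases r00 with e | e <;> rw [e] <;> simp [show (1 : F) + 1 = 2 by norm_num,
        show (-1 : F) + -1 = -2 by norm_num, h2]
    have hcomm' : ∀ y ∈ P, (y : Matrix (Fin 2) (Fin 2) F).trace ≠ 0 → c * y = y * c := fun y hy hy0 =>
      htr (hPQ c hc y hy) hy0
    have hconj : w * r * w⁻¹ ∈ P ∨ -(w * r * w⁻¹) ∈ P := by
      obtain ⟨x, hx, y, hy, hw⟩ := hg w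
      have hyr : y * r * y⁻¹ = r := by rw [htr (hPQ y hy r hr) htr0, mul_inv_cancel_right]
      have hxm : x * r * x⁻¹ ∈ P := P.mul_mem (P.mul_mem hx hr) (P.inv_mem hx)
      rcases hw with hw | hw <;> rw [hw]
      · left
        rwa [_root_.mul_inv_rev, show x * y * r * (y⁻¹ * x⁻¹) = x * (y * r * y⁻¹) * x⁻¹ by group, hyr]
      · rw [_root_.mul_inv_rev, show y * x * r * (x⁻¹ * y⁻¹) = y * (x * r * x⁻¹) * y⁻¹ by group]
        rcases hPQ y hy _ hxm with e | e
        · left; rwa [e, mul_inv_cancel_right]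
        · right; rw [e, neg_mul, mul_inv_cancel_right, neg_neg]; exact hxm
    have htw : ((w * r * w⁻¹ : SL2) : Matrix (Fin 2) (Fin 2) F).trace ≠ 0 := by
      rwa [Matrix.SpecialLinearGroup.coe_mul, Matrix.trace_mul_comm, ← Matrix.SpecialLinearGroup.coe_mul,
        inv_mul_cancel_left]
    have e1 := hcomm' r hr htr0
    have e2 : c * (w * r * w⁻¹) = w * r * w⁻¹ * c := by
      rcases hconj with hm | hm
      · exact hcomm' _ hm htw
      · have := hcomm' _ hm (by rwa [Matrix.SpecialLinearGroup.coe_neg, Matrix.trace_neg, neg_ne_zero])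
        simpa using this
    -- hence `c` commutes with `u` and its conjugate
    have hlin : ∀ (x y : SL2), Commute (c : Matrix (Fin 2) (Fin 2) F) (x : Matrix (Fin 2) (Fin 2) F) →
        (∃ s t : F, (y : Matrix (Fin 2) (Fin 2) F) = s • (x : Matrix (Fin 2) (Fin 2) F) + t • 1) →
        c * y = y * c := by
      rintro x y hxy ⟨s, t, e⟩
      refine Subtype.ext ?_
      rw [Matrix.SpecialLinearGroup.coe_mul, Matrix.SpecialLinearGroup.coe_mul, e]
      exact ((hxy.smul_right s).add_right ((Commute.one_right _).smul_right t)).eq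
    have hst : (u : Matrix (Fin 2) (Fin 2) F) = (r 0 1)⁻¹ • (r : Matrix (Fin 2) (Fin 2) F) +
        (1 - (r 0 1)⁻¹ * r 0 0) • 1 := by
      rw [hu]
      ext i k
      fin_cases i <;> fin_cases k <;> simp [r10, ← r11, hr0]
    refine hscal c (hlin r u (congrArg Subtype.val e1) ⟨_, _, hst⟩)
      (hlin (w * r * w⁻¹) (w * u * w⁻¹) (congrArg Subtype.val e2) ⟨(r 0 1)⁻¹, 1 - (r 0 1)⁻¹ * r 0 0, ?_⟩)
    rw [Matrix.SpecialLinearGroup.coe_mul, Matrix.SpecialLinearGroup.coe_mul, hst, mul_add, add_mul,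
      mul_smul_comm, smul_mul_assoc, mul_smul_comm, smul_mul_assoc, mul_one,
      ← Matrix.SpecialLinearGroup.coe_mul, ← Matrix.SpecialLinearGroup.coe_mul, ← Matrix.SpecialLinearGroup.coe_mul,
      mul_inv_cancel, Matrix.SpecialLinearGroup.coe_one]
  by_cases hr : a 0 1 = 0
  · have hb0 : b 0 1 ≠ 0 := by
      intro h0
      have := congrFun (congrFun (congrArg (fun g : SL2 => (g : Matrix (Fin 2) (Fin 2) F)) hab) 0) 1
      simp [hu, Matrix.mul_apply, Fin.sum_univ_two, hr, h0] at this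
    rcases key P₂ P₁ hn₂ hcomm
      (fun g => by obtain ⟨x, hx, y, hy, e⟩ := hgen g; exact ⟨y, hy, x, hx, Or.inr e⟩) b hb hbu hb0 a₁ ha₁ with e | e
    · exact ha₁1 e
    · exact ha₁n e
  · rcases key P₁ P₂ hn₁ (fun x hx y hy => by
        rcases hcomm y hy x hx with e | e
        · exact Or.inl e.symm
        · exact Or.inr (by rw [e, neg_neg]))
      (fun g => by obtain ⟨x, hx, y, hy, e⟩ := hgen g; exact ⟨x, hx, y, hy, Or.inl e⟩) a ha hau hr b₁ hb₁ with e | e
    · exact hb₁1 e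
    · exact hb₁n e

section CentralProduct

variable {G : Type*} [Group G]

theorem exists_mul_of_sup (A B : Subgroup G) (hAB : ∀ a ∈ A, ∀ b ∈ B, a * b = b * a) (g : G) (hg : g ∈ A ⊔ B) :
    ∃ a ∈ A, ∃ b ∈ B, g = a * b := by
  let ψ : A × B →* G := MonoidHom.noncommCoprod A.subtype B.subtype fun a b => hAB a a.2 b b.2
  have : A ⊔ B ≤ ψ.range := sup_le (fun a ha => ⟨(⟨a, ha⟩, 1), mul_one a⟩)
    (fun b hb => ⟨(1, ⟨b, hb⟩), one_mul b⟩)
  obtain ⟨⟨a, b⟩, rfl⟩ := this hg
  exact ⟨a, a.2, b, b.2, rfl⟩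

theorem mem_zpowers_invol {j x : G} (hj : orderOf j = 2) (hx : x ∈ Subgroup.zpowers j) : x = 1 ∨ x = j := by
  obtain ⟨k, rfl⟩ := Subgroup.mem_zpowers_iff.1 hx
  rw [← zpow_mod_orderOf, hj]
  rcases Int.emod_two_eq_zero_or_one k with h | h <;> simp [h]

/-- A commuting pair generating a central product of two `SL₂` is carried into the factors. -/
theorem pair_le [Finite F] (h2 : (2 : F) ≠ 0) {j : G} (hj : orderOf j = 2) (A B : Subgroup G)
    (e : ↥A ≃* Matrix.SpecialLinearGroup (Fin 2) F) (hAB : ∀ a ∈ A, ∀ b ∈ B, a * b = b * a)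
    (hAB' : A ⊓ B = Subgroup.zpowers j) (M N : Subgroup G) (hjM : j ∈ M) (hjN : j ∈ N)
    (hMN : ∀ a ∈ M, ∀ b ∈ N, a * b = b * a) (hM : M ≤ A ⊔ B) (hN : N ≤ A ⊔ B)
    (hgen : ∀ g ∈ A, ∃ a ∈ M, ∃ b ∈ N, g = a * b) : M ≤ B ∨ N ≤ B := by
  have hjA : j ∈ A ∧ j ∈ B := by
    have : j ∈ A ⊓ B := hAB' ▸ Subgroup.mem_zpowers j
    exact this
  have hj1 : j ≠ 1 := fun h => by rw [h, orderOf_one] at hj; omega
  have hjn : e ⟨j, hjA.1⟩ = -1 := by
    refine (eq_one_or_neg_one h2 ?_).resolve_left fun h => hj1 ?_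
    · rw [← map_mul, ← map_one e]
      congr 1
      refine Subtype.ext ?_
      show j * j = 1
      rw [← pow_two, ← hj, pow_orderOf_eq_one]
    · rw [EmbeddingLike.map_eq_one_iff] at h
      exact congrArg Subtype.val h
  let P : Subgroup G → Subgroup (Matrix.SpecialLinearGroup (Fin 2) F) := fun M =>
    { carrier := {s | ∃ m ∈ M, ((e.symm s : A) : G)⁻¹ * m ∈ B}
      one_mem' := ⟨1, M.one_mem, by simp⟩
      mul_mem' := by
        rintro s t ⟨m, hm, hs⟩ ⟨m', hm', ht⟩
        refine ⟨m * m', M.mul_mem hm hm', ?_⟩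
        have e1 : ((e.symm (s * t) : A) : G)⁻¹ * (m * m') =
            (((e.symm s : A) : G)⁻¹ * m) * (((e.symm t : A) : G)⁻¹ * m') := by
          have c := hAB ((e.symm t : A) : G)⁻¹ (A.inv_mem (e.symm t).2) _ hs
          rw [map_mul, Subgroup.coe_mul, _root_.mul_inv_rev, mul_assoc, ← mul_assoc _ m m',
            ← mul_assoc, c]
          group
        rw [e1]
        exact B.mul_mem hs ht
      inv_mem' := by
        rintro s ⟨m, hm, hs⟩
        refine ⟨m⁻¹, M.inv_mem hm, ?_⟩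
        have c := hAB ((e.symm s : A) : G) (e.symm s).2 _ (B.inv_mem hs)
        have : ((e.symm s⁻¹ : A) : G)⁻¹ * m⁻¹ = (((e.symm s : A) : G)⁻¹ * m)⁻¹ := by
          rw [map_inv, Subgroup.coe_inv, inv_inv]
          calc ((e.symm s : A) : G) * m⁻¹
              = ((e.symm s : A) : G) * (((e.symm s : A) : G)⁻¹ * m)⁻¹ * ((e.symm s : A) : G)⁻¹ := by group
            _ = (((e.symm s : A) : G)⁻¹ * m)⁻¹ := by rw [c, mul_inv_cancel_right]
        rw [this]
        exact B.inv_mem hs }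
  have hjmem : ∀ M : Subgroup G, j ∈ M → (-1 : Matrix.SpecialLinearGroup (Fin 2) F) ∈ P M := by
    intro M hjM
    refine ⟨j, hjM, ?_⟩
    rw [← hjn, e.symm_apply_apply]
    simp
  have hjz : ∀ x ∈ A, x ∈ B → x = 1 ∨ x = j := fun x h1 h2' => mem_zpowers_invol hj (hAB' ▸ ⟨h1, h2'⟩)
  rcases split h2 (P M) (P N) (hjmem M hjM) (hjmem N hjN) (by
    rintro s ⟨m, hm, hs⟩ t ⟨m', hm', ht⟩
    obtain ⟨a, ha⟩ : ∃ a, a = ((e.symm s : A) : G) := ⟨_, rfl⟩
    obtain ⟨b, hb⟩ : ∃ b, b = ((e.symm t : A) : G) := ⟨_, rfl⟩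
    rw [← ha] at hs
    rw [← hb] at ht
    have haA : a ∈ A := ha ▸ (e.symm s).2
    have hbA : b ∈ A := hb ▸ (e.symm t).2
    have e1 : m * m' = a * b * ((a⁻¹ * m) * (b⁻¹ * m')) := by
      rw [mul_assoc a b, ← mul_assoc b, hAB b hbA _ hs]; group
    have e2 : m' * m = b * a * ((b⁻¹ * m') * (a⁻¹ * m)) := by
      rw [mul_assoc b a, ← mul_assoc a, hAB a haA _ ht]; group
    have e3 : (b * a)⁻¹ * (a * b) ∈ B := by
      have : (b * a)⁻¹ * (a * b) = ((b⁻¹ * m') * (a⁻¹ * m)) * ((a⁻¹ * m) * (b⁻¹ * m'))⁻¹ := by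
        rw [eq_mul_inv_iff_mul_eq, mul_assoc, ← e1, hMN m hm m' hm', e2, inv_mul_cancel_left]
      rw [this]
      exact B.mul_mem (B.mul_mem ht hs) (B.inv_mem (B.mul_mem hs ht))
    have e4 : (b * a)⁻¹ * (a * b) ∈ A :=
      A.mul_mem (A.inv_mem (A.mul_mem hbA haA)) (A.mul_mem haA hbA)
    have e5 : ((e.symm ((t * s)⁻¹ * (s * t)) : A) : G) = (b * a)⁻¹ * (a * b) := by
      simp [ha, hb]
    rcases hjz _ e4 e3 with h | h
    · left
      rw [← e5, ← Subgroup.coe_one A] at h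
      have h' := e.symm.injective ((Subtype.ext h).trans (map_one e.symm).symm)
      exact (inv_mul_eq_one.1 h').symm
    · right
      rw [← e5] at h
      have h' : (t * s)⁻¹ * (s * t) = -1 := by
        rw [← hjn, ← e.apply_symm_apply ((t * s)⁻¹ * (s * t))]
        exact congrArg e (Subtype.ext h)
      rw [inv_mul_eq_iff_eq_mul] at h'
      rw [h', mul_neg, mul_one]) (by
    intro s
    obtain ⟨m, hm, m', hm', hg⟩ := hgen _ (e.symm s).2
    obtain ⟨a, haA, b, hbB, ha⟩ := exists_mul_of_sup A B hAB m (hM hm)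
    obtain ⟨a', haA', b', hbB', ha'⟩ := exists_mul_of_sup A B hAB m' (hN hm')
    have hin : (a * a')⁻¹ * ((e.symm s : A) : G) ∈ B := by
      rw [hg, ha, ha', mul_assoc a b, ← mul_assoc b, ← hAB a' haA' b hbB,
        show (a * a')⁻¹ * (a * (a' * b * b')) = b * b' by group]
      exact B.mul_mem hbB hbB'
    refine ⟨e ⟨a, haA⟩, ⟨m, hm, by rw [e.symm_apply_apply, ha]; simpa using hbB⟩,
      (e ⟨a, haA⟩)⁻¹ * s, ⟨m', hm', ?_⟩, by rw [mul_inv_cancel_left]⟩
    rw [map_mul, map_inv, e.symm_apply_apply, Subgroup.coe_mul, Subgroup.coe_inv, ha']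
    rw [show (a⁻¹ * ((e.symm s : A) : G))⁻¹ * (a' * b') =
      ((a * a')⁻¹ * ((e.symm s : A) : G))⁻¹ * b' by group]
    exact B.mul_mem (B.inv_mem hin) hbB') with h | h
  · left
    intro m hm
    obtain ⟨a, haA, b, hbB, rfl⟩ := exists_mul_of_sup A B hAB m (hM hm)
    have : e ⟨a, haA⟩ ∈ P M := ⟨a * b, hm, by rw [e.symm_apply_apply]; simpa using hbB⟩
    refine B.mul_mem ?_ hbB
    rcases h _ this with h' | h'
    · rw [EmbeddingLike.map_eq_one_iff] at h'
      rw [show a = 1 from congrArg Subtype.val h']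
      exact B.one_mem
    · rw [← hjn] at h'
      rw [show a = j from congrArg Subtype.val (e.injective h')]
      exact hjA.2
  · right
    intro m hm
    obtain ⟨a, haA, b, hbB, rfl⟩ := exists_mul_of_sup A B hAB m (hN hm)
    have : e ⟨a, haA⟩ ∈ P N := ⟨a * b, hm, by rw [e.symm_apply_apply]; simpa using hbB⟩
    refine B.mul_mem ?_ hbB
    rcases h _ this with h' | h'
    · rw [EmbeddingLike.map_eq_one_iff] at h'
      rw [show a = 1 from congrArg Subtype.val h']
      exact B.one_mem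
    · rw [← hjn] at h'
      rw [show a = j from congrArg Subtype.val (e.injective h')]
      exact hjA.2

theorem card_eq [Fintype F] (L : Subgroup G) (e : ↥L ≃* Matrix.SpecialLinearGroup (Fin 2) F) :
    Nat.card L = Fintype.card F * (Fintype.card F ^ 2 - 1) := by
  rw [Nat.card_congr e.toEquiv, CfsgLib.Classical.card_SL_two, Nat.card_eq_fintype_card]

theorem two_lt_card [Fintype F] (L : Subgroup G) (e : ↥L ≃* Matrix.SpecialLinearGroup (Fin 2) F) :
    2 < Nat.card L := by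
  rw [card_eq L e]
  have h1 : 2 ≤ Fintype.card F := Fintype.one_lt_card
  have h2 : 4 ≤ Fintype.card F ^ 2 := le_trans (by norm_num) (Nat.pow_le_pow_left h1 2)
  calc 2 < 2 * 3 := by norm_num
    _ ≤ _ := Nat.mul_le_mul h1 (by omega)

end CentralProduct

end CfsgLib.Involutions.SLTwoPair
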