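import Cfsg.Agent.Lib.Components.PTimesQ
import Cfsg.Agent.Lib.Components.Bender
import Cfsg.Agent.Lib.CNGroups.Basic
import Cfsg.Agent.Lib.Transfer.NormalPComplement

/-!
# Subgroups containing a self-centralizing subnormal subgroup of `F*` of a maximal subgroup
-/

set_option autoImplicit false
set_option linter.style.haveILetI false

open scoped commutatorElement

namespace CfsgLib.Involutions.SCSubnormal

open Subgroup Cfsg

variable {A : Type*} [Group A] [Finite A]

/-- An element normalizing a nilpotent group of coprime order centralizes it if it centralizes a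
self-centralizing subgroup. -/
theorem commute_of_selfCentralizing {N R : Subgroup A} (hN : Group.IsNilpotent N) (hR : R ≤ N)
    (hC : ∀ n ∈ N, (∀ r ∈ R, n * r = r * n) → n ∈ R) {q : A}
    (hq : q ∈ normalizer (N : Set A)) (hco : (orderOf q).Coprime (Nat.card N))
    (hfix : ∀ r ∈ R, q * r = r * q) : ∀ n ∈ N, q * n = n * q := by
  set C := N ⊓ centralizer ({q} : Set A)
  have hCq : ∀ c ∈ C, q * c = c * q := fun c hc => (mem_centralizer_singleton_iff.1 hc.2).symm
  have hRC : R ≤ C := fun r hr => ⟨hR hr, mem_centralizer_singleton_iff.2 (hfix r hr).symm⟩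
  by_cases h : N ≤ C
  · exact fun n hn => hCq n (h hn)
  exfalso
  haveI := hN
  have hlt : C.subgroupOf N < ⊤ := lt_top_iff_ne_top.mpr fun e => h (subgroupOf_eq_top.1 e)
  obtain ⟨⟨x, hxN⟩, hxn, hxC⟩ := SetLike.exists_of_lt
    (Group.normalizerCondition_of_isNilpotent (G := N) _ hlt)
  have hxn' : ∀ c ∈ C, x * c * x⁻¹ ∈ C ∧ x⁻¹ * c * x ∈ C := fun c hc =>
    ⟨(mem_normalizer_iff.1 hxn ⟨c, hc.1⟩).1 hc, (mem_normalizer_iff''.1 hxn ⟨c, hc.1⟩).1 hc⟩
  set d := q * x * q⁻¹ * x⁻¹ with hd
  have hdN : d ∈ N := N.mul_mem ((mem_normalizer_iff.1 hq x).1 hxN) (N.inv_mem hxN)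
  have hdC : ∀ r ∈ R, d * r = r * d := fun r hr => by
    have h1 := hCq r (hRC hr)
    have h2 := hCq _ (hxn' r (hRC hr)).2
    have h1' : q * r * q⁻¹ = r := by rw [h1, mul_inv_cancel_right]
    have h2' : q * (x⁻¹ * r * x) * q⁻¹ = x⁻¹ * r * x := by rw [h2, mul_inv_cancel_right]
    rw [← mul_inv_eq_iff_eq_mul]
    calc d * r * d⁻¹ = q * x * (q⁻¹ * (x⁻¹ * r * x) * q) * x⁻¹ * q⁻¹ := by rw [hd]; group
      _ = q * x * (q⁻¹ * (q * (x⁻¹ * r * x) * q⁻¹) * q) * x⁻¹ * q⁻¹ := by rw [h2']
      _ = q * r * q⁻¹ := by group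
      _ = r := h1'
  have hdR : d ∈ C := hRC (hC d hdN hdC)
  refine hxC (mem_subgroupOf.2 ⟨hxN, mem_centralizer_singleton_iff.2 ?_⟩)
  exact (OddOrder.commute_of_conj_eq_mul (a := q) (d := d) (h := x) (hCq d hdR)
    (by rw [hd]; group) (hco.coprime_dvd_right (N.orderOf_dvd_natCard hdN))).eq.symm

/-- A component is contained in a self-centralizing subnormal subgroup of `F*`. -/
theorem layer_le {S : Subgroup A} (hS : S.IsSubnormal)
    (hC : ∀ a ∈ generalizedFittingSubgroup A, (∀ s ∈ S, a * s = s * a) → a ∈ S) :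
    layer A ≤ S := by
  refine Components.layer_le_iff.2 fun L hL => ?_
  rcases Components.component_le_or_commutator_eq_bot hL hS with h | h
  · exact h
  · refine fun l hl => hC l (Components.layer_le_fstar (Components.component_le_layer hL hl)) ?_
    exact fun s hs => (mem_centralizer_iff.1 (commutator_eq_bot_iff_le_centralizer.1 h hl) s hs).symm

theorem commute_layer_fitting {e f : A} (he : e ∈ layer A) (hf : f ∈ fittingSubgroup A) :
    e * f = f * e :=
  (mem_centralizer_iff.1 (Components.layer_le_centralizer_fitting he) f hf).symm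

/-- An element of `F(A)` centralizing `S ∩ F(A)` lies in `S`. -/
theorem fitting_selfCentralizing {S : Subgroup A} (hS : S.IsSubnormal)
    (hSF : S ≤ generalizedFittingSubgroup A)
    (hC : ∀ a ∈ generalizedFittingSubgroup A, (∀ s ∈ S, a * s = s * a) → a ∈ S)
    {f : A} (hf : f ∈ fittingSubgroup A)
    (h : ∀ r ∈ S, r ∈ fittingSubgroup A → f * r = r * f) : f ∈ S := by
  refine hC f (Components.fitting_le_fstar hf) fun s hs => ?_
  haveI : (fittingSubgroup A).Normal := Base.fittingSubgroup_normal' A
  obtain ⟨e, he, g, hg, rfl⟩ := mem_sup_of_normal_right.1 (hSF hs)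
  have hgS : g ∈ S := (mul_mem_cancel_left (layer_le hS hC he)).1 hs
  rw [← mul_assoc, ← commute_layer_fitting he hf, mul_assoc, h g hgS hg, mul_assoc]

/-- Elements of `F*` of order prime to `p` centralize every `p`-subgroup normalized by `S`. -/
theorem commute_pSubgroup {p : ℕ} [hp : Fact p.Prime] {S : Subgroup A} (hS : S.IsSubnormal)
    (hSF : S ≤ generalizedFittingSubgroup A)
    (hC : ∀ a ∈ generalizedFittingSubgroup A, (∀ s ∈ S, a * s = s * a) → a ∈ S)
    {Q : Subgroup A} (hQ : IsPGroup p Q) (hSQ : S ≤ normalizer (Q : Set A))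
    {y : A} (hy : y ∈ generalizedFittingSubgroup A) (hyp : (orderOf y).Coprime p) :
    ∀ q ∈ Q, y * q = q * y := by
  have hE : ∀ e ∈ layer A, ∀ q ∈ Q, e * q = q * e := by
    have : layer A ≤ centralizer (Q : Set A) := Components.layer_le_iff.2 fun L hL =>
      commutator_eq_bot_iff_le_centralizer.1
        (Components.component_commutator_eq_bot_of_normalizes hL
          (haveI := hQ.isNilpotent; inferInstance)
          (((Components.component_le_layer hL).trans (layer_le hS hC)).trans hSQ))
    exact fun e he q hq => (mem_centralizer_iff.1 (this he) q hq).symm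
  have hr : ∀ r : ℕ, r.Prime → r ≠ p → ∀ a ∈ pCore r A, ∀ q ∈ Q, a * q = q * a := by
    intro r hr hrp a ha q hq
    haveI := Fact.mk hr
    haveI : (pCore r A).Normal := Cfsg.pCore_normal r A
    have hN : pCore r A ≤ fittingSubgroup A := Base.pCore_le_fittingSubgroup r A
    have hpr : IsPGroup r (pCore r A) := Base.isPGroup_pCore r A
    refine (commute_of_selfCentralizing (N := pCore r A) (R := S ⊓ pCore r A) hpr.isNilpotent
      inf_le_right ?_ (q := q) (le_normalizer_of_normal (mem_top q)) ?_ ?_ a ha).symm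
    · intro n hn hcomm
      refine ⟨fitting_selfCentralizing hS hSF hC (hN hn) fun g hgS hgF => ?_, hn⟩
      obtain ⟨u, hu, v, hv, huv, ⟨k, hk⟩, hvr⟩ := Transfer.exists_pPart_mul (p := r) g
      have huS : u ∈ S := zpowers_le.2 hgS hu
      have hvF : v ∈ fittingSubgroup A := zpowers_le.2 hgF hv
      have huO : u ∈ pCore r A := by
        have huF : u ∈ fittingSubgroup A := zpowers_le.2 hgF hu
        refine Components.pGroup_le_pCore_of_le_fitting (P := zpowers u) ?_
          (zpowers_le.2 huF) (mem_zpowers u)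
        refine IsPGroup.of_card (n := orderOf u |>.factorization r) ?_
        obtain ⟨i, -, hi⟩ := (Nat.dvd_prime_pow hr).1 hk
        rw [Nat.card_zpowers, hi, hr.factorization_pow, Finsupp.single_eq_same]
      have h1 : n * u = u * n := hcomm u ⟨huS, huO⟩
      have h2 : Commute n v := CNGroups.commute_of_coprime
        (Base.isNilpotent_fittingSubgroup A) (hN hn) hvF (by
          obtain ⟨i, hi⟩ := IsPGroup.iff_orderOf.1 hpr ⟨n, hn⟩
          rw [Subgroup.orderOf_mk] at hi
          rw [hi]
          exact (Nat.Coprime.pow_right i hvr).symm)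
      rw [← huv, ← mul_assoc, h1, mul_assoc, h2.eq, mul_assoc]
    · obtain ⟨i, hi⟩ := IsPGroup.iff_orderOf.1 hQ ⟨q, hq⟩
      obtain ⟨j, hj⟩ := IsPGroup.iff_card.1 hpr
      rw [Subgroup.orderOf_mk] at hi
      rw [hi, hj]
      exact Nat.Coprime.pow _ _ ((Nat.coprime_primes hp.out hr).2 (Ne.symm hrp))
    · rintro s ⟨hsS, hsO⟩
      have hd : ⁅q, s⁆ ∈ Q ⊓ pCore r A := by
        refine ⟨?_, ?_⟩
        · rw [commutatorElement_def, mul_assoc q, mul_assoc q]
          exact Q.mul_mem hq ((mem_normalizer_iff.1 (hSQ hsS) _).1 (Q.inv_mem hq))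
        · rw [commutatorElement_def]
          exact (pCore r A).mul_mem (‹(pCore r A).Normal›.conj_mem s hsO q) ((pCore r A).inv_mem hsO)
      rw [disjoint_iff.1 (IsPGroup.disjoint_of_ne p r (Ne.symm hrp) _ _ hQ hpr), mem_bot,
        commutatorElement_eq_one_iff_mul_comm] at hd
      exact hd
  -- decompose `y`
  haveI : (fittingSubgroup A).Normal := Base.fittingSubgroup_normal' A
  obtain ⟨e, he, f, hf, rfl⟩ := mem_sup_of_normal_right.1 hy
  obtain ⟨u, hu, v, hv, huv, ⟨k, hk⟩, hvp⟩ := Transfer.exists_pPart_mul (p := p) f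
  have huF : u ∈ fittingSubgroup A := zpowers_le.2 hf hu
  have hvF : v ∈ fittingSubgroup A := zpowers_le.2 hf hv
  have hvQ : ∀ q ∈ Q, v * q = q * v := by
    intro q hq
    -- `v` is a product of elements of the cores of primes other than `p`
    have : v ∈ centralizer (Q : Set A) := by
      clear huv hk q hq
      induction hd : orderOf v using Nat.strong_induction_on generalizing v with
      | _ d ih =>
        by_cases hv1 : v = 1
        · exact hv1 ▸ one_mem _
        obtain ⟨r, hrp, hrd⟩ := Nat.exists_prime_and_dvd (fun h => hv1 (orderOf_eq_one_iff.1 h))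
        haveI := Fact.mk hrp
        obtain ⟨a, ha, b, hb, hab, ⟨i, hi⟩, hbr⟩ := Transfer.exists_pPart_mul (p := r) v
        have hne : r ≠ p := fun e => by
          subst e
          exact hrp.ne_one (Nat.dvd_one.1 (hvp ▸ Nat.dvd_gcd hrd dvd_rfl))
        have haO : a ∈ pCore r A := by
          refine Components.pGroup_le_pCore_of_le_fitting (P := zpowers a) ?_
            (zpowers_le.2 (zpowers_le.2 hvF ha)) (mem_zpowers a)
          refine IsPGroup.of_card (n := orderOf a |>.factorization r) ?_
          obtain ⟨j, -, hj⟩ := (Nat.dvd_prime_pow hrp).1 hi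
          rw [Nat.card_zpowers, hj, hrp.factorization_pow, Finsupp.single_eq_same]
        have haQ : a ∈ centralizer (Q : Set A) :=
          mem_centralizer_iff.2 fun q hq => (hr r hrp hne a haO q hq).symm
        have hblt : orderOf b < d := by
          rw [← hd]
          refine lt_of_le_of_ne (Nat.le_of_dvd (orderOf_pos v) (orderOf_dvd_of_mem_zpowers hb))
            fun e => ?_
          rw [← e] at hrd
          exact hrp.ne_one (Nat.dvd_one.1 (hbr ▸ Nat.dvd_gcd hrd dvd_rfl))
        rw [← hab]
        exact mul_mem haQ (ih _ hblt b ((zpowers_le.2 hv) hb)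
          (Nat.Coprime.coprime_dvd_left (orderOf_dvd_of_mem_zpowers hb) hvp) (zpowers_le.2 hvF hb) rfl)
    exact (mem_centralizer_iff.1 this q hq).symm
  intro q hq
  set w := e * v with hw
  have hwQ : ∀ q ∈ Q, Commute w q := fun q hq =>
    Commute.mul_left (hE e he q hq) (hvQ q hq)
  have hwu : Commute w u := Commute.mul_left (commute_layer_fitting he huF) (by
    obtain ⟨i, rfl⟩ := hu; obtain ⟨j, rfl⟩ := hv
    exact (Commute.refl f).zpow_zpow j i)
  have hef : e * f = w * u := by
    rw [hw, mul_assoc, ← huv]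
    congr 1
    obtain ⟨i, rfl⟩ := hu; obtain ⟨j, rfl⟩ := hv
    exact ((Commute.refl f).zpow_zpow i j).eq
  have hpow : (e * f) ^ p ^ k = w ^ p ^ k := by
    rw [hef, hwu.mul_pow, orderOf_dvd_iff_pow_eq_one.1 hk, mul_one]
  obtain ⟨m, hm⟩ := exists_pow_eq_self_of_coprime
    ((Nat.Coprime.pow_left k hyp.symm) : (p ^ k).Coprime (orderOf (e * f)))
  rw [← hm, hpow, ← pow_mul]
  exact ((hwQ q hq).pow_left _).eq

variable {G : Type*} [Group G] [Finite G]

theorem main [IsSimpleGroup G] (M : Subgroup G) (hM : IsCoatom M)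
    (S : Subgroup G) (hSF : S ≤ (generalizedFittingSubgroup ↥M).map M.subtype)
    (hSsn : (S.subgroupOf ((generalizedFittingSubgroup ↥M).map M.subtype)).IsSubnormal)
    (hSC : (generalizedFittingSubgroup ↥M).map M.subtype ⊓ centralizer (S : Set G) ≤ S)
    (B : Subgroup G) (hSB : S ≤ B) :
    (∀ q : ℕ, q.Prime → ¬ q ∣ Nat.card (fittingSubgroup ↥M) →
        (pCore q ↥B).map B.subtype ⊓ M = ⊥) ∧
      (∀ p : ℕ, p.Prime → p ∣ Nat.card (fittingSubgroup ↥M) →
        ∀ x ∈ (pCore p ↥B).map B.subtype,
          ∀ y ∈ (pResidual p ↥(generalizedFittingSubgroup ↥M)).map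
            (generalizedFittingSubgroup ↥M).subtype,
          x * (M.subtype y) = (M.subtype y) * x) := by
  set F := generalizedFittingSubgroup ↥M
  set FG := F.map M.subtype
  have hSM : S ≤ M := hSF.trans (map_subtype_le _)
  set S' := S.subgroupOf M
  have hS'F : S' ≤ F := fun s hs => by
    obtain ⟨t, ht, e⟩ := hSF (mem_subgroupOf.1 hs)
    exact (Subtype.ext e : t = s) ▸ ht
  have hFn : F.Normal := inferInstance
  have hS'sn : S'.IsSubnormal := by
    let e : F ≃* FG := F.equivMapOfInjective M.subtype M.subtype_injective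
    have e1 : (S.subgroupOf FG).map e.symm.toMonoidHom = S'.subgroupOf F := by
      rw [Subgroup.map_equiv_eq_comap_symm']
      ext a
      rfl
    have h1 : (S'.subgroupOf F).IsSubnormal := e1 ▸ Components.isSubnormal_map_equiv e.symm hSsn
    exact Subgroup.IsSubnormal.trans hS'F h1 hFn.isSubnormal
  have hC : ∀ a ∈ F, (∀ s ∈ S', a * s = s * a) → a ∈ S' := fun a ha h =>
    mem_subgroupOf.2 (hSC ⟨⟨a, ha, rfl⟩, mem_centralizer_iff.2 fun s hs =>
      (congrArg Subtype.val (h ⟨s, hSM hs⟩ (mem_subgroupOf.2 hs))).symm⟩)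
  have hcore : ∀ p : ℕ, S ≤ normalizer (((pCore p ↥B).map B.subtype : Subgroup G) : Set G) :=
    fun p => hSB.trans (Components.coreOf_normalizer p B)
  have hS'N : ∀ p : ℕ, S' ≤
      normalizer ((((pCore p ↥B).map B.subtype).subgroupOf M : Subgroup M) : Set M) := fun p s hs =>
    mem_normalizer_iff.2 fun a => (mem_normalizer_iff.1 (hcore p (mem_subgroupOf.1 hs)) (a : G))
  refine ⟨fun q hq hqF => ?_, fun p hp hpF => ?_⟩
  · haveI := Fact.mk hq
    set Q := ((pCore q ↥B).map B.subtype).subgroupOf M with hQdef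
    have hQ : IsPGroup q Q := ((Base.isPGroup_pCore q B).map B.subtype).comap_subtype
    have hcent : Q ≤ centralizer (F : Set M) := by
      refine le_centralizer_iff.1 (sup_le ?_ ?_)
      · exact Components.layer_le_iff.2 fun L hL => commutator_eq_bot_iff_le_centralizer.1
          (Components.component_commutator_eq_bot_of_normalizes hL
            (haveI := hQ.isNilpotent; inferInstance)
            (((Components.component_le_layer hL).trans (layer_le hS'sn hC)).trans (hS'N q)))
      · intro f hf
        refine mem_centralizer_iff.2 fun x hx => (commute_pSubgroup hS'sn hS'F hC hQ (hS'N q)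
          (Components.fitting_le_fstar hf) ?_ x hx).symm
        exact ((hq.coprime_iff_not_dvd).2 fun h =>
          hqF (h.trans (Subgroup.orderOf_dvd_natCard _ hf))).symm
    rw [eq_bot_iff]
    rintro x ⟨hx, hxM⟩
    have hxQ : (⟨x, hxM⟩ : M) ∈ Q := mem_subgroupOf.2 hx
    obtain ⟨i, hi⟩ := IsPGroup.iff_orderOf.1 hQ ⟨_, hxQ⟩
    rw [Subgroup.orderOf_mk] at hi
    have hd : q ^ i ∣ Nat.card (fittingSubgroup ↥M) := hi ▸ Subgroup.orderOf_dvd_natCard _
      (Components.centralizer_fstar_le_fitting (hcent hxQ))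
    rcases Nat.eq_zero_or_pos i with rfl | hi0
    · rw [mem_bot]
      exact congrArg Subtype.val (orderOf_eq_one_iff.1 (hi.trans (pow_zero q)))
    · exact absurd ((dvd_pow_self q hi0.ne').trans hd) hqF
  · haveI := Fact.mk hp
    set P := (pCore p ↥B).map B.subtype with hPdef
    have hP : IsPGroup p P := (Base.isPGroup_pCore p B).map B.subtype
    set Q := P.subgroupOf M with hQdef
    have hQ : IsPGroup p Q := hP.comap_subtype
    -- the central `p`-part of `F(M)`
    haveI : (pCore p ↥M).Normal := Cfsg.pCore_normal p M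
    set W := fittingSubgroup ↥M ⊓ centralizer (fittingSubgroup ↥M : Set M) ⊓ pCore p ↥M with hW
    haveI : (fittingSubgroup ↥M).Normal := Base.fittingSubgroup_normal' M
    haveI hWn : W.Normal := inferInstance
    have hcen : ∀ r : ℕ, r.Prime → r ∣ Nat.card (fittingSubgroup ↥M) →
        fittingSubgroup ↥M ⊓ centralizer (fittingSubgroup ↥M : Set M) ⊓ pCore r ↥M ≠ ⊥ := by
      intro r hr hd hbot
      haveI := Fact.mk hr
      obtain ⟨a, ha⟩ := exists_prime_orderOf_dvd_card' r hd
      have haO : (a : M) ∈ pCore r ↥M :=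
        Components.pGroup_le_pCore_of_le_fitting (P := zpowers (a : M))
          (IsPGroup.of_card (n := 1) (by
            rw [Nat.card_zpowers, Subgroup.orderOf_coe, ha, pow_one]))
          (zpowers_le.2 a.2) (mem_zpowers _)
      have hne : pCore r ↥M ≠ ⊥ := fun h => by
        rw [h, mem_bot] at haO
        rw [← Subgroup.orderOf_coe, haO, orderOf_one] at ha
        exact hr.ne_one ha.symm
      have hpr : IsPGroup r (pCore r ↥M) := Base.isPGroup_pCore r M
      haveI : Nontrivial (pCore r ↥M) := (nontrivial_iff_ne_bot _).2 hne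
      haveI := hpr.center_nontrivial
      obtain ⟨⟨⟨z, hzO⟩, hz⟩, hz1⟩ := exists_ne (1 : center (pCore r ↥M))
      have hzF : z ∈ fittingSubgroup ↥M := Base.pCore_le_fittingSubgroup r M hzO
      have : z ∈ fittingSubgroup ↥M ⊓ centralizer (fittingSubgroup ↥M : Set M) ⊓ pCore r ↥M := by
        refine ⟨⟨hzF, mem_centralizer_iff.2 fun g hg => ?_⟩, hzO⟩
        obtain ⟨u, hu, v, hv, huv, ⟨k, hk⟩, hvr⟩ := Transfer.exists_pPart_mul (p := r) g
        have huO : u ∈ pCore r ↥M := by
          refine Components.pGroup_le_pCore_of_le_fitting (P := zpowers u) ?_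
            (zpowers_le.2 (zpowers_le.2 hg hu)) (mem_zpowers u)
          refine IsPGroup.of_card (n := orderOf u |>.factorization r) ?_
          obtain ⟨i, -, hi⟩ := (Nat.dvd_prime_pow hr).1 hk
          rw [Nat.card_zpowers, hi, hr.factorization_pow, Finsupp.single_eq_same]
        have h1 : Commute u z := congrArg Subtype.val (mem_center_iff.1 hz ⟨u, huO⟩)
        have h2 : Commute v z := CNGroups.commute_of_coprime
          (Base.isNilpotent_fittingSubgroup M) (zpowers_le.2 hg hv) hzF (by
            obtain ⟨i, hi⟩ := IsPGroup.iff_orderOf.1 hpr ⟨z, hzO⟩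
            rw [Subgroup.orderOf_mk] at hi
            rw [hi]
            exact Nat.Coprime.pow_right i hvr)
        rw [← huv]
        exact (h1.mul_left h2).eq
      rw [hbot, mem_bot] at this
      exact hz1 (Subtype.ext (Subtype.ext this))
    -- central elements of `F(M)` are central in `F*(M)`, so lie in `S'`
    have hZF : ∀ a ∈ fittingSubgroup ↥M ⊓ centralizer (fittingSubgroup ↥M : Set M),
        (∀ f ∈ F, a * f = f * a) ∧ a ∈ S' := by
      rintro a ⟨haF, haC⟩
      have key : F ≤ centralizer ({a} : Set M) := sup_le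
        (fun e he => mem_centralizer_singleton_iff.2 (commute_layer_fitting he haF))
        (fun f hf => mem_centralizer_singleton_iff.2 (mem_centralizer_iff.1 haC f hf))
      have h1 : ∀ f ∈ F, a * f = f * a := fun f hf =>
        (mem_centralizer_singleton_iff.1 (key hf)).symm
      exact ⟨h1, hC a (Components.fitting_le_fstar haF) fun s hs => h1 s (hS'F hs)⟩
    have hconj : ∀ X : Subgroup M, X.Normal → X ≠ ⊥ →
        normalizer ((X.map M.subtype : Subgroup G) : Set G) = M := fun X hX hne =>
      Components.normalizer_eq_of_isCoatom hM (map_subtype_le _)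
        (fun h => hne ((map_eq_bot_iff_of_injective _ M.subtype_injective).1 h))
        (by
          haveI := hX
          exact (le_normalizer_map M.subtype).trans' (fun m hm => ⟨⟨m, hm⟩,
            le_normalizer_of_normal (mem_top _), rfl⟩))
    have hWP : ∀ w ∈ W, (w : G) ∈ normalizer (P : Set G) := fun w hw =>
      hcore p (mem_subgroupOf.1 (hZF w hw.1).2)
    -- every element of order prime to `p` in `S'` centralizes `P`
    have hyP : ∀ y ∈ S', (orderOf y).Coprime p → ∀ x ∈ P, (y : G) * x = x * y := by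
      intro y hy hyp x hx
      refine (mem_centralizer_iff.1 (Components.mem_centralizer_of_pTimesQ (p := p)
        (P := W.map M.subtype) (R := P) ((Base.isPGroup_pCore p M).to_le inf_le_right |>.map _) hP
        (by rintro _ ⟨w, hw, rfl⟩; exact hWP w hw) (q := (y : G))
        (by rwa [Subgroup.orderOf_coe]) ?_ (hcore p (mem_subgroupOf.1 hy)) ?_) x hx).symm
      · refine mem_centralizer_iff.2 ?_
        rintro _ ⟨w, hw, rfl⟩
        exact congrArg Subtype.val ((hZF w hw.1).1 y (hS'F hy))
      · rintro a ⟨haP, haC⟩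
        have haM : a ∈ M := by
          rw [← hconj W hWn (hcen p hp hpF)]
          exact centralizer_le_normalizer _ haC
        refine mem_centralizer_singleton_iff.2 ?_
        exact (congrArg Subtype.val (commute_pSubgroup hS'sn hS'F hC hQ (hS'N p) (hS'F hy) hyp
          ⟨a, haM⟩ (mem_subgroupOf.2 haP))).symm
    intro x hx y hy
    obtain ⟨y, hy, rfl⟩ := hy
    suffices h : ∀ y : F, (orderOf y).Coprime p → Commute x ((y : M) : G) by
      have hc : pResidual p F ≤ (centralizer ({x} : Set G)).comap (M.subtype.comp F.subtype) := by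
        refine (closure_le _).2 fun z hz => ?_
        exact mem_centralizer_singleton_iff.2 (h z hz).eq.symm
      exact (mem_centralizer_singleton_iff.1 (hc hy)).symm
    intro y hyp
    by_cases hy1 : y = 1
    · rw [hy1]; exact Commute.one_right x
    rw [← Subgroup.orderOf_coe] at hyp
    -- `P` lies in `M`
    have hxM : x ∈ M := by
      by_cases hE : layer ↥M = ⊥
      · have hyF : (y : M) ∈ fittingSubgroup ↥M := by
          have h := y.2
          change (y : M) ∈ layer ↥M ⊔ fittingSubgroup ↥M at h
          rwa [hE, bot_sup_eq] at h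
        obtain ⟨r, hr, hrd⟩ := Nat.exists_prime_and_dvd (fun h : orderOf (y : M) = 1 =>
          hy1 (Subtype.ext (orderOf_eq_one_iff.1 h)))
        have hrp : r ≠ p := fun e => by
          subst e
          exact hr.ne_one (Nat.dvd_one.1 (hyp ▸ Nat.dvd_gcd hrd dvd_rfl))
        haveI := Fact.mk hr
        set Z := fittingSubgroup ↥M ⊓ centralizer (fittingSubgroup ↥M : Set M) ⊓ pCore r ↥M
        haveI : (pCore r ↥M).Normal := Cfsg.pCore_normal r M
        have hZn : Z.Normal := inferInstance
        rw [← hconj Z hZn (hcen r hr (hrd.trans (Subgroup.orderOf_dvd_natCard _ hyF)))]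
        refine centralizer_le_normalizer _ (mem_centralizer_iff.2 ?_)
        rintro _ ⟨z, hz, rfl⟩
        refine hyP z (hZF z hz.1).2 ?_ x hx
        obtain ⟨i, hi⟩ := IsPGroup.iff_orderOf.1 (Base.isPGroup_pCore r M) ⟨z, hz.2⟩
        rw [Subgroup.orderOf_mk] at hi
        rw [hi]
        exact Nat.Coprime.pow_left _ ((Nat.coprime_primes hr hp).2 hrp)
      · haveI : (layer ↥M).Normal := Components.layer_normal
        rw [← hconj _ ‹_› hE]
        refine centralizer_le_normalizer _ ?_
        -- a perfect group is generated by its elements of order prime to `p`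
        set R := pResidual p ↥(layer ↥M)
        haveI hRn : R.Normal := Transfer.pResidual_normal
        have hRtop : R = ⊤ := by
          obtain ⟨T⟩ : Nonempty (Sylow p ↥(layer ↥M)) := inferInstance
          have hq : IsPGroup p (↥(layer ↥M) ⧸ R) := by
            refine (T.isPGroup'.map (QuotientGroup.mk' R)).to_le ?_ |>.of_equiv Subgroup.topEquiv
            rintro q -
            obtain ⟨g, rfl⟩ := QuotientGroup.mk'_surjective R q
            obtain ⟨t, ht, c, hc, rfl⟩ := mem_sup_of_normal_right.1
              ((Transfer.sup_pResidual_eq_top T).symm ▸ mem_top g : g ∈ (T : Subgroup _) ⊔ R)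
            exact ⟨t, ht, by rw [map_mul, show QuotientGroup.mk' R c = 1 from
              (QuotientGroup.eq_one_iff c).2 hc, mul_one]⟩
          by_contra hne
          haveI := hq.isNilpotent
          have hp' : Group.IsPerfect ↥(layer ↥M) := Components.layer_isPerfect
          haveI := hp'
          have : Subsingleton (↥(layer ↥M) ⧸ R) := not_nontrivial_iff_subsingleton.1 fun hnt =>
            Group.IsPerfect.not_isNilpotent (G := ↥(layer ↥M) ⧸ R) inferInstance
          exact hne (QuotientGroup.subgroup_eq_top_of_subsingleton R this)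
        refine mem_centralizer_iff.2 ?_
        rintro _ ⟨e, he, rfl⟩
        have hle : R ≤ (centralizer ({x} : Set G)).comap (M.subtype.comp (layer ↥M).subtype) := by
          refine (closure_le _).2 fun g hg => mem_centralizer_singleton_iff.2 ?_
          exact hyP _ (layer_le hS'sn hC g.2) (by rw [Subgroup.orderOf_coe]; exact hg) x hx
        rw [hRtop] at hle
        exact mem_centralizer_singleton_iff.1 (hle (mem_top (⟨e, he⟩ : layer ↥M)))
    exact (congrArg Subtype.val (commute_pSubgroup hS'sn hS'F hC hQ (hS'N p) y.2 hyp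
      ⟨x, hxM⟩ (mem_subgroupOf.2 hx))).symm

end CfsgLib.Involutions.SCSubnormal
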