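import Mathlib
import Cfsg.Agent.Lib.Transfer.Fusion
import Cfsg.Agent.Lib.PGroups.Basic
import Cfsg.Agent.Lib.Involutions.CTSimple

/-!
Simple groups in which every nonabelian subgroup is self-normalizing: centralizers are abelian.
-/

set_option autoImplicit false
set_option linter.style.haveILetI false

namespace CfsgLib.Involutions.SelfNorm

open Subgroup
open scoped commutatorElement

universe u

variable {G : Type u} [Group G]

/-- Every nonabelian subgroup is its own normalizer. -/
def SN (G : Type u) [Group G] : Prop :=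
  ∀ H : Subgroup G, ¬ IsMulCommutative H → normalizer (H : Set G) = H

theorem comm_of {H : Subgroup G} (h : IsMulCommutative H) {a b : G} (ha : a ∈ H) (hb : b ∈ H) :
    a * b = b * a :=
  congrArg Subtype.val (h.is_comm.comm (⟨a, ha⟩ : H) ⟨b, hb⟩)

theorem abelian_of {H : Subgroup G} (h : ∀ a ∈ H, ∀ b ∈ H, a * b = b * a) : IsMulCommutative H :=
  ⟨⟨fun a b => Subtype.ext (h a a.2 b b.2)⟩⟩

theorem abelian_of_le {H K : Subgroup G} (h : H ≤ K) (hK : IsMulCommutative K) :
    IsMulCommutative H :=
  abelian_of fun _ ha _ hb => comm_of hK (h ha) (h hb)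

/-- A normal subgroup of a subgroup, different from it, is abelian. -/
theorem SN.normal_abelian (h : SN G) {N K : Subgroup G} (hle : N ≤ K)
    (hn : ∀ k ∈ K, ∀ x ∈ N, k * x * k⁻¹ ∈ N) (hne : N ≠ K) : IsMulCommutative N := by
  by_contra hN
  refine hne (le_antisymm hle ?_)
  rw [← h N hN]
  intro k hk
  rw [mem_normalizer_iff]
  refine fun x => ⟨fun hx => hn k hk x hx, fun hx => ?_⟩
  have := hn k⁻¹ (inv_mem hk) _ hx
  simpa [mul_assoc] using this

theorem SN.normal_abelian' (h : SN G) (N : Subgroup G) [hN : N.Normal] (hne : N ≠ ⊤) :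
    IsMulCommutative N :=
  h.normal_abelian le_top (fun k _ x hx => hN.conj_mem x hx k) hne

theorem SN.sub (h : SN G) (K : Subgroup G) : SN K := by
  intro H hH
  have hH' : ¬ IsMulCommutative (H.map K.subtype) := fun hc => hH ⟨⟨fun a b => Subtype.ext (Subtype.ext
    (comm_of hc ⟨a, a.2, rfl⟩ ⟨b, b.2, rfl⟩))⟩⟩
  refine le_antisymm (fun k hk => ?_) le_normalizer
  have hk' : (k : G) ∈ normalizer ((H.map K.subtype : Subgroup G) : Set G) :=
    le_normalizer_map K.subtype ⟨k, hk, rfl⟩
  rw [h _ hH'] at hk'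
  obtain ⟨k', hk', e⟩ := hk'
  rwa [← Subtype.ext e]

theorem SN.map {H : Type u} [Group H] (h : SN G) (f : G →* H) (hf : Function.Surjective f) :
    SN H := by
  intro A hA
  have hA' : ¬ IsMulCommutative (A.comap f) := fun hc => hA (abelian_of fun a ha b hb => by
    obtain ⟨a, rfl⟩ := hf a
    obtain ⟨b, rfl⟩ := hf b
    rw [← map_mul, ← map_mul, comm_of hc ha hb])
  have e := h _ hA'
  have e2 : (normalizer (A : Set H)).comap f = normalizer ((A.comap f : Subgroup G) : Set G) :=
    comap_normalizer_eq_of_surjective A hf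
  rw [e] at e2
  exact comap_injective hf e2

/-- An element of an abelian Sylow subgroup central in its normalizer is not in the derived group. -/
theorem eq_one_of_central [Finite G] {p : ℕ} [Fact p.Prime] (P : Sylow p G)
    (hP : IsMulCommutative (P : Subgroup G)) {x : G} (hx : x ∈ (P : Subgroup G))
    (hxc : ∀ n ∈ normalizer ((P : Subgroup G) : Set G), n * x = x * n)
    (hcom : x ∈ commutator G) : x = 1 := by
  haveI := hP
  letI : CommGroup (P : Subgroup G) :=
    { (inferInstance : Group (P : Subgroup G)) with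
      mul_comm := fun a b => hP.is_comm.comm a b }
  have key : ∀ (k : ℕ) (g₀ : G), g₀⁻¹ * x ^ k * g₀ ∈ (P : Subgroup G) →
      g₀⁻¹ * x ^ k * g₀ = x ^ k := by
    intro k g₀ hg
    obtain ⟨n, hn, e⟩ := P.conj_eq_normalizer_conj_of_mem (x ^ k) g₀ (pow_mem hx k) hg
    rw [e]
    have : Commute n (x ^ k) := (show Commute n x from hxc n hn).pow_right k
    rw [mul_assoc, ← this.eq, inv_mul_cancel_left]
  set τ : G →* (P : Subgroup G) := MonoidHom.transfer (MonoidHom.id (P : Subgroup G)) with hτ
  have h1 : τ x = ⟨x ^ (P : Subgroup G).index, MonoidHom.transfer_eq_pow_aux x key⟩ :=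
    MonoidHom.transfer_eq_pow (MonoidHom.id (P : Subgroup G)) x key
  have h2 : τ x = 1 := by
    have hle : commutator G ≤ τ.ker := Abelianization.commutator_subset_ker τ
    exact hle hcom
  have h3 : x ^ (P : Subgroup G).index = 1 := congrArg Subtype.val (h1.symm.trans h2)
  obtain ⟨j, hj⟩ := P.isPGroup' ⟨x, hx⟩
  have h4 : x ^ p ^ j = 1 := congrArg Subtype.val hj
  have h5 := Nat.dvd_gcd (orderOf_dvd_of_pow_eq_one h4) (orderOf_dvd_of_pow_eq_one h3)
  rw [Nat.Coprime.gcd_eq_one (Nat.Coprime.pow_left j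
    ((Fact.out : p.Prime).coprime_iff_not_dvd.2 P.not_dvd_index)), Nat.dvd_one,
    orderOf_eq_one_iff] at h5
  exact h5

/-- A group that is not perfect has a normal subgroup of prime index containing the derived group. -/
theorem exists_normal_prime_index [Finite G] (h : commutator G ≠ ⊤) :
    ∃ M : Subgroup G, M.Normal ∧ M.index.Prime ∧ commutator G ≤ M := by
  haveI : Nontrivial (G ⧸ commutator G) := QuotientGroup.nontrivial_iff.2 h
  obtain ⟨p, hp, hdvd⟩ := Nat.exists_prime_and_dvd
    (Finite.one_lt_card_iff_nontrivial.2 (inferInstance : Nontrivial (G ⧸ commutator G))).ne'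
  haveI : Fact p.Prime := ⟨hp⟩
  have hcomm : ∀ a b : G ⧸ commutator G, a * b = b * a := fun a b => by
    obtain ⟨a, rfl⟩ := QuotientGroup.mk_surjective a
    obtain ⟨b, rfl⟩ := QuotientGroup.mk_surjective b
    rw [← QuotientGroup.mk_mul, ← QuotientGroup.mk_mul, QuotientGroup.eq]
    have : (a * b)⁻¹ * (b * a) = ⁅b⁻¹, a⁻¹⁆ := by rw [commutatorElement_def]; group
    rw [this]
    exact commutator_mem_commutator (mem_top _) (mem_top _)
  rcases eq_top_or_exists_le_coatom (commutator G) with h' | ⟨M, hM, hle⟩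
  · exact absurd h' h
  have hMn : M.Normal := ⟨fun x hx g => by
    have hgx : g * x * g⁻¹ * x⁻¹ ∈ M := hle (commutator_mem_commutator (mem_top g) (mem_top x))
    simpa using mul_mem hgx hx⟩
  refine ⟨M, hMn, ?_, hle⟩
  haveI := hMn
  haveI : Nontrivial (G ⧸ M) := QuotientGroup.nontrivial_iff.2 hM.1
  obtain ⟨q, hq, hqd⟩ := Nat.exists_prime_and_dvd
    (Finite.one_lt_card_iff_nontrivial.2 (inferInstance : Nontrivial (G ⧸ M))).ne'
  haveI : Fact q.Prime := ⟨hq⟩
  obtain ⟨g, hg⟩ := exists_prime_orderOf_dvd_card' q hqd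
  have htop : zpowers g = ⊤ := by
    obtain ⟨g', rfl⟩ := QuotientGroup.mk_surjective g
    have hne : g' ∉ M := fun hm => by
      rw [(QuotientGroup.eq_one_iff g').2 hm, orderOf_one] at hg
      exact hq.ne_one hg.symm
    have hlt : M < (zpowers (g' : G ⧸ M)).comap (QuotientGroup.mk' M) :=
      lt_of_le_of_ne (QuotientGroup.le_comap_mk' M _) fun e =>
        hne (e.symm ▸ mem_zpowers (g' : G ⧸ M))
    have := hM.2 _ hlt
    rw [← map_comap_eq_self_of_surjective (QuotientGroup.mk'_surjective M) (zpowers (g' : G ⧸ M)),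
      this, map_top_of_surjective _ (QuotientGroup.mk'_surjective M)]
  rwa [index_eq_card, ← card_top, ← htop, Nat.card_zpowers, hg]

variable [Finite G]

theorem perfect_of_simple [IsSimpleGroup G] (hna : ¬ IsMulCommutative G) : commutator G = ⊤ := by
  rcases (inferInstance : (commutator G).Normal).eq_bot_or_eq_top with h | h
  · refine absurd ⟨⟨fun a b => ?_⟩⟩ hna
    have hm : ⁅a, b⁆ ∈ commutator G := commutator_mem_commutator (mem_top a) (mem_top b)
    rw [h, Subgroup.mem_bot] at hm
    exact commutatorElement_eq_one_iff_mul_comm.1 hm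
  · exact h

/-- In a CT-group that is simple and nonabelian no centralizer is self-normalizing. -/
theorem centralizer_not_selfNormalizing [IsSimpleGroup G] (hna : ¬ IsMulCommutative G)
    (hCT : CfsgLib.Involutions.CT.IsCT G) {x : G} (hx : x ≠ 1) :
    normalizer ((centralizer ({x} : Set G) : Subgroup G) : Set G) ≠ centralizer {x} := by
  intro hself
  set A := centralizer ({x} : Set G) with hA
  have hAab : IsMulCommutative A := abelian_of fun a ha b hb => hCT.commute hx ha hb
  obtain ⟨r, hr, hrd⟩ := Nat.exists_prime_and_dvd (fun e => hx (orderOf_eq_one_iff.1 e) : orderOf x ≠ 1)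
  haveI : Fact r.Prime := ⟨hr⟩
  have hxA : x ∈ A := mem_centralizer_singleton_iff.2 rfl
  set y := x ^ (orderOf x / r) with hy
  have hyo : orderOf y = r := orderOf_pow_orderOf_div (orderOf_pos x).ne' hrd
  have hy1 : y ≠ 1 := fun e => by rw [e, orderOf_one] at hyo; exact hr.ne_one hyo.symm
  have hyA : y ∈ A := pow_mem hxA _
  obtain ⟨R, hR⟩ : ∃ R : Sylow r A, (⟨y, hyA⟩ : A) ∈ (R : Subgroup A) := by
    obtain ⟨R, hR⟩ := (IsPGroup.of_card (G := zpowers (⟨y, hyA⟩ : A)) (n := 1)
      (by rw [Nat.card_zpowers, pow_one, orderOf_mk, hyo])).exists_le_sylow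
    exact ⟨R, hR (mem_zpowers _)⟩
  set R' := (R : Subgroup A).map A.subtype with hR'
  have hyR : y ∈ R' := ⟨_, hR, rfl⟩
  have hR'A : R' ≤ A := map_subtype_le _
  -- the normalizer of `R'` lies in `A`
  have hN : normalizer (R' : Set G) ≤ A := by
    refine fun g hg => hself ▸ ?_
    have hgy : g * y * g⁻¹ ∈ A := hR'A ((mem_normalizer_iff.1 hg y).1 hyR)
    have hCy : centralizer ({y} : Set G) = A := (hCT.centralizer_eq hx hy1
      (mem_centralizer_singleton_iff.2 (comm_of hAab hyA hxA)))
    have hgy1 : g * y * g⁻¹ ≠ 1 := fun e => hy1 (conj_eq_one_iff.1 e)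
    have hCg : centralizer ({g * y * g⁻¹} : Set G) = A := (hCT.centralizer_eq hx hgy1
      (mem_centralizer_singleton_iff.2 (comm_of hAab hgy hxA)))
    rw [mem_normalizer_iff]
    intro a
    conv_lhs => rw [← hCy]
    conv_rhs => rw [← hCg]
    rw [mem_centralizer_singleton_iff, mem_centralizer_singleton_iff]
    constructor
    · intro h
      simp only [mul_assoc, inv_mul_cancel_left]
      rw [← mul_assoc a y, h, mul_assoc]
    · intro h
      simp only [mul_assoc, inv_mul_cancel_left, mul_right_inj] at h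
      rwa [← mul_assoc, ← mul_assoc y a, mul_left_inj] at h
  obtain ⟨S, hS⟩ := ((R.isPGroup'.map A.subtype).exists_le_sylow : ∃ S : Sylow r G, R' ≤ S)
  have hSR : (S : Subgroup G) = R' := by
    refine le_antisymm (fun s hs => ?_) hS
    by_contra hsR
    have hlt : R'.subgroupOf (S : Subgroup G) < ⊤ := lt_of_le_of_ne le_top fun e =>
      hsR (subgroupOf_eq_top.1 e hs)
    haveI := S.isPGroup'.isNilpotent
    obtain ⟨g, hg, hgR⟩ := SetLike.exists_of_lt
      (Group.normalizerCondition_of_isNilpotent (R'.subgroupOf (S : Subgroup G)) hlt)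
    have hgN : (g : G) ∈ normalizer (R' : Set G) := by
      have := le_normalizer_map (S : Subgroup G).subtype (mem_map_of_mem _ hg)
      rwa [subgroupOf_map_subtype, inf_eq_left.2 hS] at this
    have hgA : (g : G) ∈ A := hN hgN
    have hpg : IsPGroup r ↥((R : Subgroup A) ⊔ zpowers (⟨g, hgA⟩ : A)) := by
      refine R.isPGroup'.to_sup_of_normal_left' (K := zpowers (⟨g, hgA⟩ : A)) ?_ ?_
      · intro q
        obtain ⟨⟨q, hq⟩, hq'⟩ := q
        obtain ⟨i, hi⟩ := hq'
        obtain ⟨j, hj⟩ := S.isPGroup' ⟨(g : G) ^ i, zpow_mem g.2 i⟩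
        refine ⟨j, Subtype.ext (Subtype.ext ?_)⟩
        have e : q = (g : G) ^ i := by
          have := congrArg Subtype.val hi
          simpa using this.symm
        simpa [e] using congrArg Subtype.val hj
      · intro z _
        rw [mem_normalizer_iff]
        intro w
        rw [Subtype.ext (show ((z * w * z⁻¹ : A) : G) = w by
          show (z : G) * w * (z : G)⁻¹ = w
          rw [comm_of hAab z.2 w.2, mul_inv_cancel_right]) ]
    have := R.is_maximal' hpg le_sup_left
    have hmem : (⟨g, hgA⟩ : A) ∈ (R : Subgroup A) := this ▸ mem_sup_right (mem_zpowers _)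
    exact hgR (mem_subgroupOf.2 ⟨_, hmem, rfl⟩)
  refine hy1 (eq_one_of_central S (abelian_of_le (hSR.le.trans hR'A) hAab) (hSR ▸ hyR)
    (fun n hn => ?_) (perfect_of_simple hna ▸ mem_top y))
  rw [hSR] at hn
  exact comm_of hAab (hN hn) hyA

/-- With abelian centralizers in all smaller simple sections, a perfect subgroup is trivial or has
trivial centre. -/
theorem perfect_abelian_normal [IsSimpleGroup G] (h : SN G) (hna : ¬ IsMulCommutative G)
    (IH : ∀ (X : Type u) [Group X] [Finite X] [IsSimpleGroup X], Nat.card X < Nat.card G →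
      ¬ IsMulCommutative X → SN X → CfsgLib.Involutions.CT.IsCT X)
    (K : Subgroup G) (hK : K ≠ ⊤) (hperf : commutator K = ⊤) (N : Subgroup K) [N.Normal]
    (hNab : IsMulCommutative N) (hN : N ≠ ⊥) : False := by
  have hKc : ¬ IsMulCommutative K := fun hc => by
    have hb : commutator K = ⊥ := by
      rw [eq_bot_iff, _root_.commutator_def, commutator_le]
      exact fun a _ b _ => Subgroup.mem_bot.2
        (commutatorElement_eq_one_iff_mul_comm.2 (hc.is_comm.comm a b))
    rw [hb] at hperf
    haveI : Nontrivial K := by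
      haveI := (Subgroup.nontrivial_iff_ne_bot N).2 hN
      obtain ⟨⟨n, hn⟩, hn1⟩ := exists_ne (1 : N)
      exact ⟨⟨n, 1, fun e => hn1 (Subtype.ext e)⟩⟩
    exact bot_ne_top hperf
  -- enlarge `N` to a maximal normal subgroup
  classical
  let s : Set (Subgroup K) := {L | L.Normal ∧ N ≤ L ∧ L ≠ ⊤}
  have hNtop : N ≠ ⊤ := fun e => hKc ⟨⟨fun a b => comm_of (e ▸ hNab) (mem_top a) (mem_top b)⟩⟩
  obtain ⟨L, hL⟩ := (Set.toFinite s).exists_maximal ⟨N, inferInstance, le_rfl, hNtop⟩
  obtain ⟨⟨hLn, hNL, hLtop⟩, hmax⟩ := hL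
  haveI := hLn
  have hLab : IsMulCommutative L := (h.sub K).normal_abelian' L hLtop
  haveI : Nontrivial (K ⧸ L) := QuotientGroup.nontrivial_iff.2 hLtop
  haveI hsimp : IsSimpleGroup (K ⧸ L) := ⟨fun A hA => by
    by_cases hAt : A = ⊤
    · exact Or.inr hAt
    left
    have hc : A.comap (QuotientGroup.mk' L) ∈ s := ⟨hA.comap _,
      hNL.trans (QuotientGroup.le_comap_mk' L A), fun e => hAt (by
        rw [← map_comap_eq_self_of_surjective (QuotientGroup.mk'_surjective L) A, e,
          map_top_of_surjective _ (QuotientGroup.mk'_surjective L)])⟩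
    have heq : A.comap (QuotientGroup.mk' L) = L :=
      le_antisymm (hmax hc (QuotientGroup.le_comap_mk' L A)) (QuotientGroup.le_comap_mk' L A)
    rw [← map_comap_eq_self_of_surjective (QuotientGroup.mk'_surjective L) A, heq,
      QuotientGroup.map_mk'_self]⟩
  have hqna : ¬ IsMulCommutative (K ⧸ L) := fun hc => hLtop (by
    rw [eq_top_iff, ← hperf, _root_.commutator_def, commutator_le]
    intro a _ b _
    rw [← QuotientGroup.eq_one_iff, ← QuotientGroup.mk'_apply, map_commutatorElement]
    exact commutatorElement_eq_one_iff_mul_comm.2 (hc.is_comm.comm _ _))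
  have hSNq : SN (K ⧸ L) := (h.sub K).map _ (QuotientGroup.mk'_surjective L)
  have hlt : Nat.card (K ⧸ L) < Nat.card G := by
    refine lt_of_le_of_lt (Nat.card_le_card_of_surjective _ (QuotientGroup.mk'_surjective L)) ?_
    exact lt_of_le_of_ne K.card_le_card_group fun e => hK (K.card_eq_iff_eq_top.1 e)
  have hCT := IH (K ⧸ L) hlt hqna hSNq
  set π := QuotientGroup.mk' L
  -- preimages of centralizers are abelian
  have hpre : ∀ z : K ⧸ L, z ≠ 1 → IsMulCommutative ((centralizer ({z} : Set (K ⧸ L))).comap π) := by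
    intro z hz
    set A := centralizer ({z} : Set (K ⧸ L))
    refine (h.sub K).normal_abelian (K := (normalizer (A : Set (K ⧸ L))).comap π)
      (comap_mono le_normalizer) (fun g hg a ha => ?_) fun e => ?_
    · show π (g * a * g⁻¹) ∈ A
      rw [map_mul, map_mul, map_inv]
      exact (mem_normalizer_iff.1 hg (π a)).1 ha
    · exact centralizer_not_selfNormalizing hqna hCT hz
        (comap_injective (QuotientGroup.mk'_surjective L) e).symm
  have hLcen : ∀ l ∈ L, ∀ g : K, g * l = l * g := by
    intro l hl g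
    by_cases hg : π g = 1
    · exact comm_of hLab ((QuotientGroup.eq_one_iff g).1 hg) hl
    · refine comm_of (hpre (π g) hg) (mem_centralizer_singleton_iff.2 rfl) (mem_comap.2 ?_)
      rw [show π l = 1 from (QuotientGroup.eq_one_iff l).2 hl]
      exact one_mem _
  -- transfer
  haveI := (Subgroup.nontrivial_iff_ne_bot N).2 hN
  obtain ⟨⟨n, hn⟩, hn1⟩ := exists_ne (1 : N)
  have hn1' : n ≠ 1 := fun e => hn1 (Subtype.ext e)
  obtain ⟨r, hr, hrd⟩ := Nat.exists_prime_and_dvd (fun e => hn1' (orderOf_eq_one_iff.1 e) : orderOf n ≠ 1)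
  haveI : Fact r.Prime := ⟨hr⟩
  set l := n ^ (orderOf n / r)
  have hlo : orderOf l = r := orderOf_pow_orderOf_div (orderOf_pos n).ne' hrd
  have hl1 : l ≠ 1 := fun e => by rw [e, orderOf_one] at hlo; exact hr.ne_one hlo.symm
  have hlL : l ∈ L := pow_mem (hNL hn) _
  obtain ⟨R, hR⟩ := (IsPGroup.of_card (G := zpowers l) (n := 1)
    (by rw [Nat.card_zpowers, pow_one, hlo])).exists_le_sylow
  have hRab : IsMulCommutative (R : Subgroup K) := by
    by_cases hb : (R : Subgroup K).map π = ⊥
    · exact abelian_of_le (fun x hx => (QuotientGroup.eq_one_iff x).1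
        (Subgroup.mem_bot.1 (hb ▸ mem_map_of_mem π hx))) hLab
    · haveI : Nontrivial ((R : Subgroup K).map π) := (nontrivial_iff_ne_bot _).2 hb
      haveI := (R.isPGroup'.map π).center_nontrivial
      obtain ⟨⟨⟨z, hzR⟩, hzc⟩, hz1⟩ := exists_ne (1 : center ((R : Subgroup K).map π))
      refine abelian_of_le (fun x hx => ?_) (hpre z fun e => hz1 (Subtype.ext (Subtype.ext e)))
      show π x ∈ centralizer ({z} : Set (K ⧸ L))
      exact mem_centralizer_singleton_iff.2
        (congrArg Subtype.val ((Subgroup.mem_center_iff.1 hzc) ⟨π x, mem_map_of_mem π hx⟩))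
  exact hl1 (eq_one_of_central R hRab (hR (mem_zpowers l)) (fun g _ => hLcen l hlL g)
    (hperf ▸ mem_top l))

/-- A proper nonabelian subgroup with a nontrivial normal abelian subgroup has a normal abelian
subgroup of prime index containing its derived group. -/
theorem exists_abelian_prime [IsSimpleGroup G] (h : SN G) (hna : ¬ IsMulCommutative G)
    (IH : ∀ (X : Type u) [Group X] [Finite X] [IsSimpleGroup X], Nat.card X < Nat.card G →
      ¬ IsMulCommutative X → SN X → CfsgLib.Involutions.CT.IsCT X)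
    (K : Subgroup G) (hK : K ≠ ⊤) (A : Subgroup G) (hAK : A ≤ K)
    (hAn : ∀ k ∈ K, ∀ a ∈ A, k * a * k⁻¹ ∈ A) (hA : IsMulCommutative A) (hA1 : A ≠ ⊥) :
    ∃ M : Subgroup G, M ≤ K ∧ IsMulCommutative M ∧ (∀ k ∈ K, ∀ m ∈ M, k * m * k⁻¹ ∈ M) ∧
      (M.relIndex K).Prime ∧ ∀ a ∈ K, ∀ b ∈ K, ⁅a, b⁆ ∈ M := by
  haveI : (A.subgroupOf K).Normal := ⟨fun a ha k => hAn k k.2 a ha⟩
  have hnp : commutator K ≠ ⊤ := fun e => perfect_abelian_normal h hna IH K hK e (A.subgroupOf K)
    (abelian_of fun a ha b hb => Subtype.ext (comm_of hA ha hb))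
    (fun e' => hA1 (eq_bot_iff.2 fun a ha => by
      have : (⟨a, hAK ha⟩ : K) ∈ A.subgroupOf K := ha
      rw [e', Subgroup.mem_bot] at this
      exact Subgroup.mem_bot.2 (congrArg Subtype.val this)))
  obtain ⟨M, hMn, hMp, hMc⟩ := exists_normal_prime_index hnp
  have hMtop : M ≠ ⊤ := fun e => hMp.ne_one (index_eq_one.2 e)
  have hMab := (h.sub K).normal_abelian' M hMtop
  refine ⟨M.map K.subtype, map_subtype_le M, abelian_of ?_, ?_, ?_, ?_⟩
  · rintro _ ⟨a, ha, rfl⟩ _ ⟨b, hb, rfl⟩
    exact congrArg Subtype.val (comm_of hMab ha hb)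
  · rintro k hk _ ⟨m, hm, rfl⟩
    exact ⟨_, hMn.conj_mem m hm ⟨k, hk⟩, rfl⟩
  · have : (M.map K.subtype).subgroupOf K = M := comap_map_eq_self_of_injective K.subtype_injective M
    rw [relIndex, this]; exact hMp
  · intro a ha b hb
    exact ⟨⁅(⟨a, ha⟩ : K), ⟨b, hb⟩⁆, hMc (commutator_mem_commutator (mem_top _) (mem_top _)), rfl⟩

theorem sylow_of_normalizer_le {p : ℕ} [Fact p.Prime] {R H : Subgroup G} (hR : IsPGroup p R)
    (hRH : R ≤ H) (hmax : ∀ Q : Subgroup G, Q ≤ H → IsPGroup p Q → R ≤ Q → Q = R)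
    (hN : normalizer (R : Set G) ≤ H) : ∃ P : Sylow p G, (P : Subgroup G) = R := by
  obtain ⟨P, hP⟩ := hR.exists_le_sylow
  refine ⟨P, le_antisymm (fun s hs => ?_) hP⟩
  by_contra hsR
  have hlt : R.subgroupOf (P : Subgroup G) < ⊤ := lt_of_le_of_ne le_top fun e =>
    hsR (subgroupOf_eq_top.1 e hs)
  haveI := P.isPGroup'.isNilpotent
  have h1 := Group.normalizerCondition_of_isNilpotent (R.subgroupOf (P : Subgroup G)) hlt
  set Q := (normalizer ((R.subgroupOf (P : Subgroup G)) : Set (P : Subgroup G))).map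
    (P : Subgroup G).subtype with hQ
  have hRQ : R ≤ Q := by
    have := map_mono (f := (P : Subgroup G).subtype) h1.le
    rwa [subgroupOf_map_subtype, inf_eq_left.2 hP] at this
  have hQN : Q ≤ normalizer (R : Set G) := by
    have := le_normalizer_map (P : Subgroup G).subtype (H := R.subgroupOf (P : Subgroup G))
    rwa [subgroupOf_map_subtype, inf_eq_left.2 hP] at this
  have e := hmax Q (hQN.trans hN) (P.isPGroup'.to_le (map_subtype_le _)) hRQ
  apply h1.ne
  refine map_injective (P : Subgroup G).subtype_injective ?_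
  rw [subgroupOf_map_subtype, inf_eq_left.2 hP, ← hQ, e]

theorem normalizer_zpowers_eq (h : SN G) {x : G}
    (hC : ¬ IsMulCommutative (centralizer ({x} : Set G))) :
    normalizer ((zpowers x : Subgroup G) : Set G) ≤ centralizer {x} := by
  intro g hg
  rw [← h _ hC, mem_normalizer_iff]
  have key : ∀ k ∈ normalizer ((zpowers x : Subgroup G) : Set G), ∀ c ∈ centralizer ({x} : Set G),
      k * c * k⁻¹ ∈ centralizer ({x} : Set G) := by
    intro k hk c hc
    have hx : k⁻¹ * x * k ∈ zpowers x := by
      have := (mem_normalizer_iff.1 (inv_mem hk) x).1 (mem_zpowers x)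
      simpa using this
    obtain ⟨i, hi⟩ := hx
    have hi' : x ^ i = k⁻¹ * x * k := hi
    have hcomm : Commute c (k⁻¹ * x * k) := by
      rw [← hi']
      exact (show Commute c x from mem_centralizer_singleton_iff.1 hc).zpow_right i
    rw [mem_centralizer_singleton_iff]
    calc k * c * k⁻¹ * x = k * (c * (k⁻¹ * x * k)) * k⁻¹ := by group
      _ = k * ((k⁻¹ * x * k) * c) * k⁻¹ := by rw [hcomm.eq]
      _ = x * (k * c * k⁻¹) := by group
  refine fun c => ⟨key g hg c, fun hc => ?_⟩
  have := key g⁻¹ (inv_mem hg) _ hc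
  simpa [mul_assoc] using this

/-- Centralizers of elements of prime order are abelian or self-normalizing Sylow subgroups. -/
theorem prime_centralizer [IsSimpleGroup G] (h : SN G) (hna : ¬ IsMulCommutative G)
    (IH : ∀ (X : Type u) [Group X] [Finite X] [IsSimpleGroup X], Nat.card X < Nat.card G →
      ¬ IsMulCommutative X → SN X → CfsgLib.Involutions.CT.IsCT X)
    {x : G} {r : ℕ} [Fact r.Prime] (hx : orderOf x = r)
    (hC : ¬ IsMulCommutative (centralizer ({x} : Set G))) :
    ∃ P : Sylow r G, (P : Subgroup G) = centralizer {x} := by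
  classical
  have hr : r.Prime := Fact.out
  have hx1 : x ≠ 1 := fun e => by rw [e, orderOf_one] at hx; exact hr.ne_one hx.symm
  set H := centralizer ({x} : Set G) with hH
  have hxH : ∀ g ∈ H, g * x = x * g := fun g hg => mem_centralizer_singleton_iff.1 hg
  have hxmem : x ∈ H := mem_centralizer_singleton_iff.2 rfl
  have hxz : zpowers x ≤ H := zpowers_le.2 hxmem
  have hHtop : H ≠ ⊤ := fun e => by
    haveI : (zpowers x).Normal := ⟨fun a ha g => by
      obtain ⟨i, rfl⟩ := ha
      have : Commute g x := hxH g (e ▸ mem_top g)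
      show g * x ^ i * g⁻¹ ∈ zpowers x
      rw [(this.zpow_right i).eq, mul_inv_cancel_right]
      exact ⟨i, rfl⟩⟩
    rcases (inferInstance : (zpowers x).Normal).eq_bot_or_eq_top with h0 | h0
    · exact hx1 (zpowers_eq_bot.1 h0)
    · refine hna ⟨⟨fun a b => ?_⟩⟩
      exact comm_of (inferInstance : IsMulCommutative (zpowers x)) (h0 ▸ mem_top a) (h0 ▸ mem_top b)
  obtain ⟨M, hMH, hMab, hMn, hMp, hMc⟩ := exists_abelian_prime h hna IH H hHtop (zpowers x) hxz
    (fun k hk a ha => by
      obtain ⟨i, rfl⟩ := ha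
      show k * x ^ i * k⁻¹ ∈ zpowers x
      rw [((show Commute k x from hxH k hk).zpow_right i).eq, mul_inv_cancel_right]
      exact ⟨i, rfl⟩)
    inferInstance (fun e => hx1 (zpowers_eq_bot.1 e))
  haveI hMnH : (M.subgroupOf H).Normal := ⟨fun m hm k => hMn k k.2 m hm⟩
  have hxM : x ∈ M := by
    by_contra hxM
    apply hC
    have htop : M.subgroupOf H ⊔ zpowers (⟨x, hxmem⟩ : H) = ⊤ := by
      rcases hMp.eq_one_or_self_of_dvd _ (index_dvd_of_le
        (le_sup_left : M.subgroupOf H ≤ M.subgroupOf H ⊔ zpowers (⟨x, hxmem⟩ : H))) with e | e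
      · exact index_eq_one.1 e
      · exfalso
        apply hxM
        have e' : M.subgroupOf H ⊔ zpowers (⟨x, hxmem⟩ : H) = M.subgroupOf H := by
          refine le_antisymm ?_ le_sup_left
          refine relIndex_eq_one.1 ?_
          have := relIndex_mul_index (le_sup_left :
            M.subgroupOf H ≤ M.subgroupOf H ⊔ zpowers (⟨x, hxmem⟩ : H))
          rw [e] at this
          exact Nat.eq_of_mul_eq_mul_right hMp.pos (by rw [one_mul]; exact this)
        have : (⟨x, hxmem⟩ : H) ∈ M.subgroupOf H := e' ▸ mem_sup_right (mem_zpowers _)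
        exact this
    refine abelian_of fun a ha b hb => ?_
    have hgen : ∀ c (hc : c ∈ H), ∃ m ∈ M, ∃ i : ℤ, c = m * x ^ i := by
      intro c hc
      have : (⟨c, hc⟩ : H) ∈ M.subgroupOf H ⊔ zpowers (⟨x, hxmem⟩ : H) := htop ▸ mem_top _
      obtain ⟨m, hm, z, ⟨i, rfl⟩, e⟩ := Subgroup.mem_sup_of_normal_left.1 this
      exact ⟨m, hm, i, by simpa using (congrArg Subtype.val e).symm⟩
    obtain ⟨m, hm, i, rfl⟩ := hgen a ha
    obtain ⟨n, hn, j, rfl⟩ := hgen b hb
    have c1 : Commute m n := comm_of hMab hm hn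
    have c2 : Commute m (x ^ j) := (show Commute m x from hxH m (hMH hm)).zpow_right j
    have c3 : Commute (x ^ i) n := ((show Commute n x from hxH n (hMH hn)).zpow_right i).symm
    have c4 : Commute (x ^ i) (x ^ j) := Commute.zpow_zpow_self x i j
    exact ((c1.mul_right c2).mul_left (c3.mul_right c4)).eq
  -- a Sylow subgroup of `H` containing `x`
  obtain ⟨R₀, hR₀⟩ := (IsPGroup.of_card (G := zpowers (⟨x, hxmem⟩ : H)) (n := 1)
    (by rw [Nat.card_zpowers, pow_one, orderOf_mk, hx])).exists_le_sylow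
  set R := (R₀ : Subgroup H).map H.subtype with hR
  have hxR : x ∈ R := ⟨_, hR₀ (mem_zpowers _), rfl⟩
  have hRH : R ≤ H := map_subtype_le _
  have hRp : IsPGroup r R := R₀.isPGroup'.map _
  have hRmax : ∀ Q : Subgroup G, Q ≤ H → IsPGroup r Q → R ≤ Q → Q = R := by
    intro Q hQ hQp hle
    have := R₀.is_maximal' (hQp.comap_subtype (K := H))
      (fun a ha => show (a : G) ∈ Q from hle ⟨a, ha, rfl⟩)
    refine le_antisymm (fun q hq => ⟨⟨q, hQ hq⟩, ?_, rfl⟩) hle
    exact this ▸ (show (⟨q, hQ hq⟩ : H) ∈ Q.comap H.subtype from hq)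
  -- finishing with an abelian `R` normalized only inside `H`
  have fin : IsMulCommutative R → normalizer (R : Set G) ≤ H → False := by
    intro hab hN
    obtain ⟨P, hP⟩ := sylow_of_normalizer_le hRp hRH hRmax hN
    exact hx1 (eq_one_of_central P (hP.symm ▸ hab) (hP.symm ▸ hxR)
      (fun n hn => hxH n (hN (hP ▸ hn))) (perfect_of_simple hna ▸ mem_top x))
  -- the two parts of `M`
  obtain ⟨J, e, he, hcard⟩ := Nat.exists_eq_pow_mul_and_not_dvd (Nat.card_pos (α := H)).ne' r hr.ne_one
  have hcop : Nat.Coprime (r ^ J) e := Nat.Coprime.pow_left J ((Nat.Prime.coprime_iff_not_dvd hr).2 he)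
  let part : ℕ → Subgroup H := fun n =>
    { carrier := {m | m ∈ M.subgroupOf H ∧ m ^ n = 1}
      mul_mem' := fun {a b} ha hb => ⟨mul_mem ha.1 hb.1, by
        rw [(show Commute a b from Subtype.ext (comm_of hMab ha.1 hb.1)).mul_pow, ha.2, hb.2, one_mul]⟩
      one_mem' := ⟨one_mem _, one_pow n⟩
      inv_mem' := fun {a} ha => ⟨inv_mem ha.1, by rw [inv_pow, ha.2, inv_one]⟩ }
  have hpart : ∀ n, (part n).Normal := fun n => ⟨fun m hm g => ⟨hMnH.conj_mem m hm.1 g, by
    rw [conj_pow, hm.2, mul_one, mul_inv_cancel]⟩⟩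
  have hMrR : part (r ^ J) ≤ (R₀ : Subgroup H) := by
    haveI := hpart (r ^ J)
    have hp : IsPGroup r (part (r ^ J)) := fun m => ⟨J, Subtype.ext m.2.2⟩
    exact hp.le_sylow_of_normal R₀
  have hR₀pow : ∀ a ∈ (R₀ : Subgroup H), a ^ r ^ J = 1 := by
    intro a ha
    obtain ⟨j, hj⟩ := R₀.isPGroup' ⟨a, ha⟩
    have h1 : orderOf a ∣ r ^ j := orderOf_dvd_of_pow_eq_one (congrArg Subtype.val hj)
    obtain ⟨i, -, hi⟩ := (Nat.dvd_prime_pow hr).1 h1
    have h2 : r ^ i ∣ r ^ J * e := hi ▸ hcard ▸ orderOf_dvd_natCard a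
    exact orderOf_dvd_iff_pow_eq_one.1 (hi ▸ (Nat.Coprime.pow_left i
      ((Nat.Prime.coprime_iff_not_dvd hr).2 he)).dvd_of_dvd_mul_right h2)
  set O := part e with hOdef
  haveI hOn : O.Normal := hpart e
  have hOR : ∀ a ∈ (R₀ : Subgroup H), a ∈ O → a = 1 := fun a ha hao => by
    have h := Nat.dvd_gcd (orderOf_dvd_of_pow_eq_one (hR₀pow a ha)) (orderOf_dvd_of_pow_eq_one hao.2)
    rwa [Nat.Coprime.gcd_eq_one hcop, Nat.dvd_one, orderOf_eq_one_iff] at h
  have hsplit : M.subgroupOf H ≤ (R₀ : Subgroup H) ⊔ O := by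
    intro m hm
    have h1 : m ^ (r ^ J * e) = 1 := hcard ▸ pow_card_eq_one'
    have hA : m ^ e ∈ (R₀ : Subgroup H) := hMrR ⟨pow_mem hm e, by
      rw [← pow_mul, mul_comm]; exact h1⟩
    have hB : m ^ r ^ J ∈ O := ⟨pow_mem hm _, by rw [← pow_mul]; exact h1⟩
    have hz := Nat.gcd_eq_gcd_ab e (r ^ J)
    rw [Nat.Coprime.gcd_eq_one hcop.symm] at hz
    have : m = (m ^ e) ^ (Nat.gcdA e (r ^ J)) * (m ^ r ^ J) ^ (Nat.gcdB e (r ^ J)) := by
      rw [← zpow_natCast m e, ← zpow_natCast m (r ^ J), ← zpow_mul, ← zpow_mul, ← zpow_add, ← hz]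
      simp
    rw [this]
    exact mul_mem (mem_sup_left (zpow_mem hA _)) (mem_sup_right (zpow_mem hB _))
  by_cases hRM : R ≤ M
  · exfalso
    have hab := abelian_of_le hRM hMab
    refine fin hab ?_
    set N := normalizer (R : Set G) with hNdef
    -- `R` is normal in `H`
    have hR₀eq : (R₀ : Subgroup H) = part (r ^ J) := le_antisymm
      (fun a ha => ⟨hRM ⟨a, ha, rfl⟩, hR₀pow a ha⟩) hMrR
    have hRn : ∀ k ∈ H, ∀ a ∈ R, k * a * k⁻¹ ∈ R := by
      rintro k hk _ ⟨a, ha, rfl⟩
      haveI : (R₀ : Subgroup H).Normal := hR₀eq ▸ hpart _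
      exact ⟨⟨k, hk⟩ * a * ⟨k, hk⟩⁻¹, (inferInstance : (R₀ : Subgroup H).Normal).conj_mem a ha _, rfl⟩
    have hHN : H ≤ N := fun k hk => mem_normalizer_iff.2 fun w => ⟨hRn k hk w, fun hw => by
      have := hRn k⁻¹ (inv_mem hk) _ hw
      simpa [mul_assoc] using this⟩
    have hR1 : R ≠ ⊥ := fun e => hx1 (Subgroup.mem_bot.1 (e ▸ hxR))
    have hNtop : N ≠ ⊤ := fun e => by
      haveI : R.Normal := normalizer_eq_top_iff.1 e
      rcases (inferInstance : R.Normal).eq_bot_or_eq_top with h0 | h0
      · exact hR1 h0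
      · exact hna ⟨⟨fun a b => comm_of hab (h0 ▸ mem_top a) (h0 ▸ mem_top b)⟩⟩
    by_contra hNH
    apply hNH
    -- `H` is normal in `N`
    obtain ⟨M', hM'N, hM'ab, hM'n, hM'p, hM'c⟩ := exists_abelian_prime h hna IH N hNtop R
      (hRH.trans hHN) (fun k hk a ha => (mem_normalizer_iff.1 hk a).1 ha) hab hR1
    by_cases hHM' : H ≤ M'
    · exact absurd (abelian_of_le hHM' hM'ab) hC
    have hcM : ∀ a ∈ N, ∀ b ∈ N, ⁅a, b⁆ ∈ M := by
      -- the centralizer of `R` in `N`
      have hCR : ∀ g, (∀ w ∈ R, g * w = w * g) → g ∈ H := fun g hg =>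
        mem_centralizer_singleton_iff.2 (hg x hxR)
      by_cases hcase : M ≤ M'
      · intro a ha b hb
        have h1 : ∀ g ∈ M', g ∈ H := fun g hg => hCR g fun w hw => comm_of hM'ab hg (hcase (hRM hw))
        have hM'M : M' = M := by
          refine le_antisymm (fun g hg => ?_) hcase
          by_contra hgM
          apply hHM'
          intro k hk
          have htop : M.subgroupOf H < M'.subgroupOf H := lt_of_le_of_ne
            (fun w hw => hcase hw) (fun e => hgM (show (⟨g, h1 g hg⟩ : H) ∈ M.subgroupOf H from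
              e ▸ (show (⟨g, h1 g hg⟩ : H) ∈ M'.subgroupOf H from hg)))
          have : M'.subgroupOf H = ⊤ := by
            rcases hMp.eq_one_or_self_of_dvd _ (index_dvd_of_le htop.le) with e | e
            · exact index_eq_one.1 e
            · exact absurd e (index_strictAnti htop).ne
          exact (show (⟨k, hk⟩ : H) ∈ M'.subgroupOf H from this ▸ mem_top _)
        exact hM'M ▸ hM'c a ha b hb
      · -- `N = M' M` with both abelian and `M` normalized by `M'`
        intro a ha b hb
        haveI : (M'.subgroupOf N).Normal := ⟨fun m hm k => hM'n k k.2 m hm⟩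
        have htop : M'.subgroupOf N ⊔ M.subgroupOf N = ⊤ := by
          rcases hM'p.eq_one_or_self_of_dvd _ (index_dvd_of_le
            (le_sup_left : M'.subgroupOf N ≤ M'.subgroupOf N ⊔ M.subgroupOf N)) with e | e
          · exact index_eq_one.1 e
          · exfalso
            apply hcase
            have e' : M'.subgroupOf N ⊔ M.subgroupOf N = M'.subgroupOf N := by
              refine le_antisymm ?_ le_sup_left
              refine relIndex_eq_one.1 ?_
              have := relIndex_mul_index (le_sup_left :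
                M'.subgroupOf N ≤ M'.subgroupOf N ⊔ M.subgroupOf N)
              rw [e] at this
              exact Nat.eq_of_mul_eq_mul_right hM'p.pos (by rw [one_mul]; exact this)
            intro m hm
            have : (⟨m, hHN (hMH hm)⟩ : N) ∈ M'.subgroupOf N := e' ▸ mem_sup_right hm
            exact this
        -- `M` is normal in `N`, being the centralizer of `R` in `H`
        have hMC : ∀ g ∈ H, (∀ w ∈ R, g * w = w * g) → g ∈ M ∨ ∀ c ∈ H, ∀ w ∈ R, c * w = w * c := by
          intro g hg hgR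
          by_cases hgM : g ∈ M
          · exact Or.inl hgM
          right
          intro c hc w hw
          have hle : M.subgroupOf H < (centralizer (R : Set G)).subgroupOf H := lt_of_le_of_ne
            (fun m hm => mem_centralizer_iff.2 fun w hw => comm_of hMab (hRM hw) hm)
            (fun e => hgM (show (⟨g, hg⟩ : H) ∈ M.subgroupOf H from
              e ▸ (mem_centralizer_iff.2 fun w hw => (hgR w hw).symm)))
          have : (centralizer (R : Set G)).subgroupOf H = ⊤ := by
            rcases hMp.eq_one_or_self_of_dvd _ (index_dvd_of_le hle.le) with e | e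
            · exact index_eq_one.1 e
            · exact absurd e (index_strictAnti hle).ne
          exact (mem_centralizer_iff.1 (show (⟨c, hc⟩ : H) ∈ (centralizer (R : Set G)).subgroupOf H
            from this ▸ mem_top _) w hw).symm
        by_cases hall : ∀ c ∈ H, ∀ w ∈ R, c * w = w * c
        · -- `H` centralizes `R`, so it is normal in `N`
          exfalso
          apply hNH
          refine le_of_le_of_eq (fun k hk => ?_) (h H hC)
          have key : ∀ k ∈ N, ∀ c ∈ H, k * c * k⁻¹ ∈ H := fun k hk c hc => hCR _ fun w hw => by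
            have hw' : k⁻¹ * w * k ∈ R := by
              have := (mem_normalizer_iff.1 (inv_mem hk) w).1 hw
              simpa using this
            calc k * c * k⁻¹ * w = k * (c * (k⁻¹ * w * k)) * k⁻¹ := by group
              _ = k * ((k⁻¹ * w * k) * c) * k⁻¹ := by rw [hall c hc _ hw']
              _ = w * (k * c * k⁻¹) := by group
          exact mem_normalizer_iff.2 fun c => ⟨key k hk c, fun hc => by
            have := key k⁻¹ (inv_mem hk) _ hc
            simpa [mul_assoc] using this⟩
        haveI hMnN : (M.subgroupOf N).Normal := ⟨fun m hm k => by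
          have hcR : ∀ w ∈ R, ((k * m * k⁻¹ : N) : G) * w = w * ((k * m * k⁻¹ : N) : G) := by
            intro w hw
            have hw' : (k : G)⁻¹ * w * k ∈ R := by
              have := (mem_normalizer_iff.1 (inv_mem k.2) w).1 hw
              simpa using this
            show (k : G) * m * (k : G)⁻¹ * w = w * ((k : G) * m * (k : G)⁻¹)
            calc (k : G) * m * (k : G)⁻¹ * w
                = k * ((m : G) * ((k : G)⁻¹ * w * k)) * (k : G)⁻¹ := by group
              _ = k * (((k : G)⁻¹ * w * k) * m) * (k : G)⁻¹ := by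
                rw [(comm_of hMab hm (hRM hw') : (m : G) * ((k : G)⁻¹ * w * k) = _)]
              _ = w * ((k : G) * m * (k : G)⁻¹) := by group
          exact (hMC _ (hCR _ hcR) hcR).resolve_right hall⟩
        haveI : Nonempty N := ⟨1⟩
        have hcomm : ⁅(⟨a, ha⟩ : N), ⟨b, hb⟩⁆ ∈ M.subgroupOf N := by
          rw [← QuotientGroup.eq_one_iff, ← QuotientGroup.mk'_apply, map_commutatorElement,
            commutatorElement_eq_one_iff_mul_comm]
          have hgen : ∀ u : N, ∃ m ∈ M'.subgroupOf N,
              QuotientGroup.mk' (M.subgroupOf N) u = QuotientGroup.mk' (M.subgroupOf N) m := by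
            intro u
            obtain ⟨m, hm, z, hz, e⟩ := Subgroup.mem_sup_of_normal_left.1
              (htop ▸ mem_top u : u ∈ M'.subgroupOf N ⊔ M.subgroupOf N)
            refine ⟨m, hm, ?_⟩
            rw [← e, map_mul, QuotientGroup.mk'_apply (M.subgroupOf N) z,
              (QuotientGroup.eq_one_iff z).2 hz, mul_one]
          obtain ⟨m, hm, em⟩ := hgen ⟨a, ha⟩
          obtain ⟨n, hn, en⟩ := hgen ⟨b, hb⟩
          rw [em, en, ← map_mul, ← map_mul]
          exact congrArg _ (Subtype.ext (comm_of hM'ab hm hn))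
        exact hcomm
    -- so `N` normalizes `H`
    have key : ∀ k ∈ N, ∀ c ∈ H, k * c * k⁻¹ ∈ H := fun k hk c hc => by
      have := mul_mem (hMH (hcM k hk c (hHN hc))) hc
      rwa [commutatorElement_def, inv_mul_cancel_right] at this
    refine le_of_le_of_eq (fun k hk => ?_) (h H hC)
    exact mem_normalizer_iff.2 fun c => ⟨key k hk c, fun hc => by
      have := key k⁻¹ (inv_mem hk) _ hc
      simpa [mul_assoc] using this⟩
  · -- `R` is not contained in `M`
    have hjoin : (R₀ : Subgroup H) ⊔ O = ⊤ := by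
      have hle : M.subgroupOf H < (R₀ : Subgroup H) ⊔ O := by
        refine lt_of_le_of_ne hsplit fun e' => hRM ?_
        rintro _ ⟨a, ha, rfl⟩
        exact (e'.symm ▸ mem_sup_left ha : a ∈ M.subgroupOf H)
      rcases hMp.eq_one_or_self_of_dvd _ (index_dvd_of_le hle.le) with e' | e'
      · exact index_eq_one.1 e'
      · exact absurd e' (index_strictAnti hle).ne
    by_cases hcyc : ∃ g, zpowers g = (R₀ : Subgroup H)
    · exfalso
      obtain ⟨g, hg⟩ := hcyc
      have hR' : R = zpowers (g : G) := by rw [hR, ← hg, MonoidHom.map_zpowers]; rfl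
      refine fin (hR' ▸ (inferInstance : IsMulCommutative (zpowers (g : G)))) fun k hk => ?_
      refine normalizer_zpowers_eq h hC ?_
      obtain ⟨a, ha⟩ := mem_zpowers_iff.1 (hR' ▸ hxR : x ∈ zpowers (g : G))
      have hconj : ∀ k ∈ normalizer (R : Set G), k * x * k⁻¹ ∈ zpowers x := by
        intro k hk
        obtain ⟨i, hi⟩ := mem_zpowers_iff.1 (hR' ▸ (mem_normalizer_iff.1 hk (g : G)).1
          (hR' ▸ mem_zpowers _) : k * (g : G) * k⁻¹ ∈ zpowers (g : G))
        refine mem_zpowers_iff.2 ⟨i, ?_⟩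
        rw [← ha, ← conj_zpow, ← hi, ← zpow_mul, ← zpow_mul, mul_comm]
      rw [mem_normalizer_iff]
      intro w
      constructor
      · rintro ⟨i, rfl⟩
        show k * x ^ i * k⁻¹ ∈ zpowers x
        rw [← conj_zpow]; exact zpow_mem (hconj k hk) i
      · rintro ⟨i, hi⟩
        have hi' : x ^ i = k * w * k⁻¹ := hi
        have : w = k⁻¹ * x ^ i * k⁻¹⁻¹ := by rw [hi']; group
        rw [this, ← conj_zpow]
        exact zpow_mem (hconj _ (inv_mem hk)) i
    push_neg at hcyc
    -- every element of `R₀` commutes with `O`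
    have hcom : ∀ g ∈ (R₀ : Subgroup H), ∀ o ∈ O, g * o = o * g := by
      intro g hg o ho
      rcases eq_top_or_exists_le_coatom (zpowers (⟨g, hg⟩ : (R₀ : Subgroup H))) with h1 | ⟨Q, hQ, hle⟩
      · refine absurd ?_ (hcyc g)
        have := congrArg (Subgroup.map (R₀ : Subgroup H).subtype) h1
        rwa [MonoidHom.map_zpowers, ← MonoidHom.range_eq_map, range_subtype] at this
      haveI := R₀.isPGroup'.isNilpotent
      haveI hQn : Q.Normal := Subgroup.NormalizerCondition.normal_of_coatom Q
        Group.normalizerCondition_of_isNilpotent hQ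
      set L := Q.map (R₀ : Subgroup H).subtype ⊔ O with hL
      have hLnorm : L.Normal := by
        refine normalizer_eq_top_iff.1 (top_le_iff.1 (hjoin ▸ sup_le ?_ ?_))
        · intro a ha
          refine mem_normalizer_fintype fun w hw => ?_
          have hle : L ≤ L.comap (MulAut.conj a).toMonoidHom := by
            refine sup_le ?_ fun o ho => mem_sup_right (hOn.conj_mem o ho a)
            rintro _ ⟨q, hq, rfl⟩
            exact mem_sup_left ⟨_, hQn.conj_mem q hq ⟨a, ha⟩, rfl⟩
          exact hle hw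
        · exact le_sup_right.trans le_normalizer
      have hLne : L ≠ ⊤ := by
        intro e'
        apply hQ.1
        rw [eq_top_iff]
        intro w _
        obtain ⟨q, hq, o', ho', e''⟩ := Subgroup.mem_sup_of_normal_right.1 (e' ▸ mem_top (w : H) : (w : H) ∈ L)
        obtain ⟨q', hq', rfl⟩ := hq
        have : o' ∈ (R₀ : Subgroup H) := by
          rw [show o' = ((q' : H))⁻¹ * (w : H) by rw [← e'']; simp]
          exact mul_mem (inv_mem q'.2) w.2
        have ho1 := hOR o' this ho'
        have : w = q' := Subtype.ext (by rw [← e'', ho1, mul_one]; rfl)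
        rwa [this]
      haveI := hLnorm
      exact comm_of ((h.sub H).normal_abelian' L hLne) (mem_sup_left ⟨⟨g, hg⟩, hle (mem_zpowers _), rfl⟩)
        (mem_sup_right ho)
    -- so `R₀` is normal, hence everything
    have hR₀top : (R₀ : Subgroup H) = ⊤ := by
      by_contra hne
      have hn : (R₀ : Subgroup H).Normal := by
        refine normalizer_eq_top_iff.1 (top_le_iff.1 (hjoin ▸ sup_le le_normalizer ?_))
        intro o ho
        rw [mem_normalizer_iff]
        intro w
        constructor
        · intro hw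
          rwa [← hcom w hw o ho, mul_inv_cancel_right]
        · intro hw
          have e' := hcom _ hw o ho
          rw [inv_mul_cancel_right, ← mul_assoc] at e'
          have : w = o * w * o⁻¹ := mul_left_cancel (a := o) (e'.trans (by group))
          rwa [this]
      haveI := hn
      have hab := (h.sub H).normal_abelian' _ hne
      apply hC
      have hgen : ∀ k : H, ∃ a ∈ (R₀ : Subgroup H), ∃ o ∈ O, k = a * o := fun k => by
        obtain ⟨a, ha, o, ho, e'⟩ := Subgroup.mem_sup_of_normal_right.1 (hjoin ▸ mem_top k : k ∈ (R₀ : Subgroup H) ⊔ O)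
        exact ⟨a, ha, o, ho, e'.symm⟩
      refine abelian_of fun u hu v hv => ?_
      obtain ⟨a, ha, o, ho, e1⟩ := hgen ⟨u, hu⟩
      obtain ⟨b, hb, o', ho', e2⟩ := hgen ⟨v, hv⟩
      have c1 : Commute a b := comm_of hab ha hb
      have c2 : Commute a o' := hcom a ha o' ho'
      have c3 : Commute o b := (hcom b hb o ho).symm
      have c4 : Commute o o' := Subtype.ext (comm_of hMab ho.1 ho'.1)
      have := ((c1.mul_right c2).mul_left (c3.mul_right c4)).eq
      rw [← e1, ← e2] at this
      exact congrArg Subtype.val this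
    have hRH' : R = H := by rw [hR, hR₀top, ← MonoidHom.range_eq_map, range_subtype]
    obtain ⟨P, hP⟩ := sylow_of_normalizer_le hRp hRH hRmax (hRH' ▸ (h H hC).le)
    exact ⟨P, hP.trans hRH'⟩

/-- Simple groups with self-normalizing nonabelian subgroups have abelian centralizers. -/
theorem isCT : ∀ (G : Type u) [Group G] [Finite G] [IsSimpleGroup G], ¬ IsMulCommutative G → SN G →
    CfsgLib.Involutions.CT.IsCT G := by
  intro G _ _ _ hna h
  induction hn : Nat.card G using Nat.strong_induction_on generalizing G with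
  | _ n ih =>
  have IH : ∀ (X : Type u) [Group X] [Finite X] [IsSimpleGroup X], Nat.card X < Nat.card G →
      ¬ IsMulCommutative X → SN X → CfsgLib.Involutions.CT.IsCT X :=
    fun X _ _ _ hlt hX hS => ih (Nat.card X) (hn ▸ hlt) X hX hS rfl
  suffices hab : ∀ y : G, y ≠ 1 → IsMulCommutative (centralizer ({y} : Set G)) by
    intro a b c _ hb _ hab' hbc
    exact comm_of (hab b hb) (mem_centralizer_singleton_iff.2 hab')
      (mem_centralizer_singleton_iff.2 hbc.symm.eq)
  -- nonabelian centralizers are Sylow subgroups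
  have hsyl : ∀ y : G, y ≠ 1 → ¬ IsMulCommutative (centralizer ({y} : Set G)) →
      ∃ (r : ℕ) (_ : Fact r.Prime) (P : Sylow r G),
        (P : Subgroup G) = centralizer ({y} : Set G) := by
    intro y hy hC
    obtain ⟨r, hr, hrd⟩ := Nat.exists_prime_and_dvd (fun e => hy (orderOf_eq_one_iff.1 e) : orderOf y ≠ 1)
    haveI : Fact r.Prime := ⟨hr⟩
    set x := y ^ (orderOf y / r)
    have hle : centralizer ({y} : Set G) ≤ centralizer ({x} : Set G) := fun c hc =>
      mem_centralizer_singleton_iff.2
        ((show Commute c y from mem_centralizer_singleton_iff.1 hc).pow_right _).eq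
    obtain ⟨P, hP⟩ := prime_centralizer h hna IH (orderOf_pow_orderOf_div (orderOf_pos y).ne' hrd)
      (fun hc => hC (abelian_of_le hle hc))
    refine ⟨r, inferInstance, P, le_antisymm ?_ (hle.trans hP.ge)⟩
    by_contra hne
    -- a proper subgroup of a `p`-group grows in its normalizer
    have hlt : (centralizer ({y} : Set G)).subgroupOf (P : Subgroup G) < ⊤ :=
      lt_of_le_of_ne le_top fun e => hne (subgroupOf_eq_top.1 e)
    haveI := P.isPGroup'.isNilpotent
    obtain ⟨g, hg, hgR⟩ := SetLike.exists_of_lt (Group.normalizerCondition_of_isNilpotent _ hlt)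
    have hgN : (g : G) ∈ normalizer ((centralizer ({y} : Set G) : Subgroup G) : Set G) := by
      have := le_normalizer_map (P : Subgroup G).subtype (mem_map_of_mem _ hg)
      rwa [subgroupOf_map_subtype, inf_eq_left.2 (hle.trans hP.ge)] at this
    rw [h _ hC] at hgN
    exact hgR hgN
  intro y hy
  by_contra hC
  obtain ⟨r, hrF, P, hP⟩ := hsyl y hy hC
  have hr : r.Prime := hrF.out
  have hPna : ¬ IsMulCommutative (P : Subgroup G) := fun hc => hC (hP ▸ hc)
  have hPN : normalizer ((P : Subgroup G) : Set G) = P := h _ hPna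
  have hPtop : (P : Subgroup G) ≠ ⊤ := fun e => by
    have hGp : IsPGroup r G := fun g => by
      obtain ⟨j, hj⟩ := P.isPGroup' ⟨g, e.symm ▸ mem_top g⟩
      exact ⟨j, congrArg Subtype.val hj⟩
    haveI : Nontrivial G := ⟨⟨y, 1, hy⟩⟩
    haveI := hGp.center_nontrivial
    rcases (inferInstance : (center G).Normal).eq_bot_or_eq_top with h0 | h0
    · exact (nontrivial_iff_ne_bot (center G)).1 inferInstance h0
    · exact hna ⟨⟨fun a b => (mem_center_iff.1 (h0.symm ▸ mem_top b : b ∈ center G) a)⟩⟩
  -- the centre of `P`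
  have hcP : ∀ c ∈ (P : Subgroup G), (∀ p ∈ (P : Subgroup G), p * c = c * p) → c ≠ 1 →
      centralizer ({c} : Set G) = P := by
    intro c hc hcc hc1
    have hle : (P : Subgroup G) ≤ centralizer ({c} : Set G) := fun p hp =>
      mem_centralizer_singleton_iff.2 (hcc p hp)
    obtain ⟨s, hsF, S, hS⟩ := hsyl c hc1 fun hab => hPna (abelian_of_le hle hab)
    have hPS : (P : Subgroup G) ≤ S := hS ▸ hle
    have hsr : s = r := by
      by_contra hne
      obtain ⟨j, hj⟩ := P.isPGroup' ⟨c, hc⟩
      obtain ⟨i, hi⟩ := S.isPGroup' ⟨c, hPS hc⟩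
      have := Nat.dvd_gcd (orderOf_dvd_of_pow_eq_one (congrArg Subtype.val hj : c ^ r ^ j = 1))
        (orderOf_dvd_of_pow_eq_one (congrArg Subtype.val hi : c ^ s ^ i = 1))
      rw [Nat.Coprime.gcd_eq_one (Nat.Coprime.pow j i
        ((Nat.coprime_primes hr hsF.out).2 (Ne.symm hne))), Nat.dvd_one, orderOf_eq_one_iff] at this
      exact hc1 this
    subst hsr
    exact hS.symm.trans (P.is_maximal' S.isPGroup' hPS)
  -- maximal subgroups of `P` are abelian and contain the centre
  haveI := P.isPGroup'.isNilpotent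
  have hmax : ∀ a ∈ (P : Subgroup G), ∃ A : Subgroup G, a ∈ A ∧ A ≤ P ∧ A ≠ P ∧ IsMulCommutative A ∧
      (∀ k ∈ (P : Subgroup G), ∀ b ∈ A, k * b * k⁻¹ ∈ A) ∧ (A.relIndex P).Prime := by
    intro a ha
    have hne : zpowers (⟨a, ha⟩ : (P : Subgroup G)) ≠ ⊤ := fun e =>
      hPna ⟨⟨fun u v => comm_of (inferInstance : IsMulCommutative (zpowers (⟨a, ha⟩ : (P : Subgroup G))))
        (e ▸ mem_top u) (e ▸ mem_top v)⟩⟩
    obtain ⟨Q, hQ, hle⟩ := (eq_top_or_exists_le_coatom _).resolve_left hne
    haveI hQn : Q.Normal := Subgroup.NormalizerCondition.normal_of_coatom Q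
      Group.normalizerCondition_of_isNilpotent hQ
    refine ⟨Q.map (P : Subgroup G).subtype, ⟨⟨a, ha⟩, hle (mem_zpowers _), rfl⟩, map_subtype_le Q,
      fun e => hQ.1 ?_, abelian_of ?_, ?_, ?_⟩
    · refine map_injective (P : Subgroup G).subtype_injective ?_
      rw [e, ← MonoidHom.range_eq_map, range_subtype]
    · rintro _ ⟨u, hu, rfl⟩ _ ⟨v, hv, rfl⟩
      exact congrArg Subtype.val (comm_of ((h.sub _).normal_abelian' Q hQ.1) hu hv)
    · rintro k hk _ ⟨b, hb, rfl⟩
      exact ⟨_, hQn.conj_mem b hb ⟨k, hk⟩, rfl⟩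
    · rw [relIndex, subgroupOf, comap_map_eq_self_of_injective (P : Subgroup G).subtype_injective]
      obtain ⟨M, hMn, hMp, hMc⟩ := CfsgLib.Involutions.SelfNorm.exists_normal_prime_index
        (G := (P : Subgroup G) ⧸ Q) (by
          haveI : Nontrivial ((P : Subgroup G) ⧸ Q) := QuotientGroup.nontrivial_iff.2 hQ.1
          haveI := (P.isPGroup'.to_quotient Q).isNilpotent
          exact (Group.IsSolvable.commutator_lt_top_of_nontrivial ((P : Subgroup G) ⧸ Q)).ne)
      · have hMbot : M = ⊥ := by
          by_contra hM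
          have hlt : Q < M.comap (QuotientGroup.mk' Q) := lt_of_le_of_ne (QuotientGroup.le_comap_mk' Q M)
            fun e => hM (by
              rw [← map_comap_eq_self_of_surjective (QuotientGroup.mk'_surjective Q) M, ← e,
                QuotientGroup.map_mk'_self])
          have := congrArg (Subgroup.map (QuotientGroup.mk' Q)) (hQ.2 _ hlt)
          rw [map_comap_eq_self_of_surjective (QuotientGroup.mk'_surjective Q),
            map_top_of_surjective _ (QuotientGroup.mk'_surjective Q)] at this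
          exact hMp.ne_one (index_eq_one.2 this)
        rw [hMbot, index_bot] at hMp
        rwa [index_eq_card]
  -- an element of `P` conjugate to a central one is central
  have hfus : ∀ a ∈ (P : Subgroup G), ∀ g : G, g * a * g⁻¹ ∈ (P : Subgroup G) →
      (∀ p ∈ (P : Subgroup G), p * (g * a * g⁻¹) = (g * a * g⁻¹) * p) →
      ∀ p ∈ (P : Subgroup G), p * a = a * p := by
    intro a ha g hgP hgc
    by_contra hnc
    push_neg at hnc
    obtain ⟨p₀, hp₀, hp₀a⟩ := hnc
    have ha1 : a ≠ 1 := by rintro rfl; simp at hp₀a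
    obtain ⟨A, haA, hAP, hAne, hAab, hAn, hAidx⟩ := hmax a ha
    set P' := ((g⁻¹ • P : Sylow r G) : Subgroup G) with hP'
    have hP'C : centralizer ({a} : Set G) = P' := by
      have hc := hcP _ hgP hgc (fun e => ha1 (conj_eq_one_iff.1 e))
      ext w
      rw [hP', Sylow.coe_subgroup_smul, mem_pointwise_smul_iff_inv_smul_mem, ← hc]
      simp only [← map_inv, inv_inv, MulAut.smul_def, MulAut.conj_apply]
      rw [mem_centralizer_singleton_iff, mem_centralizer_singleton_iff]
      constructor
      · intro hw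
        simp only [mul_assoc, inv_mul_cancel_left, mul_right_inj]
        rw [← mul_assoc, hw, mul_assoc]
      · intro hw
        simp only [mul_assoc, inv_mul_cancel_left, mul_right_inj] at hw
        rwa [← mul_assoc, ← mul_assoc a, mul_left_inj] at hw
    have hAP' : A ≤ P' := fun b hb => hP'C ▸ mem_centralizer_singleton_iff.2 (comm_of hAab hb haA)
    have hA1 : A ≠ ⊥ := fun e => ha1 (Subgroup.mem_bot.1 (e ▸ haA))
    set N := normalizer (A : Set G) with hNdef
    have hPle : (P : Subgroup G) ≤ N := fun k hk => mem_normalizer_iff.2 fun b => ⟨hAn k hk b, fun hb => by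
      have := hAn k⁻¹ (inv_mem hk) _ hb
      simpa [mul_assoc] using this⟩
    have hcard : Nat.card P' = Nat.card (P : Subgroup G) := by
      rw [hP', Sylow.card_eq_multiplicity, Sylow.card_eq_multiplicity]
    have hidx : (A.subgroupOf P').index.Prime := by
      have h1 := (A.subgroupOf P').card_mul_index
      have h2 := (A.subgroupOf (P : Subgroup G)).card_mul_index
      rw [Nat.card_congr (subgroupOfEquivOfLe hAP').toEquiv] at h1
      rw [Nat.card_congr (subgroupOfEquivOfLe hAP).toEquiv] at h2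
      have h3 : (A.subgroupOf P').index = A.relIndex P := Nat.eq_of_mul_eq_mul_left Nat.card_pos
        (h1.trans (hcard.trans h2.symm))
      rwa [h3]
    have hP'le : P' ≤ N := by
      haveI := (g⁻¹ • P : Sylow r G).isPGroup'.isNilpotent
      have hco : IsCoatom (A.subgroupOf P') := by
        refine ⟨fun e => hidx.ne_one (index_eq_one.2 e), fun B hB => ?_⟩
        rcases hidx.eq_one_or_self_of_dvd _ (index_dvd_of_le hB.le) with e | e
        · exact index_eq_one.1 e
        · exact absurd e (index_strictAnti hB).ne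
      haveI : (A.subgroupOf P').Normal := Subgroup.NormalizerCondition.normal_of_coatom _
        Group.normalizerCondition_of_isNilpotent hco
      exact (normal_subgroupOf_iff_le_normalizer hAP').1 inferInstance
    have hNtop : N ≠ ⊤ := fun e => by
      haveI : A.Normal := normalizer_eq_top_iff.1 e
      rcases (inferInstance : A.Normal).eq_bot_or_eq_top with h0 | h0
      · exact hA1 h0
      · exact hna ⟨⟨fun u v => comm_of hAab (h0 ▸ mem_top u) (h0 ▸ mem_top v)⟩⟩
    obtain ⟨M, hMN, hMab, hMn, hMp, hMc⟩ := exists_abelian_prime h hna IH N hNtop A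
      (hAP.trans hPle) (fun k hk b hb => (mem_normalizer_iff.1 hk b).1 hb) hAab hA1
    -- `N` is a `p`-group
    have hPM : ¬ (P : Subgroup G) ≤ M := fun hle => hPna (abelian_of_le hle hMab)
    have hMP : M ≤ P := by
      -- `P ∩ M` contains the centre of `P`
      obtain ⟨c, hc, hcc, hc1⟩ : ∃ c ∈ (P : Subgroup G), (∀ p ∈ (P : Subgroup G), p * c = c * p) ∧ c ≠ 1 :=
        ⟨_, hgP, hgc, fun e => ha1 (conj_eq_one_iff.1 e)⟩
      have hcM : c ∈ M := by
        by_contra hcM
        apply hPna
        haveI : (M.subgroupOf N).Normal := ⟨fun m hm k => hMn k k.2 m hm⟩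
        have htop : M.subgroupOf N ⊔ zpowers (⟨c, hPle hc⟩ : N) = ⊤ := by
          have hlt : M.subgroupOf N < M.subgroupOf N ⊔ zpowers (⟨c, hPle hc⟩ : N) :=
            lt_of_le_of_ne le_sup_left fun e => hcM (e.symm ▸ mem_sup_right (mem_zpowers _) :
              (⟨c, hPle hc⟩ : N) ∈ M.subgroupOf N)
          rcases hMp.eq_one_or_self_of_dvd _ (index_dvd_of_le hlt.le) with e | e
          · exact index_eq_one.1 e
          · exact absurd e (index_strictAnti hlt).ne
        refine abelian_of fun u hu v hv => ?_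
        have hgen : ∀ w ∈ (P : Subgroup G), ∃ m ∈ M, m ∈ (P : Subgroup G) ∧ ∃ i : ℤ, w = m * c ^ i := by
          intro w hw
          obtain ⟨m, hm, z, ⟨i, rfl⟩, e⟩ := Subgroup.mem_sup_of_normal_left.1
            (htop ▸ mem_top _ : (⟨w, hPle hw⟩ : N) ∈ M.subgroupOf N ⊔ zpowers (⟨c, hPle hc⟩ : N))
          have e' : (m : G) * c ^ i = w := by simpa using congrArg Subtype.val e
          refine ⟨m, hm, ?_, i, e'.symm⟩
          rw [show (m : G) = w * (c ^ i)⁻¹ by rw [← e', mul_inv_cancel_right]]
          exact mul_mem hw (inv_mem (zpow_mem hc i))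
        obtain ⟨m, hm, hmP, i, rfl⟩ := hgen u hu
        obtain ⟨m', hm', hmP', j, rfl⟩ := hgen v hv
        have c1 : Commute m m' := comm_of hMab hm hm'
        have c2 : Commute m (c ^ j) := (show Commute m c from hcc m hmP).zpow_right j
        have c3 : Commute (c ^ i) m' := ((show Commute m' c from hcc m' hmP').zpow_right i).symm
        exact ((c1.mul_right c2).mul_left (c3.mul_right (Commute.zpow_zpow_self c i j))).eq
      intro m hm
      rw [← hcP c hc hcc hc1]
      exact mem_centralizer_singleton_iff.2 (comm_of hMab hm hcM)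
    have hNP : N ≤ P := by
      intro k hk
      haveI : (M.subgroupOf N).Normal := ⟨fun m hm k => hMn k k.2 m hm⟩
      have hlt : M.subgroupOf N < (P : Subgroup G).subgroupOf N := lt_of_le_of_ne
        (fun w hw => hMP hw) fun e => hPM fun w hw =>
          (e.symm ▸ (show (⟨w, hPle hw⟩ : N) ∈ (P : Subgroup G).subgroupOf N from hw) :
            (⟨w, hPle hw⟩ : N) ∈ M.subgroupOf N)
      rcases hMp.eq_one_or_self_of_dvd _ (index_dvd_of_le hlt.le) with e | e
      · exact subgroupOf_eq_top.1 (index_eq_one.1 e) hk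
      · exact absurd e (index_strictAnti hlt).ne
    have heq : P' = (P : Subgroup G) := eq_of_le_of_card_ge (hP'le.trans hNP) hcard.ge
    exact hp₀a (mem_centralizer_singleton_iff.1 (hP'C ▸ heq.symm ▸ hp₀ : p₀ ∈ centralizer ({a} : Set G)))
  -- conjugation inside `P` is induced by `P`
  have hcontrol : ∀ x ∈ (P : Subgroup G), ∀ g : G, g * x * g⁻¹ ∈ (P : Subgroup G) →
      ∃ k ∈ (P : Subgroup G), k * x * k⁻¹ = g * x * g⁻¹ := by
    intro x hx g hgx
    rcases eq_or_ne x 1 with rfl | hx1
    · exact ⟨1, one_mem _, by simp⟩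
    have move : ∀ c d : G, c ∈ (P : Subgroup G) → (∀ p ∈ (P : Subgroup G), p * c = c * p) → c ≠ 1 →
        d ∈ (P : Subgroup G) → (∀ p ∈ (P : Subgroup G), p * d = d * p) → g * c * g⁻¹ = d →
        g ∈ (P : Subgroup G) := by
      intro c d hc hcc hc1 hd hdc hcd
      have hd1 : d ≠ 1 := fun e => hc1 (conj_eq_one_iff.1 (hcd.trans e))
      rw [← hPN, mem_normalizer_iff]
      intro w
      constructor
      · intro hw
        rw [← hcP d hd hdc hd1, mem_centralizer_singleton_iff, ← hcd]
        calc g * w * g⁻¹ * (g * c * g⁻¹) = g * (w * c) * g⁻¹ := by group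
          _ = g * (c * w) * g⁻¹ := by rw [hcc w hw]
          _ = g * c * g⁻¹ * (g * w * g⁻¹) := by group
      · intro hw
        rw [← hcP c hc hcc hc1, mem_centralizer_singleton_iff]
        have e := hdc _ hw
        rw [← hcd] at e
        calc w * c = g⁻¹ * (g * w * g⁻¹ * (g * c * g⁻¹)) * g := by group
          _ = g⁻¹ * (g * c * g⁻¹ * (g * w * g⁻¹)) * g := by rw [e]
          _ = c * w := by group
    by_cases hxc : ∀ p ∈ (P : Subgroup G), p * x = x * p
    · refine ⟨g, move x _ hx hxc hx1 hgx ?_ rfl, rfl⟩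
      refine hfus _ hgx g⁻¹ (by simpa [mul_assoc] using hx) ?_
      simpa [mul_assoc] using hxc
    -- `x` is not central: its centralizer is abelian
    have hCx : IsMulCommutative (centralizer ({x} : Set G)) := by
      by_contra hCx
      obtain ⟨s, hsF, S, hS⟩ := hsyl x hx1 hCx
      have hsr : s = r := by
        by_contra hne
        obtain ⟨j, hj⟩ := P.isPGroup' ⟨x, hx⟩
        obtain ⟨i, hi⟩ := S.isPGroup' ⟨x, hS ▸ mem_centralizer_singleton_iff.2 rfl⟩
        have := Nat.dvd_gcd (orderOf_dvd_of_pow_eq_one (congrArg Subtype.val hj : x ^ r ^ j = 1))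
          (orderOf_dvd_of_pow_eq_one (congrArg Subtype.val hi : x ^ s ^ i = 1))
        rw [Nat.Coprime.gcd_eq_one (Nat.Coprime.pow j i
          ((Nat.coprime_primes hr hsF.out).2 (Ne.symm hne))), Nat.dvd_one, orderOf_eq_one_iff] at this
        exact hx1 this
      subst hsr
      obtain ⟨g', hg'⟩ := MulAction.exists_smul_eq G S P
      have hmem : ∀ w : G, w ∈ (P : Subgroup G) ↔ g'⁻¹ * w * g' ∈ centralizer ({x} : Set G) := by
        intro w
        rw [← hg', Sylow.coe_subgroup_smul, mem_pointwise_smul_iff_inv_smul_mem, ← hS]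
        simp only [← map_inv, MulAut.smul_def, MulAut.conj_apply, inv_inv]
      apply hxc
      refine hfus x hx g' ((hmem _).2 ?_) fun w hw => ?_
      · simp only [mul_assoc, inv_mul_cancel_left, inv_mul_cancel, mul_one]
        exact mem_centralizer_singleton_iff.2 rfl
      · have := mem_centralizer_singleton_iff.1 ((hmem w).1 hw)
        calc w * (g' * x * g'⁻¹) = g' * ((g'⁻¹ * w * g') * x) * g'⁻¹ := by group
          _ = g' * (x * (g'⁻¹ * w * g')) * g'⁻¹ := by rw [this]
          _ = g' * x * g'⁻¹ * w := by group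
    obtain ⟨z, hz⟩ : ∃ z : center (P : Subgroup G), z ≠ 1 := by
      haveI : Nontrivial (P : Subgroup G) := ⟨⟨⟨x, hx⟩, 1, fun e => hx1 (congrArg Subtype.val e)⟩⟩
      haveI := P.isPGroup'.center_nontrivial
      exact exists_ne 1
    set c : G := ((z : (P : Subgroup G)) : G)
    have hcmem : c ∈ (P : Subgroup G) := (z : (P : Subgroup G)).2
    have hcc : ∀ p ∈ (P : Subgroup G), p * c = c * p := fun p hp =>
      congrArg Subtype.val (mem_center_iff.1 z.2 ⟨p, hp⟩)
    have hc1 : c ≠ 1 := fun e => hz (Subtype.ext (Subtype.ext e))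
    -- the centralizer of a noncentral element lies in `P`
    have hsub : ∀ w ∈ centralizer ({x} : Set G), w ∈ (P : Subgroup G) := fun w hw =>
      hcP c hcmem hcc hc1 ▸ mem_centralizer_singleton_iff.2
        (comm_of hCx hw (mem_centralizer_singleton_iff.2 (hcc x hx).symm))
    set d := g * c * g⁻¹ with hd
    -- the centralizer of `g x g⁻¹` lies in `P` as well
    have hCy : IsMulCommutative (centralizer ({g * x * g⁻¹} : Set G)) := by
      refine abelian_of fun u hu v hv => ?_
      have hu' : g⁻¹ * u * g ∈ centralizer ({x} : Set G) := mem_centralizer_singleton_iff.2 (by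
        have := mem_centralizer_singleton_iff.1 hu
        calc g⁻¹ * u * g * x = g⁻¹ * (u * (g * x * g⁻¹)) * g := by group
          _ = g⁻¹ * ((g * x * g⁻¹) * u) * g := by rw [this]
          _ = x * (g⁻¹ * u * g) := by group)
      have hv' : g⁻¹ * v * g ∈ centralizer ({x} : Set G) := mem_centralizer_singleton_iff.2 (by
        have := mem_centralizer_singleton_iff.1 hv
        calc g⁻¹ * v * g * x = g⁻¹ * (v * (g * x * g⁻¹)) * g := by group
          _ = g⁻¹ * ((g * x * g⁻¹) * v) * g := by rw [this]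
          _ = x * (g⁻¹ * v * g) := by group)
      have := comm_of hCx hu' hv'
      calc u * v = g * ((g⁻¹ * u * g) * (g⁻¹ * v * g)) * g⁻¹ := by group
        _ = g * ((g⁻¹ * v * g) * (g⁻¹ * u * g)) * g⁻¹ := by rw [this]
        _ = v * u := by group
    have hdP : d ∈ (P : Subgroup G) := by
      refine hcP c hcmem hcc hc1 ▸ mem_centralizer_singleton_iff.2 (comm_of hCy ?_
        (mem_centralizer_singleton_iff.2 (hcc _ hgx).symm))
      rw [mem_centralizer_singleton_iff, hd]
      calc g * c * g⁻¹ * (g * x * g⁻¹) = g * (c * x) * g⁻¹ := by group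
        _ = g * (x * c) * g⁻¹ := by rw [hcc x hx]
        _ = g * x * g⁻¹ * (g * c * g⁻¹) := by group
    refine ⟨g, move c d hcmem hcc hc1 hdP (hfus d hdP g⁻¹ (by simpa [hd, mul_assoc] using hcmem) ?_) rfl, rfl⟩
    simpa [hd, mul_assoc] using hcc
  have hfoc := CfsgLib.Transfer.commutator_inf_eq_of_fusion P le_rfl hcontrol
  rw [perfect_of_simple hna, top_inf_eq] at hfoc
  have hsolv : Group.IsSolvable (P : Subgroup G) := inferInstance
  haveI : Nontrivial (P : Subgroup G) := by
    by_contra hnt
    haveI := not_nontrivial_iff_subsingleton.1 hnt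
    exact hPna ⟨⟨fun a b => Subsingleton.elim _ _⟩⟩
  apply (Group.IsSolvable.commutator_lt_top_of_nontrivial (P : Subgroup G)).ne
  refine map_injective (P : Subgroup G).subtype_injective ?_
  rw [Subgroup.map_subtype_commutator, ← MonoidHom.range_eq_map, range_subtype]
  refine le_antisymm ?_ (hfoc.le.trans inf_le_left)
  rw [commutator_le]
  exact fun a ha b hb => commutatorElement_def a b ▸
    mul_mem (mul_mem (mul_mem ha hb) (inv_mem ha)) (inv_mem hb)

end CfsgLib.Involutions.SelfNorm

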