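import Mathlib

/-!
# Equivariant alternating forms for a Singer cycle

A commutator map `V × V → V` equivariant under a cyclic group of automorphisms regular on the
non-identity elements of an elementary abelian 2-group `V` is trivial.
-/

set_option autoImplicit false

open Subgroup
open scoped commutatorElement

namespace CfsgLib.Involutions

variable {A : Type*} [CommGroup A]

/-- An equivariant alternating bimultiplicative map is trivial. -/
theorem singer_alternating_trivial (h2 : ∀ a : A, a * a = 1) (Y : Subgroup (MulAut A))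
    (hcomm : ∀ σ ∈ Y, ∀ τ ∈ Y, σ * τ = τ * σ) (hsq : ∀ σ ∈ Y, ∃ ρ ∈ Y, ρ * ρ = σ)
    (htrans : ∀ a b : A, a ≠ 1 → b ≠ 1 → ∃ σ ∈ Y, σ a = b)
    (β : A → A → A) (hmul : ∀ a b c, β a (b * c) = β a b * β a c)
    (hswap : ∀ a b, β b a = β a b) (halt : ∀ a, β a a = 1)
    (heq : ∀ σ ∈ Y, ∀ a b, β (σ a) (σ b) = σ (β a b)) (a b : A) : β a b = 1 := by
  have hcancel : ∀ c d : A, c * (c * d) = d := fun c d => by rw [← mul_assoc, h2, one_mul]
  have hone : ∀ a, β a 1 = 1 := fun a => by simpa using hmul a 1 1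
  by_cases ha : a = 1
  · rw [ha, ← hswap, hone]
  by_cases hb : b = 1
  · rw [hb, hone]
  obtain ⟨σ₀, hσ₀, hσb⟩ := htrans a b ha hb
  obtain ⟨σ, hσ, hσσ⟩ := hsq σ₀ hσ₀
  have hsymm : ∀ μ ∈ Y, β a (μ a) = μ (β a (μ⁻¹ a)) := fun μ hμ => by
    rw [← heq μ hμ, MulAut.apply_inv_self, hswap]
  subst hσb
  rw [← hσσ, MulAut.mul_apply]
  set t := σ a with ht
  set F := β a t with hF
  by_cases ht1 : t = a
  · rw [ht1, ← ht, ht1, halt]
  have hta : t * a ≠ 1 := fun h => ht1 (by
    calc t = t * (a * a) := by rw [h2, mul_one]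
      _ = a := by rw [← mul_assoc, h, one_mul])
  obtain ⟨τ, hτ, hτa⟩ := htrans a (t * a) ha hta
  -- `τ = σ + 1`
  have hτx : ∀ x : A, τ x = σ x * x := by
    intro x
    by_cases hx : x = 1
    · rw [hx, map_one, map_one, one_mul]
    obtain ⟨ρ, hρ, hρx⟩ := htrans a x ha hx
    calc τ x = (τ * ρ) a := by rw [MulAut.mul_apply, hρx]
      _ = ρ (σ a * a) := by rw [hcomm τ hτ ρ hρ, MulAut.mul_apply, hτa]
      _ = (ρ * σ) a * ρ a := by rw [map_mul, MulAut.mul_apply]
      _ = σ x * x := by rw [hcomm ρ hρ σ hσ, MulAut.mul_apply, hρx]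
  have hστ : σ * τ ∈ Y := mul_mem hσ hτ
  have hw : (σ * τ) a = σ t * t := by rw [MulAut.mul_apply, hτa, map_mul]
  have hinv : (σ * τ)⁻¹ a = σ⁻¹ a * τ⁻¹ a := by
    apply (σ * τ).injective
    rw [MulAut.apply_inv_self, map_mul]
    have e1 : (σ * τ) (σ⁻¹ a) = τ a := by
      rw [hcomm σ hσ τ hτ, MulAut.mul_apply, MulAut.apply_inv_self]
    have e2 : (σ * τ) (τ⁻¹ a) = t := by rw [MulAut.mul_apply, MulAut.apply_inv_self, ht]
    rw [e1, e2, hτa, mul_comm (t * a), hcancel]
  have hFt : β a (τ a) = F := by rw [hτa, hmul, halt, mul_one, hF]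
  have e1 : (σ * τ) (β a (σ⁻¹ a)) = τ F := by
    rw [hcomm σ hσ τ hτ, MulAut.mul_apply, ← hsymm σ hσ, ← ht, ← hF]
  have e2 : (σ * τ) (β a (τ⁻¹ a)) = σ F := by
    rw [MulAut.mul_apply, ← hsymm τ hτ, hFt]
  have hkey : β a ((σ * τ) a) = F := by
    rw [hsymm _ hστ, hinv, hmul, map_mul, e1, e2, hτx, mul_comm (σ F) F, mul_assoc, h2, mul_one]
  rw [hw, hmul, ← hF] at hkey
  exact mul_eq_right.mp hkey

/-- A group of order `q ^ 2` with an automorphism of order `q - 1` regular on a central chief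
factor equivalent to the quotient is commutative. -/
theorem comm_of_singer {U : Type*} [Group U] [Finite U] {q : ℕ} (hq2 : Even q)
    (hU : Nat.card U = q ^ 2) (y : MulAut U) (hy : orderOf y = q - 1)
    (hfp : ∀ k : ℕ, y ^ k ≠ 1 → ∀ u : U, (y ^ k) u = u → u = 1)
    (hpg : IsPGroup 2 U)
    (V : Subgroup U) [V.Normal] (hyV : ∀ v ∈ V, y v ∈ V) (hVe : ∀ v ∈ V, v ^ 2 = 1)
    (φ : ↥V ≃* U ⧸ V) (hφ : ∀ (v : ↥V) (u : U), (QuotientGroup.mk u : U ⧸ V) = φ v →
      φ ⟨y v, hyV v v.2⟩ = QuotientGroup.mk (y u)) : ∀ u w : U, u * w = w * u := by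
  classical
  have hVcard : Nat.card V = q := by
    have h := V.card_mul_index
    rw [index_eq_card, ← Nat.card_congr φ.toEquiv, hU, sq] at h
    exact Nat.mul_self_inj.mp h
  have hq : 1 ≤ q := hVcard ▸ Nat.card_pos
  have hypow : ∀ (k : ℕ) (v : U), v ∈ V → (y ^ k) v ∈ V := by
    intro k
    induction k with
    | zero => intro v hv; simpa using hv
    | succ k ih => intro v hv; rw [pow_succ, MulAut.mul_apply]; exact ih _ (hyV v hv)
  -- regularity on `V`
  have htrans : ∀ a b : V, a ≠ 1 → b ≠ 1 → ∃ k, (y ^ k) (a : U) = b := by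
    intro a b ha hb
    let f : Fin (q - 1) → {v : V // v ≠ 1} := fun i => ⟨⟨(y ^ (i : ℕ)) a, hypow _ _ a.2⟩, fun h =>
      ha (Subtype.ext ((y ^ (i : ℕ)).injective (by rw [Subgroup.coe_one, map_one]; exact congrArg Subtype.val h)))⟩
    have hinj : Function.Injective f := by
      intro i j h
      have h' : (y ^ (i : ℕ)) (a : U) = (y ^ (j : ℕ)) a := congrArg (fun v => ((v.1 : V) : U)) h
      wlog hij : (i : ℕ) ≤ j generalizing i j
      · exact (this h.symm h'.symm (by omega)).symm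
      have h1 : (y ^ ((j : ℕ) - i)) (a : U) = a := by
        apply (y ^ (i : ℕ)).injective
        rw [← MulAut.mul_apply, ← pow_add, Nat.add_sub_cancel' hij, h']
      by_contra hne
      refine ha (Subtype.ext (hfp _ (fun he => ?_) _ h1))
      have hd := Nat.le_of_dvd (by omega) (orderOf_dvd_of_pow_eq_one he)
      have := i.2; have := j.2
      have : (i : ℕ) ≠ j := fun e => hne (Fin.ext e)
      omega
    have hc : Nat.card {v : V // v ≠ 1} = q - 1 := by
      haveI : Fintype V := Fintype.ofFinite V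
      rw [Nat.card_eq_fintype_card, Fintype.card_subtype_compl, Fintype.card_subtype_eq,
        ← Nat.card_eq_fintype_card, hVcard]
    obtain ⟨i, hi⟩ := ((Nat.bijective_iff_injective_and_card f).mpr
      ⟨hinj, by rw [Nat.card_fin, hc]⟩).2 ⟨b, hb⟩
    exact ⟨i, congrArg (fun v => ((v.1 : V) : U)) hi⟩
  -- centrality
  have hcen : ∀ v ∈ V, ∀ u : U, u * v = v * u := by
    intro v hv u
    by_cases hv1 : v = 1
    · rw [hv1, one_mul, mul_one]
    have hne : V ≠ ⊥ := fun h => hv1 (mem_bot.mp (h ▸ hv))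
    haveI : Fact (Nat.Prime 2) := ⟨Nat.prime_two⟩
    haveI : Nontrivial V := (nontrivial_iff_ne_bot V).mpr hne
    obtain ⟨z, ⟨hzV, hzc⟩, hz1⟩ : ∃ z, (z ∈ V ∧ z ∈ center U) ∧ z ≠ 1 := by
      have h2 : 2 ∣ Nat.card V := by rw [hVcard]; exact even_iff_two_dvd.mp hq2
      have hpU : IsPGroup 2 (ConjAct U) := hpg.of_equiv ConjAct.toConjAct
      obtain ⟨z, hz, hz1⟩ := hpU.exists_fixed_point_of_prime_dvd_card_of_fixed_point (α := V) h2
        (a := 1) (fun c => smul_one c)
      refine ⟨z, ⟨z.2, mem_center_iff.mpr fun w => ?_⟩, fun e => hz1 (Subtype.ext e).symm⟩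
      have h : w * (z : U) * w⁻¹ = z := congrArg Subtype.val (hz (ConjAct.toConjAct w))
      exact mul_inv_eq_iff_eq_mul.mp h
    obtain ⟨k, hk⟩ := htrans ⟨z, hzV⟩ ⟨v, hv⟩ (fun e => hz1 (congrArg Subtype.val e))
      (fun e => hv1 (congrArg Subtype.val e))
    have hu : u = (y ^ k) ((y ^ k)⁻¹ u) := (MulAut.apply_inv_self _ _ _).symm
    rw [show v = (y ^ k) z from hk.symm, hu, ← map_mul, ← map_mul,
      mem_center_iff.mp hzc]
  letI : CommGroup V := { (inferInstance : Group V) with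
    mul_comm := fun a b => Subtype.ext (hcen b b.2 a) }
  let yV : MulAut V :=
    { toFun := fun v => ⟨y v, hyV v v.2⟩
      invFun := fun v => ⟨y⁻¹ v, by
        have hfin : y ^ (orderOf y - 1) = y⁻¹ := by
          rw [eq_inv_iff_mul_eq_one, ← pow_succ, Nat.sub_add_cancel (orderOf_pos y),
            pow_orderOf_eq_one]
        rw [← hfin]; exact hypow _ v v.2⟩
      left_inv := fun v => Subtype.ext (MulAut.inv_apply_self _ _ _)
      right_inv := fun v => Subtype.ext (MulAut.apply_inv_self _ _ _)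
      map_mul' := fun v w => Subtype.ext (map_mul y (v : U) w) }
  have hyVk : ∀ (k : ℕ) (v : V), ((yV ^ k) v : U) = (y ^ k) (v : U) := by
    intro k
    induction k with
    | zero => intro v; simp
    | succ k ih => intro v; rw [pow_succ, pow_succ, MulAut.mul_apply, MulAut.mul_apply, ih]; rfl
  have hyVq : yV ^ (q - 1) = 1 := MulEquiv.ext fun v => Subtype.ext (by
    rw [hyVk, ← hy, pow_orderOf_eq_one]; rfl)
  let c : V → U := fun v => (φ v).out
  have hcmk : ∀ v, (QuotientGroup.mk (c v) : U ⧸ V) = φ v := fun v => QuotientGroup.out_eq' _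
  have hcomV : ∀ u w : U, ⁅u, w⁆ ∈ V := by
    intro u w
    rw [← QuotientGroup.eq_one_iff, commutatorElement_def]
    obtain ⟨a, ha⟩ := φ.surjective (QuotientGroup.mk u)
    obtain ⟨b, hb⟩ := φ.surjective (QuotientGroup.mk w)
    rw [QuotientGroup.mk_mul, QuotientGroup.mk_mul, QuotientGroup.mk_mul, QuotientGroup.mk_inv,
      QuotientGroup.mk_inv, ← ha, ← hb, ← map_inv, ← map_inv, ← map_mul, ← map_mul, ← map_mul,
      mul_comm a b, mul_inv_cancel_right, mul_inv_cancel, map_one]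
  have hmulr : ∀ u w x : U, ⁅u, w * x⁆ = ⁅u, w⁆ * ⁅u, x⁆ := by
    intro u w x
    calc ⁅u, w * x⁆ = ⁅u, w⁆ * (w * ⁅u, x⁆ * w⁻¹) := by
          simp only [commutatorElement_def]; group
      _ = _ := by rw [hcen _ (hcomV u x) w, mul_inv_cancel_right]
  have hinvV : ∀ v ∈ V, v⁻¹ = v := fun v hv => inv_eq_of_mul_eq_one_right (by
    rw [← sq]; exact hVe v hv)
  have hswap : ∀ u w : U, ⁅w, u⁆ = ⁅u, w⁆ := fun u w => by
    rw [← commutatorElement_inv, hinvV _ (hcomV u w)]
  have hwd : ∀ u w u' w' : U, (QuotientGroup.mk u : U ⧸ V) = QuotientGroup.mk u' →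
      (QuotientGroup.mk w : U ⧸ V) = QuotientGroup.mk w' → ⁅u, w⁆ = ⁅u', w'⁆ := by
    intro u w u' w' h1 h2
    have key : ∀ u w w' : U, (QuotientGroup.mk w : U ⧸ V) = QuotientGroup.mk w' →
        ⁅u, w⁆ = ⁅u, w'⁆ := by
      intro u w w' h
      have hv := QuotientGroup.eq.mp h
      rw [show w' = w * (w⁻¹ * w') by group, hmulr,
        show ⁅u, w⁻¹ * w'⁆ = 1 from commutatorElement_eq_one_iff_mul_comm.mpr (hcen _ hv u),
        mul_one]
    exact (key u w w' h2).trans ((hswap w' u).trans ((key w' u u' h1).trans (hswap u' w')))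
  let β : V → V → V := fun a b => ⟨⁅c a, c b⁆, hcomV _ _⟩
  have hβ : ∀ a b : V, β a b = 1 := by
    refine singer_alternating_trivial (fun a => Subtype.ext ((sq (a : U)).symm.trans (hVe a a.2)))
      (zpowers yV) ?_ ?_ ?_ β ?_ ?_ ?_ ?_
    · rintro _ ⟨i, rfl⟩ _ ⟨j, rfl⟩
      exact zpow_mul_comm _ i j
    · rintro _ ⟨i, rfl⟩
      obtain ⟨r, hr⟩ := hq2
      refine ⟨(yV ^ r) ^ i, zpow_mem (pow_mem (mem_zpowers _) _) i, ?_⟩
      rw [← Commute.mul_zpow (Commute.refl _), ← pow_add, ← hr,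
        show q = q - 1 + 1 by omega, pow_succ, hyVq, one_mul]
    · intro a b ha hb
      obtain ⟨k, hk⟩ := htrans a b ha hb
      exact ⟨yV ^ k, pow_mem (mem_zpowers _) k, Subtype.ext ((hyVk k a).trans hk)⟩
    · intro a b b'
      refine Subtype.ext ?_
      show ⁅c a, c (b * b')⁆ = ⁅c a, c b⁆ * ⁅c a, c b'⁆
      rw [← hmulr]
      exact hwd _ _ _ _ rfl (by rw [QuotientGroup.mk_mul, hcmk, hcmk, hcmk, map_mul])
    · intro a b
      exact Subtype.ext (hswap (c a) (c b))
    · intro a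
      exact Subtype.ext (commutatorElement_self _)
    · intro σ hσ
      obtain ⟨k, rfl⟩ := mem_powers_iff_mem_zpowers.mpr hσ
      simp only
      induction k with
      | zero => intro a b; simp
      | succ k ih =>
        intro a b
        rw [pow_succ, MulAut.mul_apply, MulAut.mul_apply, MulAut.mul_apply,
          ih (pow_mem (mem_zpowers _) _)]
        congr 1
        refine Subtype.ext ?_
        show ⁅c (yV a), c (yV b)⁆ = y ⁅c a, c b⁆
        rw [map_commutatorElement]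
        exact hwd _ _ _ _ ((hcmk _).trans (hφ a (c a) (hcmk a)))
          ((hcmk _).trans (hφ b (c b) (hcmk b)))
  intro u w
  obtain ⟨a, ha⟩ := φ.surjective (QuotientGroup.mk u)
  obtain ⟨b, hb⟩ := φ.surjective (QuotientGroup.mk w)
  rw [← commutatorElement_eq_one_iff_mul_comm,
    hwd u w (c a) (c b) (ha.symm.trans (hcmk a).symm) (hb.symm.trans (hcmk b).symm)]
  exact congrArg Subtype.val (hβ a b)

end CfsgLib.Involutions
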