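import Cfsg.Agent.Lib.Base.FPF
import Cfsg.Agent.Lib.Base.MinimalNormal
import Cfsg.Agent.Lib.FgsC.HallHigmanB
import Cfsg.Agent.Lib.PLocal.PSolvable
import Cfsg.Agent.Lib.Involutions.SelfCentralizingSubnormal
import Cfsg.Agent.Lib.PGroups.UniqueOrderP
import Cfsg.Prelude.Def_TwoFusion

/-!
# Solvable groups with trivial odd core and 2-nilpotent centralizers of involutions
-/

set_option autoImplicit false

open Subgroup Cfsg

namespace CfsgLib.Involutions

variable {G : Type*} [Group G] [Finite G]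

/-- An element of odd order lies in every normal subgroup of 2-power index. -/
theorem mem_of_odd_of_index_two_pow {N : Subgroup G} [N.Normal] {k : ℕ} (hN : N.index = 2 ^ k)
    {x : G} (hx : Odd (orderOf x)) : x ∈ N := by
  rw [← QuotientGroup.eq_one_iff, ← orderOf_eq_one_iff]
  refine Nat.eq_one_of_dvd_coprimes ((Nat.coprime_two_right.mpr hx).pow_right k)
    (orderOf_map_dvd (QuotientGroup.mk' N) x) ?_
  rw [← hN, index_eq_card]
  exact orderOf_dvd_natCard _

theorem zero_lt_and_dvd {p : ℕ} (hp : p.Prime) {n : ℕ} (h : ¬ p ∣ n) : n.Coprime p :=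
  (hp.coprime_iff_not_dvd.mpr h).symm

variable (hO : pPrimeCore 2 G = ⊥)
  (hI : ∀ t : G, orderOf t = 2 → HasNormalPComplement 2 ↥(centralizer ({t} : Set G)))

include hI in
/-- An odd element centralizing an involution `t` centralizes the 2-elements of any normal
2-subgroup centralizing `t`. -/
theorem commute_of_invol {t : G} (ht : orderOf t = 2) {Y : Subgroup G} [Y.Normal]
    (hY : IsPGroup 2 Y) {x : G} (hx : Odd (orderOf x)) (hxt : Commute x t) {y : G} (hy : y ∈ Y)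
    (hyt : Commute y t) : Commute x y := by
  haveI : Fact (Nat.Prime 2) := ⟨Nat.prime_two⟩
  set C := centralizer ({t} : Set G) with hC
  obtain ⟨M, hM, hM1, k, hk⟩ := Transfer.hasNormalPComplement_iff_exists.mp (hI t ht)
  have hxC : x ∈ C := mem_centralizer_singleton_iff.mpr hxt.eq
  have hyC : y ∈ C := mem_centralizer_singleton_iff.mpr hyt.eq
  have hxM : (⟨x, hxC⟩ : C) ∈ M :=
    mem_of_odd_of_index_two_pow hk (by rwa [← Subgroup.orderOf_coe])
  set Y' := Y.subgroupOf C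
  have hdis : Disjoint M Y' := by
    rw [disjoint_iff, inf_comm]
    exact CfsgLib.Base.inf_eq_bot_of_isPGroup_of_coprime (p := 2) hY.comap_subtype
      (zero_lt_and_dvd Nat.prime_two hM1)
  exact congrArg Subtype.val (Subgroup.commute_of_normal_of_disjoint M Y' hM inferInstance hdis
    ⟨x, hxC⟩ ⟨y, hyC⟩ hxM hy).eq

include hO hI in
theorem eq_one_of_commute_pCore [Group.IsSolvable G] {x y : G} (hx : Odd (orderOf x))
    (hy : y ∈ pCore 2 G) (hy1 : y ≠ 1) (hxy : Commute x y) : x = 1 := by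
  haveI : Fact (Nat.Prime 2) := ⟨Nat.prime_two⟩
  have hYp : IsPGroup 2 (pCore 2 G) := CfsgLib.Base.isPGroup_pCore 2 G
  obtain ⟨n, hn⟩ := IsPGroup.iff_orderOf.mp hYp ⟨y, hy⟩
  rw [Subgroup.orderOf_mk] at hn
  obtain ⟨m, rfl⟩ : ∃ m, n = m + 1 := ⟨n - 1, by
    rcases n with _ | n
    · exact absurd (orderOf_eq_one_iff.mp (by simpa using hn)) hy1
    · omega⟩
  set t := y ^ 2 ^ m with ht
  have hto : orderOf t = 2 := by
    rw [ht, orderOf_pow' y (pow_ne_zero _ two_ne_zero), hn,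
      Nat.gcd_eq_right (pow_dvd_pow 2 (Nat.le_succ m)), pow_succ,
      Nat.mul_div_cancel_left _ (Nat.two_pow_pos m)]
  have htY : t ∈ pCore 2 G := pow_mem hy _
  set R := pCore 2 G ⊓ centralizer ({t} : Set G) with hR
  have hcomm := SCSubnormal.commute_of_selfCentralizing (N := pCore 2 G) (R := R)
    hYp.isNilpotent inf_le_left (fun z hz h => mem_inf.mpr ⟨hz,
      mem_centralizer_singleton_iff.mpr (h t (mem_inf.mpr ⟨htY,
        mem_centralizer_singleton_iff.mpr rfl⟩))⟩)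
    (q := x) (by rw [normalizer_eq_top]; exact mem_top x) (by
      obtain ⟨e, he⟩ := IsPGroup.iff_card.mp hYp
      rw [he]; exact (Nat.coprime_two_right.mpr hx).pow_right e)
    (fun r hr => (commute_of_invol hI hto hYp hx (hxy.pow_right _) (mem_inf.mp hr).1
      (mem_centralizer_singleton_iff.mp (mem_inf.mp hr).2)).eq)
  have hxY : x ∈ pCore 2 G := CfsgLib.Base.centralizer_pCore_le_of_isSolvable hO
    (mem_centralizer_iff.mpr fun z hz => (hcomm z hz).symm)
  obtain ⟨e, he⟩ := IsPGroup.iff_orderOf.mp hYp ⟨x, hxY⟩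
  rw [Subgroup.orderOf_mk] at he
  rw [← orderOf_eq_one_iff]
  exact Nat.eq_one_of_dvd_coprimes ((Nat.coprime_two_right.mpr hx).pow_right e) dvd_rfl
    he.dvd

include hO hI in
/-- Modulo `O₂`, no nontrivial element of odd order commutes with an involution. -/
theorem eq_one_of_commute_invol_quot [Group.IsSolvable G] {s c : G ⧸ pCore 2 G}
    (hs : orderOf s = 2) (hc : Odd (orderOf c)) (hcs : Commute c s) : c = 1 := by
  haveI : Fact (Nat.Prime 2) := ⟨Nat.prime_two⟩
  have hYp : IsPGroup 2 (pCore 2 G) := CfsgLib.Base.isPGroup_pCore 2 G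
  obtain ⟨g, hg⟩ := QuotientGroup.mk_surjective (c * s)
  have ho : orderOf (c * s) = orderOf c * 2 := by
    rw [hcs.orderOf_mul_eq_mul_orderOf_of_coprime (by rw [hs]; exact Nat.coprime_two_right.mpr hc), hs]
  obtain ⟨e, m, hm, hgo⟩ : ∃ e m, Odd m ∧ orderOf g = 2 ^ e * m := by
    obtain ⟨e, m, h2, h⟩ := Nat.exists_eq_pow_mul_and_not_dvd (orderOf_pos g).ne' 2 (by norm_num)
    exact ⟨e, m, Nat.not_even_iff_odd.mp fun h' => h2 (even_iff_two_dvd.mp h'), h⟩
  set x := g ^ 2 ^ e with hx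
  set u := g ^ m with hu
  have hxo : Odd (orderOf x) := by
    refine hm.of_dvd_nat (orderOf_dvd_of_pow_eq_one ?_)
    rw [hx, ← pow_mul, ← hgo, pow_orderOf_eq_one]
  have hu2 : u ^ 2 ^ e = 1 := by rw [hu, ← pow_mul, mul_comm, ← hgo, pow_orderOf_eq_one]
  have hxq : (x : G ⧸ pCore 2 G) = (c * s) ^ 2 ^ e := by rw [hx, QuotientGroup.mk_pow, hg]
  have huq : (u : G ⧸ pCore 2 G) = (c * s) ^ m := by rw [hu, QuotientGroup.mk_pow, hg]
  have hcm : c ^ m = 1 := by
    have h1 : (c * s) ^ (orderOf g) = 1 := by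
      rw [← hg, ← QuotientGroup.mk_pow, pow_orderOf_eq_one, QuotientGroup.mk_one]
    have h2 := orderOf_dvd_of_pow_eq_one h1
    rw [ho, hgo] at h2
    exact orderOf_dvd_iff_pow_eq_one.mp
      (((Nat.coprime_two_right.mpr hc).pow_right e).dvd_of_dvd_mul_left
        ((dvd_mul_right _ _).trans h2))
  have hs2 : s ^ 2 = 1 := orderOf_dvd_iff_pow_eq_one.mp hs.dvd
  have hus : (u : G ⧸ pCore 2 G) = s := by
    obtain ⟨j, hj⟩ := hm
    rw [huq, hcs.mul_pow, hcm, one_mul, hj, pow_succ, pow_mul, hs2, one_pow, one_mul]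
  by_contra hc1
  have hx1 : x ≠ 1 := by
    intro h
    rw [h, QuotientGroup.mk_one] at hxq
    have h2 := orderOf_dvd_of_pow_eq_one hxq.symm
    rw [ho] at h2
    exact hc1 (orderOf_eq_one_iff.mp (Nat.eq_one_of_dvd_coprimes
      ((Nat.coprime_two_right.mpr hc).pow_right e) dvd_rfl ((dvd_mul_right _ _).trans h2)))
  have hxu : Commute x u := (Commute.refl g).pow_pow _ _
  have hsq : u ^ 2 ∈ pCore 2 G := by
    rw [← QuotientGroup.eq_one_iff, QuotientGroup.mk_pow, hus, hs2]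
  have hu2' : u ^ 2 = 1 := by
    by_contra h
    exact hx1 (eq_one_of_commute_pCore hO hI hxo hsq h (hxu.pow_right 2))
  have huo : orderOf u = 2 := orderOf_eq_prime hu2' fun h => by
    rw [h, QuotientGroup.mk_one] at hus
    rw [← hus, orderOf_one] at hs
    exact absurd hs (by norm_num)
  -- a nontrivial element of `O₂` centralising `u`
  haveI : Nontrivial (pCore 2 G) := by
    rw [Subgroup.nontrivial_iff_ne_bot]
    intro hb
    have := CfsgLib.Base.centralizer_pCore_le_of_isSolvable hO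
      (show x ∈ centralizer ((pCore 2 G : Subgroup G) : Set G) from
        mem_centralizer_iff.mpr fun z hz => by rw [hb] at hz; rw [mem_bot.mp hz]; simp)
    rw [hb] at this
    exact hx1 (mem_bot.mp this)
  obtain ⟨y, hy, hy1, hyu⟩ : ∃ y ∈ pCore 2 G, y ≠ 1 ∧ Commute y u := by
    let a : ConjAct G := ConjAct.toConjAct u
    have hP : IsPGroup 2 (zpowers a) := IsPGroup.of_card (n := 1) (by
      rw [Nat.card_zpowers, MulEquiv.orderOf_eq, huo, pow_one])
    have h2 : 2 ∣ Nat.card (pCore 2 G) := by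
      obtain ⟨k, hk⟩ := IsPGroup.iff_card.mp hYp
      rcases k with _ | k
      · exact absurd (Finite.one_lt_card (α := pCore 2 G)) (by rw [hk]; norm_num)
      · rw [hk]; exact dvd_pow_self 2 (Nat.succ_ne_zero k)
    obtain ⟨z, hz, hz1⟩ := hP.exists_fixed_point_of_prime_dvd_card_of_fixed_point
      (α := pCore 2 G) h2 (a := 1) (fun c => smul_one c)
    refine ⟨z, z.2, fun e => hz1 (Subtype.ext e).symm, ?_⟩
    have h : u * (z : G) * u⁻¹ = z := congrArg Subtype.val (hz ⟨a, mem_zpowers a⟩)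
    exact ((mul_inv_eq_iff_eq_mul.mp h).symm : (z : G) * u = u * z)
  exact hx1 (eq_one_of_commute_pCore hO hI hxo hy hy1
    (commute_of_invol hI huo hYp hxo hxu hy hyu))

include hO hI in
theorem hall_structure [Group.IsSolvable G] (X : Subgroup G) (hXodd : Odd (Nat.card X))
    (hXidx : ∃ k : ℕ, X.index = 2 ^ k) :
    (∀ x ∈ X, x ≠ 1 → ∀ y ∈ pCore 2 G, y ≠ 1 → x * y ≠ y * x) ∧
      (∀ (p : ℕ) [Fact p.Prime] (P : Sylow p ↥X), IsCyclic ↥(P : Subgroup ↥X)) ∧
      (X ⊔ pCore 2 G).Normal ∧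
      ∀ hN : (X ⊔ pCore 2 G).Normal, IsCyclic (G ⧸ (X ⊔ pCore 2 G)) ∧
        IsPGroup 2 (G ⧸ (X ⊔ pCore 2 G)) := by
  haveI : Fact (Nat.Prime 2) := ⟨Nat.prime_two⟩
  set Y := pCore 2 G with hY
  have hodd : ∀ x ∈ X, Odd (orderOf x) := fun x hx =>
    hXodd.of_dvd_nat (Subgroup.orderOf_dvd_natCard _ hx)
  have hfix : ∀ x ∈ X, x ≠ 1 → ∀ y ∈ Y, y ≠ 1 → x * y ≠ y * x := fun x hx hx1 y hy hy1 h =>
    hx1 (eq_one_of_commute_pCore hO hI (hodd x hx) hy hy1 h)
  have hfpf : CfsgLib.Base.IsFPF X Y := by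
    refine ⟨by rw [normalizer_eq_top]; exact le_top, fun a ha ha1 => ?_⟩
    rw [eq_bot_iff]
    intro y hy
    obtain ⟨hy, hyc⟩ := mem_inf.mp hy
    rw [mem_bot]
    by_contra hy1
    exact hfix a ha ha1 y hy hy1 ((mem_centralizer_singleton_iff.mp hyc).symm)
  have hYbot : Y = ⊥ → ∀ g : G, g = 1 := fun hb g => by
    have := CfsgLib.Base.centralizer_pCore_le_of_isSolvable hO
      (show g ∈ centralizer ((pCore 2 G : Subgroup G) : Set G) from
        mem_centralizer_iff.mpr fun z hz => by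
          rw [show pCore 2 G = ⊥ from hb] at hz; rw [mem_bot.mp hz]; simp)
    rw [show pCore 2 G = ⊥ from hb] at this
    exact mem_bot.mp this
  have hcyc : ∀ (p : ℕ) [Fact p.Prime] (P : Sylow p ↥X), IsCyclic ↥(P : Subgroup ↥X) := by
    intro p hp P
    by_cases hb : Y = ⊥
    · have : Subsingleton (P : Subgroup X) :=
        ⟨fun a b => Subtype.ext (Subtype.ext ((hYbot hb _).trans (hYbot hb _).symm))⟩
      infer_instance
    rcases hfpf.isCyclic_or_quaternion hb (P : Subgroup X) P.isPGroup' with h | ⟨rfl, n, -, ⟨e⟩⟩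
    · exact h
    · exfalso
      have hd : Nat.card (P : Subgroup X) ∣ Nat.card X := card_subgroup_dvd_card _
      rw [Nat.card_congr e.toEquiv] at hd
      haveI : NeZero (2 ^ n) := ⟨pow_ne_zero n two_ne_zero⟩
      rw [Nat.card_eq_fintype_card, QuaternionGroup.card] at hd
      exact hXodd.not_two_dvd_nat (((by norm_num : 2 ∣ 4).mul_right _).trans hd)
  refine ⟨hfix, hcyc, ?_⟩
  set f := QuotientGroup.mk' Y with hf
  set W := X.map f with hW
  have hWidx : ∃ k, W.index = 2 ^ k := by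
    obtain ⟨k, hk⟩ := hXidx
    obtain ⟨j, -, hj⟩ := (Nat.dvd_prime_pow Nat.prime_two).mp
      (hk ▸ index_map_dvd X (QuotientGroup.mk'_surjective Y))
    exact ⟨j, hj⟩
  have hWodd : Odd (Nat.card W) := hXodd.of_dvd_nat (X.card_map_dvd f)
  have hcomap : W.comap f = X ⊔ Y := by
    rw [hW, comap_map_eq, hf, QuotientGroup.ker_mk']
  suffices hmain : W.Normal ∧ ∀ hWn : W.Normal, IsCyclic ((G ⧸ Y) ⧸ W) by
    obtain ⟨hWn, hWc⟩ := hmain
    haveI := hWn
    refine ⟨hcomap ▸ hWn.comap f, fun hN => ?_⟩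
    haveI := hN
    haveI := hWc hWn
    let ψ : G →* (G ⧸ Y) ⧸ W := (QuotientGroup.mk' W).comp f
    have hker : ψ.ker = X ⊔ Y := by
      rw [← MonoidHom.comap_ker, QuotientGroup.ker_mk', hcomap]
    let e : G ⧸ (X ⊔ Y) ≃* (G ⧸ Y) ⧸ W := (QuotientGroup.quotientMulEquivOfEq hker.symm).trans
      (QuotientGroup.quotientKerEquivOfSurjective ψ
        ((QuotientGroup.mk'_surjective W).comp (QuotientGroup.mk'_surjective Y)))
    refine ⟨isCyclic_of_surjective e.symm e.symm.surjective, ?_⟩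
    obtain ⟨j, hj⟩ := hWidx
    exact IsPGroup.of_card (n := j) (by rw [Nat.card_congr e.toEquiv, ← index_eq_card, hj])
  by_cases hev : ∃ s : G ⧸ Y, orderOf s = 2
  swap
  · -- no involution: `W = ⊤`
    have hWtop : W = ⊤ := by
      obtain ⟨j, hj⟩ := hWidx
      rcases j with _ | j
      · rwa [pow_zero, index_eq_one] at hj
      · exact absurd (exists_prime_orderOf_dvd_card' 2
          ((hj ▸ dvd_pow_self 2 (Nat.succ_ne_zero j) : 2 ∣ W.index).trans (index_dvd_card W))) hev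
    refine ⟨hWtop ▸ inferInstance, fun hWn => ?_⟩
    haveI : Subsingleton ((G ⧸ Y) ⧸ W) := by
      rw [← Finite.card_le_one_iff_subsingleton, ← index_eq_card, hWtop, index_top]
    infer_instance
  obtain ⟨s, hs⟩ := hev
  haveI : Group.IsSolvable (G ⧸ Y) := solvable_of_surjective (QuotientGroup.mk'_surjective Y)
  set D := pPrimeCore 2 (G ⧸ Y) with hD
  have hDodd : Odd (Nat.card D) := Nat.coprime_two_right.mp (CfsgLib.Base.pPrimeCore_coprime 2 _)
  have hDC : centralizer (D : Set (G ⧸ Y)) ≤ D :=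
    CfsgLib.FgsC.HallHigmanB.centralizer_pPrimeCore_le CfsgLib.PLocal.isPSolvable_of_isSolvable
      (CfsgLib.Base.pCore_quotient_pCore 2 G)
  have hDW : D ≤ W := by
    obtain ⟨j, hj⟩ := hWidx
    have h1 : D.relIndex (W ⊔ D) = D.relIndex W := relIndex_sup_right (K := D) (H := W)
    have hodd' : Odd (Nat.card (W ⊔ D : Subgroup (G ⧸ Y))) := by
      rw [← relIndex_bot_left, ← relIndex_mul_relIndex ⊥ D (W ⊔ D) bot_le le_sup_right,
        relIndex_bot_left, h1]
      exact hDodd.mul (hWodd.of_dvd_nat (relIndex_dvd_card D W))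
    have h2 : W.relIndex (W ⊔ D) = 1 := by
      refine Nat.eq_one_of_dvd_coprimes ((Nat.coprime_two_right.mpr hodd').pow_right j)
        ?_ (hj ▸ relIndex_dvd_index_of_le le_sup_left)
      exact relIndex_dvd_card W _
    exact le_sup_right.trans (relIndex_eq_one.mp h2)
  have hinv : ∀ t : G ⧸ Y, orderOf t = 2 → ∀ d ∈ D, t * d * t⁻¹ = d⁻¹ := by
    intro t ht d hd
    have hts : t * t = 1 := by rw [← sq]; exact orderOf_dvd_iff_pow_eq_one.mp ht.dvd
    have ht1 : t ≠ 1 := fun h => by rw [h, orderOf_one] at ht; exact absurd ht (by norm_num)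
    refine CfsgLib.Base.IsFPF.conj_eq_inv (A := zpowers t) ⟨by
      rw [normalizer_eq_top]; exact le_top, fun a ha ha1 => ?_⟩ (mem_zpowers t) ht1 hts hd
    have hat : a = t := by
      obtain ⟨i, rfl⟩ := ha
      simp only at ha1 ⊢
      rcases Int.even_or_odd i with ⟨r, rfl⟩ | ⟨r, rfl⟩
      · rw [← two_mul, zpow_mul, zpow_two, hts, one_zpow] at ha1; exact absurd rfl ha1
      · rw [zpow_add_one, zpow_mul, zpow_two, hts, one_zpow, one_mul]
    subst hat
    rw [eq_bot_iff]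
    intro c hc
    obtain ⟨hcD, hct⟩ := mem_inf.mp hc
    exact mem_bot.mpr (eq_one_of_commute_invol_quot hO hI ht
      (hDodd.of_dvd_nat (Subgroup.orderOf_dvd_natCard _ hcD))
      (mem_centralizer_singleton_iff.mp hct))
  have hDab : ∀ a ∈ D, ∀ b ∈ D, a * b = b * a := by
    intro a ha b hb
    have h := hinv s hs (a * b) (mul_mem ha hb)
    rw [← inv_inj, ← h, mul_inv_rev, ← hinv s hs b hb, ← hinv s hs a ha]
    group
  haveI hDc : IsMulCommutative D := ⟨⟨fun a b => Subtype.ext (hDab a a.2 b b.2)⟩⟩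
  haveI : IsCyclic D := by
    set A := X ⊓ D.comap f with hA
    have hAD : ∀ a ∈ A, f a ∈ D := fun a ha => (mem_inf.mp ha).2
    let φ : A →* D := (f.comp A.subtype).codRestrict D fun a => hAD a a.2
    have hsur : Function.Surjective φ := by
      rintro ⟨d, hd⟩
      obtain ⟨x, hx, rfl⟩ := hDW hd
      exact ⟨⟨x, mem_inf.mpr ⟨hx, hd⟩⟩, rfl⟩
    have hAY : ∀ a ∈ A, a ∈ Y → a = 1 := fun a ha haY => by
      obtain ⟨e, he⟩ := IsPGroup.iff_orderOf.mp (CfsgLib.Base.isPGroup_pCore 2 G) ⟨a, haY⟩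
      rw [Subgroup.orderOf_mk] at he
      rw [← orderOf_eq_one_iff]
      exact Nat.eq_one_of_dvd_coprimes
        ((Nat.coprime_two_right.mpr (hodd a (mem_inf.mp ha).1)).pow_right e) dvd_rfl he.dvd
    haveI : IsMulCommutative A := ⟨⟨fun a b => Subtype.ext (by
      have h1 : f ((a : G) * b * ((b : G) * a)⁻¹) = 1 := by
        rw [map_mul, map_inv, map_mul, map_mul, hDab _ (hAD a a.2) _ (hAD b b.2), mul_inv_cancel]
      exact mul_inv_eq_one.mp (hAY _ (mul_mem (mul_mem a.2 b.2) (inv_mem (mul_mem b.2 a.2)))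
        ((QuotientGroup.eq_one_iff _).mp h1)))⟩⟩
    by_cases hb : Y = ⊥
    · have : Subsingleton A := ⟨fun a b => Subtype.ext ((hYbot hb _).trans (hYbot hb _).symm)⟩
      exact isCyclic_of_surjective φ hsur
    haveI : IsCyclic A := (hfpf.mono (inf_le_left : A ≤ X)).isCyclic_of_comm hb
    exact isCyclic_of_surjective φ hsur
  let κ : G ⧸ Y →* MulAut D := MulAut.conjNormal
  have hcommD : ∀ a b : G ⧸ Y, a * b * a⁻¹ * b⁻¹ ∈ D := by
    intro a b
    refine hDC (mem_centralizer_iff.mpr fun d hd => ?_)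
    have h1 : κ (a * b * a⁻¹ * b⁻¹) = 1 := by
      rw [map_mul, map_mul, map_mul, map_inv, map_inv]
      have : κ a * κ b = κ b * κ a := by
        obtain ⟨m, hm⟩ := MonoidHom.map_cyclic (κ a).toMonoidHom
        obtain ⟨l, hl⟩ := MonoidHom.map_cyclic (κ b).toMonoidHom
        refine MulEquiv.ext fun z => ?_
        have hm' : ∀ z, κ a z = z ^ m := hm
        have hl' : ∀ z, κ b z = z ^ l := hl
        rw [MulAut.mul_apply, MulAut.mul_apply, hl', hm', hm', hl', ← zpow_mul, ← zpow_mul,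
          mul_comm]
      rw [this, mul_inv_cancel_right, mul_inv_cancel]
    have h2 : (a * b * a⁻¹ * b⁻¹) * d * (a * b * a⁻¹ * b⁻¹)⁻¹ = d :=
      congrArg Subtype.val (show κ (a * b * a⁻¹ * b⁻¹) ⟨d, hd⟩ = ⟨d, hd⟩ by rw [h1]; rfl)
    exact (mul_inv_eq_iff_eq_mul.mp h2).symm
  refine ⟨⟨fun n hn g => ?_⟩, fun hWn => ?_⟩
  · have : g * n * g⁻¹ = (g * n * g⁻¹ * n⁻¹) * n := by group
    rw [this]; exact mul_mem (hDW (hcommD g n)) hn
  obtain ⟨T⟩ := (inferInstance : Nonempty (Sylow 2 (G ⧸ Y)))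
  have hdis : ∀ t ∈ (T : Subgroup (G ⧸ Y)), t ∈ W → t = 1 := fun t ht htW => by
    obtain ⟨e, he⟩ := IsPGroup.iff_orderOf.mp T.2 ⟨t, ht⟩
    rw [Subgroup.orderOf_mk] at he
    rw [← orderOf_eq_one_iff]
    exact Nat.eq_one_of_dvd_coprimes
      ((Nat.coprime_two_right.mpr (hWodd.of_dvd_nat (Subgroup.orderOf_dvd_natCard _ htW))).pow_right e)
      dvd_rfl he.dvd
  haveI : IsMulCommutative (T : Subgroup (G ⧸ Y)) := ⟨⟨fun a b => Subtype.ext (by
    have h := hdis _ (mul_mem (mul_mem (mul_mem a.2 b.2) (inv_mem a.2)) (inv_mem b.2))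
      (hDW (hcommD a b))
    rw [mul_inv_eq_one, mul_inv_eq_iff_eq_mul] at h
    exact h)⟩⟩
  have hTc : IsCyclic (T : Subgroup (G ⧸ Y)) := by
    obtain ⟨t, ht⟩ : ∃ t : (T : Subgroup (G ⧸ Y)), orderOf t = 2 := by
      refine exists_prime_orderOf_dvd_card' 2 ?_
      exact Sylow.dvd_card_of_dvd_card T (hs ▸ orderOf_dvd_natCard s)
    have huniq : ∀ u : (T : Subgroup (G ⧸ Y)), u ^ 2 = 1 → u ∈ zpowers t := by
      intro u hu
      by_cases hu1 : u = 1
      · rw [hu1]; exact one_mem _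
      have huo : orderOf (u : G ⧸ Y) = 2 := by
        rw [Subgroup.orderOf_coe]; exact orderOf_eq_prime hu hu1
      have hto : orderOf (t : G ⧸ Y) = 2 := by rw [Subgroup.orderOf_coe, ht]
      have hc : (u : G ⧸ Y) * t ∈ D := hDC (mem_centralizer_iff.mpr fun d hd => by
        have h1 := hinv _ huo _ (inv_mem hd)
        have h2 := hinv _ hto d hd
        rw [inv_inv] at h1
        have h3 : (u : G ⧸ Y) * t * d * ((u : G ⧸ Y) * t)⁻¹ = d := by
          calc _ = (u : G ⧸ Y) * ((t : G ⧸ Y) * d * (t : G ⧸ Y)⁻¹) * (u : G ⧸ Y)⁻¹ := by group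
            _ = _ := by rw [h2, h1]
        exact (mul_inv_eq_iff_eq_mul.mp h3).symm)
      have hut := hdis _ (mul_mem u.2 t.2) (hDW hc)
      rw [show u = t⁻¹ from eq_inv_of_mul_eq_one_left (Subtype.ext hut)]
      exact inv_mem (mem_zpowers t)
    rcases CfsgLib.PGroups.isCyclic_or_quaternion_of_unique T.2
      (orderOf_dvd_iff_pow_eq_one.mp ht.dvd) huniq with h | ⟨-, n, hn, ⟨e⟩⟩
    · exact h
    exfalso
    haveI : NeZero (2 ^ n) := ⟨pow_ne_zero n two_ne_zero⟩
    have hc : QuaternionGroup.a (1 : ZMod (2 * 2 ^ n)) * QuaternionGroup.xa 0 =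
        QuaternionGroup.xa 0 * QuaternionGroup.a 1 := by
      refine e.symm.injective ?_
      rw [map_mul, map_mul]
      exact (inferInstance : IsMulCommutative (T : Subgroup (G ⧸ Y))).is_comm.comm _ _
    simp only [QuaternionGroup.a_mul_xa, QuaternionGroup.xa_mul_a, QuaternionGroup.xa.injEq] at hc
    have h2 : (2 : ZMod (2 * 2 ^ n)) = 0 := by linear_combination -hc
    rw [show (2 : ZMod (2 * 2 ^ n)) = ((2 : ℕ) : ZMod (2 * 2 ^ n)) by norm_num,
      ZMod.natCast_eq_zero_iff] at h2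
    have := Nat.le_of_dvd (by norm_num) h2
    have : 2 ≤ 2 ^ n := Nat.le_self_pow (by omega) 2
    omega
  haveI := hTc
  refine isCyclic_of_surjective ((QuotientGroup.mk' W).comp (T : Subgroup (G ⧸ Y)).subtype) ?_
  have htop : W ⊔ (T : Subgroup (G ⧸ Y)) = ⊤ := by
    obtain ⟨j, hj⟩ := hWidx
    rw [← index_eq_one]
    exact Nat.eq_one_of_dvd_coprimes
      ((Nat.coprime_two_right.mpr (Nat.not_even_iff_odd.mp fun he =>
        T.not_dvd_index (even_iff_two_dvd.mp he))).pow_right j)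
      (index_dvd_of_le le_sup_right) (hj ▸ index_dvd_of_le le_sup_left)
  intro q
  obtain ⟨g, rfl⟩ := QuotientGroup.mk'_surjective W q
  have hg : g ∈ W ⊔ (T : Subgroup (G ⧸ Y)) := htop ▸ mem_top g
  rw [Subgroup.mem_sup_of_normal_left] at hg
  obtain ⟨w, hw, t, ht, rfl⟩ := hg
  refine ⟨⟨t, ht⟩, ?_⟩
  rw [map_mul, show QuotientGroup.mk' W w = 1 from (QuotientGroup.eq_one_iff w).mpr hw, one_mul]
  rfl

end CfsgLib.Involutions
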