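import Cfsg.Agent.Lib.Transfer.QuaternionComplement
import Cfsg.Agent.Lib.Transfer.Reduction
import Cfsg.Agent.Lib.Base.MinimalNormal
import Cfsg.Agent.Lib.Perm.ClassTwoQ8

/-!
# Solvable groups with quaternion Sylow 2-subgroups of order at least 32
-/

set_option autoImplicit false

open Subgroup Cfsg
open scoped commutatorElement

namespace CfsgLib.Involutions

variable {G : Type*} [Group G] [Finite G]

theorem isPGroup_two_of_centralized {R : Subgroup G} (hR : IsPGroup 2 R)
    (hc : centralizer (R : Set G) ≤ R)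
    (h : ∀ g : G, Nat.Coprime (orderOf g) 2 → g ∈ centralizer (R : Set G)) : IsPGroup 2 G := by
  haveI : Fact (Nat.Prime 2) := ⟨Nat.prime_two⟩
  rw [IsPGroup.iff_card]
  refine ⟨_, Nat.eq_prime_pow_of_unique_prime_dvd Nat.card_pos.ne' fun {r} hr hrd => ?_⟩
  by_contra hr2
  haveI : Fact r.Prime := ⟨hr⟩
  obtain ⟨y, hy⟩ := exists_prime_orderOf_dvd_card' (G := G) r hrd
  have hyR : y ∈ R := hc (h y (by rw [hy]; exact (Nat.coprime_primes hr Nat.prime_two).2 hr2))
  obtain ⟨j, hj⟩ := IsPGroup.iff_orderOf.mp hR ⟨y, hyR⟩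
  rw [Subgroup.orderOf_mk, hy] at hj
  exact hr2 ((Nat.prime_dvd_prime_iff_eq hr Nat.prime_two).mp (hr.dvd_of_dvd_pow (Dvd.intro 1 (by rw [mul_one, hj]) : r ∣ 2 ^ j)))

theorem card_dvd_of_centralizer_le_quaternion_eight {R : Subgroup G} [R.Normal]
    (hc : centralizer (R : Set G) ≤ R) (e : R ≃* QuaternionGroup 2) : Nat.card G ∣ 48 := by
  classical
  let f : G →* MulAut R := MulAut.conjNormal
  have hker : f.ker ≤ centralizer (R : Set G) := by
    intro g hg
    rw [mem_centralizer_iff]
    intro x hx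
    have h1 : f g ⟨x, hx⟩ = ⟨x, hx⟩ := by rw [MonoidHom.mem_ker.mp hg]; rfl
    have h2 : g * x * g⁻¹ = x := congrArg Subtype.val h1
    exact (mul_inv_eq_iff_eq_mul.mp h2).symm
  have h2 : Nat.card f.ker ∣ 2 := by
    let z : R := e.symm (.a 2)
    have hle : f.ker ≤ zpowers (z : G) := by
      intro g hg
      have hgc := hker hg
      have hgR := hc hgc
      rcases CfsgLib.Transfer.q8_center (e ⟨g, hgR⟩) (fun y => by
        obtain ⟨x, rfl⟩ := e.surjective y
        rw [← map_mul, ← map_mul]
        exact congrArg e (Subtype.ext (mem_centralizer_iff.mp hgc x x.2).symm)) with h | h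
      · have : g = 1 := congrArg Subtype.val (e.injective (h.trans (map_one e).symm) :
          (⟨g, hgR⟩ : R) = 1)
        rw [this]; exact one_mem _
      · have : g = (z : G) := congrArg Subtype.val
          (show (⟨g, hgR⟩ : R) = z from e.injective (h.trans (e.apply_symm_apply _).symm))
        rw [this]; exact mem_zpowers _
    refine (card_dvd_of_le hle).trans ?_
    rw [Nat.card_zpowers]
    refine orderOf_dvd_of_pow_eq_one ?_
    have : z ^ 2 = 1 := by
      apply e.injective
      rw [map_pow, map_one, e.apply_symm_apply]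
      decide
    exact_mod_cast congrArg Subtype.val this
  have h24 : Nat.card f.range ∣ 24 := by
    rw [← CfsgLib.Perm.card_mulAut_quaternion,
      ← Nat.card_congr (MulAut.congr e).toEquiv]
    exact card_subgroup_dvd_card _
  rw [← f.ker.card_mul_index, index_ker]
  simpa using Nat.mul_dvd_mul h2 h24

/-- A solvable group with trivial odd core and quaternion Sylow 2-subgroups of order at least
32 is a 2-group. -/
theorem isPGroup_of_solvable_quaternion [Group.IsSolvable G] (hO : pPrimeCore 2 G = ⊥)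
    (T : Sylow 2 G) {n : ℕ} (hn : 3 ≤ n) (eT : (T : Subgroup G) ≃* QuaternionGroup (2 ^ n)) :
    IsPGroup 2 G := by
  haveI : Fact (Nat.Prime 2) := ⟨Nat.prime_two⟩
  have hR : IsPGroup 2 (pCore 2 G) := CfsgLib.Base.isPGroup_pCore 2 G
  have hc := CfsgLib.Base.centralizer_pCore_le_of_isSolvable (p := 2) hO
  by_cases hR1 : pCore 2 G = ⊥
  · refine isPGroup_two_of_centralized hR hc fun g _ => mem_centralizer_iff.mpr fun x hx => ?_
    rw [hR1] at hx
    rw [mem_bot.mp hx]; simp
  have hRT : pCore 2 G ≤ (T : Subgroup G) := CfsgLib.Base.pCore_le_sylow T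
  have h2d : 2 ∣ Nat.card (pCore 2 G) := by
    obtain ⟨k, hk⟩ := IsPGroup.iff_card.mp hR
    rcases k with _ | k
    · exact absurd (eq_bot_of_card_eq _ (by simpa using hk)) hR1
    · rw [hk]; exact dvd_pow_self 2 (Nat.succ_ne_zero k)
  obtain ⟨z, hz⟩ := exists_prime_orderOf_dvd_card' 2 h2d
  have huniq : ∀ y : pCore 2 G, y ^ 2 = 1 → y ∈ zpowers z := by
    intro y hy
    have h1 : ∀ w : pCore 2 G, w ^ 2 = 1 → w = 1 ∨ eT (inclusion hRT w) = .a (2 ^ n : ℕ) := by
      intro w hw
      rcases CfsgLib.LocalEven.quaternion_eq_of_sq_eq_one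
        (x := eT (inclusion hRT w)) (by rw [← map_pow, ← map_pow, hw, map_one, map_one]) with h | h
      · exact Or.inl (inclusion_injective hRT (eT.injective (h.trans (by rw [map_one, map_one]))))
      · exact Or.inr h
    rcases h1 y hy with rfl | hy'
    · exact one_mem _
    rcases h1 z (orderOf_eq_iff (by norm_num) |>.mp hz).1 with hz' | hz'
    · rw [hz', orderOf_one] at hz; exact absurd hz (by norm_num)
    rw [inclusion_injective hRT (eT.injective (hy'.trans hz'.symm))]
    exact mem_zpowers z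
  have hnorm : ∀ g : G, g ∈ normalizer ((pCore 2 G : Subgroup G) : Set G) := by
    intro g; rw [normalizer_eq_top]; exact mem_top g
  rcases CfsgLib.PGroups.isCyclic_or_quaternion_of_unique hR
    (orderOf_eq_iff (by norm_num) |>.mp hz).1 huniq with hcyc | ⟨-, m, hm, ⟨e⟩⟩
  · exact isPGroup_two_of_centralized hR hc fun g hg =>
      CfsgLib.Transfer.mem_centralizer_of_isCyclic hR hcyc (hnorm g) hg
  rcases eq_or_lt_of_le hm with hm1 | hm2
  · subst hm1
    exfalso
    have h48 := card_dvd_of_centralizer_le_quaternion_eight hc e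
    have h32 : 32 ∣ Nat.card G := by
      refine dvd_trans ?_ (Subgroup.card_subgroup_dvd_card (T : Subgroup G))
      rw [Nat.card_congr eT.toEquiv, Nat.card_eq_fintype_card, QuaternionGroup.card]
      calc 32 = 4 * 2 ^ 3 := by norm_num
        _ ∣ 4 * 2 ^ n := Nat.mul_dvd_mul_left _ (pow_dvd_pow 2 hn)
    exact absurd (h32.trans h48) (by norm_num)
  · exact isPGroup_two_of_centralized hR hc fun g hg =>
      CfsgLib.Transfer.eq_one_of_quaternion hm2 e (hnorm g) hg

/-- A solvable group with quaternion Sylow 2-subgroups of order at least 32 has a normal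
2-complement. -/
theorem hasNormalPComplement_of_solvable_quaternion [Group.IsSolvable G] (T : Sylow 2 G) {n : ℕ}
    (hn : 3 ≤ n) (eT : (T : Subgroup G) ≃* QuaternionGroup (2 ^ n)) :
    HasNormalPComplement 2 G := by
  haveI : Fact (Nat.Prime 2) := ⟨Nat.prime_two⟩
  set N := pPrimeCore 2 G with hN
  let f := QuotientGroup.mk' N
  have hf : Function.Surjective f := QuotientGroup.mk'_surjective N
  have hinj : Function.Injective (f.subgroupMap (T : Subgroup G)) := by
    rw [← MonoidHom.ker_eq_bot_iff, eq_bot_iff]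
    intro x hx
    have hxN : (x : G) ∈ N :=
      (QuotientGroup.eq_one_iff (x : G)).1 (congrArg Subtype.val (MonoidHom.mem_ker.mp hx))
    have h0 := CfsgLib.Base.inf_eq_bot_of_isPGroup_of_coprime (p := 2) T.2
      (CfsgLib.Base.pPrimeCore_coprime 2 G)
    rw [mem_bot]
    exact Subtype.ext (mem_bot.mp (h0 ▸ mem_inf.mpr ⟨x.2, hxN⟩ :
      (x : G) ∈ (⊥ : Subgroup G)))
  let e : (T : Subgroup G) ≃* ((T.mapSurjective hf : Sylow 2 (G ⧸ N)) : Subgroup (G ⧸ N)) :=
    (MulEquiv.ofBijective _ ⟨hinj, f.subgroupMap_surjective _⟩).trans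
      (MulEquiv.subgroupCongr (T.coe_mapSurjective hf).symm)
  haveI : Group.IsSolvable (G ⧸ N) := solvable_of_surjective hf
  exact CfsgLib.Transfer.hasNormalPComplement_of_quotient_coprime N
    (CfsgLib.Base.pPrimeCore_coprime 2 G)
    (CfsgLib.Transfer.hasNormalPComplement_of_isPGroup
      (isPGroup_of_solvable_quaternion (CfsgLib.Base.pPrimeCore_quotient_pPrimeCore 2 G)
        (T.mapSurjective hf) hn (e.symm.trans eT)))

end CfsgLib.Involutions
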