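import Cfsg.Agent.Lib.Involutions.IsolatedCentre
import Cfsg.Prelude.Def_Transfer

/-!
# A strongly closed subgroup centralizes core-free subgroups that it normalizes and avoids
-/

set_option autoImplicit false
set_option linter.style.haveILetI false

namespace CfsgLib.Involutions

open Subgroup Cfsg

universe u

variable {G : Type u} [Group G] [Finite G]

/-- In a group `Z*`: if conjugates of `a` in a Sylow subgroup equal `a`, and `a * a` centralizes
the core-free normal subgroup `H`, then so does `a`. -/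
theorem commute_of_weaklyClosed_elt {X : Type u} [Group X] [Finite X] (R : Sylow 2 X) {a : X}
    (haR : a ∈ (R : Subgroup X)) (H : Subgroup X) [H.Normal] (hO : oddCore H = ⊥)
    (hX : H ⊔ zpowers a = ⊤) (hdisj : ∀ h ∈ H, h ∈ zpowers a → h = 1)
    (h2 : ∀ h ∈ H, Commute (a * a) h) (ha1 : a ∉ zpowers (a * a))
    (hw : ∀ k : X, k * a * k⁻¹ ∈ (R : Subgroup X) → k * a * k⁻¹ = a) :
    ∀ h ∈ H, Commute a h := by
  set Z := zpowers (a * a) with hZ
  have hZc : Z ≤ center X := by
    rw [hZ, zpowers_le, mem_center_iff]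
    intro g
    have hle : H ⊔ zpowers a ≤ centralizer ({a * a} : Set X) := by
      refine sup_le (fun h hh => mem_centralizer_singleton_iff.2 (h2 h hh).eq.symm)
        (zpowers_le.2 (mem_centralizer_singleton_iff.2 (mul_assoc a a a).symm))
    exact mem_centralizer_singleton_iff.1 (hle (hX.symm ▸ mem_top g))
  haveI : Z.Normal := ⟨fun n hn g => by
    rw [mem_center_iff.1 (hZc hn) g, mul_inv_cancel_right]; exact hn⟩
  set π := QuotientGroup.mk' Z
  have hsurj : Function.Surjective π := QuotientGroup.mk'_surjective Z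
  have hZR : Z ≤ (R : Subgroup X) := zpowers_le.2 (mul_mem haR haR)
  have hinv : orderOf (π a) = 2 := invol_iff.2 ⟨by
    rw [← map_mul]; exact (QuotientGroup.eq_one_iff _).2 (mem_zpowers _),
    fun h => ha1 ((QuotientGroup.eq_one_iff _).1 h)⟩
  have hiso : IsIsolatedInvolution (π a) := by
    refine isolated_of_sylow (R.mapSurjective hsurj) hinv fun q hq => ?_
    obtain ⟨k, rfl⟩ := hsurj q
    rw [← map_inv, ← map_mul, ← map_mul] at hq ⊢
    obtain ⟨r, hr, hrk⟩ := hq
    refine congrArg π (hw k ?_)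
    have h1 := hZR ((QuotientGroup.eq).1 hrk)
    exact (mul_mem_cancel_left ((R : Subgroup X).inv_mem hr)).1 h1
  set O := oddCore (X ⧸ Z)
  haveI : O.Normal := pPrimeCore_normal 2 _
  set D := O.comap (π.comp H.subtype) with hD
  have hinj : Function.Injective (π.comp H.subtype) := by
    rw [← MonoidHom.ker_eq_bot_iff, eq_bot_iff]
    intro h hh
    have h1 : (h : X) ∈ Z := (QuotientGroup.eq_one_iff (h : X)).1 hh
    exact Subtype.ext (hdisj h h.2 (zpowers_le.2 (mul_mem (mem_zpowers a) (mem_zpowers a)) h1))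
  have hDodd : Odd (Nat.card D) := by
    have h1 : Nat.card D ∣ Nat.card O := by
      rw [← card_map_of_injective (K := D) hinj]
      exact card_dvd_of_le (map_comap_le _ _)
    exact Odd.of_dvd_nat (Nat.coprime_two_right.1 (Base.pPrimeCore_coprime 2 (X ⧸ Z))) h1
  have hDbot : D = ⊥ := le_bot_iff.1 (hO ▸ Base.le_oddCore (N := D) hDodd)
  intro h hh
  have hn : H.Normal := inferInstance
  have hmem : a * h * a⁻¹ * h⁻¹ ∈ H := mul_mem (hn.conj_mem h hh a) (inv_mem hh)
  have hc : π (a * h * a⁻¹ * h⁻¹) ∈ O := by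
    simpa only [map_mul, map_inv] using ZStar.centralModCore hiso (π h)
  have h1 : (⟨_, hmem⟩ : H) ∈ D := hc
  rw [hDbot, mem_bot] at h1
  exact mul_inv_eq_iff_eq_mul.1 (mul_inv_eq_one.1 (congrArg Subtype.val h1))

theorem le_centralizer_of_stronglyClosed (S : Sylow 2 G) {A : Subgroup G}
    (hA : IsStronglyClosed A (S : Subgroup G)) (H : Subgroup G)
    (hAH : A ≤ normalizer (H : Set G)) (hO : oddCore H = ⊥) (hdisj : A ⊓ H = ⊥) :
    A ≤ centralizer (H : Set G) := by
  set L := H ⊔ A with hL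
  have hLN : L ≤ normalizer (H : Set G) := sup_le le_normalizer hAH
  have hAp : IsPGroup 2 A := S.isPGroup'.to_le hA.1
  obtain ⟨T, hT⟩ := (hAp.comap_subtype (K := L)).exists_le_sylow
  obtain ⟨Q, hQ⟩ := ((T.isPGroup').map L.subtype).exists_le_sylow
  obtain ⟨g, hg⟩ := MulAction.exists_smul_eq G Q S
  have hTS : ∀ t : L, t ∈ (T : Subgroup L) → g * (t : G) * g⁻¹ ∈ (S : Subgroup G) := fun t ht => by
    rw [← hg]
    exact ⟨(t : G), hQ ⟨t, ht, rfl⟩, rfl⟩
  have hgA : ∀ a ∈ A, g * a * g⁻¹ ∈ A := fun a ha =>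
    hA.2 a ha g (hTS ⟨a, mem_sup_right ha⟩ (hT ha))
  have hgA' : ∀ b, g * b * g⁻¹ ∈ A → b ∈ A := fun b hb => by
    obtain ⟨c, hc, hce⟩ := (eq_of_le_of_card_ge
      (show A.map (MulAut.conj g).toMonoidHom ≤ A from fun _ ⟨a, ha, e⟩ => e ▸ hgA a ha)
      (card_map_of_injective (MulAut.conj g).injective).ge).ge hb
    rwa [← (MulAut.conj g).injective (hce : MulAut.conj g c = MulAut.conj g b)]
  have hTA : ∀ (t : L) (a : G), a ∈ A → ∀ k : G, (t : G) = k * a * k⁻¹ →
      t ∈ (T : Subgroup L) → k * a * k⁻¹ ∈ A := fun t a ha k e ht => by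
    refine hgA' _ ?_
    have h1 := hA.2 (g * a * g⁻¹) (hgA a ha) (g * k * g⁻¹) (by
      have h2 := hTS t ht
      rw [e] at h2
      convert h2 using 1
      group)
    convert h1 using 1
    group
  intro a ha
  induction hd : orderOf a using Nat.strong_induction_on generalizing a with
  | _ d ih =>
    by_cases ha1 : a = 1
    · exact ha1 ▸ one_mem _
    obtain ⟨k, hk⟩ := IsPGroup.iff_orderOf.1 hAp ⟨a, ha⟩
    rw [Subgroup.orderOf_mk] at hk
    have hk0 : k ≠ 0 := fun h => ha1 (orderOf_eq_one_iff.1 (by rw [hk, h, pow_zero]))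
    have hsq : orderOf (a * a) = 2 ^ (k - 1) := by
      rw [← sq, orderOf_pow_of_dvd two_ne_zero (hk ▸ dvd_pow_self 2 hk0), hk]
      obtain ⟨j, rfl⟩ := Nat.exists_eq_succ_of_ne_zero hk0
      rw [pow_succ, Nat.mul_div_cancel _ two_pos]; rfl
    have h2 := ih _ (by rw [← hd, hsq, hk]; exact Nat.pow_lt_pow_right one_lt_two (by omega))
      (mul_mem ha ha) rfl
    set X := H ⊔ zpowers a with hX
    have hXL : X ≤ L := sup_le_sup_left (zpowers_le.2 ha) H
    haveI : (H.subgroupOf X).Normal :=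
      (normal_subgroupOf_iff_le_normalizer le_sup_left).2 (hXL.trans hLN)
    have haX : a ∈ X := mem_sup_right (mem_zpowers a)
    obtain ⟨R, hR⟩ := ((hAp.to_le (zpowers_le.2 ha)).comap_subtype (K := X)).exists_le_sylow
    have haR : (⟨a, haX⟩ : X) ∈ (R : Subgroup X) := hR (mem_zpowers a)
    obtain ⟨T', hT'⟩ := (R.isPGroup'.map (inclusion hXL)).exists_le_sylow
    obtain ⟨l, hl⟩ := MulAction.exists_smul_eq L T' T
    have hRT : ∀ r : X, r ∈ (R : Subgroup X) →
        l * inclusion hXL r * l⁻¹ ∈ (T : Subgroup L) := fun r hr => by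
      rw [← hl]
      exact ⟨inclusion hXL r, hT' (mem_map_of_mem _ hr), rfl⟩
    have hO' : oddCore (H.subgroupOf X) = ⊥ := by
      show pPrimeCore 2 (H.subgroupOf X) = ⊥
      rw [← Base.map_pPrimeCore_mulEquiv (subgroupOfEquivOfLe (le_sup_left : H ≤ X)).symm,
        show pPrimeCore 2 H = ⊥ from hO, Subgroup.map_bot]
    refine mem_centralizer_iff.2 fun h hh => ?_
    refine (congrArg Subtype.val (commute_of_weaklyClosed_elt R haR (H.subgroupOf X) hO' ?_ ?_ ?_ ?_ ?_
      (⟨h, mem_sup_left hh⟩ : X) hh).eq).symm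
    · refine map_injective X.subtype_injective ?_
      rw [Subgroup.map_sup, subgroupOf_map_subtype, MonoidHom.map_zpowers, ← MonoidHom.range_eq_map,
        range_subtype, inf_of_le_left (le_sup_left : H ≤ X)]
      rfl
    · rintro w hw ⟨i, rfl⟩
      refine Subtype.ext (mem_bot.1 (hdisj.le ⟨?_, hw⟩))
      simp only [Subgroup.coe_zpow]
      exact zpow_mem ha i
    · intro w hw
      exact Subtype.ext (mem_centralizer_iff.1 h2 (w : G) hw).symm
    · rintro ⟨i, hi⟩
      have h3 : (a * a) ^ i = a := congrArg Subtype.val hi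
      have h4 := orderOf_dvd_of_mem_zpowers (show a ∈ zpowers (a * a) from ⟨i, h3⟩)
      rw [hsq, hk] at h4
      have := (Nat.pow_dvd_pow_iff_le_right one_lt_two).1 h4
      omega
    · intro c hc
      refine Subtype.ext ?_
      show (c : G) * a * (c : G)⁻¹ = a
      -- both elements lie in `A` after moving by `l`
      have e1 : (l : G) * a * (l : G)⁻¹ ∈ A :=
        hTA _ a ha (l : G) rfl (hRT _ haR)
      have e2 : (l : G) * ((c : G) * a * (c : G)⁻¹) * (l : G)⁻¹ ∈ A := by
        have := hTA _ a ha ((l : G) * c) (by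
          show (l : G) * ((c : G) * a * (c : G)⁻¹) * (l : G)⁻¹ = _; group) (hRT _ hc)
        convert this using 1
        group
      have hH : (c : G) * a * (c : G)⁻¹ * a⁻¹ ∈ H := by
        obtain ⟨h', hh', w, ⟨i, rfl⟩, hc'⟩ := mem_sup_of_normal_left.1
          (show c ∈ H.subgroupOf X ⊔ zpowers (⟨a, haX⟩ : X) from by
            have : H.subgroupOf X ⊔ zpowers (⟨a, haX⟩ : X) = ⊤ := by
              refine map_injective X.subtype_injective ?_
              rw [Subgroup.map_sup, subgroupOf_map_subtype, MonoidHom.map_zpowers,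
                ← MonoidHom.range_eq_map, range_subtype, inf_of_le_left (le_sup_left : H ≤ X)]
              rfl
            rw [this]; exact mem_top c)
        have hc2 : (c : G) = (h' : G) * a ^ i := by rw [← hc']; simp
        rw [hc2, show (h' : G) * a ^ i * a * ((h' : G) * a ^ i)⁻¹ * a⁻¹
          = h' * (a * (h' : G)⁻¹ * a⁻¹) by group]
        exact H.mul_mem hh' ((mem_normalizer_iff.1 (hAH ha) _).1 (H.inv_mem hh'))
      have h3 : (l : G) * ((c : G) * a * (c : G)⁻¹ * a⁻¹) * (l : G)⁻¹ ∈ A ⊓ H := by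
        refine ⟨?_, (mem_normalizer_iff.1 (hLN l.2) _).1 hH⟩
        rw [← conj_mul, ← conj_inv]
        exact A.mul_mem e2 (A.inv_mem e1)
      rw [hdisj, mem_bot, conj_eq_one_iff] at h3
      exact mul_inv_eq_one.1 h3

end CfsgLib.Involutions
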