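import Mathlib
import Cfsg.Agent.Lib.Small.Basic
import Cfsg.Agent.Lib.Small.Count
import Cfsg.Agent.Lib.FgsC.SylowThree22Basic

/-!
No simple group has twenty-one Sylow five-subgroups.
-/

set_option autoImplicit false
set_option linter.unusedSectionVars false

open Subgroup
open scoped Pointwise

namespace CfsgLib.Involutions.SylowFive21

theorem sign_mul : ∀ a b : (ZMod 5)ˣ, ∀ k : Fin 3, a ^ (2 * (k : ℕ)) = 1 → b ^ (2 * (k : ℕ)) = 1 → k ≠ 0 →
    (if (a * b) ^ (k : ℕ) = 1 then (1 : ℤˣ) else -1) =
      (if a ^ (k : ℕ) = 1 then 1 else -1) * (if b ^ (k : ℕ) = 1 then 1 else -1) := by decide +kernel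

theorem card_root_one : Nat.card {a : (ZMod 5)ˣ | a ^ (2 / 2) = 1} ≤ 1 := by
  rw [Nat.card_eq_fintype_card]; decide +kernel

theorem card_root_two : Nat.card {a : (ZMod 5)ˣ | a ^ (4 / 2) = 1} ≤ 2 := by
  rw [Nat.card_eq_fintype_card]; decide +kernel

variable {G : Type*} [Group G] [Finite G]

/-- The transfer to a group of order two of a `2`-element. -/
theorem transfer_eq_neg_one {N : Subgroup G} (hN : Odd N.index) (χ : N →* ℤˣ) {x : G} {j : ℕ}
    (hx : x ^ 2 ^ j = 1) (hone : ∀ g : G, ∀ h : g⁻¹ * x * g ∈ N, χ ⟨g⁻¹ * x * g, h⟩ = -1)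
    (heven : ∀ (g : G) (l : ℕ), Even l → ∀ h : g⁻¹ * x ^ l * g ∈ N, χ ⟨g⁻¹ * x ^ l * g, h⟩ = 1) :
    MonoidHom.transfer χ x = -1 := by
  classical
  haveI : Fintype (G ⧸ N) := Fintype.ofFinite _
  haveI : Fintype (Quotient (MulAction.orbitRel (zpowers x) (G ⧸ N))) := Fintype.ofFinite _
  haveI : ∀ q : Quotient (MulAction.orbitRel (zpowers x) (G ⧸ N)),
      NeZero (Function.minimalPeriod (x • ·) q.out) := fun q =>
    ⟨(Function.minimalPeriod_pos_of_mem_periodicPts (by
      refine Function.mk_mem_periodicPts (n := 2 ^ j) (pow_pos (by norm_num) j) ?_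
      rw [Function.IsPeriodicPt, Function.IsFixedPt, smul_iterate]
      show x ^ 2 ^ j • q.out = q.out
      rw [hx, one_smul])).ne'⟩
  set per := fun q : Quotient (MulAction.orbitRel (zpowers x) (G ⧸ N)) => Function.minimalPeriod (x • ·) q.out
    with hper
  have hsum : ∑ q, per q = N.index := by
    rw [Subgroup.index_eq_card, Nat.card_congr (Subgroup.quotientEquivSigmaZMod N x), Nat.card_sigma]
    exact Finset.sum_congr rfl fun q _ => (Nat.card_zmod _).symm
  have hcase : ∀ q, per q = 1 ∨ Even (per q) := by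
    intro q
    have hd : per q ∣ 2 ^ j := by
      refine Function.IsPeriodicPt.minimalPeriod_dvd ?_
      rw [Function.IsPeriodicPt, Function.IsFixedPt, smul_iterate]
      show x ^ 2 ^ j • q.out = q.out
      rw [hx, one_smul]
    obtain ⟨i, -, hi⟩ := (Nat.dvd_prime_pow Nat.prime_two).1 hd
    rcases Nat.eq_zero_or_pos i with h | h
    · exact Or.inl (by rw [hi, h, pow_zero])
    · exact Or.inr (by rw [hi]; exact (Nat.even_pow.2 ⟨even_two, h.ne'⟩))
  have hfac : ∀ q, χ ⟨q.out.out⁻¹ * x ^ per q * q.out.out, QuotientGroup.out_conj_pow_minimalPeriod_mem N x q.out⟩ =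
      (-1) ^ per q := by
    intro q
    have hmem : q.out.out⁻¹ * x ^ per q * q.out.out ∈ N := QuotientGroup.out_conj_pow_minimalPeriod_mem N x q.out
    rcases hcase q with h | h
    · have hmem' : q.out.out⁻¹ * x * q.out.out ∈ N := by
        have := hmem
        rwa [h, pow_one] at this
      rw [show (-1 : ℤˣ) ^ per q = -1 by rw [h, pow_one]]
      exact (congrArg χ (Subtype.ext (by show _ * x ^ per q * _ = _; rw [h, pow_one]))).trans (hone _ hmem')
    · rw [h.neg_one_pow]
      exact heven _ _ h hmem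
  rw [MonoidHom.transfer_eq_prod_quotient_orbitRel_zpowers_quot χ x, Finset.prod_congr rfl (fun q _ => hfac q),
    Finset.prod_pow_eq_pow_sum, hsum, hN.neg_one_pow]

variable [IsSimpleGroup G]

theorem sylow_five_card (hG : ¬ IsMulCommutative G) (hn : Nat.card (Sylow 5 G) = 21) [Fact (Nat.Prime 5)]
    (P : Sylow 5 G) : Nat.card (P : Subgroup G) = 5 := by
  classical
  haveI : Fintype (Sylow 5 G) := Fintype.ofFinite _
  have hcard : Fintype.card (Sylow 5 G) = 21 := by rw [← Nat.card_eq_fintype_card, hn]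
  have hconst : ∀ R R' : Sylow 5 G, Nat.card (R : Subgroup G) = Nat.card (R' : Subgroup G) := fun R R' => by
    rw [R.card_eq_multiplicity, R'.card_eq_multiplicity]
  -- every orbit of a Sylow subgroup on the others has five elements
  have horb : ∀ A B : Sylow 5 G, A ≠ B → Nat.card (MulAction.orbit (A : Subgroup G) B) = 5 := by
    intro A B hAB
    obtain ⟨i, hi⟩ := A.isPGroup'.card_orbit B
    have hne : ∀ C ∈ MulAction.orbit (A : Subgroup G) B, C ≠ A := by
      rintro C ⟨a, rfl⟩ h
      apply hAB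
      have hA : (a : G) • A = A := Sylow.smul_eq_iff_mem_normalizer.2 (le_normalizer a.2)
      exact (MulAction.injective (a : G) (h.trans hA.symm)).symm
    have hle : Nat.card (MulAction.orbit (A : Subgroup G) B) ≤ 20 := by
      rw [Nat.card_coe_set_eq]
      refine le_trans (Set.ncard_le_ncard (t := {A}ᶜ) (fun C hC => hne C hC) (Set.toFinite _)) ?_
      rw [Set.ncard_compl, Set.ncard_singleton, hn]
    have hi0 : i ≠ 0 := by
      intro h
      rw [h, pow_zero] at hi
      have hfix : ∀ a : (A : Subgroup G), (a : G) • B = B := fun a => by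
        have h1 : ((a • B : Sylow 5 G)) ∈ MulAction.orbit (A : Subgroup G) B := MulAction.mem_orbit B a
        have := (Finite.card_le_one_iff_subsingleton.1 hi.le).elim ⟨_, h1⟩ ⟨B, MulAction.mem_orbit_self B⟩
        exact congrArg Subtype.val this
      have hAB' : (A : Subgroup G) ≤ normalizer (B : Set G) := fun a ha =>
        Sylow.smul_eq_iff_mem_normalizer.1 (hfix ⟨a, ha⟩)
      have h1 : (A : Subgroup G) ≤ (A : Subgroup G) ⊓ normalizer (B : Set G) := le_inf le_rfl hAB'
      rw [A.isPGroup'.inf_normalizer_sylow B] at h1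
      exact hAB (Sylow.ext (Subgroup.eq_of_le_of_card_ge (h1.trans inf_le_right) (hconst B A).le))
    have hi1 : i ≤ 1 := by
      by_contra h
      have : 5 ^ 2 ≤ 5 ^ i := Nat.pow_le_pow_right (by norm_num) (by omega)
      omega
    rw [hi, show i = 1 by omega, pow_one]
  have hidx : ∀ A B : Sylow 5 G, A ≠ B → Nat.card ↥((A : Subgroup G) ⊓ B) * 5 = Nat.card (A : Subgroup G) := by
    intro A B hAB
    have h1 := horb A B hAB
    rw [Nat.card_congr (MulAction.orbitEquivQuotientStabilizer (A : Subgroup G) B), ← Subgroup.index_eq_card] at h1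
    have hstab : MulAction.stabilizer (A : Subgroup G) B = ((A : Subgroup G) ⊓ B).subgroupOf (A : Subgroup G) := by
      rw [← A.isPGroup'.inf_normalizer_sylow B]
      ext a
      rw [Subgroup.mem_subgroupOf, Subgroup.mem_inf, MulAction.mem_stabilizer_iff]
      show (a : G) • B = B ↔ _
      rw [Sylow.smul_eq_iff_mem_normalizer]
      exact ⟨fun h => ⟨a.2, h⟩, fun h => h.2⟩
    have h2 := (MulAction.stabilizer (A : Subgroup G) B).card_mul_index
    rw [h1, hstab, Nat.card_congr (Subgroup.subgroupOfEquivOfLe inf_le_left).toEquiv] at h2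
    exact h2
  obtain ⟨Q, hQ⟩ : ∃ Q : Sylow 5 G, Q ≠ P := by
    have : Nontrivial (Sylow 5 G) := Fintype.one_lt_card_iff_nontrivial.1 (by omega)
    exact exists_ne P
  set D := (P : Subgroup G) ⊓ Q with hD
  by_contra hne
  have hDne : D ≠ ⊥ := by
    intro h
    have := hidx P Q hQ.symm
    rw [← hD, h, Subgroup.card_bot, one_mul] at this
    exact hne this.symm
  let L : Finset (Sylow 5 G) := Finset.univ.filter fun R : Sylow 5 G => D ≤ (R : Subgroup G)
  have hL : ∀ R, R ∈ L ↔ D ≤ (R : Subgroup G) := fun R => by simp [L]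
  have heq : ∀ {A B : Sylow 5 G} {E : Subgroup G}, A ≠ B → E ≤ (A : Subgroup G) → E ≤ (B : Subgroup G) →
      Nat.card E * 5 = Nat.card (A : Subgroup G) → (A : Subgroup G) ⊓ B = E := by
    intro A B E hAB hEA hEB hE
    refine (Subgroup.eq_of_le_of_card_ge (le_inf hEA hEB) ?_).symm
    have := hidx A B hAB
    omega
  have hDcard : ∀ R : Sylow 5 G, Nat.card D * 5 = Nat.card (R : Subgroup G) := fun R => by
    rw [hconst R P]; exact hidx P Q hQ.symm
  -- the line through `P` and `Q` has at least six points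
  have hDn : ∀ a ∈ (P : Subgroup G), ∀ d ∈ D, a * d * a⁻¹ ∈ D := by
    intro a ha d hd
    have h1 : (D.subgroupOf (P : Subgroup G)).Normal := by
      refine Subgroup.normal_of_index_eq_minFac_card ?_
      have h2 := (D.subgroupOf (P : Subgroup G)).card_mul_index
      rw [Nat.card_congr (Subgroup.subgroupOfEquivOfLe inf_le_left).toEquiv, ← hDcard P] at h2
      rw [Nat.eq_of_mul_eq_mul_left Nat.card_pos h2]
      obtain ⟨i, hi⟩ := IsPGroup.iff_card.1 P.isPGroup'
      have hi0 : i ≠ 0 := by
        intro h0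
        have := hDcard P
        rw [hi, h0, pow_zero] at this
        omega
      rw [hi, Nat.pow_minFac hi0, Nat.Prime.minFac_eq (by norm_num)]
    exact h1.conj_mem ⟨d, hd.1⟩ hd ⟨a, ha⟩
  have hL6 : 6 ≤ L.card := by
    have hsub : insert P (MulAction.orbit (P : Subgroup G) Q).toFinset ⊆ L := by
      intro R hR
      rw [Finset.mem_insert] at hR
      rcases hR with rfl | hR
      · exact (hL _).2 inf_le_left
      · rw [Set.mem_toFinset] at hR
        obtain ⟨a, rfl⟩ := hR
        rw [hL]
        intro d hd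
        show d ∈ (((a : G) • Q : Sylow 5 G) : Subgroup G)
        rw [Sylow.coe_subgroup_smul, Subgroup.mem_pointwise_smul_iff_inv_smul_mem]
        have h' := hDn (a : G)⁻¹ (inv_mem a.2) d hd
        rw [inv_inv] at h'
        have : ((MulAut.conj (a : G))⁻¹ : MulAut G) • d = (a : G)⁻¹ * d * a := by
          simp [MulAut.smul_def]
        rw [this]
        exact h'.2
    refine le_trans ?_ (Finset.card_le_card hsub)
    rw [Finset.card_insert_of_notMem, ← Set.ncard_eq_toFinset_card', ← Nat.card_coe_set_eq, horb P Q hQ.symm]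
    rw [Set.mem_toFinset]
    rintro ⟨a, ha⟩
    have hA : (a : G) • P = P := Sylow.smul_eq_iff_mem_normalizer.2 (le_normalizer a.2)
    exact hQ (MulAction.injective (a : G) (ha.trans hA.symm))
  obtain ⟨T, hT⟩ : ∃ T, T ∉ L := by
    by_contra! hall
    apply hDne
    have hker : ∀ d ∈ D, d = 1 := by
      intro d hd
      refine CfsgLib.Small.toPermHom_sylow_injective (p := 5) hG ?_ (Equiv.ext fun R => ?_)
      · obtain ⟨i, hi⟩ := IsPGroup.iff_card.1 P.isPGroup'
        have hi0 : i ≠ 0 := by
          intro h0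
          have := hDcard P
          rw [hi, h0, pow_zero] at this
          omega
        exact (dvd_pow_self 5 hi0).trans (hi ▸ card_subgroup_dvd_card _)
      · rw [map_one]
        show d • R = R
        exact Sylow.smul_eq_iff_mem_normalizer.2 (le_normalizer ((hL R).1 (hall R) hd))
    exact (Subgroup.eq_bot_iff_forall _).2 hker
  set Es := (Finset.univ.erase T).image (fun R : Sylow 5 G => (T : Subgroup G) ⊓ R) with hEs
  have hEs4 : Es.card * 5 ≤ 20 := by
    have h1 : (Finset.univ.erase T).card = 20 := by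
      rw [Finset.card_erase_of_mem (Finset.mem_univ _), Finset.card_univ, hcard]
    rw [← h1, mul_comm]
    refine Finset.mul_card_image_le_card _ _ fun E hE => ?_
    obtain ⟨R, hR, rfl⟩ := Finset.mem_image.1 hE
    have hRT : T ≠ R := (Finset.mem_erase.1 hR).1.symm
    refine le_trans (le_of_eq (horb T R hRT).symm) ?_
    rw [Nat.card_coe_set_eq, Set.ncard_eq_toFinset_card']
    refine Finset.card_le_card fun C hC => ?_
    rw [Set.mem_toFinset] at hC
    obtain ⟨a, rfl⟩ := hC
    have hA : (a : G) • T = T := Sylow.smul_eq_iff_mem_normalizer.2 (le_normalizer a.2)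
    have hne' : T ≠ (a : G) • R := fun h => hRT (MulAction.injective (a : G) (hA.trans h))
    refine Finset.mem_filter.2 ⟨Finset.mem_erase.2 ⟨hne'.symm, Finset.mem_univ _⟩, ?_⟩
    show (T : Subgroup G) ⊓ ((a : G) • R : Sylow 5 G) = (T : Subgroup G) ⊓ R
    refine heq hne' inf_le_left ?_ (hidx T R hRT)
    have hnorm : (((T : Subgroup G) ⊓ R).subgroupOf (T : Subgroup G)).Normal := by
      refine Subgroup.normal_of_index_eq_minFac_card ?_
      have h2 := (((T : Subgroup G) ⊓ R).subgroupOf (T : Subgroup G)).card_mul_index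
      rw [Nat.card_congr (Subgroup.subgroupOfEquivOfLe inf_le_left).toEquiv, ← hidx T R hRT] at h2
      rw [Nat.eq_of_mul_eq_mul_left Nat.card_pos h2]
      obtain ⟨i, hi⟩ := IsPGroup.iff_card.1 T.isPGroup'
      have hi0 : i ≠ 0 := by
        intro h0
        have := hidx T R hRT
        rw [hi, h0, pow_zero] at this
        omega
      rw [hi, Nat.pow_minFac hi0, Nat.Prime.minFac_eq (by norm_num)]
    intro d hd
    show d ∈ (((a : G) • R : Sylow 5 G) : Subgroup G)
    rw [Sylow.coe_subgroup_smul, Subgroup.mem_pointwise_smul_iff_inv_smul_mem]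
    have h' := hnorm.conj_mem ⟨d, hd.1⟩ hd ⟨(a : G)⁻¹, inv_mem a.2⟩
    rw [Subgroup.mem_subgroupOf] at h'
    have : ((MulAut.conj (a : G))⁻¹ : MulAut G) • d = (a : G)⁻¹ * d * a := by simp [MulAut.smul_def]
    rw [this]
    have h2 := h'.2
    simp at h2
    exact h2
  have hinj : L.card ≤ Es.card := by
    refine Finset.card_le_card_of_injOn (fun R : Sylow 5 G => (T : Subgroup G) ⊓ R) (fun R hR => ?_) ?_
    · exact Finset.mem_image_of_mem _ (Finset.mem_erase.2 ⟨fun h => hT (h ▸ hR), Finset.mem_univ _⟩)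
    · intro R₁ h1 R₂ h2 he
      by_contra h12
      have hT1 : T ≠ R₁ := fun h => hT (h ▸ h1)
      have he' : (T : Subgroup G) ⊓ R₁ = (T : Subgroup G) ⊓ R₂ := he
      set E := (T : Subgroup G) ⊓ R₁ with hE
      have hEc : Nat.card E * 5 = Nat.card (R₁ : Subgroup G) := by rw [hidx T R₁ hT1]; exact hconst _ _
      have e1 : (R₁ : Subgroup G) ⊓ R₂ = E := heq h12 inf_le_right (he' ▸ inf_le_right) hEc
      have e2 : (R₁ : Subgroup G) ⊓ R₂ = D := heq h12 ((hL _).1 h1) ((hL _).1 h2) (hDcard R₁)
      exact hT ((hL T).2 (e2 ▸ e1 ▸ inf_le_left))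
  omega

theorem card_sylow_five_ne (hG : ¬ IsMulCommutative G) : Nat.card (Sylow 5 G) ≠ 21 := by
  classical
  intro hn
  haveI : Fact (Nat.Prime 5) := ⟨by norm_num⟩
  haveI : Fintype (Sylow 5 G) := Fintype.ofFinite _
  have hcard : Fintype.card (Sylow 5 G) = 21 := by rw [← Nat.card_eq_fintype_card, hn]
  obtain ⟨P⟩ : Nonempty (Sylow 5 G) := inferInstance
  have hP := sylow_five_card hG hn P
  have h5 : 5 ∣ Nat.card G := hP ▸ card_subgroup_dvd_card _
  set N := normalizer ((P : Subgroup G) : Set G) with hN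
  set C := centralizer ((P : Subgroup G) : Set G) with hC
  have hfree : ∀ Q : Sylow 5 G, Q ≠ P → ∀ a ∈ (P : Subgroup G), a ≠ 1 → a • Q ≠ Q := by
    intro Q hQ a ha ha1 h
    have hmem : a ∈ normalizer (Q : Set G) := Sylow.smul_eq_iff_mem_normalizer.1 h
    have hin : a ∈ (P : Subgroup G) ⊓ normalizer (Q : Set G) := ⟨ha, hmem⟩
    rw [P.isPGroup'.inf_normalizer_sylow Q] at hin
    apply hQ
    refine (Sylow.ext ?_).symm
    have hz : Subgroup.zpowers a = (P : Subgroup G) := Subgroup.eq_of_le_of_card_ge (by simpa using ha) (by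
      have hoa : orderOf a = 5 := by
        have hd := Subgroup.orderOf_dvd_natCard _ ha
        rw [hP] at hd
        exact ((Nat.dvd_prime (by norm_num)).1 hd).resolve_left fun h1 => ha1 (orderOf_eq_one_iff.1 h1)
      rw [hP, Nat.card_zpowers, hoa])
    have hPQ : (P : Subgroup G) ≤ Q := hz ▸ Subgroup.zpowers_le.2 hin.2
    exact Subgroup.eq_of_le_of_card_ge hPQ (le_of_eq (by rw [Q.card_eq_multiplicity, P.card_eq_multiplicity]))
  -- non-trivial `2`-elements of the centralizer fix only `P`
  have honly : ∀ w ∈ C, w ≠ 1 → (∃ j : ℕ, w ^ 2 ^ j = 1) → ∀ Q : Sylow 5 G, w • Q = Q → Q = P := by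
    intro w hw hw1 hwj Q hQ
    obtain ⟨j, hj⟩ := hwj
    obtain ⟨i, -, hi⟩ := (Nat.dvd_prime_pow Nat.prime_two).1 (orderOf_dvd_of_pow_eq_one hj)
    have hi0 : i ≠ 0 := fun h => hw1 (orderOf_eq_one_iff.1 (by rw [hi, h, pow_zero]))
    set t := w ^ 2 ^ (i - 1) with ht
    have ht2 : t ^ 2 = 1 := by
      rw [ht, ← pow_mul, ← pow_succ, show i - 1 + 1 = i by omega, ← hi, pow_orderOf_eq_one]
    have ht1 : t ≠ 1 := by
      intro h
      have := orderOf_dvd_of_pow_eq_one h
      rw [hi, Nat.pow_dvd_pow_iff_le_right (by norm_num)] at this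
      omega
    have htC : t ∈ C := pow_mem hw _
    set F := (Finset.univ.erase P).filter fun R : Sylow 5 G => t • R = R with hF
    have h5F : 5 ∣ F.card := by
      refine CfsgLib.FgsC.dvd_card_of_orbits (A := (P : Subgroup G)) F 5 (fun a R hR => ?_) fun R hR => ?_
      · simp only [hF, Finset.mem_filter, Finset.mem_erase, Finset.mem_univ, and_true] at hR ⊢
        have hA : (a : G) • P = P := Sylow.smul_eq_iff_mem_normalizer.2 (le_normalizer a.2)
        refine ⟨fun h => hR.1 (MulAction.injective (a : G) (h.trans hA.symm)), ?_⟩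
        show t • (a : G) • R = (a : G) • R
        rw [smul_smul, ← Subgroup.mem_centralizer_iff.1 htC a a.2, mul_smul, hR.2]
      · simp only [hF, Finset.mem_filter, Finset.mem_erase, Finset.mem_univ, and_true] at hR
        rw [Nat.card_congr (MulAction.orbitEquivQuotientStabilizer (P : Subgroup G) R), ← Subgroup.index_eq_card]
        have hd := (MulAction.stabilizer (P : Subgroup G) R).index_dvd_card
        rw [hP] at hd
        refine ((Nat.dvd_prime (by norm_num)).1 hd).resolve_left fun h => ?_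
        rw [Subgroup.index_eq_one] at h
        haveI : Nontrivial (P : Subgroup G) := Finite.one_lt_card_iff_nontrivial.1 (by omega)
        obtain ⟨a, ha⟩ := exists_ne (1 : (P : Subgroup G))
        exact hfree R hR.1 a a.2 (fun h' => ha (Subtype.ext h'))
          (show a ∈ MulAction.stabilizer (P : Subgroup G) R from h ▸ Subgroup.mem_top _)
    have h4 := CfsgLib.Small.involution_fixed_mod_four hG (MulAction.toPermHom G (Sylow 5 G)) ht2
    have hsupp : (MulAction.toPermHom G (Sylow 5 G) t).support = (Finset.univ.erase P) \ F := by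
      have htP : t • P = P := Sylow.smul_eq_iff_mem_normalizer.2 (centralizer_le_normalizer _ htC)
      ext R
      simp only [Equiv.Perm.mem_support, Finset.mem_sdiff, Finset.mem_erase, Finset.mem_univ, and_true, hF,
        Finset.mem_filter, not_and]
      show t • R ≠ R ↔ _
      exact ⟨fun h => ⟨fun e => h (e ▸ htP), fun _ => h⟩, fun h => h.2 h.1⟩
    have hFsub : F ⊆ Finset.univ.erase P := Finset.filter_subset _ _
    rw [hsupp, Finset.card_sdiff_of_subset hFsub, Finset.card_erase_of_mem (Finset.mem_univ _),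
      Finset.card_univ, hcard] at h4
    replace h4 : 4 ∣ 20 - F.card := by simpa using h4
    have hle : F.card ≤ 20 := by
      refine le_trans (Finset.card_filter_le _ _) ?_
      rw [Finset.card_erase_of_mem (Finset.mem_univ _), Finset.card_univ, hcard]
    have h020 : F.card = 0 ∨ F.card = 20 := by omega
    rcases h020 with h | h
    · by_contra hQP
      have htQ : t • Q = Q := by
        have hmem : w ∈ MulAction.stabilizer G Q := hQ
        exact (pow_mem hmem _ : t ∈ MulAction.stabilizer G Q)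
      have : Q ∈ F := Finset.mem_filter.2 ⟨Finset.mem_erase.2 ⟨hQP, Finset.mem_univ _⟩, htQ⟩
      rw [Finset.card_eq_zero] at h
      rw [h] at this
      exact Finset.notMem_empty _ this
    · exfalso
      apply ht1
      refine CfsgLib.Small.toPermHom_sylow_injective hG h5 ?_
      rw [map_one]
      refine Equiv.Perm.support_eq_empty_iff.1 ?_
      rw [hsupp, Finset.sdiff_eq_empty_iff_subset]
      exact (Finset.eq_of_subset_of_card_le (Finset.filter_subset _ _) (by
        rw [h, Finset.card_erase_of_mem (Finset.mem_univ _), Finset.card_univ, hcard])).ge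
  -- the action of `N` on `P`
  haveI : IsCyclic (P : Subgroup G) := isCyclic_of_prime_card hP
  let κ : N →* (ZMod 5)ˣ :=
    ((Units.mapEquiv (ZMod.ringEquivCongr hP).toMulEquiv).toMonoidHom.comp
      (IsCyclic.mulAutMulEquiv (P : Subgroup G)).toMonoidHom).comp (P : Subgroup G).normalizerMonoidHom
  have hker : ∀ z : N, κ z = 1 ↔ (z : G) ∈ C := by
    intro z
    have h1 : κ z = 1 ↔ (P : Subgroup G).normalizerMonoidHom z = 1 := by
      simp only [κ, MonoidHom.comp_apply, MulEquiv.coe_toMonoidHom, map_eq_one_iff _ (MulEquiv.injective _)]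
    rw [h1, ← MonoidHom.mem_ker, normalizerMonoidHom_ker, Subgroup.mem_subgroupOf]
  obtain ⟨e, he1, hed, hece⟩ := CfsgLib.Small.exists_normalizer_centralizer hG P hP
  rw [← hC, ← hN] at hece
  have hCN : C ≤ N := centralizer_le_normalizer _
  have hrange : Nat.card κ.range = e := by
    have h1 : κ.ker = C.subgroupOf N := by
      ext z; rw [MonoidHom.mem_ker, hker, Subgroup.mem_subgroupOf]
    rw [← Subgroup.index_ker, h1]
    have h2 := (C.subgroupOf N).card_mul_index
    rw [Nat.card_congr (Subgroup.subgroupOfEquivOfLe hCN).toEquiv, ← hece] at h2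
    exact Nat.eq_of_mul_eq_mul_left Nat.card_pos h2
  have he : e = 2 ∨ e = 4 := by
    have := Nat.le_of_dvd (by norm_num) hed
    interval_cases e <;> simp_all
  set h := e / 2 with hh
  have hpow : ∀ z : N, κ z ^ (2 * h) = 1 := by
    intro z
    have := pow_card_eq_one' (x := (⟨κ z, z, rfl⟩ : κ.range))
    rw [hrange] at this
    have hz : κ z ^ e = 1 := by simpa using congrArg Subtype.val this
    rwa [show 2 * h = e by omega]
  let χ : N →* ℤˣ := MonoidHom.mk' (fun z => if κ z ^ h = 1 then 1 else -1) fun a b => by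
    show (if κ (a * b) ^ h = 1 then (1 : ℤˣ) else -1) = _
    rw [map_mul]
    exact sign_mul (κ a) (κ b) ⟨h, by omega⟩ (hpow a) (hpow b) (fun h0 => by
      have := congrArg Fin.val h0
      simp at this
      omega)
  have hχ : ∀ z : N, χ z = 1 ↔ (z : G) ^ h ∈ C := by
    intro z
    show (if κ z ^ h = 1 then (1 : ℤˣ) else -1) = 1 ↔ _
    rw [← map_pow]
    have hz := hker (z ^ h)
    rw [Subgroup.coe_pow] at hz
    split_ifs with h1
    · exact iff_of_true rfl (hz.1 h1)
    · exact iff_of_false (by decide) fun h2 => h1 (hz.2 h2)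
  have hχne : ∃ z : N, χ z = -1 := by
    by_contra! hall
    have h1 : ∀ z : N, κ z ^ h = 1 := fun z => by
      have := hall z
      by_contra h2
      exact this (if_neg h2)
    have hsub : (κ.range : Set (ZMod 5)ˣ) ⊆ {a | a ^ h = 1} := by rintro _ ⟨z, rfl⟩; exact h1 z
    have hle : Nat.card κ.range ≤ Nat.card {a : (ZMod 5)ˣ | a ^ h = 1} :=
      Nat.card_mono (Set.toFinite _) hsub
    rw [hrange] at hle
    rcases he with rfl | rfl
    · have : Nat.card {a : (ZMod 5)ˣ | a ^ (2 / 2) = 1} ≤ 1 := card_root_one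
      exact absurd (hle.trans this) (by norm_num)
    · have : Nat.card {a : (ZMod 5)ˣ | a ^ (4 / 2) = 1} ≤ 2 := card_root_two
      exact absurd (hle.trans this) (by norm_num)
  -- a `2`-element of least order outside the kernel
  have hex : ∃ n : ℕ, ∃ z : N, χ z = -1 ∧ orderOf z = 2 ^ n := by
    obtain ⟨z, hz⟩ := hχne
    obtain ⟨i, m, hm, hzm⟩ := Nat.exists_eq_two_pow_mul_odd (orderOf_pos z).ne'
    refine ⟨i, z ^ m, ?_, ?_⟩
    · rw [map_pow, hz, hm.neg_one_pow]
    · rw [orderOf_pow' z hm.pos.ne', hzm, Nat.gcd_eq_right (dvd_mul_left m _), Nat.mul_div_cancel _ hm.pos]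
  set n := Nat.find hex with hn'
  obtain ⟨z, hzχ, hzo⟩ := Nat.find_spec hex
  rw [← hn'] at hzo
  have hmin : ∀ y : N, (∃ i < n, (y : G) ^ 2 ^ i = 1) → χ y = 1 := by
    rintro y ⟨i, hi, hy⟩
    rcases Int.units_eq_one_or (χ y) with h' | h'
    · exact h'
    · exfalso
      have hy' : y ^ 2 ^ i = 1 := Subtype.ext (by simpa using hy)
      obtain ⟨k, hk, hko⟩ := (Nat.dvd_prime_pow Nat.prime_two).1 (orderOf_dvd_of_pow_eq_one hy')
      exact Nat.find_min hex (show k < Nat.find hex by omega) ⟨y, h', hko⟩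
  have hxn : (z : G) ^ 2 ^ n = 1 := by
    rw [← hzo, ← Subgroup.coe_pow, pow_orderOf_eq_one]; rfl
  have hidx : N.index = 21 := by rw [hN, ← CfsgLib.Small.card_sylow_eq_index P, hn]
  have htr : MonoidHom.transfer χ (z : G) = -1 := by
    refine transfer_eq_neg_one (by rw [hidx]; decide) χ (j := n) hxn ?_ ?_
    · intro g hg
      rcases Int.units_eq_one_or (χ ⟨g⁻¹ * (z : G) * g, hg⟩) with h' | h'
      · exfalso
        rw [hχ] at h'
        set w := (g⁻¹ * (z : G) * g) ^ h with hw
        have hzh : (z : G) ^ h ∉ C := fun hm => by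
          have := (hχ z).2 hm
          rw [hzχ] at this
          exact absurd this (by decide)
        have hwe : w = g⁻¹ * (z : G) ^ h * g := by
          have := conj_pow (i := h) (a := g⁻¹) (b := (z : G))
          rwa [inv_inv] at this
        have hw1 : w ≠ 1 := fun he => hzh (by
          have : (z : G) ^ h = 1 := by
            rw [hwe] at he
            calc (z : G) ^ h = g * (g⁻¹ * (z : G) ^ h * g) * g⁻¹ := by group
              _ = 1 := by rw [he]; group
          rw [this]; exact one_mem _)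
        have hwj : ∃ j : ℕ, w ^ 2 ^ j = 1 := ⟨n, by
          rw [hwe]
          have := conj_pow (i := 2 ^ n) (a := g⁻¹) (b := (z : G) ^ h)
          rw [inv_inv] at this
          rw [this, ← pow_mul, mul_comm, pow_mul, hxn, one_pow]; group⟩
        have hzP : (z : G) ^ h • P = P := Sylow.smul_eq_iff_mem_normalizer.2 (N.pow_mem z.2 h)
        have hwP : w • (g⁻¹ • P) = g⁻¹ • P := by
          rw [hwe, smul_smul, mul_assoc, mul_inv_cancel, mul_one, mul_smul, hzP]
        have hgP := honly w h' hw1 hwj _ hwP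
        have hgN : g ∈ N := by
          have : g • P = P := by
            calc g • P = g • (g⁻¹ • P) := by rw [hgP]
              _ = P := smul_inv_smul g P
          exact Sylow.smul_eq_iff_mem_normalizer.1 this
        apply hzh
        have hCn : (C.subgroupOf N).Normal := by
          have h1 : κ.ker = C.subgroupOf N := by
            ext y; rw [MonoidHom.mem_ker, hker, Subgroup.mem_subgroupOf]
          rw [← h1]; infer_instance
        have := hCn.conj_mem ⟨w, hCN h'⟩ h' ⟨g, hgN⟩
        rw [Subgroup.mem_subgroupOf] at this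
        convert this using 1
        simp [hwe, mul_assoc]
      · exact h'
    · intro g l hl hg
      refine hmin ⟨_, hg⟩ ?_
      obtain ⟨r, rfl⟩ := hl
      have hn0 : n ≠ 0 := fun h0 => by
        rw [h0, pow_zero, orderOf_eq_one_iff] at hzo
        rw [hzo, map_one] at hzχ
        exact absurd hzχ (by decide)
      refine ⟨n - 1, by omega, ?_⟩
      show (g⁻¹ * (z : G) ^ (r + r) * g) ^ 2 ^ (n - 1) = 1
      have := conj_pow (i := 2 ^ (n - 1)) (a := g⁻¹) (b := (z : G) ^ (r + r))
      rw [inv_inv] at this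
      have hp : (r + r) * 2 ^ (n - 1) = 2 ^ n * r := by
        conv_rhs => rw [show n = n - 1 + 1 by omega, pow_succ]
        ring
      rw [this, ← pow_mul, hp, pow_mul, hxn, one_pow]
      group
  rcases (inferInstance : (MonoidHom.transfer χ).ker.Normal).eq_bot_or_eq_top with h' | h'
  · refine hG ⟨⟨fun a b => ?_⟩⟩
    exact (MonoidHom.ker_eq_bot_iff _).1 h' (by rw [map_mul, map_mul, mul_comm])
  · have hmem : (z : G) ∈ (MonoidHom.transfer χ).ker := h' ▸ mem_top _
    rw [MonoidHom.mem_ker, htr] at hmem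
    exact absurd hmem (by decide)

end CfsgLib.Involutions.SylowFive21
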