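import Mathlib

/-!
# Transfer into a quotient of a subgroup controlling powers of an element
-/

set_option autoImplicit false

namespace CfsgLib.Involutions

open Subgroup MonoidHom

variable {G : Type*} [Group G]

/-- If `ϕ` is constant on the conjugates in `H` of each power of `g ∈ H`, the transfer of `g` is
`ϕ g ^ H.index`. -/
theorem transfer_eq_map_pow {H : Subgroup G} [H.FiniteIndex] {A : Type*} [CommGroup A]
    (ϕ : H →* A) (g : H)
    (key : ∀ (k : ℕ) (g₀ : G) (h : g₀⁻¹ * (g : G) ^ k * g₀ ∈ H),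
      ϕ ⟨g₀⁻¹ * (g : G) ^ k * g₀, h⟩ = ϕ g ^ k) :
    transfer ϕ (g : G) = ϕ g ^ H.index := by
  classical
  let := H.fintypeQuotientOfFiniteIndex
  rw [transfer_eq_prod_quotient_orbitRel_zpowers_quot, index_eq_sum_minimalPeriod H (g : G),
    ← Finset.prod_pow_eq_pow_sum]
  exact Finset.prod_congr rfl fun q _ => key _ _ _

end CfsgLib.Involutions
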