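import Mathlib
import Cfsg.Prelude.Def_CaseTheorems

/-!
# Recognizing quasi-dihedral and wreathed Sylow 2-subgroups from generators
-/

set_option autoImplicit false
set_option linter.style.haveILetI false

namespace CfsgLib.Involutions

open Subgroup

variable {G : Type*} [Group G]

/-- `A ∪ A z`, for an involution `z` normalizing `A`. -/
def extendInvol (A : Subgroup G) (z : G) (hz : z * z = 1) (hn : ∀ a ∈ A, z * a * z⁻¹ ∈ A) :
    Subgroup G where
  carrier := {g | g ∈ A ∨ g * z ∈ A}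
  mul_mem' := by
    have hzi : z⁻¹ = z := inv_eq_of_mul_eq_one_left hz
    rintro g h (hg | hg) (hh | hh)
    · exact Or.inl (A.mul_mem hg hh)
    · exact Or.inr (by rw [mul_assoc]; exact A.mul_mem hg hh)
    · refine Or.inr ?_
      rw [show g * h * z = g * z * (z⁻¹ * h * z⁻¹⁻¹) by group, hzi]
      exact A.mul_mem hg (hn h hh)
    · refine Or.inl ?_
      rw [show g * h = g * z * (z⁻¹ * (h * z) * z⁻¹⁻¹ * (z * z)⁻¹) by group, hz, inv_one, mul_one,
        hzi]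
      exact A.mul_mem hg (hn _ hh)
  one_mem' := Or.inl A.one_mem
  inv_mem' := by
    have hzi : z⁻¹ = z := inv_eq_of_mul_eq_one_left hz
    rintro g (hg | hg)
    · exact Or.inl (A.inv_mem hg)
    · refine Or.inr ?_
      rw [show g⁻¹ * z = z * (g * z)⁻¹ * z⁻¹ * (z * z) by group, hz, mul_one]
      exact hn _ (A.inv_mem hg)

theorem card_extendInvol [Finite G] (A : Subgroup G) (z : G) (hz : z * z = 1)
    (hn : ∀ a ∈ A, z * a * z⁻¹ ∈ A) (hzA : z ∉ A) :
    Nat.card (extendInvol A z hz hn) = 2 * Nat.card A := by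
  have hle : A ≤ extendInvol A z hz hn := fun a ha => Or.inl ha
  have h : A.relIndex (extendInvol A z hz hn) = 2 := by
    refine relIndex_eq_two_iff.2 ⟨z, Or.inr (hz.symm ▸ A.one_mem), fun b hb => ?_⟩
    rcases hb with hb | hb
    · exact Or.inr ⟨hb, fun h => hzA ((mul_mem_cancel_left hb).1 h)⟩
    · exact Or.inl ⟨hb, fun h => hzA ((mul_mem_cancel_left h).1 hb)⟩
  have h2 := (A.subgroupOf (extendInvol A z hz hn)).card_mul_index
  rw [Nat.card_congr (subgroupOfEquivOfLe hle).toEquiv, ← relIndex, h] at h2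
  omega

/-- A 2-subgroup of odd index is isomorphic to every Sylow 2-subgroup. -/
theorem nonempty_equiv_sylow [Finite G] (H : Subgroup G) {k m : ℕ} (hH : Nat.card H = 2 ^ k)
    (hG : Nat.card G = 2 ^ k * m) (hm : Odd m) (P : Sylow 2 G) :
    Nonempty (H ≃* (P : Subgroup G)) := by
  have hp : IsPGroup 2 H := IsPGroup.of_card hH
  have hidx : ¬ 2 ∣ H.index := by
    have h := H.card_mul_index
    rw [hH, hG] at h
    rw [Nat.eq_of_mul_eq_mul_left (pow_pos two_pos k) h]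
    exact fun h2 => Nat.not_even_iff_odd.2 hm (even_iff_two_dvd.2 h2)
  exact ⟨(Sylow.equiv (hp.toSylow hidx) P)⟩

theorem isQuasiDihedral_sylow [Finite G] {x y : G} {n m : ℕ} (hn : 3 ≤ n)
    (hx : orderOf x = 2 ^ n) (hy : orderOf y = 2) (hconj : y * x * y⁻¹ = x ^ (2 ^ (n - 1) - 1))
    (hyx : y ∉ zpowers x) (hG : Nat.card G = 2 ^ (n + 1) * m) (hm : Odd m) (P : Sylow 2 G) :
    Cfsg.IsQuasiDihedral (P : Subgroup G) := by
  have hyy : y * y = 1 := by rw [← sq, ← hy, pow_orderOf_eq_one]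
  have hnorm : ∀ a ∈ zpowers x, y * a * y⁻¹ ∈ zpowers x := by
    rintro _ ⟨i, rfl⟩
    simp only [← conj_zpow, hconj]
    exact zpow_mem (pow_mem (mem_zpowers x) _) i
  set H := extendInvol (zpowers x) y hyy hnorm with hHdef
  have hH : Nat.card H = 2 ^ (n + 1) := by
    rw [hHdef, card_extendInvol _ _ _ _ hyx, Nat.card_zpowers, hx, pow_succ']
  obtain ⟨e⟩ := nonempty_equiv_sylow H hH hG hm P
  have hxH : x ∈ H := Or.inl (mem_zpowers x)
  have hyH : y ∈ H := Or.inr (hyy.symm ▸ one_mem _)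
  refine ⟨n, hn, (Nat.card_congr e.toEquiv).symm.trans hH, e ⟨x, hxH⟩, e ⟨y, hyH⟩, ?_, ?_, ?_⟩
  · rw [MulEquiv.orderOf_eq, Subgroup.orderOf_mk, hx]
  · rw [MulEquiv.orderOf_eq, Subgroup.orderOf_mk, hy]
  · rw [← map_inv, ← map_mul, ← map_mul, ← map_pow]
    exact congrArg e (Subtype.ext hconj)

theorem isWreathed_sylow [Finite G] {x y z : G} {n m : ℕ} (hn : 2 ≤ n)
    (hx : orderOf x = 2 ^ n) (hy : orderOf y = 2 ^ n) (hxy : Commute x y)
    (hdisj : zpowers x ⊓ zpowers y = ⊥) (hz : orderOf z = 2) (hconj : z * x * z⁻¹ = y)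
    (hxne : x ≠ y) (hG : Nat.card G = 2 ^ (2 * n + 1) * m) (hm : Odd m) (P : Sylow 2 G) :
    Cfsg.IsWreathed (P : Subgroup G) := by
  have hzz : z * z = 1 := by rw [← sq, ← hz, pow_orderOf_eq_one]
  have hcomm : ∀ (a : zpowers x) (b : zpowers y), Commute (a : G) (b : G) := by
    rintro ⟨_, i, rfl⟩ ⟨_, j, rfl⟩
    exact hxy.zpow_zpow i j
  let φ : zpowers x × zpowers y →* G :=
    MonoidHom.noncommCoprod (zpowers x).subtype (zpowers y).subtype hcomm
  have hφ : Function.Injective φ := by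
    rintro ⟨a, b⟩ ⟨a', b'⟩ h
    change (a : G) * b = (a' : G) * b' at h
    have h1 : (a' : G)⁻¹ * a = (b' : G) * (b : G)⁻¹ := by
      rw [eq_mul_inv_iff_mul_eq, mul_assoc, h, inv_mul_cancel_left]
    have h2 : (a' : G)⁻¹ * a ∈ zpowers x ⊓ zpowers y :=
      ⟨(zpowers x).mul_mem ((zpowers x).inv_mem a'.2) a.2,
        h1 ▸ (zpowers y).mul_mem b'.2 ((zpowers y).inv_mem b.2)⟩
    rw [hdisj, mem_bot] at h2
    have e1 : (a' : G) = a := inv_mul_eq_one.1 h2
    have e2 : (b : G) = b' := by rw [e1] at h; exact mul_left_cancel h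
    exact Prod.ext (Subtype.ext e1.symm) (Subtype.ext e2)
  set U := φ.range
  have hU : Nat.card U = 2 ^ (2 * n) := by
    rw [← Nat.card_congr (MonoidHom.ofInjective hφ).toEquiv, Nat.card_prod, Nat.card_zpowers,
      Nat.card_zpowers, hx, hy, ← pow_add, two_mul]
  have hxU : x ∈ U := ⟨(⟨x, mem_zpowers x⟩, 1), mul_one x⟩
  have hyU : y ∈ U := ⟨(1, ⟨y, mem_zpowers y⟩), one_mul y⟩
  have hUc : ∀ a ∈ U, Commute a x := by
    rintro _ ⟨⟨⟨_, i, rfl⟩, ⟨_, j, rfl⟩⟩, rfl⟩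
    exact (Commute.refl x).zpow_left i |>.mul_left (hxy.symm.zpow_left j)
  have hzU : z ∉ U := fun h => hxne (by
    rw [← hconj, (hUc z h).eq, mul_inv_cancel_right])
  have hzy : z * y * z⁻¹ = x := by
    rw [← hconj, inv_eq_of_mul_eq_one_left hzz]
    calc z * (z * x * z) * z = (z * z) * x * (z * z) := by group
      _ = x := by rw [hzz, one_mul, mul_one]
  have hnorm : ∀ a ∈ U, z * a * z⁻¹ ∈ U := by
    rintro _ ⟨⟨⟨_, i, rfl⟩, ⟨_, j, rfl⟩⟩, rfl⟩
    show z * (x ^ i * y ^ j) * z⁻¹ ∈ U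
    rw [← conj_mul, ← conj_zpow, ← conj_zpow, hconj, hzy]
    exact mul_mem (zpow_mem hyU i) (zpow_mem hxU j)
  set H := extendInvol U z hzz hnorm with hHdef
  have hH : Nat.card H = 2 ^ (2 * n + 1) := by
    rw [hHdef, card_extendInvol _ _ _ _ hzU, hU, pow_succ']
  obtain ⟨e⟩ := nonempty_equiv_sylow H hH hG hm P
  have hxH : x ∈ H := Or.inl hxU
  have hyH : y ∈ H := Or.inl hyU
  have hzH : z ∈ H := Or.inr (hzz.symm ▸ one_mem _)
  refine ⟨n, hn, (Nat.card_congr e.toEquiv).symm.trans hH, e ⟨x, hxH⟩, e ⟨y, hyH⟩, e ⟨z, hzH⟩,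
    ?_, ?_, ?_, ?_, ?_⟩
  · rw [MulEquiv.orderOf_eq, Subgroup.orderOf_mk, hx]
  · rw [← map_mul, ← map_mul]
    exact congrArg e (Subtype.ext hxy.eq)
  · rw [eq_bot_iff]
    rintro w ⟨⟨i, hi⟩, ⟨j, hj⟩⟩
    rw [mem_bot]
    obtain ⟨v, rfl⟩ := e.surjective w
    simp only [← map_zpow, e.injective.eq_iff] at hi hj
    rw [← map_one e]
    refine congrArg e (Subtype.ext (mem_bot.1 (hdisj.le ⟨?_, ?_⟩)))
    · exact ⟨i, congrArg Subtype.val hi⟩
    · exact ⟨j, congrArg Subtype.val hj⟩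
  · rw [MulEquiv.orderOf_eq, Subgroup.orderOf_mk, hz]
  · rw [← map_inv, ← map_mul, ← map_mul]
    exact congrArg e (Subtype.ext hconj)

theorem isWreathed_of_equiv {S T : Type*} [Group S] [Group T] (f : S ≃* T)
    (h : Cfsg.IsWreathed S) : Cfsg.IsWreathed T := by
  obtain ⟨n, hn, hc, x, y, z, hx, hxy, hd, hz, hzx⟩ := h
  refine ⟨n, hn, (Nat.card_congr f.toEquiv).symm.trans hc, f x, f y, f z,
    (f.orderOf_eq x).trans hx, by rw [← map_mul, ← map_mul, hxy], ?_, (f.orderOf_eq z).trans hz,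
    by rw [← map_inv, ← map_mul, ← map_mul, hzx]⟩
  have := congrArg (Subgroup.map f.toMonoidHom) hd
  rwa [Subgroup.map_bot, Subgroup.map_inf _ _ _ f.injective, MonoidHom.map_zpowers,
    MonoidHom.map_zpowers] at this

end CfsgLib.Involutions
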