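import Cfsg.Agent.Lib.Involutions.PSLUnipGen
import Cfsg.Agent.Lib.Classical.UnitaryFrame
import Cfsg.Agent.Lib.Classical.UnitaryOrder

/-!
`SU_n` in antidiagonal coordinates: the group of matrices of determinant one preserving the form
`∑ u k * σ (v (rev k))`, its isomorphism with `SU n F q`, root elements and Weyl elements.
-/

set_option autoImplicit false

namespace CfsgLib.Involutions.UAnti

open Matrix CfsgLib.KnownB.PSLAut CfsgLib.Classical CfsgLib.Classical.Unitary

variable {n : ℕ} {F : Type*} [Field F] {σ : F →+* F} {q : ℕ}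

local notation "SLn" => Matrix.SpecialLinearGroup (Fin n) F
local notation "Mn" => Matrix (Fin n) (Fin n) F
local notation "Vn" => (Fin n → F)

/-- The form with antidiagonal Gram matrix. -/
def ab (σ : F →+* F) (u v : Fin n → F) : F := ∑ k, u k * σ (v (Fin.rev k))

theorem ab_add_left (u v w : Vn) : ab σ (u + v) w = ab σ u w + ab σ v w := by
  simp [ab, add_mul, Finset.sum_add_distrib]

theorem ab_add_right (u v w : Vn) : ab σ u (v + w) = ab σ u v + ab σ u w := by
  simp [ab, mul_add, Finset.sum_add_distrib]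

theorem ab_single_left (a : Fin n) (x : F) (v : Vn) : ab σ (Pi.single a x) v = x * σ (v (Fin.rev a)) := by
  rw [ab, Finset.sum_eq_single a]
  · simp
  · intro k _ hk; simp [hk]
  · simp

theorem ab_single_right (a : Fin n) (x : F) (v : Vn) : ab σ v (Pi.single a x) = v (Fin.rev a) * σ x := by
  rw [ab, Finset.sum_eq_single (Fin.rev a)]
  · simp
  · intro k _ hk
    have : Fin.rev k ≠ a := fun h => hk (by rw [← h, Fin.rev_rev])
    simp [this]
  · simp

variable (n) in
/-- The matrices of determinant one preserving the form. -/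
def H (σ : F →+* F) : Subgroup (Matrix.SpecialLinearGroup (Fin n) F) where
  carrier := {g | ∀ u v, ab σ ((g : Matrix (Fin n) (Fin n) F) *ᵥ u) ((g : Matrix (Fin n) (Fin n) F) *ᵥ v) = ab σ u v}
  one_mem' := fun u v => by simp
  mul_mem' {a b} ha hb := fun u v => by
    rw [Matrix.SpecialLinearGroup.coe_mul, ← Matrix.mulVec_mulVec, ← Matrix.mulVec_mulVec, ha, hb]
  inv_mem' {a} ha := fun u v => by
    have h : (a : Matrix (Fin n) (Fin n) F) *
        ((a⁻¹ : Matrix.SpecialLinearGroup (Fin n) F) : Matrix (Fin n) (Fin n) F) = 1 := by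
      rw [← Matrix.SpecialLinearGroup.coe_mul, mul_inv_cancel, Matrix.SpecialLinearGroup.coe_one]
    rw [← ha, Matrix.mulVec_mulVec, Matrix.mulVec_mulVec, h, Matrix.one_mulVec, Matrix.one_mulVec]

theorem mem_H {g : SLn} : g ∈ H n σ ↔ ∀ u v, ab σ ((g : Mn) *ᵥ u) ((g : Mn) *ᵥ v) = ab σ u v := Iff.rfl

theorem inv_entry (h : UFrob σ q) {g : SLn} (hg : g ∈ H n σ) (i j : Fin n) :
    ((g⁻¹ : SLn) : Mn) i j = σ ((g : Mn) (Fin.rev j) (Fin.rev i)) := by
  have hgi : (g : Mn) *ᵥ (((g⁻¹ : SLn) : Mn) *ᵥ Pi.single j 1) = Pi.single j 1 := by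
    rw [Matrix.mulVec_mulVec, ← Matrix.SpecialLinearGroup.coe_mul, mul_inv_cancel,
      Matrix.SpecialLinearGroup.coe_one, Matrix.one_mulVec]
  have h1 := hg (Pi.single (Fin.rev i) 1) (((g⁻¹ : SLn) : Mn) *ᵥ Pi.single j 1)
  rw [hgi, ab_single_right, ab_single_left, map_one, mul_one, one_mul, Fin.rev_rev] at h1
  simp only [Matrix.mulVec_single_one, Matrix.col_apply] at h1
  rw [h1, h.invol]

/-! ### The isomorphism with `SU` -/

/-- The coefficient at the own index of the hyperbolic basis vector. -/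
def cA (x θ : F) (c : Fin n) : F :=
  if c < Fin.rev c then 1 else if Fin.rev c < c then -θ * x else 1

/-- The coefficient at the opposite index of the hyperbolic basis vector. -/
def cB (x θ : F) (c : Fin n) : F :=
  if c < Fin.rev c then x else if Fin.rev c < c then 1 - θ else 0

/-- The change of basis. -/
def frameMat (x θ : F) : Matrix (Fin n) (Fin n) F :=
  Matrix.of fun r c => (Pi.single c (cA x θ c) : Fin n → F) r + (Pi.single (Fin.rev c) (cB x θ c) : Fin n → F) r

theorem gram {x θ : F} (hx : x * σ x = -1) (hθ : θ + σ θ = 1) (a b : Fin n) :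
    ∑ r, frameMat x θ r a * σ (frameMat x θ r b) = if b = Fin.rev a then 1 else 0 := by
  have h1 : ∀ f : Fin n → F, ∑ r, frameMat x θ r a * f r = cA x θ a * f a + cB x θ a * f (Fin.rev a) := by
    intro f
    simp only [frameMat, Matrix.of_apply, add_mul, Finset.sum_add_distrib, Pi.single_apply, ite_mul, zero_mul,
      Finset.sum_ite_eq', Finset.mem_univ, if_true]
  rw [h1]
  simp only [frameMat, Matrix.of_apply, Pi.single_apply]
  by_cases hb' : b = Fin.rev a
  · subst hb'
    rw [if_pos rfl, Fin.rev_rev]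
    rcases lt_trichotomy a (Fin.rev a) with hlt | heq | hlt
    · simp [cA, cB, hlt, hlt.ne, hlt.ne', not_lt.2 hlt.le]
      linear_combination -σ θ * hx
    · rw [← heq]
      simp [cA, cB, ← heq]
    · simp [cA, cB, hlt, hlt.ne, hlt.ne', not_lt.2 hlt.le]
      linear_combination -θ * hx
  · rw [if_neg hb']
    by_cases hb : b = a
    · subst hb
      rcases lt_trichotomy b (Fin.rev b) with hlt | heq | hlt
      · simp [cA, cB, hlt, hlt.ne, hlt.ne']
        linear_combination hx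
      · exact absurd heq hb'
      · simp [cA, cB, hlt, hlt.ne, hlt.ne', not_lt.2 hlt.le]
        linear_combination (θ * σ θ) * hx - hθ
    · have h2 : a ≠ b := Ne.symm hb
      have h3 : a ≠ Fin.rev b := fun h => hb' (by rw [h, Fin.rev_rev])
      have h4 : Fin.rev a ≠ b := Ne.symm hb'
      have h5 : Fin.rev a ≠ Fin.rev b := fun h => h2 (Fin.rev_injective h)
      simp [h2, h3, h4, h5]

theorem exists_frame [Finite F] (hF : Nat.card F = q ^ 2) (h : UFrob σ q) :
    ∃ P : GL (Fin n) F, ∀ u v : Fin n → F,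
      uh σ ((P : Matrix (Fin n) (Fin n) F) *ᵥ u) ((P : Matrix (Fin n) (Fin n) F) *ᵥ v) = ab σ u v := by
  obtain ⟨θ, hθ⟩ := exists_trace h
  obtain ⟨x, hx⟩ := exists_pow_succ_eq hF (c := (-1 : F)) (by rw [← h.pow, map_neg, map_one])
  have hx' : x * σ x = -1 := by rw [← hx, h.pow, pow_succ']
  let M : Mn := frameMat x θ
  let J : Mn := Matrix.of fun a b => if b = Fin.rev a then 1 else 0
  have hM : Mᵀ * M.map σ = J := by
    ext a b
    simp only [Matrix.mul_apply, Matrix.transpose_apply, Matrix.map_apply]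
    exact gram hx' hθ a b
  have hJ : J * J = 1 := by
    ext a b
    rw [Matrix.mul_apply, Finset.sum_eq_single (Fin.rev a)]
    · simp [J, Matrix.one_apply, eq_comm]
    · intro k _ hk; simp [J, hk]
    · simp
  have hu : IsUnit M := by
    rw [Matrix.isUnit_iff_isUnit_det]
    have h1 : IsUnit (Mᵀ * M.map σ).det := by
      rw [hM]; exact Matrix.isUnit_det_of_left_inverse hJ
    rw [Matrix.det_mul, Matrix.det_transpose] at h1
    exact isUnit_of_mul_isUnit_left h1
  refine ⟨hu.unit, fun u v => ?_⟩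
  show uh σ (M *ᵥ u) (M *ᵥ v) = _
  have e1 : σ ∘ (M *ᵥ v) = (M.map σ) *ᵥ (σ ∘ v) := funext fun i => by
    simp [Matrix.mulVec, dotProduct, map_sum]
  rw [uh, e1, Matrix.dotProduct_mulVec, ← Matrix.transpose_transpose M, Matrix.mulVec_transpose,
    Matrix.vecMul_vecMul, Matrix.transpose_transpose, hM, ← Matrix.dotProduct_mulVec, dotProduct]
  refine Finset.sum_congr rfl fun k _ => ?_
  congr 1
  simp [J, Matrix.mulVec, dotProduct]

theorem exists_equiv [Finite F] (hF : Nat.card F = q ^ 2) (h : UFrob σ q) :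
    Nonempty (Cfsg.SU n F q ≃* H n σ) := by
  obtain ⟨P, hP⟩ := exists_frame (n := n) hF h
  have hmem : ∀ s : Cfsg.SU n F q, conjSL P⁻¹ s.1 ∈ H n σ := fun s u v => by
    rw [← hP u v, ← hP (_ *ᵥ u) (_ *ᵥ v), conjSL_coe, inv_inv]
    simp only [← Matrix.mulVec_mulVec]
    rw [Matrix.mulVec_mulVec _ (P : Mn) ((P⁻¹ : GL (Fin n) F) : Mn),
      Matrix.mulVec_mulVec _ (P : Mn) ((P⁻¹ : GL (Fin n) F) : Mn), Units.mul_inv, Matrix.one_mulVec,
      Matrix.one_mulVec, su_uh h]
  have hmem' : ∀ t : H n σ, conjSL P t.1 ∈ Cfsg.SU n F q := fun t => mem_SU_iff.2 fun u v => by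
    have hP' : ∀ x y : Vn, uh σ x y = ab σ (((P⁻¹ : GL (Fin n) F) : Mn) *ᵥ x) (((P⁻¹ : GL (Fin n) F) : Mn) *ᵥ y) := by
      intro x y
      rw [← hP, Matrix.mulVec_mulVec, Matrix.mulVec_mulVec, Units.mul_inv, Matrix.one_mulVec, Matrix.one_mulVec]
    rw [h.hermForm_eq, h.hermForm_eq, conjSL_coe, hP', hP' u v]
    simp only [← Matrix.mulVec_mulVec]
    rw [Matrix.mulVec_mulVec _ ((P⁻¹ : GL (Fin n) F) : Mn) (P : Mn),
      Matrix.mulVec_mulVec _ ((P⁻¹ : GL (Fin n) F) : Mn) (P : Mn), Units.inv_mul, Matrix.one_mulVec,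
      Matrix.one_mulVec]
    exact t.2 _ _
  exact ⟨{
    toFun := fun s => ⟨conjSL P⁻¹ s.1, hmem s⟩
    invFun := fun t => ⟨conjSL P t.1, hmem' t⟩
    left_inv := fun s => Subtype.ext (by
      show conjSL P (conjSL P⁻¹ s.1) = s.1
      rw [map_inv, MulAut.inv_def, MulEquiv.apply_symm_apply])
    right_inv := fun t => Subtype.ext (by
      show conjSL P⁻¹ (conjSL P t.1) = t.1
      rw [map_inv, MulAut.inv_def, MulEquiv.symm_apply_apply])
    map_mul' := fun s t => Subtype.ext (map_mul (conjSL P⁻¹) s.1 t.1) }⟩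

/-! ### Root elements -/

/-- The short root element. -/
def sh {a b : Fin n} (hab : a ≠ b) (σ : F →+* F) (t : F) : Matrix.SpecialLinearGroup (Fin n) F :=
  Matrix.SpecialLinearGroup.transvection hab t *
    Matrix.SpecialLinearGroup.transvection (fun h => hab (Fin.rev_injective h).symm) (-σ t)
    (i := Fin.rev b) (j := Fin.rev a)

/-- The long root element. -/
def lg {p : Fin n} (hp : p ≠ Fin.rev p) (c : F) : Matrix.SpecialLinearGroup (Fin n) F :=
  Matrix.SpecialLinearGroup.transvection hp c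

/-- The root element through the middle coordinate `z`. -/
def xz {j z : Fin n} (hjz : j ≠ z) (hzj : z ≠ Fin.rev j) (hj : j ≠ Fin.rev j) (σ : F →+* F) (a e : F) :
    Matrix.SpecialLinearGroup (Fin n) F :=
  Matrix.SpecialLinearGroup.transvection hjz a * Matrix.SpecialLinearGroup.transvection hzj (-σ a) *
    Matrix.SpecialLinearGroup.transvection hj (e + a * σ a)

theorem mulVec_sh {a b : Fin n} (hab : a ≠ b) (hb : b ≠ Fin.rev b) (t : F) (v : Vn) :
    (sh hab σ t : Mn) *ᵥ v =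
      v + Pi.single (Fin.rev b) (-σ t * v (Fin.rev a)) + Pi.single a (t * v b) := by
  simp only [sh, Matrix.SpecialLinearGroup.coe_mul, ← Matrix.mulVec_mulVec, CfsgLib.Classical.transvection_mulVec]
  simp [hb]

theorem mulVec_lg {p : Fin n} (hp : p ≠ Fin.rev p) (c : F) (v : Vn) :
    (lg hp c : Mn) *ᵥ v = v + Pi.single p (c * v (Fin.rev p)) := by
  rw [lg, CfsgLib.Classical.transvection_mulVec]

theorem mulVec_xz {j z : Fin n} (hjz : j ≠ z) (hzj : z ≠ Fin.rev j) (hj : j ≠ Fin.rev j) (a e : F) (v : Vn) :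
    (xz hjz hzj hj σ a e : Mn) *ᵥ v =
      v + Pi.single j (a * v z + e * v (Fin.rev j)) + Pi.single z (-σ a * v (Fin.rev j)) := by
  simp only [xz, Matrix.SpecialLinearGroup.coe_mul, ← Matrix.mulVec_mulVec, CfsgLib.Classical.transvection_mulVec]
  funext k
  rcases eq_or_ne k j with rfl | hk
  · simp [hjz, hjz.symm, hj.symm]
    ring
  · rcases eq_or_ne k z with rfl | hkz <;> simp [*, hj.symm]

theorem sh_mem (h : UFrob σ q) {a b : Fin n} (hab : a ≠ b) (ha : a ≠ Fin.rev a) (hb : b ≠ Fin.rev b)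
    (t : F) : sh hab σ t ∈ H n σ := by
  intro u v
  have h1 : Fin.rev a ≠ Fin.rev b := fun hh => hab (Fin.rev_injective hh)
  simp only [mulVec_sh hab hb, ab_add_left, ab_add_right, ab_single_left, ab_single_right, Fin.rev_rev]
  simp [map_mul, h.invol, hb, hab, ha.symm, hab.symm, h1]
  ring

theorem lg_mem (h : UFrob σ q) {p : Fin n} (hp : p ≠ Fin.rev p) {c : F} (hc : c + σ c = 0) :
    lg hp c ∈ H n σ := by
  intro u v
  simp only [mulVec_lg, ab_add_left, ab_add_right, ab_single_left, ab_single_right]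
  simp [map_mul, hp.symm]
  linear_combination (u (Fin.rev p) * σ (v (Fin.rev p))) * hc

theorem xz_mem (h : UFrob σ q) {j z : Fin n} (hjz : j ≠ z) (hzj : z ≠ Fin.rev j) (hj : j ≠ Fin.rev j)
    (hz : Fin.rev z = z) {a e : F} (he : e + σ e + a * σ a = 0) : xz hjz hzj hj σ a e ∈ H n σ := by
  intro u v
  simp only [mulVec_xz, ab_add_left, ab_add_right, ab_single_left, ab_single_right, hz]
  simp [map_mul, map_add, h.invol, hj.symm, hjz.symm, hzj.symm, hzj]
  linear_combination (u (Fin.rev j) * σ (v (Fin.rev j))) * he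

theorem pow_of_cube (p : ℕ) [Fact p.Prime] [CharP F p] {g : SLn}
    (hg : ∀ v : Vn, ((g : Mn) - 1) *ᵥ (((g : Mn) - 1) *ᵥ (((g : Mn) - 1) *ᵥ v)) = 0) : g ^ p ^ 2 = 1 := by
  rcases Nat.eq_zero_or_pos n with rfl | hn
  · exact Subsingleton.elim _ _
  have : Nonempty (Fin n) := ⟨⟨0, hn⟩⟩
  set N : Mn := (g : Mn) - 1 with hN
  have h3 : N ^ 3 = 0 := by
    refine Matrix.ext_iff_mulVec.2 fun v => ?_
    rw [pow_succ', pow_two, ← Matrix.mulVec_mulVec, ← Matrix.mulVec_mulVec, hg, Matrix.zero_mulVec]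
  have h4 : N ^ p ^ 2 = 0 := by
    refine pow_eq_zero_of_le ?_ h3
    have := (Fact.out : p.Prime).two_le
    calc 3 ≤ 2 ^ 2 := by norm_num
      _ ≤ p ^ 2 := Nat.pow_le_pow_left this 2
  refine Subtype.ext ?_
  have h5 := sub_pow_char_pow_of_commute (p := p) 2 (Commute.one_right (g : Mn))
  rw [one_pow] at h5
  rw [Matrix.SpecialLinearGroup.coe_pow, Matrix.SpecialLinearGroup.coe_one, ← sub_eq_zero, ← h5]
  exact h4

theorem pow_sh (p : ℕ) [Fact p.Prime] [CharP F p] {a b : Fin n} (hab : a ≠ b) (ha : a ≠ Fin.rev a)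
    (hb : b ≠ Fin.rev b) (t : F) : (sh hab σ t) ^ p ^ 2 = 1 := by
  refine pow_of_cube p fun v => ?_
  have hN : ∀ w : Vn, ((sh hab σ t : Mn) - 1) *ᵥ w =
      Pi.single (Fin.rev b) (-σ t * w (Fin.rev a)) + Pi.single a (t * w b) := fun w => by
    rw [Matrix.sub_mulVec, mulVec_sh hab hb, Matrix.one_mulVec]; abel
  have h1 : Fin.rev a ≠ Fin.rev b := fun hh => hab (Fin.rev_injective hh)
  simp only [hN]
  simp [hab, hab.symm, ha.symm, hb, h1, h1.symm]

theorem pow_lg (p : ℕ) [Fact p.Prime] [CharP F p] {i : Fin n} (hi : i ≠ Fin.rev i) (c : F) :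
    (lg hi c) ^ p ^ 2 = 1 := by
  refine pow_of_cube p fun v => ?_
  have hN : ∀ w : Vn, ((lg hi c : Mn) - 1) *ᵥ w = Pi.single i (c * w (Fin.rev i)) := fun w => by
    rw [Matrix.sub_mulVec, mulVec_lg, Matrix.one_mulVec]; abel
  simp [hN, hi.symm]

theorem pow_xz (p : ℕ) [Fact p.Prime] [CharP F p] {j z : Fin n} (hjz : j ≠ z) (hzj : z ≠ Fin.rev j)
    (hj : j ≠ Fin.rev j) (a e : F) : (xz hjz hzj hj σ a e) ^ p ^ 2 = 1 := by
  refine pow_of_cube p fun v => ?_
  have hN : ∀ w : Vn, ((xz hjz hzj hj σ a e : Mn) - 1) *ᵥ w =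
      Pi.single j (a * w z + e * w (Fin.rev j)) + Pi.single z (-σ a * w (Fin.rev j)) := fun w => by
    rw [Matrix.sub_mulVec, mulVec_xz, Matrix.one_mulVec]; abel
  simp only [hN]
  simp [hjz, hjz.symm, hzj, hzj.symm, hj, hj.symm]

end CfsgLib.Involutions.UAnti
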