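import Cfsg.Agent.Lib.Involutions.UnitaryWeyl

/-!
The unipotent subgroup of `SU_n` in antidiagonal coordinates: generation, normaliser, block radicals and
their centralisers.
-/

set_option autoImplicit false

namespace CfsgLib.Involutions.UAnti

open Matrix CfsgLib.KnownB.PSLAut CfsgLib.Classical CfsgLib.Classical.Unitary CfsgLib.Involutions.PSLUnip

variable {n : ℕ} {F : Type*} [Field F] {σ : F →+* F} {q : ℕ}

local notation "SLn" => Matrix.SpecialLinearGroup (Fin n) F
local notation "Mn" => Matrix (Fin n) (Fin n) F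
local notation "Vn" => (Fin n → F)

/-- The matrix of an element. -/
def mat (g : H n σ) : Mn := (g : SLn)

theorem mat_mul (a b : H n σ) : mat (a * b) = mat a * mat b := rfl

theorem mat_one : mat (1 : H n σ) = 1 := rfl

theorem mat_inj {a b : H n σ} (h : mat a = mat b) : a = b := Subtype.ext (Subtype.ext h)

theorem mat_inv (h : UFrob σ q) (g : H n σ) (i j : Fin n) :
    mat g⁻¹ i j = σ (mat g (Fin.rev j) (Fin.rev i)) := inv_entry h g.2 i j

theorem mat_mul_inv (g : H n σ) : mat g * mat g⁻¹ = 1 := by rw [← mat_mul, mul_inv_cancel, mat_one]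

variable (n σ) in
/-- The unipotent subgroup. -/
def UH : Subgroup (H n σ) := (U n F).comap (H n σ).subtype

theorem mem_UH {g : H n σ} : g ∈ UH n σ ↔ (mat g).BlockTriangular id ∧ ∀ i, mat g i i = 1 := Iff.rfl

theorem UH_diag {g : H n σ} (hg : g ∈ UH n σ) (i : Fin n) : mat g i i = 1 := hg.2 i

theorem UH_low {g : H n σ} (hg : g ∈ UH n σ) {i c : Fin n} (h : c < i) : mat g i c = 0 := hg.1 h

/-! ### Generation -/

/-- Rows with index less than `k` are trivial. -/
def RowsTriv (k : ℕ) (g : H n σ) : Prop := ∀ i : Fin n, (i : ℕ) < k → ∀ c, mat g i c = (1 : Mn) i c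

theorem RowsTriv.inv {k : ℕ} {g : H n σ} (hg : RowsTriv k g) : RowsTriv k g⁻¹ := by
  intro i hi c
  have h1 := congrFun (congrFun (mat_mul_inv g) i) c
  rw [Matrix.mul_apply, Finset.sum_eq_single i, hg i hi, Matrix.one_apply_eq, one_mul] at h1
  · exact h1
  · intro b _ hb; rw [hg i hi, Matrix.one_apply_ne hb.symm, zero_mul]
  · simp

/-- Trivial rows force trivial opposite columns. -/
theorem RowsTriv.col (h : UFrob σ q) {k : ℕ} {g : H n σ} (hg : RowsTriv k g) {i : Fin n} (hi : (i : ℕ) < k)
    (c : Fin n) : mat g c (Fin.rev i) = (1 : Mn) c (Fin.rev i) := by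
  have h1 := hg.inv i hi (Fin.rev c)
  rw [mat_inv h, Fin.rev_rev] at h1
  have h2 := congrArg σ h1
  rw [h.invol] at h2
  rw [h2, Matrix.one_apply, Matrix.one_apply]
  by_cases hc : c = Fin.rev i
  · subst hc; simp
  · have : i ≠ Fin.rev c := fun hh => hc (by rw [hh, Fin.rev_rev])
    simp [hc, this]

theorem UH_le (h : UFrob σ q) {K : Subgroup (H n σ)}
    (hlg : ∀ (p : Fin n) (hp : p ≠ Fin.rev p), p < Fin.rev p → ∀ (c : F) (hc : c + σ c = 0),
      (⟨lg hp c, lg_mem h hp hc⟩ : H n σ) ∈ K)
    (hsh : ∀ (a b : Fin n) (hab : a ≠ b) (ha : a ≠ Fin.rev a) (hb : b ≠ Fin.rev b), a < b → b < Fin.rev a →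
      ∀ t : F, (⟨sh hab σ t, sh_mem h hab ha hb t⟩ : H n σ) ∈ K)
    (hxz : ∀ (j z : Fin n) (hjz : j ≠ z) (hzj : z ≠ Fin.rev j) (hj : j ≠ Fin.rev j) (hz : Fin.rev z = z),
      j < z → ∀ a : F, ∃ (e : F) (he : e + σ e + a * σ a = 0),
        (⟨xz hjz hzj hj σ a e, xz_mem h hjz hzj hj hz he⟩ : H n σ) ∈ K) :
    UH n σ ≤ K := by
  -- left multiplication by an upper root element
  have hroot : ∀ u ∈ UH n σ, ∀ k : Fin n, k < Fin.rev k → ∀ r : ℕ, r ≤ n - (k : ℕ) - 1 →
      RowsTriv (k : ℕ) u → ∃ x ∈ K, x * u ∈ UH n σ ∧ RowsTriv (k : ℕ) (x * u) ∧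
        ∀ c : Fin n, k < c → (c : ℕ) < r → mat (x * u) k c = 0 := by
    intro u hu k hk r
    induction r with
    | zero => exact fun _ hr => ⟨1, K.one_mem, by simpa using hu, by simpa using hr,
        fun c _ hc => absurd hc (Nat.not_lt_zero _)⟩
    | succ r ih =>
      intro hrb hr
      obtain ⟨x, hxK, hxU, hxR, hx0⟩ := ih (by omega) hr
      by_cases hkr : (k : ℕ) < r
      swap
      · exact ⟨x, hxK, hxU, hxR, fun c hc hc' => absurd hc (by rw [Fin.lt_def]; omega)⟩
      let c₀ : Fin n := ⟨r, by omega⟩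
      have hkc : k < c₀ := by show (k : ℕ) < r; exact hkr
      have hck : c₀ < Fin.rev k := by
        rw [Fin.lt_def, Fin.val_rev]; show r < n - ((k : ℕ) + 1); omega
      set w := x * u with hw
      set a := mat w k c₀ with ha
      -- the clearing element
      obtain ⟨y, hyK, hyU, hyrow, hyk⟩ : ∃ y : H n σ, y ∈ K ∧ y ∈ UH n σ ∧
          (∀ i : Fin n, (i : ℕ) < (k : ℕ) → ∀ v : Vn, (mat y *ᵥ v) i = v i) ∧
          ∃ e : F, ∀ v : Vn, (mat y *ᵥ v) k = v k + -a * v c₀ + e * v (Fin.rev k) := by
        by_cases hz : c₀ = Fin.rev c₀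
        · obtain ⟨e, he, hm⟩ := hxz k c₀ hkc.ne hck.ne hk.ne hz.symm hkc (-a)
          refine ⟨_, hm, ⟨fun i c (hci : c < i) => ?_, fun i => ?_⟩, fun i hi v => ?_, e, fun v => ?_⟩
          · show (xz hkc.ne hck.ne hk.ne σ (-a) e : Mn) i c = 0
            have := congrFun (mulVec_xz (σ := σ) hkc.ne hck.ne hk.ne (-a) e (Pi.single c 1)) i
            rw [Matrix.mulVec_single_one, Matrix.col_apply] at this
            rw [this]
            simp only [Pi.add_apply, Pi.single_apply, Fin.ext_iff]
            have e1 : (Fin.rev k : ℕ) = n - ((k : ℕ) + 1) := Fin.val_rev k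
            have e2 : (c : ℕ) < (i : ℕ) := hci
            have e3 : (k : ℕ) < (c₀ : ℕ) := hkc
            have e4 : (c₀ : ℕ) < (Fin.rev k : ℕ) := hck
            split_ifs <;> first | (exfalso; omega) | simp
          · show (xz hkc.ne hck.ne hk.ne σ (-a) e : Mn) i i = 1
            have := congrFun (mulVec_xz (σ := σ) hkc.ne hck.ne hk.ne (-a) e (Pi.single i 1)) i
            rw [Matrix.mulVec_single_one, Matrix.col_apply] at this
            rw [this]
            simp only [Pi.add_apply, Pi.single_apply, Fin.ext_iff]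
            have e3 : (k : ℕ) < (c₀ : ℕ) := hkc
            have e4 : (c₀ : ℕ) < (Fin.rev k : ℕ) := hck
            split_ifs <;> first | (exfalso; omega) | simp
          · show ((xz hkc.ne hck.ne hk.ne σ (-a) e : Mn) *ᵥ v) i = v i
            have e1 : i ≠ k := fun hh => by subst hh; exact lt_irrefl _ hi
            have e2 : i ≠ c₀ := fun hh => by subst hh; exact absurd hi (not_lt.2 hkc.le)
            simp [mulVec_xz, e1, e2]
          · show ((xz hkc.ne hck.ne hk.ne σ (-a) e : Mn) *ᵥ v) k = _
            simp [mulVec_xz, hkc.ne]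
            ring
        · have hm := hsh k c₀ hkc.ne hk.ne hz hkc hck (-a)
          refine ⟨_, hm, ⟨fun i c (hci : c < i) => ?_, fun i => ?_⟩, fun i hi v => ?_, 0, fun v => ?_⟩
          · show (sh hkc.ne σ (-a) : Mn) i c = 0
            have := congrFun (mulVec_sh (σ := σ) hkc.ne hz (-a) (Pi.single c 1)) i
            rw [Matrix.mulVec_single_one, Matrix.col_apply] at this
            rw [this]
            simp only [Pi.add_apply, Pi.single_apply, Fin.ext_iff]
            have e1 : (Fin.rev k : ℕ) = n - ((k : ℕ) + 1) := Fin.val_rev k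
            have e2 : (Fin.rev c₀ : ℕ) = n - ((c₀ : ℕ) + 1) := Fin.val_rev c₀
            have e3 : (k : ℕ) < (c₀ : ℕ) := hkc
            have e4 : (c : ℕ) < (i : ℕ) := hci
            split_ifs <;> first | (exfalso; omega) | simp
          · show (sh hkc.ne σ (-a) : Mn) i i = 1
            have := congrFun (mulVec_sh (σ := σ) hkc.ne hz (-a) (Pi.single i 1)) i
            rw [Matrix.mulVec_single_one, Matrix.col_apply] at this
            rw [this]
            simp only [Pi.add_apply, Pi.single_apply, Fin.ext_iff]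
            have e1 : (Fin.rev k : ℕ) = n - ((k : ℕ) + 1) := Fin.val_rev k
            have e2 : (Fin.rev c₀ : ℕ) = n - ((c₀ : ℕ) + 1) := Fin.val_rev c₀
            have e3 : (k : ℕ) < (c₀ : ℕ) := hkc
            have e4 := c₀.2
            split_ifs <;> first | (exfalso; omega) | simp
          · show ((sh hkc.ne σ (-a) : Mn) *ᵥ v) i = v i
            have e1 : i ≠ k := fun hh => by subst hh; exact lt_irrefl _ hi
            have e2 : i ≠ Fin.rev c₀ := fun hh => by
              have := congrArg Fin.val hh
              rw [Fin.val_rev] at this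
              have e3 : (c₀ : ℕ) < (Fin.rev k : ℕ) := hck
              rw [Fin.val_rev] at e3
              omega
            simp [mulVec_sh, hz, e1, e2]
          · show ((sh hkc.ne σ (-a) : Mn) *ᵥ v) k = _
            have e2 : k ≠ Fin.rev c₀ := fun hh => hck.ne (by rw [hh, Fin.rev_rev])
            simp [mulVec_sh, hz, e2]
      have hentry : ∀ i c : Fin n, mat (y * w) i c = (mat y *ᵥ fun l => mat w l c) i := fun i c => rfl
      refine ⟨y * x, K.mul_mem hyK hxK, ?_, ?_, ?_⟩
      · rw [mul_assoc]; exact (UH n σ).mul_mem hyU hxU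
      · intro i hi c
        rw [mul_assoc, hentry, hyrow i hi]
        exact hxR i hi c
      · intro c hc hc'
        obtain ⟨e, hyk⟩ := hyk
        rw [mul_assoc, hentry, hyk]
        have hlow : mat w (Fin.rev k) c = 0 := UH_low hxU (show c < Fin.rev k by
          rw [Fin.lt_def, Fin.val_rev]; omega)
        rw [hlow, mul_zero, add_zero]
        rcases eq_or_lt_of_le (Nat.lt_succ_iff.1 hc') with he | hlt
        · rw [show c = c₀ from Fin.ext he, UH_diag hxU, mul_one, ← ha, add_neg_cancel]
        · rw [hx0 c hc hlt, UH_low hxU (show c < c₀ from hlt), mul_zero, add_zero]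
  -- rows
  have key : ∀ m : ℕ, ∀ k : ℕ, k + m = n / 2 → ∀ u ∈ UH n σ, RowsTriv k u → u ∈ K := by
    intro m
    induction m with
    | zero =>
      intro k hk u hu hr
      have : u = 1 := by
        refine mat_inj ?_
        rw [mat_one]
        ext i c
        rcases lt_trichotomy i c with hic | rfl | hic
        · by_cases hi : (i : ℕ) < k
          · exact hr i hi c
          · have e : (i : ℕ) < (c : ℕ) := hic
            have hcr : (Fin.rev c : ℕ) < k := by
              rw [Fin.val_rev]; have := c.2; omega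
            have := hr.col h hcr i
            rwa [Fin.rev_rev] at this
        · rw [(UH_diag hu), Matrix.one_apply_eq]
        · rw [UH_low hu hic, Matrix.one_apply_ne hic.ne']
      exact this ▸ K.one_mem
    | succ m ih =>
      intro k hk u hu hr
      let k' : Fin n := ⟨k, by omega⟩
      have hk' : (k' : ℕ) = k := rfl
      have hkk : k' < Fin.rev k' := by rw [Fin.lt_def, Fin.val_rev]; show k < n - (k + 1); omega
      obtain ⟨x, hxK, hxU, hxR, hx0⟩ := hroot u hu k' hkk (n - k - 1) le_rfl hr
      set w := x * u with hw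
      have hskew : mat w k' (Fin.rev k') + σ (mat w k' (Fin.rev k')) = 0 := by
        have h1 := congrFun (congrFun (mat_mul_inv w) k') (Fin.rev k')
        rw [Matrix.mul_apply, ← Finset.sum_subset (Finset.subset_univ ({k', Fin.rev k'} : Finset (Fin n))) ?_,
          Finset.sum_pair hkk.ne, (UH_diag hxU), mat_inv h, mat_inv h, Fin.rev_rev, (UH_diag hxU), map_one, mul_one, one_mul,
          Matrix.one_apply_ne hkk.ne] at h1
        · rw [add_comm]; exact h1
        · intro c _ hc
          simp only [Finset.mem_insert, Finset.mem_singleton, not_or] at hc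
          rcases lt_or_gt_of_ne hc.1 with hck | hck
          · rw [UH_low hxU hck, zero_mul]
          · rcases lt_or_gt_of_ne hc.2 with hcr | hcr
            · rw [hx0 c hck (by rw [Fin.lt_def, Fin.val_rev] at hcr; omega), zero_mul]
            · have hj : (Fin.rev c : ℕ) < k := by
                rw [Fin.lt_def, Fin.val_rev] at hcr
                rw [Fin.val_rev]
                have := c.2
                omega
              have h3 := hxR.col h hj k'
              rw [Fin.rev_rev, Matrix.one_apply_ne hck.ne] at h3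
              rw [h3, zero_mul]
      set a := mat w k' (Fin.rev k') with ha
      have hskew' : -a + σ (-a) = 0 := by rw [map_neg]; linear_combination -hskew
      let y : H n σ := ⟨lg hkk.ne (-a), lg_mem h hkk.ne hskew'⟩
      have hy : ∀ v : Vn, mat y *ᵥ v = v + Pi.single k' (-a * v (Fin.rev k')) := fun v => mulVec_lg hkk.ne _ v
      have hyU : y ∈ UH n σ := transvection_mem_U hkk (-a)
      have hfin : y * w ∈ K := by
        refine ih (k + 1) (by omega) _ ((UH n σ).mul_mem hyU hxU) ?_
        intro i hi c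
        show (mat y *ᵥ fun l => mat w l c) i = _
        rw [hy, Pi.add_apply]
        rcases eq_or_ne i k' with rfl | hik
        · rw [Pi.single_eq_same]
          rcases lt_trichotomy c k' with hc | rfl | hc
          · rw [UH_low hxU hc, UH_low hxU (hc.trans hkk), mul_zero, add_zero, Matrix.one_apply_ne hc.ne']
          · rw [(UH_diag hxU), UH_low hxU hkk, mul_zero, add_zero, Matrix.one_apply_eq]
          · rw [Matrix.one_apply_ne hc.ne]
            rcases lt_trichotomy c (Fin.rev k') with hcr | rfl | hcr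
            · rw [hx0 c hc (by rw [Fin.lt_def, Fin.val_rev] at hcr; omega), UH_low hxU hcr, mul_zero, add_zero]
            · rw [UH_diag hxU, mul_one, ← ha, add_neg_cancel]
            · have hj : (Fin.rev c : ℕ) < k := by
                rw [Fin.lt_def, Fin.val_rev] at hcr
                rw [Fin.val_rev]
                have := c.2
                omega
              have h3 := hxR.col h hj k'
              have h4 := hxR.col h hj (Fin.rev k')
              rw [Fin.rev_rev, Matrix.one_apply_ne hc.ne] at h3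
              rw [Fin.rev_rev, Matrix.one_apply_ne hcr.ne] at h4
              rw [h3, h4, mul_zero, add_zero]
        · rw [Pi.single_eq_of_ne hik, add_zero]
          have hik' : (i : ℕ) ≠ k := fun hh => hik (Fin.ext hh)
          exact hxR i (show (i : ℕ) < k by omega) c
      have hyK : y ∈ K := hlg k' hkk.ne hkk (-a) hskew'
      have h5 : w ∈ K := (K.mul_mem_cancel_left hyK).1 hfin
      exact (K.mul_mem_cancel_left hxK).1 h5
  intro u hu
  exact key (n / 2) 0 (Nat.zero_add _) u hu fun i hi => absurd hi (Nat.not_lt_zero _)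

/-! ### Normaliser -/

/-- A normalising element of a subgroup of `U` with nonzero superdiagonal coordinates is upper triangular. -/
theorem upper_of_superdiag {g : H n σ} (hg : ∀ x ∈ UH n σ, g⁻¹ * x * g ∈ UH n σ)
    (hsd : ∀ r c : Fin n, (c : ℕ) = (r : ℕ) + 1 → ∃ x ∈ UH n σ, mat x r c ≠ 0) :
    (mat g).BlockTriangular id := by
  suffices key : ∀ N : ℕ, ∀ k : Fin n, (k : ℕ) = N → ∀ i, k < i → mat g i k = 0 from
    fun i k hki => key k k rfl i hki
  intro N
  induction N using Nat.strong_induction_on with
  | _ N ih =>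
    intro k hkN i hki
    by_contra hne
    classical
    set s := Finset.univ.filter fun c => k < c ∧ mat g c k ≠ 0 with hs
    have hsn : s.Nonempty := ⟨i, by simp [hs, hki, hne]⟩
    set c := s.max' hsn with hc
    obtain ⟨hkc, hck⟩ : k < c ∧ mat g c k ≠ 0 := (Finset.mem_filter.1 (Finset.max'_mem s hsn)).2
    have habove : ∀ l, c < l → mat g l k = 0 := fun l hl => by
      by_contra h0
      exact absurd (Finset.le_max' s l (Finset.mem_filter.2 ⟨Finset.mem_univ l, hkc.trans hl, h0⟩)) (not_le.2 hl)
    let r : Fin n := ⟨(c : ℕ) - 1, by have := c.2; omega⟩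
    have hkc' : (k : ℕ) < (c : ℕ) := hkc
    have hrc : (c : ℕ) = (r : ℕ) + 1 := by show (c : ℕ) = (c : ℕ) - 1 + 1; omega
    obtain ⟨x, hx, hxne⟩ := hsd r c hrc
    have hy := hg x hx
    have e : mat g * mat (g⁻¹ * x * g) = mat x * mat g := by
      rw [← mat_mul, ← mat_mul]; congr 1; group
    have e1 := congrFun (congrFun e r) k
    rw [Matrix.mul_apply, Matrix.mul_apply, Finset.sum_eq_single k, (UH_diag hy), mul_one,
      ← Finset.sum_subset (Finset.subset_univ ({r, c} : Finset (Fin n))) ?_,
      Finset.sum_pair (fun hh => by rw [hh] at hrc; omega), (UH_diag hx), one_mul] at e1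
    · exact mul_ne_zero hxne hck (left_eq_add.1 e1)
    · intro l _ hl
      simp only [Finset.mem_insert, Finset.mem_singleton, not_or] at hl
      rcases lt_or_gt_of_ne hl.2 with h' | h'
      · have h'' : (l : ℕ) < (c : ℕ) := h'
        have h3 : (l : ℕ) ≠ (r : ℕ) := fun hh => hl.1 (Fin.ext hh)
        rw [UH_low hx (show l < r by rw [Fin.lt_def]; omega), zero_mul]
      · rw [habove l h', mul_zero]
    · intro l _ hl
      rcases lt_or_gt_of_ne hl with h' | h'
      · have hlr : l < r := by
          rw [Fin.lt_def]; have : (l : ℕ) < (k : ℕ) := h'; omega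
        rw [ih l (by rw [← hkN]; exact h') l rfl r hlr, zero_mul]
      · rw [UH_low hy h', mul_zero]
    · simp

/-! ### Block radicals -/

variable {blk : Fin n → ℕ}

/-- The block diagonal part. -/
def bpart (blk : Fin n → ℕ) (M : Matrix (Fin n) (Fin n) F) : Matrix (Fin n) (Fin n) F :=
  Matrix.of fun r c => if blk r = blk c then M r c else 0

theorem bpart_mul {A B : Mn} (hA : A.BlockTriangular blk) (hB : B.BlockTriangular blk) :
    bpart blk (A * B) = bpart blk A * bpart blk B := by
  ext r c
  rw [Matrix.mul_apply]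
  show (if blk r = blk c then (A * B) r c else 0) = _
  split_ifs with hrc
  · rw [Matrix.mul_apply]
    refine Finset.sum_congr rfl fun l _ => ?_
    by_cases hl : blk r = blk l
    · simp [bpart, hl, hl ▸ hrc]
    · have h2 : ¬ blk l = blk c := fun hh => hl (hrc.trans hh.symm)
      simp only [bpart, Matrix.of_apply, if_neg hl, if_neg h2, mul_zero]
      rcases lt_or_gt_of_ne hl with h' | h'
      · rw [hB (show blk c < blk l by omega), mul_zero]
      · rw [hA h', zero_mul]
  · refine (Finset.sum_eq_zero fun l _ => ?_).symm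
    by_cases hl : blk r = blk l
    · have h2 : ¬ blk l = blk c := fun hh => hrc (hl.trans hh)
      simp [bpart, h2]
    · simp [bpart, hl]

theorem bpart_one : bpart blk (1 : Mn) = 1 := by
  ext r c
  rcases eq_or_ne r c with rfl | hrc <;> simp [bpart, Matrix.one_apply, *]

variable (σ) in
/-- The block parabolic subgroup. -/
def Par (blk : Fin n → ℕ) : Subgroup (H n σ) where
  carrier := {g | (mat g).BlockTriangular blk}
  one_mem' := Matrix.blockTriangular_one
  mul_mem' {a b} ha hb := ha.mul hb
  inv_mem' {a} ha := by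
    letI : Invertible (mat a) := ⟨mat a⁻¹, mul_eq_one_comm.1 (mat_mul_inv a), mat_mul_inv a⟩
    show (mat a⁻¹).BlockTriangular blk
    rw [show mat a⁻¹ = (mat a)⁻¹ from (Matrix.inv_eq_right_inv (mat_mul_inv a)).symm]
    exact Matrix.blockTriangular_inv_of_blockTriangular ha

variable (σ) in
/-- The kernel of the block diagonal part. -/
def Rad (blk : Fin n → ℕ) : Subgroup (H n σ) where
  carrier := {g | g ∈ Par σ blk ∧ bpart blk (mat g) = 1}
  one_mem' := ⟨(Par σ blk).one_mem, bpart_one⟩
  mul_mem' {a b} ha hb := ⟨(Par σ blk).mul_mem ha.1 hb.1, by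
    rw [mat_mul, bpart_mul ha.1 hb.1, ha.2, hb.2, mul_one]⟩
  inv_mem' {a} ha := ⟨(Par σ blk).inv_mem ha.1, by
    have := congrArg (bpart blk) (mat_mul_inv a)
    rwa [bpart_mul ha.1 ((Par σ blk).inv_mem ha.1), ha.2, one_mul, bpart_one] at this⟩

theorem Rad_conj {g x : H n σ} (hg : g ∈ Par σ blk) (hx : x ∈ Rad σ blk) : g * x * g⁻¹ ∈ Rad σ blk := by
  refine ⟨(Par σ blk).mul_mem ((Par σ blk).mul_mem hg hx.1) ((Par σ blk).inv_mem hg), ?_⟩
  rw [mat_mul, mat_mul, bpart_mul (hg.mul hx.1) ((Par σ blk).inv_mem hg), bpart_mul hg hx.1, hx.2, mul_one,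
    ← bpart_mul hg ((Par σ blk).inv_mem hg), mat_mul_inv, bpart_one]

theorem UH_le_Par (hmono : Monotone blk) : UH n σ ≤ Par σ blk := fun _ hg r c hrc =>
  hg.1 (show c < r from lt_of_not_ge fun hle => absurd (hmono hle) (not_le.2 hrc))

theorem Rad_le_UH (hmono : Monotone blk) : Rad σ blk ≤ UH n σ := by
  rintro g ⟨hg, hb⟩
  refine ⟨fun r c (hrc : c < r) => ?_, fun r => ?_⟩
  · rcases eq_or_lt_of_le (hmono hrc.le) with he | hlt
    · have := congrFun (congrFun hb r) c
      rwa [bpart, Matrix.of_apply, if_pos he.symm, Matrix.one_apply_ne hrc.ne'] at this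
    · exact hg hlt
  · have := congrFun (congrFun hb r) r
    rwa [bpart, Matrix.of_apply, if_pos rfl, Matrix.one_apply_eq] at this

theorem transvection_mem_Rad_aux {a b : Fin n} (h1 : blk a < blk b) (t : F) {h : a ≠ b} :
    ((Matrix.SpecialLinearGroup.transvection h t : SLn) : Mn).BlockTriangular blk ∧
      bpart blk ((Matrix.SpecialLinearGroup.transvection h t : SLn) : Mn) = 1 := by
  constructor
  · intro r c hrc
    rw [Matrix.SpecialLinearGroup.transvection_coe, Matrix.add_apply,
      Matrix.one_apply_ne (fun hh => by rw [hh] at hrc; exact lt_irrefl _ hrc), Matrix.single_apply,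
      if_neg (fun hh => by rw [← hh.1, ← hh.2] at hrc; omega), add_zero]
  · ext r c
    simp only [bpart, Matrix.of_apply, Matrix.SpecialLinearGroup.transvection_coe, Matrix.add_apply,
      Matrix.single_apply]
    split_ifs with he hh
    · rw [← hh.1, ← hh.2] at he; omega
    · rw [add_zero]
    · rw [Matrix.one_apply_ne (fun hh => he (by rw [hh]))]

theorem indep (h : UFrob σ q) {A B : F} (hAB : ∀ t, t * A + σ t * B = 0) : A = 0 ∧ B = 0 := by
  have h1 : A + B = 0 := by simpa using hAB 1
  obtain ⟨x, hx⟩ : ∃ x, σ x ≠ x := by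
    by_contra hc
    push Not at hc
    exact h.ne (RingHom.ext hc)
  have h2 : (x - σ x) * A = 0 := by linear_combination hAB x - σ x * h1
  have hA : A = 0 := (mul_eq_zero.1 h2).resolve_left (sub_ne_zero.2 (Ne.symm hx))
  exact ⟨hA, by rw [hA, zero_add] at h1; exact h1⟩

theorem exists_skew (h : UFrob σ q) : ∃ θ : F, θ ≠ 0 ∧ θ + σ θ = 0 := by
  obtain ⟨x, hx⟩ : ∃ x, σ x ≠ x := by
    by_contra hc
    push Not at hc
    exact h.ne (RingHom.ext hc)
  exact ⟨x - σ x, sub_ne_zero.2 (Ne.symm hx), by rw [map_sub, h.invol]; ring⟩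

/-- What commutes with the radical is the product of a scalar and an element of the radical. -/
theorem centralizer_Rad (h : UFrob σ q) (hn : 2 ≤ n) (hmono : Monotone blk)
    (hsymm : ∀ r s, blk r = blk s → blk (Fin.rev r) = blk (Fin.rev s))
    (f : Fin n) (hf : (f : ℕ) = 0) (hfl : blk f ≠ blk (Fin.rev f))
    {g : H n σ} (hg : g ∈ Subgroup.centralizer (Rad σ blk : Set (H n σ))) :
    ∃ c : F, c * σ c = 1 ∧ (∀ r s, blk r = blk s → mat g r s = c * (1 : Mn) r s) ∧
      (∀ r s, r ≠ s → mat g r s ≠ 0 → blk r = blk f ∧ blk s = blk (Fin.rev f)) := by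
  set L := Fin.rev f with hL
  have hle : ∀ r, f ≤ r := fun r => by rw [Fin.le_def, hf]; exact Nat.zero_le _
  have hle' : ∀ r, r ≤ L := fun r => by
    rw [Fin.le_def, hL, Fin.val_rev, hf]; have := r.2; omega
  have hfL : f ≠ Fin.rev f := fun hh => hfl (congrArg blk hh)
  have hblk : blk f < blk L := lt_of_le_of_ne (hmono (hle L)) hfl
  obtain ⟨θ, hθ0, hθ⟩ := exists_skew h
  have hcomm : ∀ x ∈ Rad σ blk, mat g * mat x = mat x * mat g := fun x hx => by
    rw [← mat_mul, ← mat_mul, (Subgroup.mem_centralizer_iff.1 hg x hx)]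
  -- the corner
  have hE : mat g * Matrix.single f L 1 = Matrix.single f L 1 * mat g := by
    have hx := hcomm ⟨lg hfL θ, lg_mem h hfL hθ⟩ (transvection_mem_Rad_aux (h := hfL) hblk θ)
    have e : mat (⟨lg hfL θ, lg_mem h hfL hθ⟩ : H n σ) = 1 + θ • Matrix.single f L (1 : F) := by
      show ((lg hfL θ : SLn) : Mn) = _
      rw [lg, Matrix.SpecialLinearGroup.transvection_coe, Matrix.smul_single, smul_eq_mul, mul_one]
    rw [e, mul_add, add_mul, mul_one, one_mul, add_right_inj, mul_smul_comm, smul_mul_assoc] at hx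
    exact (smul_right_injective Mn hθ0) hx
  -- short root elements at the first index
  have hshort : ∀ r, blk r ≠ blk f → r ≠ L →
      mat g * Matrix.single f r 1 = Matrix.single f r 1 * mat g ∧
        mat g * Matrix.single (Fin.rev r) L 1 = Matrix.single (Fin.rev r) L 1 * mat g := by
    intro r hr hrL
    have hbr : blk f < blk r := lt_of_le_of_ne (hmono (hle r)) (Ne.symm hr)
    have hbr' : blk (Fin.rev r) < blk L := lt_of_le_of_ne (hmono (hle' _)) fun hh => hr (by
      have := hsymm _ _ hh
      rwa [Fin.rev_rev, hL, Fin.rev_rev] at this)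
    have hfr : f ≠ r := fun hh => hr (congrArg blk hh.symm)
    have hlin : ∀ t : F, t • (mat g * Matrix.single f r 1 - Matrix.single f r 1 * mat g) +
        σ t • -(mat g * Matrix.single (Fin.rev r) L 1 - Matrix.single (Fin.rev r) L 1 * mat g) = 0 := by
      intro t
      by_cases hz : Fin.rev r = r
      · obtain ⟨τ, hτ⟩ := exists_trace h
        set e := -(t * σ t) * τ with he
        have hecond : e + σ e + t * σ t = 0 := by
          simp only [e, map_mul, map_neg, h.invol]; linear_combination (-(t * σ t)) * hτ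
        have hzf : r ≠ Fin.rev f := hrL
        have hmem : (⟨xz hfr hzf hfL σ t e, xz_mem h hfr hzf hfL hz hecond⟩ : H n σ) ∈ Rad σ blk := by
          have h1 := transvection_mem_Rad_aux (h := hfr) hbr t
          have h2 := transvection_mem_Rad_aux (h := hzf) (show blk r < blk (Fin.rev f) by rwa [hz] at hbr') (-σ t)
          have h3 := transvection_mem_Rad_aux (h := hfL) hblk (e + t * σ t)
          refine ⟨(h1.1.mul h2.1).mul h3.1, ?_⟩
          show bpart blk ((xz hfr hzf hfL σ t e : SLn) : Mn) = 1
          rw [xz, Matrix.SpecialLinearGroup.coe_mul, Matrix.SpecialLinearGroup.coe_mul,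
            bpart_mul (h1.1.mul h2.1) h3.1, bpart_mul h1.1 h2.1, h1.2, h2.2, h3.2, one_mul, one_mul]
        have hx := hcomm _ hmem
        have ev : mat (⟨xz hfr hzf hfL σ t e, xz_mem h hfr hzf hfL hz hecond⟩ : H n σ) =
            1 + (t • Matrix.single f r (1 : F) + (-σ t) • Matrix.single (Fin.rev r) L (1 : F) +
              e • Matrix.single f L (1 : F)) := by
          refine Matrix.ext_iff_mulVec.2 fun v => ?_
          show (xz hfr hzf hfL σ t e : Mn) *ᵥ v = _
          rw [mulVec_xz, hz]
          simp only [Matrix.add_mulVec, Matrix.one_mulVec, Matrix.smul_mulVec, Matrix.single_mulVec_eq,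
            one_mul, ← hL]
          funext k
          simp only [Pi.add_apply, Pi.smul_apply, Pi.single_apply, smul_eq_mul]
          split_ifs <;> ring
        rw [ev, mul_add, add_mul, mul_one, one_mul, add_right_inj] at hx
        simp only [mul_add, add_mul, mul_smul_comm, smul_mul_assoc, hE] at hx
        rw [← sub_eq_zero] at hx
        rw [← hx]
        simp only [smul_sub, neg_smul, smul_neg]
        abel
      · have hmem : (⟨sh hfr σ t, sh_mem h hfr hfL (Ne.symm hz) t⟩ : H n σ) ∈ Rad σ blk := by
          have h1 := transvection_mem_Rad_aux (h := hfr) hbr t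
          have h2 := transvection_mem_Rad_aux (h := (fun hh => hfr (Fin.rev_injective hh).symm :
            Fin.rev r ≠ Fin.rev f)) (by rwa [← hL]) (-σ t)
          refine ⟨h1.1.mul h2.1, ?_⟩
          show bpart blk ((sh hfr σ t : SLn) : Mn) = 1
          rw [sh, Matrix.SpecialLinearGroup.coe_mul, bpart_mul h1.1 h2.1, h1.2, h2.2, one_mul]
        have hx := hcomm _ hmem
        have ev : mat (⟨sh hfr σ t, sh_mem h hfr hfL (Ne.symm hz) t⟩ : H n σ) =
            1 + (t • Matrix.single f r (1 : F) + (-σ t) • Matrix.single (Fin.rev r) L (1 : F)) := by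
          refine Matrix.ext_iff_mulVec.2 fun v => ?_
          show (sh hfr σ t : Mn) *ᵥ v = _
          rw [mulVec_sh hfr (Ne.symm hz)]
          simp only [Matrix.add_mulVec, Matrix.one_mulVec, Matrix.smul_mulVec, Matrix.single_mulVec_eq,
            one_mul, ← hL]
          funext k
          simp only [Pi.add_apply, Pi.smul_apply, Pi.single_apply, smul_eq_mul]
          split_ifs <;> ring
        rw [ev, mul_add, add_mul, mul_one, one_mul, add_right_inj] at hx
        simp only [mul_add, add_mul, mul_smul_comm, smul_mul_assoc] at hx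
        rw [← sub_eq_zero] at hx
        rw [← hx]
        simp only [smul_sub, neg_smul, smul_neg]
        abel
    constructor <;> (ext i j; rw [← sub_eq_zero])
    · exact (indep h fun t => by simpa using congrFun (congrFun (hlin t) i) j).1
    · exact neg_eq_zero.1 (indep h fun t => by simpa using congrFun (congrFun (hlin t) i) j).2
  -- commuting with an elementary matrix
  have hel : ∀ a b : Fin n, mat g * Matrix.single a b 1 = Matrix.single a b 1 * mat g →
      (∀ i, i ≠ a → mat g i a = 0) ∧ (∀ i, i ≠ b → mat g b i = 0) ∧ mat g a a = mat g b b := by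
    intro a b hab
    refine ⟨fun i hi => ?_, fun i hi => ?_, ?_⟩
    · simpa [hi] using congrFun (congrFun hab i) b
    · simpa [hi] using (congrFun (congrFun hab a) i).symm
    · simpa using congrFun (congrFun hab a) b
  set c := mat g f f with hc
  have hrowE : ∀ r, blk r ≠ blk f → (∀ i, i ≠ r → mat g r i = 0) ∧ mat g r r = c := by
    intro r hr
    by_cases hrL : r = L
    · subst hrL; exact ⟨(hel _ _ hE).2.1, (hel _ _ hE).2.2.symm⟩
    · exact ⟨(hel _ _ (hshort r hr hrL).1).2.1, (hel _ _ (hshort r hr hrL).1).2.2.symm⟩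
  have hcolE : ∀ s, blk s ≠ blk L → (∀ i, i ≠ s → mat g i s = 0) ∧ mat g s s = c := by
    intro s hs
    have hs' : blk (Fin.rev s) ≠ blk f := fun hh => hs (by
      have := hsymm _ _ hh
      rwa [Fin.rev_rev] at this)
    by_cases hsf : s = f
    · subst hsf; exact ⟨(hel _ _ hE).1, rfl⟩
    · have hsL : Fin.rev s ≠ L := fun hh => hsf (Fin.rev_injective hh)
      have h1 := hel _ _ (hshort _ hs' hsL).2
      rw [Fin.rev_rev] at h1
      exact ⟨h1.1, h1.2.2.trans ((hel _ _ hE).2.2).symm⟩
  have hoff : ∀ r s, r ≠ s → mat g r s ≠ 0 → blk r = blk f ∧ blk s = blk L := fun r s hrs hne =>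
    ⟨Classical.not_not.1 fun hh => hne ((hrowE r hh).1 s hrs.symm),
      Classical.not_not.1 fun hh => hne ((hcolE s hh).1 r hrs)⟩
  refine ⟨c, ?_, fun r s hrs => ?_, hoff⟩
  · have h1 := congrFun (congrFun (mat_mul_inv g) f) f
    rw [Matrix.mul_apply, Finset.sum_eq_single f, mat_inv h, Matrix.one_apply_eq, ← hL,
      ← (hel _ _ hE).2.2] at h1
    · exact h1
    · intro i _ hi
      by_cases h0 : mat g f i = 0
      · rw [h0, zero_mul]
      · have h2 : mat g L (Fin.rev i) = 0 :=
          (hrowE L (Ne.symm hfl)).1 _ (fun hh => hi (Fin.rev_injective hh))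
        rw [mat_inv h, ← hL, h2, map_zero, mul_zero]
    · simp
  · rcases eq_or_ne r s with rfl | hne
    · rw [Matrix.one_apply_eq, mul_one]
      by_cases hr : blk r = blk f
      · exact (hcolE r (fun hh => hfl (hr.symm.trans hh))).2
      · exact (hrowE r hr).2
    · rw [Matrix.one_apply_ne hne, mul_zero]
      by_contra h0
      obtain ⟨h1, h2⟩ := hoff r s hne h0
      exact hfl (h1.symm.trans (hrs.trans h2))

end CfsgLib.Involutions.UAnti
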