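import Cfsg.Agent.Lib.Involutions.UnitaryAnti

/-!
Weyl elements and diagonal elements of `SU_n` in antidiagonal coordinates, as products of root elements.
-/

set_option autoImplicit false

namespace CfsgLib.Involutions.UAnti

open Matrix CfsgLib.KnownB.PSLAut CfsgLib.Classical CfsgLib.Classical.Unitary

variable {n : ℕ} {F : Type*} [Field F] {σ : F →+* F} {q : ℕ}

local notation "SLn" => Matrix.SpecialLinearGroup (Fin n) F
local notation "Mn" => Matrix (Fin n) (Fin n) F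
local notation "Vn" => (Fin n → F)

/-- The Weyl element of the pair `a, b` and the opposite pair. -/
def Wp {a b : Fin n} (hab : a ≠ b) (σ : F →+* F) (t : F) : Matrix.SpecialLinearGroup (Fin n) F :=
  sh hab σ t * sh hab.symm σ (-t⁻¹) * sh hab σ t

/-- The Weyl element of `p` and `rev p`. -/
def Wl {p : Fin n} (hp : p ≠ Fin.rev p) (d : F) : Matrix.SpecialLinearGroup (Fin n) F :=
  lg hp (-d⁻¹) * lg (p := Fin.rev p) (by rw [Fin.rev_rev]; exact hp.symm) d * lg hp (-d⁻¹)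

/-- The Weyl element of the three coordinates `j, z, rev j`. -/
def Wz {j z : Fin n} (hjz : j ≠ z) (hzj : z ≠ Fin.rev j) (hj : j ≠ Fin.rev j) (σ : F →+* F) (c d : F) :
    Matrix.SpecialLinearGroup (Fin n) F :=
  xz hjz hzj hj σ (-c / σ d) (σ d)⁻¹ *
    xz (j := Fin.rev j) (z := z) hzj.symm (by rw [Fin.rev_rev]; exact hjz.symm)
      (by rw [Fin.rev_rev]; exact hj.symm) σ c d *
    xz hjz hzj hj σ (-c / d) (σ d)⁻¹

theorem mulVec_Wp {a b : Fin n} (hab : a ≠ b) (ha : a ≠ Fin.rev a) (hb : b ≠ Fin.rev b) (hab' : a ≠ Fin.rev b)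
    {t : F} (ht : t ≠ 0) (v : Vn) (k : Fin n) : ((Wp hab σ t : Mn) *ᵥ v) k =
      if k = a then t * v b else if k = b then -t⁻¹ * v a
      else if k = Fin.rev b then -σ t * v (Fin.rev a)
      else if k = Fin.rev a then (σ t)⁻¹ * v (Fin.rev b) else v k := by
  have h1 : Fin.rev a ≠ Fin.rev b := fun hh => hab (Fin.rev_injective hh)
  have h2 : b ≠ Fin.rev a := fun hh => hab' (by rw [hh, Fin.rev_rev])
  have hσt : σ t ≠ 0 := (map_ne_zero σ).2 ht
  simp only [Wp, Matrix.SpecialLinearGroup.coe_mul, ← Matrix.mulVec_mulVec, mulVec_sh hab hb,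
    mulVec_sh hab.symm ha]
  rcases eq_or_ne k a with rfl | hka
  · simp [hab, hab.symm, ha, ha.symm, hb, hb.symm, hab', hab'.symm, h1, h1.symm, h2, h2.symm, map_inv₀]
    field_simp
    ring
  rcases eq_or_ne k b with rfl | hkb
  · simp [hab, hab.symm, ha, ha.symm, hb, hb.symm, hab', hab'.symm, h1, h1.symm, h2, h2.symm, map_inv₀]
    field_simp
    ring
  rcases eq_or_ne k (Fin.rev b) with rfl | hkb'
  · simp [hab, hab.symm, ha, ha.symm, hb, hb.symm, hab', hab'.symm, h1, h1.symm, h2, h2.symm, map_inv₀]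
    field_simp
    ring
  rcases eq_or_ne k (Fin.rev a) with rfl | hka'
  · simp [hab, hab.symm, ha, ha.symm, hb, hb.symm, hab', hab'.symm, h1, h1.symm, h2, h2.symm, map_inv₀]
    field_simp
    ring
  · simp [hka, hkb, hkb', hka']

theorem mulVec_Wl {p : Fin n} (hp : p ≠ Fin.rev p) {d : F} (hd : d ≠ 0) (v : Vn) (k : Fin n) :
    ((Wl hp d : Mn) *ᵥ v) k =
      if k = p then -d⁻¹ * v (Fin.rev p) else if k = Fin.rev p then d * v p else v k := by
  simp only [Wl, Matrix.SpecialLinearGroup.coe_mul, ← Matrix.mulVec_mulVec, mulVec_lg, Fin.rev_rev]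
  rcases eq_or_ne k p with rfl | hkp
  · simp [hp, hp.symm]
    field_simp
    ring
  rcases eq_or_ne k (Fin.rev p) with rfl | hkp'
  · simp [hp, hp.symm]
    field_simp
    ring
  · simp [hkp, hkp']

theorem mulVec_Wz (h : UFrob σ q) {j z : Fin n} (hjz : j ≠ z) (hzj : z ≠ Fin.rev j) (hj : j ≠ Fin.rev j)
    {c d : F} (hd : d ≠ 0) (hc : d + σ d + c * σ c = 0) (v : Vn) (k : Fin n) :
    ((Wz hjz hzj hj σ c d : Mn) *ᵥ v) k =
      if k = j then (σ d)⁻¹ * v (Fin.rev j) else if k = Fin.rev j then d * v j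
      else if k = z then -σ d / d * v z else v k := by
  have hσd : σ d ≠ 0 := (map_ne_zero σ).2 hd
  simp only [Wz, Matrix.SpecialLinearGroup.coe_mul, ← Matrix.mulVec_mulVec, mulVec_xz, Fin.rev_rev]
  rcases eq_or_ne k j with rfl | hkj
  · simp [hjz, hjz.symm, hzj, hzj.symm, hj, hj.symm, map_div₀, h.invol]
    field_simp
    grind
  rcases eq_or_ne k (Fin.rev j) with rfl | hkj'
  · simp [hjz, hjz.symm, hzj, hzj.symm, hj, hj.symm, map_div₀, h.invol]
    field_simp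
    grind
  rcases eq_or_ne k z with rfl | hkz
  · simp [hjz, hjz.symm, hzj, hzj.symm, hj, hj.symm, map_div₀, h.invol]
    field_simp
    grind
  · simp [hkj, hkj', hkz]

theorem Wp_mem (h : UFrob σ q) {a b : Fin n} (hab : a ≠ b) (ha : a ≠ Fin.rev a) (hb : b ≠ Fin.rev b) (t : F) :
    Wp hab σ t ∈ H n σ :=
  (H n σ).mul_mem ((H n σ).mul_mem (sh_mem h hab ha hb t) (sh_mem h hab.symm hb ha _)) (sh_mem h hab ha hb t)

theorem skew_neg_inv {d : F} (hd : d + σ d = 0) : -d⁻¹ + σ (-d⁻¹) = 0 := by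
  have : σ d = -d := by linear_combination hd
  rw [map_neg, map_inv₀, this, inv_neg]; ring

theorem Wl_mem (h : UFrob σ q) {p : Fin n} (hp : p ≠ Fin.rev p) {d : F} (hd : d + σ d = 0) :
    Wl hp d ∈ H n σ :=
  (H n σ).mul_mem ((H n σ).mul_mem (lg_mem h hp (skew_neg_inv hd)) (lg_mem h _ hd))
    (lg_mem h hp (skew_neg_inv hd))

theorem wz_cond_left (h : UFrob σ q) {c d : F} (hd : d ≠ 0) (hc : d + σ d + c * σ c = 0) :
    (σ d)⁻¹ + σ ((σ d)⁻¹) + -c / σ d * σ (-c / σ d) = 0 := by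
  have hσd : σ d ≠ 0 := (map_ne_zero σ).2 hd
  simp only [map_inv₀, map_div₀, map_neg, h.invol]
  field_simp
  linear_combination hc

theorem wz_cond_right (h : UFrob σ q) {c d : F} (hd : d ≠ 0) (hc : d + σ d + c * σ c = 0) :
    (σ d)⁻¹ + σ ((σ d)⁻¹) + -c / d * σ (-c / d) = 0 := by
  have hσd : σ d ≠ 0 := (map_ne_zero σ).2 hd
  simp only [map_inv₀, map_div₀, map_neg, h.invol]
  field_simp
  linear_combination hc

theorem Wz_mem (h : UFrob σ q) {j z : Fin n} (hjz : j ≠ z) (hzj : z ≠ Fin.rev j) (hj : j ≠ Fin.rev j)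
    (hz : Fin.rev z = z) {c d : F} (hd : d ≠ 0) (hc : d + σ d + c * σ c = 0) :
    Wz hjz hzj hj σ c d ∈ H n σ :=
  (H n σ).mul_mem ((H n σ).mul_mem (xz_mem h hjz hzj hj hz (wz_cond_left h hd hc))
    (xz_mem h _ _ _ hz hc)) (xz_mem h hjz hzj hj hz (wz_cond_right h hd hc))

/-! ### Diagonal elements -/

theorem hp_eq {a b : Fin n} (hab : a ≠ b) (ha : a ≠ Fin.rev a) (hb : b ≠ Fin.rev b) (hab' : a ≠ Fin.rev b)
    {u : F} (hu : u ≠ 0) : ((Wp hab σ u * Wp hab σ (-1) : SLn) : Mn) = Matrix.diagonal fun k =>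
      if k = a then u else if k = b then u⁻¹ else if k = Fin.rev b then σ u
      else if k = Fin.rev a then (σ u)⁻¹ else 1 := by
  have h1 : Fin.rev a ≠ Fin.rev b := fun hh => hab (Fin.rev_injective hh)
  have h2 : b ≠ Fin.rev a := fun hh => hab' (by rw [hh, Fin.rev_rev])
  refine Matrix.ext_iff_mulVec.2 fun v => funext fun k => ?_
  rw [Matrix.SpecialLinearGroup.coe_mul, ← Matrix.mulVec_mulVec, mulVec_Wp hab ha hb hab' hu,
    Matrix.mulVec_diagonal]
  simp only [mulVec_Wp hab ha hb hab' (neg_ne_zero.2 (one_ne_zero' F))]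
  split_ifs <;> simp_all

theorem hl_eq {p : Fin n} (hp : p ≠ Fin.rev p) {d u : F} (hd : d ≠ 0) (hu : u ≠ 0) :
    ((Wl hp (-d / u) * Wl hp d : SLn) : Mn) = Matrix.diagonal fun k =>
      if k = p then u else if k = Fin.rev p then u⁻¹ else 1 := by
  refine Matrix.ext_iff_mulVec.2 fun v => funext fun k => ?_
  rw [Matrix.SpecialLinearGroup.coe_mul, ← Matrix.mulVec_mulVec,
    mulVec_Wl hp (div_ne_zero (neg_ne_zero.2 hd) hu), Matrix.mulVec_diagonal]
  simp only [mulVec_Wl hp hd]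
  split_ifs <;> simp_all
  all_goals field_simp

theorem hz_eq (h : UFrob σ q) {j z : Fin n} (hjz : j ≠ z) (hzj : z ≠ Fin.rev j) (hj : j ≠ Fin.rev j)
    {c₁ d₁ c₂ u : F} (hd : d₁ ≠ 0) (hu : u ≠ 0) (hc₁ : d₁ + σ d₁ + c₁ * σ c₁ = 0)
    (hc₂ : σ d₁ / σ u + σ (σ d₁ / σ u) + c₂ * σ c₂ = 0) :
    ((Wz hjz hzj hj σ c₂ (σ d₁ / σ u) * Wz hjz hzj hj σ c₁ d₁ : SLn) : Mn) = Matrix.diagonal fun k =>
      if k = j then u else if k = Fin.rev j then (σ u)⁻¹ else if k = z then σ u / u else 1 := by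
  have hσd : σ d₁ ≠ 0 := (map_ne_zero σ).2 hd
  have hσu : σ u ≠ 0 := (map_ne_zero σ).2 hu
  refine Matrix.ext_iff_mulVec.2 fun v => funext fun k => ?_
  rw [Matrix.SpecialLinearGroup.coe_mul, ← Matrix.mulVec_mulVec,
    mulVec_Wz h hjz hzj hj (div_ne_zero hσd hσu) hc₂, Matrix.mulVec_diagonal]
  simp only [mulVec_Wz h hjz hzj hj hd hc₁]
  split_ifs <;> simp_all [map_div₀, h.invol]
  all_goals
    have := (map_ne_zero σ).2 hd
    field_simp

end CfsgLib.Involutions.UAnti
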