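import Cfsg.Agent.Lib.Fusion.CenterTwo
import Cfsg.Agent.Lib.Transfer.Fusion

/-!
A 2-element which is weakly closed in a Sylow 2-subgroup is central modulo the odd core.
-/

set_option autoImplicit false
set_option linter.style.haveILetI false
set_option linter.unusedSectionVars false

universe u

namespace CfsgLib.Involutions.WeaklyClosedTwo

open Cfsg Subgroup

variable {G : Type u} [Group G] [Finite G]

/-- The powers of an element weakly closed in a Sylow subgroup are weakly closed. -/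
theorem pow_weaklyClosed {p : ℕ} [Fact p.Prime] (T : Sylow p G) {t : G}
    (ht : t ∈ (T : Subgroup G))
    (hw : ∀ g : G, g * t * g⁻¹ ∈ (T : Subgroup G) → g * t * g⁻¹ = t) (n : ℕ) (g : G)
    (hg : g * t ^ n * g⁻¹ ∈ (T : Subgroup G)) : g * t ^ n * g⁻¹ = t ^ n := by
  have hcen : ∀ x ∈ (T : Subgroup G), x * t = t * x := fun x hx =>
    mul_inv_eq_iff_eq_mul.1 (hw x (mul_mem (mul_mem hx ht) (inv_mem hx)))
  set w := t ^ n with hwdef
  have hTK : (T : Subgroup G) ≤ centralizer ({w} : Set G) := fun x hx =>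
    mem_centralizer_singleton_iff.2 (Commute.pow_right (hcen x hx) n)
  -- `g⁻¹ t g` centralises `w`
  have hvK : g⁻¹ * t * g ∈ centralizer ({w} : Set G) := by
    rw [mem_centralizer_singleton_iff]
    have h := hcen _ hg
    calc g⁻¹ * t * g * w = g⁻¹ * (t * (g * w * g⁻¹)) * g := by group
      _ = g⁻¹ * (g * w * g⁻¹ * t) * g := by rw [h]
      _ = w * (g⁻¹ * t * g) := by group
  obtain ⟨k, hk, hkT⟩ := CfsgLib.Transfer.exists_conj_le_of_isPGroup (p := p) T.isPGroup' hTK
    (fun hd => T.not_dvd_index (hd.trans (Dvd.intro _ (relIndex_mul_index hTK))))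
    (V := zpowers (g⁻¹ * t * g)) (by
      have := (T.isPGroup'.to_le (zpowers_le.2 ht)).map (MulAut.conj g⁻¹).toMonoidHom
      rw [MonoidHom.map_zpowers, MulEquiv.coe_toMonoidHom, MulAut.conj_apply, inv_inv] at this
      exact this)
    (zpowers_le.2 hvK)
  have h1 := hkT _ (mem_zpowers _)
  have h2 := hw (k⁻¹ * g⁻¹) (by
    rw [show k⁻¹ * g⁻¹ * t * (k⁻¹ * g⁻¹)⁻¹ = k⁻¹ * (g⁻¹ * t * g) * k by group]; exact h1)
  rw [mul_inv_eq_iff_eq_mul] at h2
  have h3 : k⁻¹ * g⁻¹ * w = w * (k⁻¹ * g⁻¹) := Commute.pow_right h2 n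
  have h4 : k * w = w * k := mem_centralizer_singleton_iff.1 hk
  have h5 : g⁻¹ * w * g = w := by
    calc g⁻¹ * w * g = k * (k⁻¹ * g⁻¹ * w) * g := by group
      _ = k * (w * (k⁻¹ * g⁻¹)) * g := by rw [h3]
      _ = k * w * k⁻¹ := by group
      _ = w := by rw [h4, mul_inv_cancel_right]
  calc g * w * g⁻¹ = g * (g⁻¹ * w * g) * g⁻¹ := by rw [h5]
    _ = w := by group

/-- A 2-element weakly closed in a Sylow 2-subgroup is central modulo `O(G)`. -/
theorem commutator_mem_oddCore (T : Sylow 2 G) {t : G} (ht : t ∈ (T : Subgroup G))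
    (hw : ∀ g : G, g * t * g⁻¹ ∈ (T : Subgroup G) → g * t * g⁻¹ = t) (g : G) :
    t * g * t⁻¹ * g⁻¹ ∈ oddCore G := by
  haveI : (oddCore G).Normal := pPrimeCore_normal 2 G
  set π := QuotientGroup.mk' (oddCore G) with hπ
  have hsurj : Function.Surjective π := QuotientGroup.mk'_surjective _
  set T' := T.mapSurjective hsurj with hT'
  have htT' : π t ∈ (T' : Subgroup (G ⧸ oddCore G)) := by
    rw [hT', Sylow.coe_mapSurjective]; exact mem_map_of_mem π ht
  have hw' : ∀ q, q * π t * q⁻¹ ∈ (T' : Subgroup (G ⧸ oddCore G)) → q * π t * q⁻¹ = π t := by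
    intro q hq
    obtain ⟨g', rfl⟩ := hsurj q
    rw [← map_inv, ← map_mul, ← map_mul] at hq ⊢
    rw [hT', Sylow.coe_mapSurjective, ← mem_comap, comap_map_eq, hπ, QuotientGroup.ker_mk'] at hq
    obtain ⟨k, hk, hkT⟩ := CfsgLib.Transfer.exists_conj_le_of_isPGroup (p := 2) T.isPGroup'
      (le_sup_left : (T : Subgroup G) ≤ (T : Subgroup G) ⊔ oddCore G)
      (fun hd => T.not_dvd_index (hd.trans (Dvd.intro _ (relIndex_mul_index le_sup_left))))
      (V := zpowers (g' * t * g'⁻¹)) (by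
        have := (T.isPGroup'.to_le (zpowers_le.2 ht)).map (MulAut.conj g').toMonoidHom
        rw [MonoidHom.map_zpowers, MulEquiv.coe_toMonoidHom, MulAut.conj_apply] at this
        exact this)
      (zpowers_le.2 hq)
    have h1 := hw (k⁻¹ * g') (by
      rw [show k⁻¹ * g' * t * (k⁻¹ * g')⁻¹ = k⁻¹ * (g' * t * g'⁻¹) * k by group]
      exact hkT _ (mem_zpowers _))
    obtain ⟨x, hx, o, ho, rfl⟩ := mem_sup_of_normal_right.1 hk
    have h2 : g' * t * g'⁻¹ = (x * o) * t * (x * o)⁻¹ := by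
      calc g' * t * g'⁻¹ = (x * o) * ((x * o)⁻¹ * g' * t * ((x * o)⁻¹ * g')⁻¹) * (x * o)⁻¹ := by
            group
        _ = _ := by rw [h1]
    have h3 : x * t = t * x := mul_inv_eq_iff_eq_mul.1 (hw x (mul_mem (mul_mem hx ht) (inv_mem hx)))
    have h4 : π o = 1 := (QuotientGroup.eq_one_iff o).2 ho
    rw [h2]
    simp only [map_mul, map_inv, h4, mul_one]
    rw [← map_mul, h3, map_mul, mul_inv_cancel_right]
  obtain ⟨k, hk⟩ := T'.isPGroup' ⟨π t, htT'⟩
  have hc := CfsgLib.Fusion.mem_center_of_weaklyClosed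
    (Base.pPrimeCore_quotient_pPrimeCore 2 G) T' k (π t) htT'
    (fun n q => pow_weaklyClosed T' htT' hw' n q) (congrArg Subtype.val hk)
  rw [← QuotientGroup.eq_one_iff]
  change π (t * g * t⁻¹ * g⁻¹) = 1
  rw [map_mul, map_mul, map_mul, map_inv, map_inv, ← mem_center_iff.1 hc (π g)]
  group

/-- With trivial odd core a weakly closed 2-element is central. -/
theorem mem_center (T : Sylow 2 G) (hO : oddCore G = ⊥) {t : G} (ht : t ∈ (T : Subgroup G))
    (hw : ∀ g : G, g * t * g⁻¹ ∈ (T : Subgroup G) → g * t * g⁻¹ = t) : t ∈ center G := by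
  refine mem_center_iff.2 fun g => ?_
  have h := commutator_mem_oddCore T ht hw g
  rw [hO, mem_bot, mul_inv_eq_one, mul_inv_eq_iff_eq_mul] at h
  exact h.symm

end CfsgLib.Involutions.WeaklyClosedTwo
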