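import Cfsg.Agent.Lib.Involutions.Dihedral
import Cfsg.Prelude.Def_CaseTheorems

/-!
# Wreathed groups: normal forms
-/

set_option autoImplicit false

namespace CfsgLib.Involutions

open Subgroup

/-- Generators of a wreathed group of order `2 ^ (2 * n + 1)`. -/
structure WR (S : Type*) [Group S] where
  n : ℕ
  x : S
  y : S
  z : S
  two_le : 2 ≤ n
  card_eq : Nat.card S = 2 ^ (2 * n + 1)
  orderOf_x : orderOf x = 2 ^ n
  comm : Commute x y
  disj : zpowers x ⊓ zpowers y = ⊥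
  orderOf_z : orderOf z = 2
  conj_x : z * x * z⁻¹ = y

theorem nonempty_wr {S : Type*} [Group S] (h : Cfsg.IsWreathed S) : Nonempty (WR S) := by
  obtain ⟨n, h1, h2, x, y, z, h3, h4, h5, h6, h7⟩ := h
  exact ⟨⟨n, x, y, z, h1, h2, h3, h4, h5, h6, h7⟩⟩

namespace WR

variable {S : Type*} [Group S] (d : WR S)

/-- The exponent `N = 2 ^ n` of the base group. -/
def N : ℤ := 2 ^ d.n

/-- Half of it. -/
def half : ℤ := 2 ^ (d.n - 1)

/-- The element `x ^ i * y ^ j` of the base group. -/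
def u (i j : ℤ) : S := d.x ^ i * d.y ^ j

theorem N_eq : d.N = 2 * d.half := by
  have := d.two_le
  rw [N, half, ← pow_succ']
  congr 1
  omega

theorem even_half : Even d.half := by
  have := d.two_le
  exact even_iff_two_dvd.2 (dvd_pow_self 2 (by omega))

theorem half_pos : 0 < d.half := pow_pos two_pos _

theorem N_pos : 0 < d.N := pow_pos two_pos _

theorem not_N_dvd_half : ¬ d.N ∣ d.half := fun h => by
  have := Int.le_of_dvd d.half_pos h
  have := d.N_eq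
  have := d.half_pos
  omega

theorem orderOf_y : orderOf d.y = 2 ^ d.n := by
  rw [← d.conj_x, orderOf_conj_eq, d.orderOf_x]

theorem conj_y : d.z * d.y * d.z⁻¹ = d.x := by
  rw [← d.conj_x, invol_inv d.orderOf_z]
  calc d.z * (d.z * d.x * d.z) * d.z = (d.z * d.z) * d.x * (d.z * d.z) := by group
    _ = d.x := by rw [invol_mul_self d.orderOf_z, one_mul, mul_one]

theorem u_mul (i j a b : ℤ) : d.u i j * d.u a b = d.u (i + a) (j + b) := by
  rw [u, u, u, (d.comm.zpow_zpow a j).symm.mul_mul_mul_comm, ← zpow_add, ← zpow_add]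

theorem u_inv (i j : ℤ) : (d.u i j)⁻¹ = d.u (-i) (-j) :=
  inv_eq_of_mul_eq_one_right (by rw [u_mul, add_neg_cancel, add_neg_cancel]; simp [u])

theorem u_zero : d.u 0 0 = 1 := by simp [u]

theorem u_one_zero : d.u 1 0 = d.x := by simp [u]

theorem u_zero_one : d.u 0 1 = d.y := by simp [u]

theorem u_eq_one {i j : ℤ} : d.u i j = 1 ↔ d.N ∣ i ∧ d.N ∣ j := by
  have hN : ((2 ^ d.n : ℕ) : ℤ) = d.N := by simp [N]
  constructor
  · intro h
    have hi : d.x ^ i ∈ zpowers d.x ⊓ zpowers d.y :=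
      mem_inf.2 ⟨zpow_mem (mem_zpowers _) _, by
        rw [eq_inv_of_mul_eq_one_left h]; exact inv_mem (zpow_mem (mem_zpowers _) _)⟩
    rw [d.disj, mem_bot] at hi
    rw [u, hi, one_mul] at h
    constructor
    · rw [← hN, ← d.orderOf_x]; exact orderOf_dvd_iff_zpow_eq_one.2 hi
    · rw [← hN, ← d.orderOf_y]; exact orderOf_dvd_iff_zpow_eq_one.2 h
  · rintro ⟨hi, hj⟩
    rw [← hN] at hi hj
    rw [u, orderOf_dvd_iff_zpow_eq_one.1 (d.orderOf_x ▸ hi),
      orderOf_dvd_iff_zpow_eq_one.1 (d.orderOf_y ▸ hj), one_mul]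

theorem u_inj {i j a b : ℤ} : d.u i j = d.u a b ↔ d.N ∣ i - a ∧ d.N ∣ j - b := by
  rw [← mul_inv_eq_one, u_inv, u_mul, u_eq_one]
  rfl

theorem u_zpow (i j k : ℤ) : d.u i j ^ k = d.u (i * k) (j * k) := by
  rw [u, u, (d.comm.zpow_zpow i j).mul_zpow, ← zpow_mul, ← zpow_mul]

theorem conj_u (i j : ℤ) : d.z * d.u i j * d.z⁻¹ = d.u j i := by
  rw [u, u, ← conj_mul, ← conj_zpow, ← conj_zpow, d.conj_x, d.conj_y,
    (d.comm.zpow_zpow j i).eq]

theorem z_mul_u (i j : ℤ) : d.z * d.u i j = d.u j i * d.z := by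
  rw [← d.conj_u i j, inv_mul_cancel_right]

/-- The base group. -/
def U : Subgroup S where
  carrier := {g | ∃ i j, g = d.u i j}
  mul_mem' := by
    rintro _ _ ⟨i, j, rfl⟩ ⟨a, b, rfl⟩
    exact ⟨_, _, d.u_mul i j a b⟩
  one_mem' := ⟨0, 0, d.u_zero.symm⟩
  inv_mem' := by
    rintro _ ⟨i, j, rfl⟩
    exact ⟨_, _, d.u_inv i j⟩

theorem u_mem (i j : ℤ) : d.u i j ∈ d.U := ⟨i, j, rfl⟩

theorem isMulCommutative_U : IsMulCommutative d.U := by
  refine ⟨⟨fun ⟨a, i, j, ha⟩ ⟨b, k, l, hb⟩ => Subtype.ext ?_⟩⟩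
  show a * b = b * a
  rw [ha, hb, u_mul, u_mul, add_comm i, add_comm j]

theorem nonempty_U_equiv :
    Nonempty (d.U ≃* Multiplicative (ZMod (2 ^ d.n) × ZMod (2 ^ d.n))) := by
  have : NeZero (2 ^ d.n) := ⟨(pow_pos two_pos _).ne'⟩
  have hN : d.N = ((2 ^ d.n : ℕ) : ℤ) := by simp [N]
  have hc : ∀ a b : ℤ, d.N ∣ a - b ↔ (a : ZMod (2 ^ d.n)) = (b : ZMod (2 ^ d.n)) := fun a b => by
    rw [ZMod.intCast_eq_intCast_iff, Int.modEq_iff_dvd, hN, ← dvd_neg, neg_sub]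
  let f : Multiplicative (ZMod (2 ^ d.n) × ZMod (2 ^ d.n)) → d.U := fun p =>
    ⟨d.u (p.toAdd.1.val : ℤ) (p.toAdd.2.val : ℤ), d.u_mem _ _⟩
  have hf : ∀ p q, f (p * q) = f p * f q := fun p q => Subtype.ext (by
    show d.u _ _ = d.u _ _ * d.u _ _
    rw [u_mul, u_inj, hc, hc]
    push_cast
    simp)
  refine ⟨(MulEquiv.ofBijective (MonoidHom.mk' f hf) ⟨fun p q h => ?_, fun g => ?_⟩).symm⟩
  · have h' := d.u_inj.1 (congrArg Subtype.val h)
    rw [hc, hc] at h'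
    push_cast at h'
    simp only [ZMod.natCast_zmod_val] at h'
    exact Multiplicative.toAdd.injective (Prod.ext h'.1 h'.2)
  · obtain ⟨i, j, hij⟩ := g.2
    refine ⟨Multiplicative.ofAdd ((i : ZMod (2 ^ d.n)), (j : ZMod (2 ^ d.n))), Subtype.ext ?_⟩
    show d.u _ _ = (g : S)
    rw [hij, u_inj, hc, hc]
    push_cast
    simp

theorem card_U : Nat.card d.U = 2 ^ (2 * d.n) := by
  rw [Nat.card_congr d.nonempty_U_equiv.some.toEquiv, Nat.card_congr Multiplicative.toAdd,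
    Nat.card_prod, Nat.card_zmod, ← pow_add, two_mul]

variable [Finite S]

theorem index_U : d.U.index = 2 := by
  have h := card_mul_index d.U
  rw [d.card_U, d.card_eq, pow_succ] at h
  exact Nat.eq_of_mul_eq_mul_left (pow_pos two_pos _) h

theorem z_not_mem : d.z ∉ d.U := by
  rintro ⟨i, j, h⟩
  have h1 := d.conj_x
  rw [h, ← d.u_one_zero, ← d.u_zero_one, u_mul, u_inv, u_mul, u_inj] at h1
  have h2 := h1.2
  rw [show j + 0 + -j - 1 = -1 by ring, dvd_neg] at h2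
  have := Int.le_of_dvd one_pos h2
  have := d.N_eq
  have := d.half_pos
  omega

theorem cover (g : S) : (∃ i j, g = d.u i j) ∨ ∃ i j, g = d.u i j * d.z := by
  by_cases hg : g ∈ d.U
  · exact Or.inl hg
  · refine Or.inr ?_
    obtain ⟨i, j, hij⟩ := (mul_mem_iff_of_index_two d.index_U).2 (iff_of_false hg d.z_not_mem)
    exact ⟨i, j, by rw [← hij, mul_assoc, invol_mul_self d.orderOf_z, mul_one]⟩

theorem refl_not_mem (i j : ℤ) : d.u i j * d.z ∉ d.U := fun h =>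
  d.z_not_mem ((mul_mem_cancel_left (d.u_mem i j)).1 h)

theorem sq_refl (i j : ℤ) : d.u i j * d.z * (d.u i j * d.z) = d.u (i + j) (i + j) := by
  rw [mul_assoc, ← mul_assoc d.z, z_mul_u, mul_assoc (d.u j i), invol_mul_self d.orderOf_z,
    mul_one, u_mul, add_comm j i]

omit [Finite S] in
theorem conj_refl (a b i j : ℤ) :
    d.u a b * (d.u i j * d.z) * (d.u a b)⁻¹ = d.u (i + (a - b)) (j + (b - a)) * d.z := by
  rw [u_inv, show d.u a b * (d.u i j * d.z) * d.u (-a) (-b)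
    = d.u a b * d.u i j * (d.z * d.u (-a) (-b)) by group, z_mul_u, ← mul_assoc, u_mul, u_mul]
  congr 2 <;> ring

omit [Finite S] in
theorem exists_conj_refl {i j a b : ℤ} (h : d.N ∣ a + b - (i + j)) :
    ∃ g : S, g * (d.u i j * d.z) * g⁻¹ = d.u a b * d.z := by
  refine ⟨d.u (a - i) 0, ?_⟩
  rw [conj_refl, mul_left_inj, u_inj]
  exact ⟨⟨0, by ring⟩, (dvd_neg.2 h).trans (dvd_of_eq (by ring))⟩

omit [Finite S] in
theorem commute_u_refl {a b i j : ℤ} : Commute (d.u a b) (d.u i j * d.z) ↔ d.N ∣ a - b := by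
  rw [Commute, SemiconjBy, ← mul_inv_eq_iff_eq_mul, conj_refl, mul_left_inj, u_inj,
    add_sub_cancel_left, add_sub_cancel_left]
  exact ⟨fun h => h.1, fun h => ⟨h, (dvd_neg.2 h).trans (dvd_of_eq (neg_sub _ _))⟩⟩

theorem u_mem_center {i j : ℤ} (h : d.N ∣ i - j) : d.u i j ∈ center S := by
  rw [mem_center_iff]
  intro g
  rcases d.cover g with ⟨a, b, rfl⟩ | ⟨a, b, rfl⟩
  · rw [u_mul, u_mul, add_comm a, add_comm b]
  · exact ((d.commute_u_refl).2 h).eq.symm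

theorem center_eq : center S = zpowers (d.u 1 1) := by
  refine le_antisymm (fun g hg => ?_) (zpowers_le.2 (d.u_mem_center (by simp)))
  have hU : ∀ i j, g = d.u i j → g ∈ zpowers (d.u 1 1) := by
    rintro i j rfl
    have h := (d.commute_u_refl (i := 0) (j := 0)).1 (mem_center_iff.1 hg _).symm
    refine ⟨i, ?_⟩
    show d.u 1 1 ^ i = d.u i j
    rw [u_zpow, u_inj, one_mul, sub_self]
    exact ⟨dvd_zero _, h⟩
  rcases d.cover g with ⟨i, j, h⟩ | ⟨i, j, rfl⟩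
  · exact hU i j h
  · refine absurd ((d.commute_u_refl (a := 1) (b := 0)).1 (mem_center_iff.1 hg _)) ?_
    rw [sub_zero]
    intro h
    have := Int.le_of_dvd one_pos h
    have := d.N_eq
    have := d.half_pos
    omega

theorem commute_z_refl {i j : ℤ} {g : S} (h : Commute g (d.u i j * d.z)) :
    (∃ a b, d.N ∣ a - b ∧ g = d.u a b) ∨ ∃ a b, d.N ∣ a - b ∧ g = d.u a b * (d.u i j * d.z) := by
  rcases d.cover g with ⟨a, b, rfl⟩ | ⟨a, b, rfl⟩
  · exact Or.inl ⟨a, b, d.commute_u_refl.1 h, rfl⟩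
  · have e : d.u a b * d.z = d.u (a - i) (b - j) * (d.u i j * d.z) := by
      rw [← mul_assoc, u_mul, sub_add_cancel, sub_add_cancel]
    refine Or.inr ⟨a - i, b - j, (d.commute_u_refl (i := i) (j := j)).1 ?_, e⟩
    have := h.mul_left ((Commute.refl (d.u i j * d.z)).inv_left)
    rwa [e, mul_inv_cancel_right] at this

theorem invol_cases {g : S} (hg : orderOf g = 2) :
    g = d.u d.half d.half ∨ g = d.u d.half 0 ∨ g = d.u 0 d.half ∨
      ∃ i j, d.N ∣ i + j ∧ g = d.u i j * d.z := by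
  have h1 := invol_mul_self hg
  rcases d.cover g with ⟨i, j, rfl⟩ | ⟨i, j, rfl⟩
  · rw [u_mul, u_eq_one, N_eq, ← two_mul, ← two_mul] at h1
    obtain ⟨⟨a, ha⟩, b, hb⟩ := And.intro ((Int.mul_dvd_mul_iff_left two_ne_zero).1 h1.1)
      ((Int.mul_dvd_mul_iff_left two_ne_zero).1 h1.2)
    subst ha hb
    have hne := invol_ne_one hg
    rcases Int.even_or_odd' a with ⟨k, rfl | rfl⟩ <;> rcases Int.even_or_odd' b with ⟨l, rfl | rfl⟩
    · exact absurd (d.u_eq_one.2 ⟨⟨k, by rw [N_eq]; ring⟩, ⟨l, by rw [N_eq]; ring⟩⟩) hne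
    · exact Or.inr (Or.inr (Or.inl (d.u_inj.2 ⟨⟨k, by rw [N_eq]; ring⟩, ⟨l, by rw [N_eq]; ring⟩⟩)))
    · exact Or.inr (Or.inl (d.u_inj.2 ⟨⟨k, by rw [N_eq]; ring⟩, ⟨l, by rw [N_eq]; ring⟩⟩))
    · exact Or.inl (d.u_inj.2 ⟨⟨k, by rw [N_eq]; ring⟩, ⟨l, by rw [N_eq]; ring⟩⟩)
  · rw [sq_refl, u_eq_one] at h1
    exact Or.inr (Or.inr (Or.inr ⟨i, j, h1.1, rfl⟩))

omit [Finite S] in
theorem orderOf_u_half : orderOf (d.u d.half d.half) = 2 ∧ orderOf (d.u d.half 0) = 2 ∧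
    orderOf (d.u 0 d.half) = 2 := by
  have h : d.N ∣ d.half + d.half := dvd_of_eq (by rw [N_eq]; ring)
  refine ⟨?_, ?_, ?_⟩ <;> rw [invol_iff, u_mul, u_eq_one]
  · exact ⟨⟨h, h⟩, fun h' => d.not_N_dvd_half (d.u_eq_one.1 h').1⟩
  · exact ⟨⟨h, by simp⟩, fun h' => d.not_N_dvd_half (d.u_eq_one.1 h').1⟩
  · exact ⟨⟨by simp, h⟩, fun h' => d.not_N_dvd_half (d.u_eq_one.1 h').2⟩

theorem orderOf_refl {i j : ℤ} (h : d.N ∣ i + j) : orderOf (d.u i j * d.z) = 2 :=
  invol_iff.2 ⟨by rw [sq_refl, u_eq_one]; exact ⟨h, h⟩,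
    fun h' => d.refl_not_mem i j (h' ▸ one_mem _)⟩

omit [Finite S] in
theorem n_eq {m : ℕ} (hm : Nat.card S = 2 ^ (2 * m + 1)) : d.n = m := by
  have := Nat.pow_right_injective le_rfl (d.card_eq.symm.trans hm)
  omega

theorem eq_U {V : Subgroup S} (hV : IsMulCommutative V) (hc : Nat.card V = 2 ^ (2 * d.n)) :
    V = d.U := by
  refine eq_of_le_of_card_ge (fun g hg => ?_) (by rw [hc, d.card_U])
  by_contra hgU
  rcases d.cover g with ⟨i, j, rfl⟩ | ⟨i, j, rfl⟩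
  · exact hgU (d.u_mem i j)
  classical
  have : Fintype V := Fintype.ofFinite V
  -- `V` is contained in `center * ⟨g⟩`
  let f : zpowers (d.u 1 1) × Bool → S := fun p =>
    (p.1 : S) * if p.2 then d.u i j * d.z else 1
  have hsub : (V : Set S) ⊆ Set.range f := by
    intro v hv
    have hcomm : Commute v (d.u i j * d.z) :=
      congrArg Subtype.val (hV.is_comm.comm ⟨v, hv⟩ ⟨_, hg⟩)
    rcases d.commute_z_refl hcomm with ⟨a, b, hab, rfl⟩ | ⟨a, b, hab, rfl⟩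
    all_goals
      have hm : d.u a b ∈ zpowers (d.u 1 1) := d.center_eq ▸ d.u_mem_center hab
    · exact ⟨(⟨_, hm⟩, false), by simp [f]⟩
    · exact ⟨(⟨_, hm⟩, true), by simp [f]⟩
  have h1 : Nat.card V ≤ Nat.card (zpowers (d.u 1 1)) * 2 := by
    calc Nat.card V = (V : Set S).ncard := Nat.card_coe_set_eq _
      _ ≤ (Set.range f).ncard := Set.ncard_le_ncard hsub
      _ = Nat.card (Set.range f) := (Nat.card_coe_set_eq _).symm
      _ ≤ Nat.card (zpowers (d.u 1 1) × Bool) := Finite.card_range_le f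
      _ = _ := by rw [Nat.card_prod, Nat.card_eq_fintype_card (α := Bool), Fintype.card_bool]
  have h2 : Nat.card (zpowers (d.u 1 1)) ≤ 2 ^ d.n := by
    rw [Nat.card_zpowers]
    refine orderOf_le_of_pow_eq_one (pow_pos two_pos _) ?_
    rw [← zpow_natCast, u_zpow, u_eq_one]
    simp [N]
  have h3 : 2 ^ d.n * 2 < 2 ^ (2 * d.n) := by
    rw [← pow_succ]
    exact Nat.pow_lt_pow_right one_lt_two (by have := d.two_le; omega)
  rw [hc] at h1
  have h4 : 2 ^ (2 * d.n) ≤ 2 ^ d.n * 2 := h1.trans (Nat.mul_le_mul_right 2 h2)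
  omega

end WR

end CfsgLib.Involutions
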