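import Cfsg.Agent.Lib.Involutions.WreathedSub
import Cfsg.Agent.Lib.Involutions.IsolatedCentre

/-!
# The subgroups `Q Z(S)` of a wreathed group

`VV k` is generated by the centre, `u half 0` and the involution `r k = u k (-k) * z`.
-/

set_option autoImplicit false

namespace CfsgLib.Involutions.WR

open Subgroup

variable {S : Type*} [Group S] (d : WR S)

/-- A quarter of the exponent of the base group. -/
def quarter : ℤ := 2 ^ (d.n - 2)

theorem half_eq : d.half = 2 * d.quarter := by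
  have := d.two_le
  rw [half, quarter, ← pow_succ']
  congr 1
  omega

/-- The involution outside the base group of shape `u k (-k) * z`. -/
def r (k : ℤ) : S := d.u k (-k) * d.z

theorem r_mul_u (k s t : ℤ) : d.r k * d.u s t = d.u t s * d.r k := by
  rw [r, mul_assoc, z_mul_u, ← mul_assoc, ← mul_assoc, u_mul, u_mul, add_comm k, add_comm (-k)]

theorem r_conj (k p q : ℤ) :
    d.u p q * d.r k * (d.u p q)⁻¹ = d.u (p - q) (q - p) * d.r k := by
  rw [u_inv, mul_assoc, r_mul_u, ← mul_assoc, u_mul]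
  congr 2 <;> ring

variable [Finite S]

theorem r_mul_r (k : ℤ) : d.r k * d.r k = 1 := by
  rw [r, sq_refl, u_eq_one, add_neg_cancel]
  exact ⟨dvd_zero _, dvd_zero _⟩

theorem r_not_mem (k : ℤ) : d.r k ∉ d.U := d.refl_not_mem k (-k)

theorem orderOf_r (k : ℤ) : orderOf (d.r k) = 2 := d.orderOf_refl (by simp)

/-- The subgroup `⟨c, u half 0, r k⟩`. -/
def VV (k : ℤ) : Subgroup S where
  carrier := {g | (∃ p q, d.half ∣ p - q ∧ g = d.u p q) ∨
    ∃ p q, d.half ∣ p - q ∧ g = d.u p q * d.r k}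
  mul_mem' := by
    rintro _ _ (⟨p, q, h, rfl⟩ | ⟨p, q, h, rfl⟩) (⟨s, t, h', rfl⟩ | ⟨s, t, h', rfl⟩)
    · exact Or.inl ⟨_, _, (dvd_add h h').trans (dvd_of_eq (by ring)), d.u_mul p q s t⟩
    · exact Or.inr ⟨p + s, q + t, (dvd_add h h').trans (dvd_of_eq (by ring)),
        by rw [← mul_assoc, u_mul]⟩
    · exact Or.inr ⟨p + t, q + s, (dvd_sub h h').trans (dvd_of_eq (by ring)),
        by rw [mul_assoc, r_mul_u, ← mul_assoc, u_mul]⟩
    · exact Or.inl ⟨p + t, q + s, (dvd_sub h h').trans (dvd_of_eq (by ring)),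
        by rw [mul_assoc, ← mul_assoc (d.r k), r_mul_u, mul_assoc (d.u t s), r_mul_r, mul_one, u_mul]⟩
  one_mem' := Or.inl ⟨0, 0, by simp, d.u_zero.symm⟩
  inv_mem' := by
    rintro _ (⟨p, q, h, rfl⟩ | ⟨p, q, h, rfl⟩)
    · exact Or.inl ⟨_, _, (dvd_neg.2 h).trans (dvd_of_eq (by ring)), d.u_inv p q⟩
    · refine Or.inr ⟨-q, -p, h.trans (dvd_of_eq (by ring)), ?_⟩
      rw [mul_inv_rev, u_inv, inv_eq_of_mul_eq_one_left (d.r_mul_r k), r_mul_u]

theorem u_mem_VV {k p q : ℤ} : d.u p q ∈ d.VV k ↔ d.half ∣ p - q := by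
  refine ⟨?_, fun h => Or.inl ⟨p, q, h, rfl⟩⟩
  rintro (⟨s, t, h, e⟩ | ⟨s, t, h, e⟩)
  · rw [u_inj] at e
    have hN : d.half ∣ d.N := ⟨2, by rw [N_eq]; ring⟩
    have := dvd_add (dvd_sub (hN.trans e.1) (hN.trans e.2)) h
    exact this.trans (dvd_of_eq (by ring))
  · refine absurd ((mul_mem_cancel_left (d.u_mem s t)).1 ?_) (d.r_not_mem k)
    exact e ▸ d.u_mem p q

theorem mem_VV_of_r {k p q : ℤ} : d.u p q * d.r k ∈ d.VV k ↔ d.half ∣ p - q := by
  rw [mul_mem_cancel_right (show d.r k ∈ d.VV k from Or.inr ⟨0, 0, by simp, by rw [u_zero, one_mul]⟩),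
    u_mem_VV]

theorem r_mem_VV (k : ℤ) : d.r k ∈ d.VV k := by
  rw [← one_mul (d.r k), ← u_zero d, mem_VV_of_r]
  simp

omit [Finite S] in
theorem u_eq_mul_a (p q m : ℤ) (h : p - q = d.half * m) :
    d.u p q = d.u 1 1 ^ q * d.u d.half 0 ^ m := by
  rw [u_zpow, u_zpow, u_mul]
  congr 1
  · rw [one_mul, ← h, add_sub_cancel]
  · ring

/-- `VV k` is the closure of its generators. -/
theorem VV_eq_closure (k : ℤ) : d.VV k = closure {d.u 1 1, d.u d.half 0, d.r k} := by
  refine le_antisymm ?_ ((closure_le _).2 ?_)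
  · have hc : d.u 1 1 ∈ closure {d.u 1 1, d.u d.half 0, d.r k} := subset_closure (by simp)
    have ha : d.u d.half 0 ∈ closure {d.u 1 1, d.u d.half 0, d.r k} := subset_closure (by simp)
    rintro _ (⟨p, q, ⟨m, hm⟩, rfl⟩ | ⟨p, q, ⟨m, hm⟩, rfl⟩)
    · rw [d.u_eq_mul_a p q m hm]
      exact mul_mem (zpow_mem hc _) (zpow_mem ha _)
    · rw [d.u_eq_mul_a p q m hm]
      exact mul_mem (mul_mem (zpow_mem hc _) (zpow_mem ha _)) (subset_closure (by simp))
  · rintro g (rfl | rfl | rfl)
    · exact d.u_mem_VV.2 (by simp)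
    · exact d.u_mem_VV.2 (by simp)
    · exact d.r_mem_VV k

theorem u_central_iff {p q : ℤ} : d.u p q ∈ center S ↔ d.N ∣ p - q :=
  ⟨fun h => (d.commute_u_refl (i := 0) (j := 0)).1 (mem_center_iff.1 h _).symm, d.u_mem_center⟩

theorem not_central_a : d.u d.half 0 ∉ center S := by
  rw [u_central_iff, sub_zero]
  exact d.not_N_dvd_half

theorem not_commute_a_r (k : ℤ) : ¬ Commute (d.u d.half 0) (d.r k) := fun h =>
  d.not_N_dvd_half (by simpa using (d.commute_u_refl).1 h)

include d in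
/-- An element commuting with two non-commuting elements is central. -/
theorem mem_center_of_commute_pair {v s t : S} (hs : Commute v s) (ht : Commute v t)
    (hne : ¬ Commute s t) : v ∈ center S := by
  rcases d.cover v with ⟨p, q, rfl⟩ | ⟨i, j, rfl⟩
  · refine d.u_central_iff.2 ?_
    rcases d.cover s with ⟨a, b, rfl⟩ | ⟨a, b, rfl⟩
    · rcases d.cover t with ⟨a', b', rfl⟩ | ⟨a', b', rfl⟩
      · refine absurd ?_ hne
        rw [Commute, SemiconjBy, u_mul, u_mul, add_comm a, add_comm b]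
      · exact d.commute_u_refl.1 ht
    · exact d.commute_u_refl.1 hs
  · exfalso
    have key : ∀ g : S, Commute g (d.u i j * d.z) →
        g ∈ center S ∨ ∃ c ∈ center S, g = c * (d.u i j * d.z) := fun g hg => by
      rcases d.commute_z_refl hg with ⟨a, b, h, rfl⟩ | ⟨a, b, h, rfl⟩
      · exact Or.inl (d.u_mem_center h)
      · exact Or.inr ⟨_, d.u_mem_center h, rfl⟩
    apply hne
    rcases key s hs.symm with h | ⟨c, hc, rfl⟩
    · exact (mem_center_iff.1 h t).symm
    rcases key t ht.symm with h | ⟨c', hc', rfl⟩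
    · exact mem_center_iff.1 h _
    · refine Commute.mul_left ((mem_center_iff.1 hc _).symm) ?_
      exact Commute.mul_right (mem_center_iff.1 hc' _) (Commute.refl _)

theorem conj_refl_u {i j p q : ℤ} :
    d.u i j * d.z * d.u p q * (d.u i j * d.z)⁻¹ = d.u q p := by
  rw [mul_assoc _ d.z, z_mul_u, ← mul_assoc, u_mul, add_comm i, add_comm j, ← u_mul,
    mul_assoc (d.u q p), mul_inv_cancel_right]

/-- A quaternion subgroup of order eight generates with the centre some `VV k`. -/
theorem exists_quat_sup_center {Q : Subgroup S} (e : Q ≃* QuaternionGroup 2) :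
    ∃ k : ℤ, Q ⊔ center S = d.VV k := by
  have q8a : ∀ a b : QuaternionGroup 2, a * b ≠ b * a →
      a * a = b * b ∧ a * a * (a * a) = 1 ∧ a * a ≠ 1 ∧ b * a * b⁻¹ = a⁻¹ := by decide
  have q8b : ∀ a b g : QuaternionGroup 2, a * b ≠ b * a →
      g = 1 ∨ g = a * a ∨ g = a ∨ g = a⁻¹ ∨ g = b ∨ g = b⁻¹ ∨ g = a * b ∨ g = b * a := by decide
  obtain ⟨a, b, hab⟩ : ∃ a b : Q, a * b ≠ b * a := by
    refine ⟨e.symm (.a 1), e.symm (.xa 0), fun h => ?_⟩
    rw [← map_mul, ← map_mul] at h
    exact absurd (e.symm.injective h) (by decide)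
  wlog haU : (a : S) ∈ d.U generalizing a b
  · by_cases hbU : (b : S) ∈ d.U
    · exact this b a (Ne.symm hab) hbU
    · refine this (a * b) b (fun h => hab (mul_right_cancel (h.trans (mul_assoc _ _ _).symm))) ?_
      rw [Subgroup.coe_mul]
      exact (mul_mem_iff_of_index_two d.index_U).2 (iff_of_false haU hbU)
  have h8 := q8a (e a) (e b) (fun h => hab (e.injective (by rw [map_mul, map_mul, h])))
  have hsq : (a : S) * a = (b : S) * b :=
    congrArg Subtype.val (e.injective (by rw [map_mul, map_mul, h8.1]) : a * a = b * b)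
  have h41 : (a : S) * a * ((a : S) * a) = 1 := congrArg Subtype.val
    (e.injective (by rw [map_one, map_mul, map_mul, h8.2.1]) : a * a * (a * a) = (1 : Q))
  have hne : (a : S) * a ≠ 1 := fun h => h8.2.2.1 (by
    rw [← map_mul, show a * a = (1 : Q) from Subtype.ext h, map_one])
  have hconj : (b : S) * a * (b : S)⁻¹ = (a : S)⁻¹ := congrArg Subtype.val
    (e.injective (by rw [map_mul, map_mul, map_inv, map_inv, h8.2.2.2]) : b * a * b⁻¹ = a⁻¹)
  have hcen : (a : S) * a ∈ center S := by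
    refine d.mem_center_of_commute_pair (s := (a : S)) (t := (b : S))
      ((Commute.refl (a : S)).mul_left (Commute.refl (a : S))) ?_ fun h => hab (Subtype.ext h)
    rw [hsq]
    exact (Commute.refl (b : S)).mul_left (Commute.refl (b : S))
  have hz0 := d.eq_u_half_of_central (invol_iff.2 ⟨h41, hne⟩) hcen
  obtain ⟨p, q, hp⟩ := haU
  obtain ⟨i, j, hb⟩ : ∃ i j, (b : S) = d.u i j * d.z := by
    rcases d.cover (b : S) with ⟨i, j, h⟩ | h
    · refine absurd (Subtype.ext ?_) hab
      rw [Subgroup.coe_mul, Subgroup.coe_mul, hp, h, u_mul, u_mul, add_comm p, add_comm q]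
    · exact h
  have h1 : d.N ∣ q - -p ∧ d.N ∣ p - -q := by
    rw [hb, hp, conj_refl_u] at hconj
    rw [u_inv, u_inj] at hconj
    exact hconj
  have h2 : d.N ∣ p + p - d.half ∧ d.N ∣ q + q - d.half := by
    rw [hp, u_mul, u_inj] at hz0; exact hz0
  have h3 : d.N ∣ i + j - d.half := by
    rw [hsq, hb, sq_refl, u_inj] at hz0; exact hz0.1
  refine ⟨i + d.quarter, ?_⟩
  have hhN : d.half ∣ d.N := ⟨2, by rw [N_eq]; ring⟩
  have hbV : (b : S) ∈ d.VV (i + d.quarter) := by
    have : d.u i j * d.z = d.u (-d.quarter) (j + i + d.quarter) * d.r (i + d.quarter) := by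
      rw [r, ← mul_assoc, u_mul]
      congr 2 <;> ring
    rw [hb, this, mem_VV_of_r]
    obtain ⟨m, hm⟩ := hhN.trans h3
    exact ⟨-m - 2, by linear_combination -hm + (1 : ℤ) * d.half_eq⟩
  have haV : (a : S) ∈ d.VV (i + d.quarter) := by
    rw [hp, u_mem_VV]
    have := dvd_sub (hhN.trans h2.1) (hhN.trans h1.2)
    exact (dvd_add this (dvd_refl _)).trans (dvd_of_eq (by ring))
  refine le_antisymm (sup_le (fun g hg => ?_) ?_) ?_
  · rcases q8b (e a) (e b) (e ⟨g, hg⟩) (fun h => hab (e.injective (by rw [map_mul, map_mul, h])))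
      with h | h | h | h | h | h | h | h <;>
    · simp only [← map_mul, ← map_inv, ← map_one e, e.injective.eq_iff, Subtype.ext_iff] at h
      rw [h]
      first
      | exact one_mem _
      | exact mul_mem haV haV
      | exact haV
      | exact inv_mem haV
      | exact hbV
      | exact inv_mem hbV
      | exact mul_mem haV hbV
      | exact mul_mem hbV haV
  · rw [center_eq d, zpowers_le]
    exact d.u_mem_VV.2 (by simp)
  · rw [VV_eq_closure, closure_le]
    have haQ : (a : S) ∈ Q ⊔ center S := mem_sup_left a.2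
    have hbQ : (b : S) ∈ Q ⊔ center S := mem_sup_left b.2
    have hcQ : ∀ p q : ℤ, d.N ∣ p - q → d.u p q ∈ Q ⊔ center S :=
      fun p q h => mem_sup_right (d.u_mem_center h)
    rintro g (rfl | rfl | rfl)
    · exact hcQ 1 1 (by simp)
    · have := mul_mem haQ (hcQ (-q) (-q) (by simp))
      rw [hp, u_mul, add_neg_cancel] at this
      rwa [show d.u (p + -q) 0 = d.u d.half 0 from d.u_inj.2
        ⟨((dvd_sub h2.1 h1.2).trans (dvd_of_eq (by ring))), by simp⟩] at this
    · have := mul_mem (hcQ d.quarter d.quarter (by simp)) hbQ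
      rw [hb, ← mul_assoc, u_mul] at this
      rwa [show d.u (d.quarter + i) (d.quarter + j) = d.u (i + d.quarter) (-(i + d.quarter)) from
        d.u_inj.2 ⟨⟨0, by ring⟩, ((dvd_add h3 (show d.N ∣ d.half + d.half from
          dvd_of_eq (by rw [N_eq]; ring)))).trans (dvd_of_eq (by rw [half_eq]; ring))⟩] at this

end CfsgLib.Involutions.WR
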