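import Cfsg.Agent.Lib.Involutions.QuasiDihedralLocal
import Cfsg.Agent.Lib.Involutions.WreathedV
import Cfsg.Agent.Lib.Involutions.IsolatedCentre

/-!
# Local analysis in a wreathed 2-subgroup

`UG` is the abelian subgroup of index 2 and `VG k` are the subgroups `Q Z(P)`.
-/

set_option autoImplicit false

namespace CfsgLib.Involutions.WR

open Subgroup

universe u

/-- Transport of the generators along an isomorphism. -/
def map {S T : Type*} [Group S] [Group T] (d : WR S) (e : S ≃* T) : WR T where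
  n := d.n
  x := e d.x
  y := e d.y
  z := e d.z
  two_le := d.two_le
  card_eq := (Nat.card_congr e.toEquiv).symm.trans d.card_eq
  orderOf_x := (MulEquiv.orderOf_eq e d.x).trans d.orderOf_x
  comm := d.comm.map e.toMonoidHom
  disj := by
    have h := congrArg (Subgroup.map e.toMonoidHom) d.disj
    rw [Subgroup.map_bot, Subgroup.map_inf _ _ _ e.injective, MonoidHom.map_zpowers,
      MonoidHom.map_zpowers] at h
    exact h
  orderOf_z := (MulEquiv.orderOf_eq e d.z).trans d.orderOf_z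
  conj_x := by rw [← map_mul, ← map_inv, ← map_mul, d.conj_x]

variable {G : Type u} [Group G] [Finite G] {P : Subgroup G} (d : WR P)

/-- The elements of the base group, in `G`. -/
def uG (i j : ℤ) : G := ((d.u i j : P) : G)

/-- The involutions outside the base group, in `G`. -/
def rG (k : ℤ) : G := ((d.r k : P) : G)

/-- The abelian subgroup of index two, in `G`. -/
def UG : Subgroup G := d.U.map P.subtype

/-- The subgroups `Q Z(P)`, in `G`. -/
def VG (k : ℤ) : Subgroup G := (d.VV k).map P.subtype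

/-- The centre, in `G`. -/
def ZG (_d : WR P) : Subgroup G := (center P).map P.subtype

omit [Finite G] in
theorem uG_mul (i j a b : ℤ) : d.uG i j * d.uG a b = d.uG (i + a) (j + b) :=
  congrArg Subtype.val (d.u_mul i j a b)

omit [Finite G] in
theorem uG_comm (i j a b : ℤ) : Commute (d.uG i j) (d.uG a b) := by
  rw [Commute, SemiconjBy, uG_mul, uG_mul, add_comm i, add_comm j]

omit [Finite G] in
theorem uG_inj {i j a b : ℤ} : d.uG i j = d.uG a b ↔ d.N ∣ i - a ∧ d.N ∣ j - b := by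
  rw [uG, uG, SetLike.coe_eq_coe, u_inj]

omit [Finite G] in
theorem uG_mem_UG (i j : ℤ) : d.uG i j ∈ d.UG := mem_map_of_mem _ (d.u_mem i j)

omit [Finite G] in
theorem UG_le : d.UG ≤ P := map_subtype_le _

theorem VG_le (k : ℤ) : d.VG k ≤ P := map_subtype_le _

omit [Finite G] in
theorem ZG_le : d.ZG ≤ P := map_subtype_le _

omit [Finite G] in
theorem mem_UG {g : G} : g ∈ d.UG ↔ ∃ i j, g = d.uG i j := by
  constructor
  · rintro ⟨a, ⟨i, j, rfl⟩, rfl⟩; exact ⟨i, j, rfl⟩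
  · rintro ⟨i, j, rfl⟩; exact d.uG_mem_UG i j

include d in
theorem isPGroup : IsPGroup 2 P := IsPGroup.of_card d.card_eq

theorem coe_eq_uG {a : P} {i j : ℤ} (h : (a : G) = d.uG i j) : a = d.u i j := Subtype.ext h

theorem uG_mem_ZG {i j : ℤ} : d.uG i j ∈ d.ZG ↔ d.N ∣ i - j := by
  rw [← d.u_central_iff]
  refine ⟨?_, fun h => ⟨_, h, rfl⟩⟩
  rintro ⟨c, hc, e⟩
  rwa [← d.coe_eq_uG e]

theorem orderOf_z0G : orderOf (d.uG d.half d.half) = 2 := by
  rw [uG, Subgroup.orderOf_coe, d.orderOf_u_half.1]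

theorem orderOf_aG : orderOf (d.uG d.half 0) = 2 := by
  rw [uG, Subgroup.orderOf_coe, d.orderOf_u_half.2.1]

theorem orderOf_bG : orderOf (d.uG 0 d.half) = 2 := by
  rw [uG, Subgroup.orderOf_coe, d.orderOf_u_half.2.2]

theorem orderOf_rG (k : ℤ) : orderOf (d.rG k) = 2 := by
  rw [rG, Subgroup.orderOf_coe, d.orderOf_r]

theorem z0_mem_ZG : d.uG d.half d.half ∈ d.ZG := d.uG_mem_ZG.2 (by simp)

theorem isCyclic_ZG : IsCyclic d.ZG := by
  haveI : IsCyclic (center P) := by rw [d.center_eq]; infer_instance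
  exact isCyclic_of_surjective ((center P).equivMapOfInjective P.subtype P.subtype_injective).toMonoidHom
    ((center P).equivMapOfInjective P.subtype P.subtype_injective).surjective

theorem isPGroup_ZG : IsPGroup 2 d.ZG := d.isPGroup.to_le d.ZG_le

theorem eq_z0_of_mem_ZG {w : G} (hw : w ∈ d.ZG) (h2 : orderOf w = 2) :
    w = d.uG d.half d.half := by
  obtain ⟨c, hc, rfl⟩ := hw
  exact congrArg Subtype.val (d.eq_u_half_of_central
    (by rw [← Subgroup.orderOf_coe]; exact h2) hc)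

omit [Finite G] in
theorem commute_ZG {w : G} (hw : w ∈ d.ZG) {g : G} (hg : g ∈ P) : Commute w g := by
  obtain ⟨c, hc, rfl⟩ := hw
  exact congrArg Subtype.val (mem_center_iff.1 hc ⟨g, hg⟩).symm

theorem invol_UG_cases {g : G} (hg : g ∈ d.UG) (h2 : orderOf g = 2) :
    g = d.uG d.half d.half ∨ g = d.uG d.half 0 ∨ g = d.uG 0 d.half := by
  obtain ⟨a, ha, rfl⟩ := hg
  rcases d.invol_cases (g := a) (by rw [← Subgroup.orderOf_coe]; exact h2) with
    rfl | rfl | rfl | ⟨i, j, -, rfl⟩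
  · exact Or.inl rfl
  · exact Or.inr (Or.inl rfl)
  · exact Or.inr (Or.inr rfl)
  · exact absurd ha (d.refl_not_mem i j)

theorem rG_mem_VG (k : ℤ) : d.rG k ∈ d.VG k := mem_map_of_mem _ (d.r_mem_VV k)

theorem uG_mem_VG {k p q : ℤ} : d.uG p q ∈ d.VG k ↔ d.half ∣ p - q := by
  rw [← d.u_mem_VV (k := k)]
  exact mem_map_iff_mem (K := d.VV k) (x := d.u p q) P.subtype_injective

theorem ZG_le_VG (k : ℤ) : d.ZG ≤ d.VG k := by
  refine map_mono ?_
  rw [d.center_eq, zpowers_le, u_mem_VV]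
  simp

theorem VG_eq_closure (k : ℤ) : d.VG k = closure {d.uG 1 1, d.uG d.half 0, d.rG k} := by
  rw [VG, VV_eq_closure, MonoidHom.map_closure, Set.image_insert_eq, Set.image_pair]
  rfl

/-- The element of `ZG` are those of `VG k` commuting with `a` and `r k`. -/
theorem mem_ZG_of_commute {k : ℤ} {w : G} (hw : w ∈ P) (h1 : Commute w (d.uG d.half 0))
    (h2 : Commute w (d.rG k)) : w ∈ d.ZG :=
  ⟨⟨w, hw⟩, d.mem_center_of_commute_pair (s := d.u d.half 0) (t := d.r k) (Subtype.ext h1)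
    (Subtype.ext h2) (d.not_commute_a_r k), rfl⟩

theorem conj_mem_ZG {k : ℤ} {n : G} (hn : n ∈ normalizer (d.VG k : Set G)) {w : G}
    (hw : w ∈ d.ZG) : n * w * n⁻¹ ∈ d.ZG := by
  have hwV := (mem_normalizer_iff.1 hn w).1 (d.ZG_le_VG k hw)
  have hcomm : ∀ v ∈ d.VG k, Commute (n * w * n⁻¹) v := fun v hv => by
    have hv' : n⁻¹ * v * n ∈ d.VG k := (mem_normalizer_iff''.1 hn v).1 hv
    have := (d.commute_ZG hw (d.VG_le k hv')).map (MulAut.conj n).toMonoidHom
    simpa [mul_assoc] using this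
  exact d.mem_ZG_of_commute (d.VG_le k hwV) (hcomm _ (d.uG_mem_VG.2 (by simp)))
    (hcomm _ (d.rG_mem_VG k))

/-- The elements of `VG k` modulo the centre. -/
theorem VG_mem_cases {k : ℤ} {g : G} (hg : g ∈ d.VG k) :
    g ∈ d.ZG ∨ g * (d.uG d.half 0)⁻¹ ∈ d.ZG ∨ g * (d.rG k)⁻¹ ∈ d.ZG ∨
      g * (d.uG d.half 0 * d.rG k)⁻¹ ∈ d.ZG := by
  obtain ⟨a, ha, rfl⟩ := hg
  have hcase : ∀ p q : ℤ, d.half ∣ p - q → d.uG p q ∈ d.ZG ∨
      d.uG p q * (d.uG d.half 0)⁻¹ ∈ d.ZG := by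
    rintro p q ⟨m, hm⟩
    rcases Int.even_or_odd' m with ⟨l, rfl | rfl⟩
    · exact Or.inl (d.uG_mem_ZG.2 ⟨l, by rw [hm, N_eq]; ring⟩)
    · refine Or.inr ?_
      rw [show d.uG p q * (d.uG d.half 0)⁻¹ = d.uG (p - d.half) q by
        rw [mul_inv_eq_iff_eq_mul, uG_mul, sub_add_cancel, add_zero]]
      exact d.uG_mem_ZG.2 ⟨l, by rw [show p - d.half - q = p - q - d.half by ring, hm, N_eq]; ring⟩
  rcases ha with ⟨p, q, h, rfl⟩ | ⟨p, q, h, rfl⟩
  · rcases hcase p q h with h' | h'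
    · exact Or.inl h'
    · exact Or.inr (Or.inl h')
  · rcases hcase p q h with h' | h'
    · refine Or.inr (Or.inr (Or.inl ?_))
      show d.uG p q * d.rG k * (d.rG k)⁻¹ ∈ d.ZG
      rwa [mul_inv_cancel_right]
    · refine Or.inr (Or.inr (Or.inr ?_))
      show d.uG p q * d.rG k * (d.uG d.half 0 * d.rG k)⁻¹ ∈ d.ZG
      rwa [mul_inv_rev, ← mul_assoc, mul_inv_cancel_right]

theorem aG_not_mem_ZG : d.uG d.half 0 ∉ d.ZG := fun h =>
  d.not_N_dvd_half (by simpa using d.uG_mem_ZG.1 h)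

theorem rG_not_mem_ZG (k : ℤ) : d.rG k ∉ d.ZG := fun h =>
  d.not_commute_a_r k (Subtype.ext (d.commute_ZG h (SetLike.coe_mem (d.u d.half 0))).eq.symm)

theorem aG_mul_rG_not_mem_ZG (k : ℤ) : d.uG d.half 0 * d.rG k ∉ d.ZG := fun h => by
  have h1 : Commute (d.uG d.half 0 * d.rG k) (d.uG d.half 0) :=
    d.commute_ZG h (SetLike.coe_mem (d.u d.half 0))
  have h2 : Commute (d.uG d.half 0) (d.rG k) := by
    have := ((Commute.refl (d.uG d.half 0)).inv_left).mul_left h1
    rw [inv_mul_cancel_left] at this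
    exact this.symm
  exact d.not_commute_a_r k (Subtype.ext h2.eq)

theorem aG_r_comm (k : ℤ) : d.uG d.half 0 * d.rG k * (d.uG d.half 0)⁻¹ * (d.rG k)⁻¹
    = d.uG d.half d.half := by
  have h : d.u d.half 0 * d.r k * (d.u d.half 0)⁻¹ * (d.r k)⁻¹ = d.u d.half d.half := by
    rw [r_conj, mul_inv_cancel_right, u_inj]
    exact ⟨⟨0, by ring⟩, ⟨-1, by rw [N_eq]; ring⟩⟩
  exact congrArg Subtype.val h

/-- The four-section of `VG k`. -/
theorem tri_VG (k : ℤ) :
    Tri (normalizer (d.VG k : Set G)) d.ZG (d.uG d.half 0) (d.rG k) := by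
  have haV : d.uG d.half 0 ∈ d.VG k := d.uG_mem_VG.2 (by simp)
  have hrV := d.rG_mem_VG k
  have hinv : ∀ n ∈ normalizer (d.VG k : Set G), ∀ v ∈ d.VG k, v ∉ d.ZG →
      (n * v * n⁻¹ * (d.uG d.half 0)⁻¹ ∈ d.ZG ∨ n * v * n⁻¹ * (d.rG k)⁻¹ ∈ d.ZG ∨
        n * v * n⁻¹ * (d.uG d.half 0 * d.rG k)⁻¹ ∈ d.ZG) := by
    intro n hn v hv hvZ
    rcases d.VG_mem_cases ((mem_normalizer_iff.1 hn v).1 hv) with h | h
    · refine absurd ?_ hvZ
      have := d.conj_mem_ZG (inv_mem hn) h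
      simpa [mul_assoc] using this
    · exact h
  refine ⟨(d.ZG_le_VG k).trans le_normalizer, fun n hn w hw => d.conj_mem_ZG hn hw,
    le_normalizer haV, le_normalizer hrV, ?_, ?_, ?_, d.aG_not_mem_ZG, d.rG_not_mem_ZG k,
    d.aG_mul_rG_not_mem_ZG k, fun n hn => hinv n hn _ haV d.aG_not_mem_ZG,
    fun n hn => hinv n hn _ hrV (d.rG_not_mem_ZG k)⟩
  · rw [invol_mul_self d.orderOf_aG]; exact one_mem _
  · rw [invol_mul_self (d.orderOf_rG k)]; exact one_mem _
  · rw [aG_r_comm]; exact d.z0_mem_ZG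

/-- All subgroups `Q Z(P)` are conjugate in `P`. -/
theorem exists_conj_VG (k l : ℤ) :
    ∃ s : P, (d.VG k).map (MulAut.conj (s : G)).toMonoidHom = d.VG l := by
  obtain ⟨s, hs⟩ : ∃ s : P, s * d.r k * s⁻¹ = d.r l ∧ s ∈ d.U := by
    refine ⟨d.u (l - k) 0, ?_, d.u_mem _ _⟩
    rw [r_conj, r, r, ← mul_assoc, u_mul]
    congr 2 <;> ring
  refine ⟨s, ?_⟩
  obtain ⟨p, q, rfl⟩ := hs.2
  rw [VG_eq_closure, VG_eq_closure, MonoidHom.map_closure, Set.image_insert_eq, Set.image_pair]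
  have hc : ∀ i j : ℤ, MulAut.conj (d.uG p q) (d.uG i j) = d.uG i j := fun i j => by
    rw [MulAut.conj_apply, (d.uG_comm p q i j).eq, mul_inv_cancel_right]
  refine congrArg Subgroup.closure ?_
  show ({MulAut.conj (d.uG p q) (d.uG 1 1), MulAut.conj (d.uG p q) (d.uG d.half 0),
    MulAut.conj (d.uG p q) (d.rG k)} : Set G) = _
  rw [hc, hc, show MulAut.conj (d.uG p q) (d.rG k) = d.rG l from congrArg Subtype.val hs.1]

theorem eq_UG {U : Subgroup G} (hUP : U ≤ P) (hab : IsMulCommutative U)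
    (hc : Nat.card U = 2 ^ (2 * d.n)) : U = d.UG := by
  rw [UG, ← d.eq_U (V := U.subgroupOf P)
    ⟨⟨fun a b => by
      apply Subtype.ext; apply Subtype.ext
      show ((a : P) : G) * ((b : P) : G) = ((b : P) : G) * ((a : P) : G)
      exact congrArg Subtype.val (hab.is_comm.comm (⟨((a : P) : G), mem_subgroupOf.1 a.2⟩ : U)
        ⟨((b : P) : G), mem_subgroupOf.1 b.2⟩)⟩⟩
    ((Nat.card_congr (subgroupOfEquivOfLe hUP).toEquiv).trans hc), map_subgroupOf_eq_of_le hUP]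

theorem quat_sup_eq {Q : Subgroup G} (hQP : Q ≤ P) (e : Q ≃* QuaternionGroup 2) :
    ∃ k : ℤ, Q ⊔ d.ZG = d.VG k := by
  obtain ⟨k, hk⟩ := d.exists_quat_sup_center ((subgroupOfEquivOfLe hQP).trans e)
  exact ⟨k, by rw [VG, ← hk, Subgroup.map_sup, map_subgroupOf_eq_of_le hQP]; rfl⟩

/-- The four-section of the base group, the four-group of its involutions. -/
theorem tri_UG : Tri (normalizer (d.UG : Set G)) ⊥ (d.uG d.half 0) (d.uG 0 d.half) := by
  have ha := d.uG_mem_UG d.half 0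
  have hb := d.uG_mem_UG 0 d.half
  have hab : d.uG d.half 0 * d.uG 0 d.half = d.uG d.half d.half := by
    rw [uG_mul, add_zero, zero_add]
  have hinv : ∀ n ∈ normalizer (d.UG : Set G), ∀ v ∈ d.UG, orderOf v = 2 →
      (n * v * n⁻¹ * (d.uG d.half 0)⁻¹ ∈ (⊥ : Subgroup G) ∨
        n * v * n⁻¹ * (d.uG 0 d.half)⁻¹ ∈ (⊥ : Subgroup G) ∨
        n * v * n⁻¹ * (d.uG d.half 0 * d.uG 0 d.half)⁻¹ ∈ (⊥ : Subgroup G)) := by
    intro n hn v hv h2
    simp only [mem_bot, mul_inv_eq_one, hab]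
    rcases d.invol_UG_cases ((mem_normalizer_iff.1 hn v).1 hv) (conj_invol n h2) with h | h | h
    · exact Or.inr (Or.inr h)
    · exact Or.inl h
    · exact Or.inr (Or.inl h)
  refine ⟨bot_le, fun n _ w hw => by rw [mem_bot.1 hw, mul_one, mul_inv_cancel]; exact one_mem _,
    le_normalizer ha, le_normalizer hb, mem_bot.2 (invol_mul_self d.orderOf_aG),
    mem_bot.2 (invol_mul_self d.orderOf_bG), ?_, fun h => invol_ne_one d.orderOf_aG (mem_bot.1 h),
    fun h => invol_ne_one d.orderOf_bG (mem_bot.1 h), fun h => ?_,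
    fun n hn => hinv n hn _ ha d.orderOf_aG, fun n hn => hinv n hn _ hb d.orderOf_bG⟩
  · rw [mem_bot, (d.uG_comm d.half 0 0 d.half).eq, mul_inv_cancel_right, mul_inv_cancel]
  · rw [hab] at h
    exact invol_ne_one d.orderOf_z0G (mem_bot.1 h)

/-- An element of odd order normalizing an abelian subgroup of the base group that contains the
central involution `z0`, fixing it, centralises the subgroup. -/
theorem commute_abelian {A : Subgroup G} (hA : A ≤ d.UG) {y : G} (hy : Odd (orderOf y))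
    (hn : ∀ a ∈ A, y * a * y⁻¹ ∈ A) (hz : Commute y (d.uG d.half d.half)) :
    ∀ a ∈ A, Commute y a := by
  intro a ha
  obtain ⟨k, hk⟩ := d.isPGroup ⟨a, d.UG_le (hA ha)⟩
  have hcomm : ∀ a ∈ A, ∀ b ∈ A, Commute a b := fun a ha b hb => by
    obtain ⟨i, j, rfl⟩ := d.mem_UG.1 (hA ha)
    obtain ⟨p, q, rfl⟩ := d.mem_UG.1 (hA hb)
    exact d.uG_comm i j p q
  refine commute_of_fixes_involutions hy hcomm hn (fun b hb hb2 => ?_) k a ha
    (congrArg Subtype.val hk)
  by_cases hbz : b = d.uG d.half d.half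
  · rw [hbz]; exact hz
  have hne : y * b * y⁻¹ ≠ d.uG d.half d.half := fun h => hbz <| by
    calc b = y⁻¹ * (y * b * y⁻¹) * y := by group
      _ = _ := by rw [h, hz.inv_left.eq, inv_mul_cancel_right]
  have h1 := d.invol_UG_cases (hA hb) hb2
  have h2 := d.invol_UG_cases (hA (hn b hb)) (conj_invol y hb2)
  have hW : IsPGroup 2 (zpowers (d.uG d.half d.half)) :=
    IsPGroup.of_card (n := 1) (by rw [Nat.card_zpowers, d.orderOf_z0G, pow_one])
  have hfix : ∀ w ∈ zpowers (d.uG d.half d.half), Commute y w := by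
    rintro w ⟨i, rfl⟩
    exact hz.zpow_right i
  refine commute_of_stab hW hy hfix ?_
  have hN2 : d.N = d.half + d.half := by rw [N_eq]; ring
  rcases h1.resolve_left hbz with rfl | rfl <;> rcases h2.resolve_left hne with h | h <;> rw [h]
  · rw [mul_inv_cancel]; exact one_mem _
  · rw [show d.uG 0 d.half * (d.uG d.half 0)⁻¹ = d.uG d.half d.half by
      rw [mul_inv_eq_iff_eq_mul, uG_mul, uG_inj]
      exact ⟨⟨-1, by rw [hN2]; ring⟩, ⟨0, by ring⟩⟩]
    exact mem_zpowers _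
  · rw [show d.uG d.half 0 * (d.uG 0 d.half)⁻¹ = d.uG d.half d.half by
      rw [mul_inv_eq_iff_eq_mul, uG_mul, uG_inj]
      exact ⟨⟨0, by ring⟩, ⟨-1, by rw [hN2]; ring⟩⟩]
    exact mem_zpowers _
  · rw [mul_inv_cancel]; exact one_mem _

/-- The self-centralizing subgroups with an automorphism of odd order are the base group and
the subgroups `Q Z(P)`. -/
theorem centric_cases {D : Subgroup G} (hD : CentricIn D P) {y : G}
    (hy : y ∈ normalizer (D : Set G)) (hodd : Odd (orderOf y)) :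
    (∀ a ∈ D, Commute y a) ∨ D = d.UG ∨ ∃ k : ℤ, D = d.VG k := by
  obtain ⟨hDP, hcen⟩ := hD
  have hp : IsPGroup 2 D := d.isPGroup.to_le hDP
  have hconj : ∀ a ∈ D, y * a * y⁻¹ ∈ D := fun a ha => (mem_normalizer_iff.1 hy a).1 ha
  have hconj' : ∀ a ∈ D, y⁻¹ * a * y ∈ D := fun a ha => (mem_normalizer_iff''.1 hy a).1 ha
  have hZD : d.ZG ≤ D := fun w hw => hcen w (d.ZG_le hw)
    (mem_centralizer_iff.2 fun a ha => (d.commute_ZG hw (hDP ha)).eq.symm)
  by_cases hDU : D ≤ d.UG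
  · refine Or.inr (Or.inl (le_antisymm hDU fun g hg => hcen g (d.UG_le hg) ?_))
    refine mem_centralizer_iff.2 fun a ha => ?_
    obtain ⟨i, j, rfl⟩ := d.mem_UG.1 (hDU ha)
    obtain ⟨p, q, rfl⟩ := d.mem_UG.1 hg
    exact (d.uG_comm i j p q).eq
  obtain ⟨r0, hr0D, hr0U⟩ := SetLike.not_le_iff_exists.1 hDU
  obtain ⟨i, j, hr0⟩ : ∃ i j, r0 = ((d.u i j * d.z : P) : G) := by
    rcases d.cover ⟨r0, hDP hr0D⟩ with ⟨i, j, h⟩ | ⟨i, j, h⟩
    · exact absurd (d.mem_UG.2 ⟨i, j, congrArg Subtype.val h⟩) hr0U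
    · exact ⟨i, j, congrArg Subtype.val h⟩
  set A := D ⊓ d.UG with hA
  have hidx : ∀ a ∈ D, a ∉ d.UG → a * r0⁻¹ ∈ A := fun a ha haU => by
    refine ⟨D.mul_mem ha (D.inv_mem hr0D), ?_⟩
    refine ⟨⟨a, hDP ha⟩ * (⟨r0, hDP hr0D⟩ : P)⁻¹, ?_, rfl⟩
    refine (mul_mem_iff_of_index_two d.index_U).2 (iff_of_false ?_ ?_)
    · exact fun h => haU ⟨_, h, rfl⟩
    · exact fun h => hr0U ⟨_, (Subgroup.inv_mem_iff _).1 h, rfl⟩
  have hz0D := hZD d.z0_mem_ZG
  -- if `y` preserves the part in the base group it centralises `D`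
  have stab : (∀ a ∈ A, y * a * y⁻¹ ∈ d.UG) → Commute y (d.uG d.half d.half) →
      ∀ a ∈ D, Commute y a := by
    intro hpres hz0
    have hAn : ∀ a ∈ A, y * a * y⁻¹ ∈ A := fun a ha => ⟨hconj a ha.1, hpres a ha⟩
    have hfix := d.commute_abelian (inf_le_right : A ≤ d.UG) hodd hAn hz0
    have hiff : ∀ a ∈ D, (a ∈ A ↔ y * a * y⁻¹ ∈ A) := fun a ha => by
      refine ⟨hAn a, fun h => ?_⟩
      have h1 : a = y * a * y⁻¹ := by
        calc a = y⁻¹ * (y * a * y⁻¹) * y := by group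
          _ = _ := by rw [(hfix _ h).inv_left.eq, inv_mul_cancel_right]
      rwa [h1]
    intro a ha
    refine commute_of_stab (hp.to_le inf_le_left) hodd hfix ?_
    by_cases haA : a ∈ A
    · exact A.mul_mem ((hiff a ha).1 haA) (A.inv_mem haA)
    · have h1 : y * a * y⁻¹ ∉ d.UG := fun h => haA ((hiff a ha).2 ⟨hconj a ha, h⟩)
      have h2 := A.mul_mem (hidx _ (hconj a ha) h1)
        (A.inv_mem (hidx a ha fun h => haA ⟨ha, h⟩))
      rwa [mul_inv_rev, inv_inv, mul_assoc, inv_mul_cancel_left] at h2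
  have hAcases : ∀ a ∈ A, ∃ p q : ℤ, a = d.uG p q := fun a ha => d.mem_UG.1 ha.2
  have hr0sq : r0 * r0 = d.uG (i + j) (i + j) := by
    rw [hr0]; exact congrArg Subtype.val (d.sq_refl i j)
  by_cases hAZ : A ≤ d.ZG
  · -- `D` is abelian of rank at most two
    left
    have hsq : ∀ a ∈ D, a * a ∈ d.ZG := by
      intro a ha
      by_cases haU : a ∈ d.UG
      · exact mul_mem (hAZ ⟨ha, haU⟩) (hAZ ⟨ha, haU⟩)
      · rcases d.cover ⟨a, hDP ha⟩ with ⟨p, q, h⟩ | ⟨p, q, h⟩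
        · exact absurd (d.mem_UG.2 ⟨p, q, congrArg Subtype.val h⟩) haU
        · rw [show a = ((d.u p q * d.z : P) : G) from congrArg Subtype.val h, ← Subgroup.coe_mul,
            d.sq_refl]
          exact d.uG_mem_ZG.2 (by simp)
    have hz0 : Commute y (d.uG d.half d.half) := by
      have hg : d.uG d.quarter d.quarter * d.uG d.quarter d.quarter = d.uG d.half d.half := by
        rw [uG_mul, ← two_mul, ← half_eq]
      have hgD : d.uG d.quarter d.quarter ∈ D := hZD (d.uG_mem_ZG.2 (by simp))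
      have h1 := hsq _ (hconj _ hgD)
      rw [conj_mul, hg] at h1
      have := d.eq_z0_of_mem_ZG h1 (conj_invol y d.orderOf_z0G)
      exact mul_inv_eq_iff_eq_mul.1 this
    have hDcomm : ∀ a ∈ D, ∀ b ∈ D, Commute a b := by
      have key : ∀ a ∈ D, a ∈ d.ZG ∨ ∃ w ∈ d.ZG, a = w * r0 := fun a ha => by
        by_cases haU : a ∈ d.UG
        · exact Or.inl (hAZ ⟨ha, haU⟩)
        · exact Or.inr ⟨a * r0⁻¹, hAZ (hidx a ha haU), by group⟩
      intro a ha b hb
      rcases key a ha with h | ⟨w, hw, rfl⟩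
      · exact d.commute_ZG h (hDP hb)
      rcases key b hb with h | ⟨w', hw', rfl⟩
      · exact (d.commute_ZG h (hDP ha)).symm
      · refine Commute.mul_left (d.commute_ZG hw (hDP hb)) ?_
        exact Commute.mul_right (d.commute_ZG hw' (hDP hr0D)).symm (Commute.refl r0)
    intro a ha
    obtain ⟨k, hk⟩ := hp ⟨a, ha⟩
    refine commute_of_fixes_involutions hodd hDcomm hconj (fun b hb hb2 => ?_) k a ha
      (congrArg Subtype.val hk)
    by_cases hbz : b = d.uG d.half d.half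
    · rw [hbz]; exact hz0
    have hne : y * b * y⁻¹ ≠ d.uG d.half d.half := fun h => hbz <| by
      calc b = y⁻¹ * (y * b * y⁻¹) * y := by group
        _ = _ := by rw [h, hz0.inv_left.eq, inv_mul_cancel_right]
    have hW : IsPGroup 2 (zpowers (d.uG d.half d.half)) :=
      IsPGroup.of_card (n := 1) (by rw [Nat.card_zpowers, d.orderOf_z0G, pow_one])
    have hfix : ∀ w ∈ zpowers (d.uG d.half d.half), Commute y w := by
      rintro w ⟨l, rfl⟩
      exact hz0.zpow_right l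
    have hnotZ : ∀ c ∈ D, orderOf c = 2 → c ≠ d.uG d.half d.half → c ∉ d.UG := fun c hc h2 hcz hU =>
      hcz (d.eq_z0_of_mem_ZG (hAZ ⟨hc, hU⟩) h2)
    refine commute_of_stab hW hodd hfix ?_
    have h1 := hnotZ b hb hb2 hbz
    have h2 := hnotZ _ (hconj b hb) (conj_invol y hb2) hne
    have h3 := A.mul_mem (hidx _ (hconj b hb) h2) (A.inv_mem (hidx b hb h1))
    rw [mul_inv_rev, inv_inv, mul_assoc, inv_mul_cancel_left] at h3
    have h4 : y * b * y⁻¹ * b⁻¹ * (y * b * y⁻¹ * b⁻¹) = 1 := by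
      rw [invol_inv hb2, (hDcomm b hb _ (hconj b hb)).mul_mul_mul_comm,
        invol_mul_self (conj_invol y hb2), invol_mul_self hb2, one_mul]
    by_cases h5 : y * b * y⁻¹ * b⁻¹ = 1
    · rw [h5]; exact one_mem _
    · rw [d.eq_z0_of_mem_ZG (hAZ h3) (invol_iff.2 ⟨h4, h5⟩)]
      exact mem_zpowers _
  -- `D` is not abelian and its centre is `Z(P)`
  obtain ⟨a0, ha0A, ha0Z⟩ := SetLike.not_le_iff_exists.1 hAZ
  obtain ⟨p0, q0, ha0⟩ := hAcases a0 ha0A
  have hne : ¬ Commute (⟨a0, hDP ha0A.1⟩ : P) ⟨r0, hDP hr0D⟩ := fun h => ha0Z <| by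
    rw [ha0]
    refine d.uG_mem_ZG.2 ((d.commute_u_refl (i := i) (j := j)).1 ?_)
    rwa [show (⟨a0, hDP ha0A.1⟩ : P) = d.u p0 q0 from Subtype.ext ha0,
      show (⟨r0, hDP hr0D⟩ : P) = d.u i j * d.z from Subtype.ext hr0] at h
  have hZpres : ∀ w ∈ d.ZG, y * w * y⁻¹ ∈ d.ZG := by
    intro w hw
    have hcomm : ∀ v ∈ D, Commute (y * w * y⁻¹) v := fun v hv => by
      have := (d.commute_ZG hw (hDP (hconj' v hv))).map (MulAut.conj y).toMonoidHom
      simpa [mul_assoc] using this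
    exact ⟨⟨_, hDP (hconj w (hZD hw))⟩, d.mem_center_of_commute_pair
      (s := ⟨a0, hDP ha0A.1⟩) (t := ⟨r0, hDP hr0D⟩) (Subtype.ext (hcomm a0 ha0A.1).eq)
      (Subtype.ext (hcomm r0 hr0D).eq) hne, rfl⟩
  have hz0 : Commute y (d.uG d.half d.half) := mul_inv_eq_iff_eq_mul.1
    (d.eq_z0_of_mem_ZG (hZpres _ d.z0_mem_ZG) (conj_invol y d.orderOf_z0G))
  have hZpres' : ∀ w, y * w * y⁻¹ ∈ d.ZG → w ∈ d.ZG := by
    intro w hw
    haveI := d.isCyclic_ZG
    have := commute_of_cyclic d.isPGroup_ZG hodd hZpres _ hw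
    have h1 : w = y * w * y⁻¹ := by
      calc w = y⁻¹ * (y * w * y⁻¹) * y := by group
        _ = _ := by rw [this.inv_left.eq, inv_mul_cancel_right]
    rwa [h1]
  -- squares of elements outside the base group are central
  have hsqout : ∀ a ∈ D, a * a ∉ d.ZG → a ∈ d.UG := by
    intro a ha h
    by_contra haU
    rcases d.cover ⟨a, hDP ha⟩ with ⟨p, q, e⟩ | ⟨p, q, e⟩
    · exact haU (d.mem_UG.2 ⟨p, q, congrArg Subtype.val e⟩)
    · refine h ?_
      rw [show a = ((d.u p q * d.z : P) : G) from congrArg Subtype.val e, ← Subgroup.coe_mul,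
        d.sq_refl]
      exact d.uG_mem_ZG.2 (by simp)
  by_cases hbig : ∃ w ∈ A, w * w ∉ d.ZG
  · left
    obtain ⟨w, hwA, hw⟩ := hbig
    have himg : ∀ a ∈ A, a * a ∉ d.ZG → y * a * y⁻¹ ∈ d.UG := fun a ha h =>
      hsqout _ (hconj a ha.1) fun h' => h (hZpres' _ (by rw [← conj_mul]; exact h'))
    refine stab (fun a ha => ?_) hz0
    by_cases hasq : a * a ∈ d.ZG
    · have hc : Commute a w := by
        obtain ⟨p, q, rfl⟩ := hAcases a ha
        obtain ⟨p', q', rfl⟩ := hAcases w hwA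
        exact d.uG_comm p q p' q'
      have h1 : a * w * (a * w) ∉ d.ZG := by
        rw [hc.symm.mul_mul_mul_comm, mul_mem_cancel_left hasq]
        exact hw
      have := mul_mem (himg _ (A.mul_mem ha hwA) h1) (inv_mem (himg w hwA hw))
      rwa [conj_inv, conj_mul, mul_inv_cancel_right] at this
    · exact himg a ha hasq
  push Not at hbig
  have hhalf : ∀ p q : ℤ, d.uG p q ∈ A → d.half ∣ p - q := fun p q h => by
    have := hbig _ h
    rw [uG_mul, d.uG_mem_ZG, N_eq, show p + p - (q + q) = 2 * (p - q) by ring,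
      Int.mul_dvd_mul_iff_left two_ne_zero] at this
    exact this
  have haD : d.uG d.half 0 ∈ D := by
    obtain ⟨m, hm⟩ := hhalf p0 q0 (ha0 ▸ ha0A)
    rcases Int.even_or_odd' m with ⟨l, rfl | rfl⟩
    · exact absurd (ha0 ▸ d.uG_mem_ZG.2 ⟨l, by rw [hm, N_eq]; ring⟩) ha0Z
    · have hw : d.uG (-q0) (-q0) ∈ D := hZD (d.uG_mem_ZG.2 (by simp))
      have := mul_mem (ha0 ▸ ha0A.1 : d.uG p0 q0 ∈ D) hw
      rw [uG_mul] at this
      rwa [show d.uG (p0 + -q0) (q0 + -q0) = d.uG d.half 0 from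
        d.uG_inj.2 ⟨⟨l, by rw [N_eq]; linear_combination hm⟩, by simp⟩] at this
  rcases Int.even_or_odd' (i + j) with ⟨m, hm | hm⟩
  · -- `D = Q Z(P)`
    refine Or.inr (Or.inr ⟨i - m, le_antisymm (fun a ha => ?_) ?_⟩)
    · have hr' : r0 ∈ d.VG (i - m) := by
        refine ⟨d.u i j * d.z, ?_, hr0.symm⟩
        have e : d.u i j * d.z = d.u m m * d.r (i - m) := by
          rw [r, ← mul_assoc, u_mul]
          congr 2
          · ring
          · linear_combination hm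
        show d.u i j * d.z ∈ d.VV (i - m)
        rw [e, mem_VV_of_r]
        simp
      by_cases haU : a ∈ d.UG
      · obtain ⟨p, q, rfl⟩ := hAcases a ⟨ha, haU⟩
        exact d.uG_mem_VG.2 (hhalf p q ⟨ha, haU⟩)
      · have h1 := hidx a ha haU
        obtain ⟨p, q, h2⟩ := hAcases _ h1
        have := mul_mem (d.uG_mem_VG.2 (hhalf p q (h2 ▸ h1)) : d.uG p q ∈ d.VG (i - m)) hr'
        rwa [← h2, inv_mul_cancel_right] at this
    · rw [VG_eq_closure, closure_le]
      rintro g (rfl | rfl | rfl)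
      · exact hZD (d.uG_mem_ZG.2 (by simp))
      · exact haD
      · have hw : d.uG (-m) (-m) ∈ D := hZD (d.uG_mem_ZG.2 (by simp))
        have := mul_mem hw hr0D
        rw [hr0] at this
        rw [show d.rG (i - m) = d.uG (-m) (-m) * ((d.u i j * d.z : P) : G) from ?_]
        · exact this
        · refine congrArg Subtype.val (show d.r (i - m) = d.u (-m) (-m) * (d.u i j * d.z) from ?_)
          rw [← mul_assoc, u_mul, r]
          congr 2
          · ring
          · linear_combination -hm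
  · -- no involution outside the base group
    left
    refine stab (fun a ha => ?_) hz0
    obtain ⟨p, q, rfl⟩ := hAcases a ha
    by_contra hU
    obtain ⟨s, t, hst⟩ := hAcases _ (hidx _ (hconj _ ha.1) hU)
    have hhst := hhalf s t (hst ▸ hidx _ (hconj _ ha.1) hU)
    -- the square of `u p q` is the square of a central element, that of its image is not
    have h1 : d.uG p q * d.uG p q = d.uG q q * d.uG q q := by
      obtain ⟨l, hl⟩ := hhalf p q ha
      rw [uG_mul, uG_mul, uG_inj]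
      exact ⟨⟨l, by rw [N_eq]; linear_combination 2 * hl⟩, by simp⟩
    have hwZ : y * d.uG q q * y⁻¹ ∈ d.ZG := hZpres _ (d.uG_mem_ZG.2 (by simp))
    obtain ⟨w, w', hw⟩ := d.mem_UG.1 (by
      obtain ⟨c, hc, e⟩ := hwZ
      rw [← e]
      refine mem_map_of_mem _ ?_
      rw [d.center_eq] at hc
      exact (zpowers_le.2 (d.u_mem 1 1)) hc : y * d.uG q q * y⁻¹ ∈ d.UG)
    have h2 : y * d.uG p q * y⁻¹ * (y * d.uG p q * y⁻¹) = d.uG (w + w) (w' + w') := by
      rw [conj_mul, h1, ← conj_mul, hw, uG_mul]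
    have h3 : y * d.uG p q * y⁻¹ = d.uG s t * ((d.u i j * d.z : P) : G) := by
      rw [← hr0, ← hst, inv_mul_cancel_right]
    have h4 : d.uG s t * ((d.u i j * d.z : P) : G) = ((d.u (s + i) (t + j) * d.z : P) : G) := by
      refine congrArg Subtype.val (show d.u s t * (d.u i j * d.z) = _ from ?_)
      rw [← mul_assoc, u_mul]
    rw [h3, h4, ← Subgroup.coe_mul, d.sq_refl] at h2
    have h5 := (d.uG_inj.1 h2).1
    obtain ⟨l, hl⟩ := hhst
    have hev : (2 : ℤ) ∣ d.half := ⟨d.quarter, d.half_eq⟩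
    have h6 : (2 : ℤ) ∣ s + i + (t + j) - (w + w) :=
      (hev.trans ⟨2, by rw [N_eq]; ring⟩).trans h5
    have h7 : (2 : ℤ) ∣ s - t := hev.trans ⟨l, hl⟩
    omega

end CfsgLib.Involutions.WR
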