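import Cfsg.Agent.Lib.Involutions.WreathedLocal
import Cfsg.Agent.Lib.Involutions.SylowClasses

/-!
# Automizers of the base group and of `Q Z(S)` for a wreathed Sylow 2-subgroup
-/

set_option autoImplicit false

namespace CfsgLib.Involutions.WR

open Subgroup

universe u

variable {G : Type u} [Group G] [Finite G] {P : Sylow 2 G} (d : WR (P : Subgroup G))

/-- A 2-element normalizing a 2-subgroup lies in a Sylow 2-subgroup containing it. -/
theorem exists_sylow_of_normalizer {H : Subgroup G} (hH : IsPGroup 2 H) {p : G}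
    (hp : p ∈ normalizer (H : Set G)) (hpp : IsPGroup 2 (zpowers p)) :
    ∃ R : Sylow 2 G, H ≤ (R : Subgroup G) ∧ p ∈ (R : Subgroup G) := by
  obtain ⟨R, hR⟩ := (hH.to_sup_of_normal_left' hpp (zpowers_le.2 hp)).exists_le_sylow
  exact ⟨R, le_sup_left.trans hR, hR (mem_sup_right (mem_zpowers p))⟩

/-- `N(VG k)` centralises `Z(P)`. -/
theorem commute_ZG_normalizer {k : ℤ} {n : G} (hn : n ∈ normalizer (d.VG k : Set G)) :
    ∀ w ∈ d.ZG, Commute n w := by
  obtain ⟨a, ha, b, hb, hab, ⟨e, he⟩, hbp⟩ := Transfer.exists_pPart_mul (p := 2) n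
  have haN := (zpowers_le.2 hn) ha
  have hbN := (zpowers_le.2 hn) hb
  intro w hw
  haveI := d.isCyclic_ZG
  have h1 : Commute b w := commute_of_cyclic d.isPGroup_ZG (Nat.coprime_two_right.1 hbp)
    (fun v hv => d.conj_mem_ZG hbN hv) w hw
  obtain ⟨i, -, hi⟩ := (Nat.dvd_prime_pow Nat.prime_two).1 he
  obtain ⟨R, hVR, haR⟩ := exists_sylow_of_normalizer (d.isPGroup.to_le (d.VG_le k)) haN
    (IsPGroup.of_card (n := i) (by rw [Nat.card_zpowers, hi]))
  set d' := d.map (Sylow.equiv P R) with hd'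
  have hwR : w ∈ (R : Subgroup G) := hVR (d.ZG_le_VG k hw)
  have hcen := d'.mem_center_of_commute_pair (v := ⟨w, hwR⟩)
    (s := ⟨_, hVR (d.uG_mem_VG.2 (by simp : d.half ∣ d.half - 0))⟩)
    (t := ⟨_, hVR (d.rG_mem_VG k)⟩)
    (Subtype.ext (d.commute_ZG hw (SetLike.coe_mem _)).eq)
    (Subtype.ext (d.commute_ZG hw (SetLike.coe_mem _)).eq)
    (fun h => d.not_commute_a_r k (Subtype.ext (show d.uG d.half 0 * d.rG k
      = d.rG k * d.uG d.half 0 from congrArg Subtype.val h.eq)))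
  have h2 : Commute a w := congrArg Subtype.val (mem_center_iff.1 hcen ⟨a, haR⟩)
  rw [← hab]
  exact h2.mul_left h1

/-- `VG k` times its centralizer is the kernel of the action on the four-section. -/
theorem mem_VG_sup_centralizer {k : ℤ} {n : G} (hn : n ∈ normalizer (d.VG k : Set G)) :
    n ∈ d.VG k ⊔ centralizer (d.VG k : Set G) ↔
      n * d.uG d.half 0 * n⁻¹ * (d.uG d.half 0)⁻¹ ∈ d.ZG ∧
        n * d.rG k * n⁻¹ * (d.rG k)⁻¹ ∈ d.ZG := by
  have t := d.tri_VG k
  set N := normalizer (d.VG k : Set G) with hN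
  set a := d.uG d.half 0 with ha
  set r := d.rG k with hr
  have haV : a ∈ d.VG k := d.uG_mem_VG.2 (by simp)
  have hrV : r ∈ d.VG k := d.rG_mem_VG k
  constructor
  · intro h
    obtain ⟨H, _, _, φ, -, hker, -⟩ := t.exists_hom
    have hle : d.VG k ⊔ centralizer (d.VG k : Set G) ≤ φ.ker.map N.subtype := by
      refine sup_le ?_ fun c hc => ?_
      · rw [VG_eq_closure, closure_le]
        have hcZ : d.uG 1 1 ∈ d.ZG := d.uG_mem_ZG.2 (by simp)
        have hW : a * r * a⁻¹ * r⁻¹ ∈ d.ZG := t.comm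
        rintro v (rfl | rfl | rfl)
        · refine ⟨⟨_, t.W_le hcZ⟩, (hker _).2 ⟨?_, ?_⟩, rfl⟩ <;> dsimp only
          · rw [(d.commute_ZG hcZ (d.VG_le k haV)).eq]; simp
          · rw [(d.commute_ZG hcZ (d.VG_le k hrV)).eq]; simp
        · refine ⟨⟨a, t.memA⟩, (hker _).2 ⟨?_, hW⟩, rfl⟩
          show a * a * a⁻¹ * a⁻¹ ∈ d.ZG
          simp
        · refine ⟨⟨r, t.memB⟩, (hker _).2 ⟨?_, ?_⟩, rfl⟩
          · show r * a * r⁻¹ * a⁻¹ ∈ d.ZG
            have := inv_mem hW
            simpa [mul_assoc] using this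
          · show r * r * r⁻¹ * r⁻¹ ∈ d.ZG
            simp
      · refine ⟨⟨c, centralizer_le_normalizer _ hc⟩, (hker _).2 ⟨?_, ?_⟩, rfl⟩ <;> dsimp only
        · rw [← mem_centralizer_iff.1 hc a haV]; simp
        · rw [← mem_centralizer_iff.1 hc r hrV]; simp
    obtain ⟨m, hm, rfl⟩ := hle h
    exact (hker m).1 hm
  · rintro ⟨h1, h2⟩
    set z := d.uG d.half d.half with hz
    have hza : Commute z a := d.commute_ZG d.z0_mem_ZG (d.VG_le k haV)
    have hzr : Commute z r := d.commute_ZG d.z0_mem_ZG (d.VG_le k hrV)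
    have har : a * r = r * a * z := by
      have h := d.aG_r_comm k
      rw [← ha, ← hr, ← hz, mul_inv_eq_iff_eq_mul, mul_inv_eq_iff_eq_mul] at h
      rw [h, mul_assoc, (hzr.mul_right hza).eq]
    have hcases : ∀ v : G, orderOf v = 2 → v ∈ (P : Subgroup G) →
        n * v * n⁻¹ * v⁻¹ ∈ d.ZG → n * v * n⁻¹ = v ∨ n * v * n⁻¹ = v * z := by
      intro v hv2 hvP h
      set w := n * v * n⁻¹ * v⁻¹ with hw
      have hwv : Commute w v := d.commute_ZG h hvP
      have e : n * v * n⁻¹ = w * v := by rw [hw]; group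
      have hsq : w * w = 1 := by
        have := invol_mul_self (conj_invol n hv2)
        rwa [e, hwv.symm.mul_mul_mul_comm, invol_mul_self hv2, mul_one] at this
      by_cases hw1 : w = 1
      · exact Or.inl (by rw [e, hw1, one_mul])
      · exact Or.inr (by rw [e, d.eq_z0_of_mem_ZG h (invol_iff.2 ⟨hsq, hw1⟩),
          (d.commute_ZG d.z0_mem_ZG hvP).eq])
    obtain ⟨v, hv, hva, hvb⟩ := exists_centralizing_of_commutator har
      (invol_mul_self d.orderOf_z0G) hza hzr (hcases a d.orderOf_aG (d.VG_le k haV) h1)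
      (hcases r (d.orderOf_rG k) (d.VG_le k hrV) h2)
    have hvV : v ∈ d.VG k := by
      refine (closure_le _).2 ?_ hv
      rintro u (rfl | rfl) <;> assumption
    rw [← mul_inv_cancel_left v n]
    refine mul_mem (mem_sup_left hvV) (mem_sup_right ?_)
    have hvn : v⁻¹ * n ∈ N := mul_mem (inv_mem (le_normalizer hvV)) hn
    rw [VG_eq_closure, centralizer_closure, mem_centralizer_iff]
    rintro u (rfl | rfl | rfl)
    · exact (d.commute_ZG_normalizer hvn _ (d.uG_mem_ZG.2 (by simp))).eq.symm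
    · exact hva.eq.symm
    · exact hvb.eq.symm

/-- An element of odd order of `N(VG k)` in the kernel centralises `VG k`. -/
theorem commute_VG {k : ℤ} {y : G} (hy : y ∈ normalizer (d.VG k : Set G))
    (hodd : Odd (orderOf y)) (hyM : y ∈ d.VG k ⊔ centralizer (d.VG k : Set G)) :
    ∀ a ∈ d.VG k, Commute y a := by
  obtain ⟨h1, h2⟩ := (d.mem_VG_sup_centralizer hy).1 hyM
  have hfix := d.commute_ZG_normalizer hy
  have hle : d.VG k ≤ centralizer ({y} : Set G) := by
    rw [VG_eq_closure, closure_le]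
    rintro v (rfl | rfl | rfl) <;> refine mem_centralizer_singleton_iff.2 (Commute.eq (Commute.symm ?_))
    · exact hfix _ (d.uG_mem_ZG.2 (by simp))
    · exact commute_of_stab d.isPGroup_ZG hodd hfix h1
    · exact commute_of_stab d.isPGroup_ZG hodd hfix h2
  exact fun a ha => (mem_centralizer_singleton_iff.1 (hle ha)).symm

theorem relIndex_VG (k : ℤ) :
    (d.VG k ⊔ centralizer (d.VG k : Set G)).relIndex (normalizer (d.VG k : Set G)) = 2 ∨
      (d.VG k ⊔ centralizer (d.VG k : Set G)).relIndex (normalizer (d.VG k : Set G)) = 6 := by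
  set s := d.uG d.quarter 0 with hs
  have hsc : ∀ i j : ℤ, s * d.uG i j * s⁻¹ = d.uG i j := fun i j => by
    rw [(d.uG_comm d.quarter 0 i j).eq, mul_inv_cancel_right]
  have hsr : s * d.rG k * s⁻¹ = d.uG d.quarter (-d.quarter) * d.rG k :=
    congrArg Subtype.val (show d.u d.quarter 0 * d.r k * (d.u d.quarter 0)⁻¹
      = d.u d.quarter (-d.quarter) * d.r k by rw [r_conj, sub_zero, zero_sub])
  have hN : s ∈ normalizer (d.VG k : Set G) := by
    rw [VG_eq_closure]
    refine mem_normalizer_closure ?_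
    rw [← VG_eq_closure]
    rintro v (rfl | rfl | rfl)
    · rw [hsc]; exact d.uG_mem_VG.2 (by simp)
    · rw [hsc]; exact d.uG_mem_VG.2 (by simp)
    · rw [hsr]
      exact mul_mem (d.uG_mem_VG.2 ⟨1, by rw [half_eq]; ring⟩) (d.rG_mem_VG k)
  obtain ⟨e, he⟩ := d.isPGroup ⟨s, SetLike.coe_mem (d.u d.quarter 0)⟩
  refine (d.tri_VG k).two_or_six (fun n hn => d.mem_VG_sup_centralizer hn) hN
    (congrArg Subtype.val he) fun h => ?_
  have h2 := ((d.mem_VG_sup_centralizer hN).1 h).2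
  rw [hsr, mul_inv_cancel_right, d.uG_mem_ZG, sub_neg_eq_add, ← two_mul, ← half_eq] at h2
  exact d.not_N_dvd_half h2

/-- The centralizer of the base group is the kernel of the action on its involutions. -/
theorem mem_centralizer_UG {n : G} (hn : n ∈ normalizer (d.UG : Set G)) :
    n ∈ centralizer (d.UG : Set G) ↔
      n * d.uG d.half 0 * n⁻¹ * (d.uG d.half 0)⁻¹ ∈ (⊥ : Subgroup G) ∧
        n * d.uG 0 d.half * n⁻¹ * (d.uG 0 d.half)⁻¹ ∈ (⊥ : Subgroup G) := by
  simp only [mem_bot, mul_inv_eq_one]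
  constructor
  · intro h
    exact ⟨mul_inv_eq_iff_eq_mul.2 (mem_centralizer_iff.1 h _ (d.uG_mem_UG _ _)).symm,
      mul_inv_eq_iff_eq_mul.2 (mem_centralizer_iff.1 h _ (d.uG_mem_UG _ _)).symm⟩
  rintro ⟨h1, h2⟩
  obtain ⟨p, hp, b, hb, hpb, ⟨e, he⟩, hbp⟩ := Transfer.exists_pPart_mul (p := 2) n
  have hca : Commute n (d.uG d.half 0) := mul_inv_eq_iff_eq_mul.1 h1
  have hcb : Commute n (d.uG 0 d.half) := mul_inv_eq_iff_eq_mul.1 h2
  have hpow : ∀ m ∈ zpowers n, Commute m (d.uG d.half 0) ∧ Commute m (d.uG 0 d.half) := by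
    rintro _ ⟨i, rfl⟩
    exact ⟨hca.zpow_left i, hcb.zpow_left i⟩
  have hz : ∀ m ∈ zpowers n, Commute m (d.uG d.half d.half) := fun m hm => by
    have := (hpow m hm).1.mul_right (hpow m hm).2
    rwa [uG_mul, add_zero, zero_add] at this
  have hbN := (zpowers_le.2 hn) hb
  have hb' : ∀ a ∈ d.UG, Commute b a :=
    d.commute_abelian le_rfl (Nat.coprime_two_right.1 hbp)
      (fun a ha => (mem_normalizer_iff.1 hbN a).1 ha) (hz b hb)
  obtain ⟨i, -, hi⟩ := (Nat.dvd_prime_pow Nat.prime_two).1 he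
  obtain ⟨R, hUR, hpR⟩ := exists_sylow_of_normalizer (d.isPGroup.to_le d.UG_le)
    ((zpowers_le.2 hn) hp) (IsPGroup.of_card (n := i) (by rw [Nat.card_zpowers, hi]))
  set d' := d.map (Sylow.equiv P R) with hd'
  have hUab : IsMulCommutative d.UG := ⟨⟨fun a b => Subtype.ext (by
    obtain ⟨i, j, h⟩ := d.mem_UG.1 a.2
    obtain ⟨s, t, h'⟩ := d.mem_UG.1 b.2
    show (a : G) * b = b * a
    rw [h, h', (d.uG_comm i j s t).eq])⟩⟩
  have hUeq : d.UG = d'.UG := d'.eq_UG hUR hUab (by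
    show Nat.card d.UG = 2 ^ (2 * d.n)
    rw [UG, Nat.card_congr (d.U.equivMapOfInjective _ (P : Subgroup G).subtype_injective).symm.toEquiv,
      d.card_U])
  have hpU : p ∈ d.UG := by
    rcases d'.cover ⟨p, hpR⟩ with ⟨s, t, h⟩ | ⟨s, t, h⟩
    · rw [hUeq]
      exact d'.mem_UG.2 ⟨s, t, congrArg Subtype.val h⟩
    exfalso
    have key : ∀ v ∈ d.UG, Commute p v → orderOf v = 2 → v = d'.uG d'.half d'.half := by
      intro v hv hcv hv2
      obtain ⟨i', j', rfl⟩ := d'.mem_UG.1 (hUeq ▸ hv)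
      have h1 : Commute (d'.u i' j') (d'.u s t * d'.z) := by
        rw [← h]; exact Subtype.ext hcv.eq.symm
      exact d'.eq_z0_of_mem_ZG (d'.uG_mem_ZG.2 (d'.commute_u_refl.1 h1)) hv2
    have := (key _ (d.uG_mem_UG _ _) (hpow p hp).1 d.orderOf_aG).trans
      (key _ (d.uG_mem_UG _ _) (hpow p hp).2 d.orderOf_bG).symm
    exact d.not_N_dvd_half (by simpa using (d.uG_inj.1 this).1)
  rw [mem_centralizer_iff]
  intro a ha
  obtain ⟨s, t, rfl⟩ := d.mem_UG.1 hpU
  obtain ⟨i', j', rfl⟩ := d.mem_UG.1 ha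
  rw [← hpb]
  exact ((d.uG_comm s t i' j').mul_left (hb' _ ha)).eq.symm

theorem relIndex_UG :
    (centralizer (d.UG : Set G)).relIndex (normalizer (d.UG : Set G)) = 2 ∨
      (centralizer (d.UG : Set G)).relIndex (normalizer (d.UG : Set G)) = 6 := by
  have hN : ((d.z : (P : Subgroup G)) : G) ∈ normalizer (d.UG : Set G) := by
    rw [mem_normalizer_iff_map_conj_eq]
    refine eq_of_le_of_card_ge ?_ (Subgroup.card_map_of_injective (MulAut.conj _).injective).ge
    rintro _ ⟨_, ⟨a, ⟨i, j, rfl⟩, rfl⟩, rfl⟩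
    exact ⟨d.u j i, d.u_mem j i, (congrArg Subtype.val (d.conj_u i j)).symm⟩
  obtain ⟨e, he⟩ := d.isPGroup d.z
  refine d.tri_UG.two_or_six (fun n hn => d.mem_centralizer_UG hn) hN (congrArg Subtype.val he)
    fun h => ?_
  have h1 := ((d.mem_centralizer_UG hN).1 h).1
  rw [mem_bot, mul_inv_eq_one] at h1
  have h2 : d.uG 0 d.half = d.uG d.half 0 := by
    rw [← h1]; exact (congrArg Subtype.val (d.conj_u d.half 0)).symm
  exact d.not_N_dvd_half (by simpa using (d.uG_inj.1 h2).1)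

theorem commute_UG_of_relIndex
    (h : (centralizer (d.UG : Set G)).relIndex (normalizer (d.UG : Set G)) = 2) :
    ∀ y ∈ normalizer (d.UG : Set G), Odd (orderOf y) → ∀ a ∈ d.UG, Commute y a :=
  fun _ hy hodd a ha => (mem_centralizer_iff.1 (mem_of_relIndex_two h hy hodd) a ha).symm

theorem commute_VG_of_relIndex {k : ℤ}
    (h : (d.VG k ⊔ centralizer (d.VG k : Set G)).relIndex (normalizer (d.VG k : Set G)) = 2) :
    ∀ y ∈ normalizer (d.VG k : Set G), Odd (orderOf y) → ∀ a ∈ d.VG k, Commute y a :=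
  fun _ hy hodd a ha => d.commute_VG hy hodd (mem_of_relIndex_two h hy hodd) a ha

end CfsgLib.Involutions.WR
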